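import Cfsg.Prelude.Def_OddOrderLocal
import Cfsg.Agent.Lib.TwoGroups.Recognition
import Cfsg.Agent.Lib.PGroups.Basic
import Cfsg.Agent.Lib.PGroups.ClassTwo
import Mathlib.GroupTheory.SpecificGroups.Cyclic
import Mathlib.Data.ZMod.QuotientGroup

/-!
Metacyclic `2`-groups with an automorphism of odd order.
-/

set_option autoImplicit false

namespace CfsgLib.Techniques

open Subgroup
open scoped commutatorElement

universe u

variable {X : Type u} [Group X] [Finite X]

/-- A quotient of exponent `e` of a metacyclic group has order at most `e²`. -/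
theorem metacyclic_card_le (hm : Cfsg.IsMetacyclic X) {Q : Type*} [Group Q] (f : X →* Q)
    (hf : Function.Surjective f) {e : ℕ} (he : e ≠ 0) (hexp : ∀ y : Q, y ^ e = 1) :
    Nat.card Q ≤ e * e := by
  obtain ⟨N, hN, hNc, hQc⟩ := hm
  haveI := hN
  obtain ⟨⟨g, hg⟩, hgen⟩ := hNc.exists_generator
  obtain ⟨h', hh'⟩ := hQc.exists_generator
  obtain ⟨h, rfl⟩ := QuotientGroup.mk_surjective h'
  have hred : ∀ (y : Q) (k : ℤ), ∃ i : Fin e, y ^ k = y ^ (i : ℕ) := fun y k => by
    refine ⟨⟨(k % e).toNat, by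
      have := Int.emod_lt_of_pos k (Int.natCast_pos.2 (Nat.pos_of_ne_zero he))
      omega⟩, ?_⟩
    rw [← zpow_natCast, Int.toNat_of_nonneg (Int.emod_nonneg _ (Int.natCast_ne_zero.2 he))]
    conv_lhs => rw [← Int.emod_add_mul_ediv k e, zpow_add, zpow_mul, zpow_natCast, hexp, one_zpow, mul_one]
  refine le_trans (Nat.card_le_card_of_surjective (fun ij : Fin e × Fin e =>
    f h ^ (ij.1 : ℕ) * f g ^ (ij.2 : ℕ)) fun y => ?_) (by rw [Nat.card_prod, Nat.card_fin])
  obtain ⟨x, rfl⟩ := hf y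
  obtain ⟨k, hk⟩ := mem_zpowers_iff.1 (hh' (QuotientGroup.mk x))
  rw [← QuotientGroup.mk_zpow, QuotientGroup.eq] at hk
  obtain ⟨l, hl⟩ := mem_zpowers_iff.1 (hgen ⟨_, hk⟩)
  have hl' : g ^ l = (h ^ k)⁻¹ * x := congrArg Subtype.val hl
  obtain ⟨i, hi⟩ := hred (f h) k
  obtain ⟨j, hj⟩ := hred (f g) l
  refine ⟨(i, j), ?_⟩
  simp only
  rw [← hi, ← hj, ← map_zpow, ← map_zpow, ← map_mul, hl', mul_inv_cancel_left]

theorem frattini_sq (hX : IsPGroup 2 X) (x : X) : x ^ 2 ∈ frattini X :=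
  haveI : Fact (Nat.Prime 2) := ⟨Nat.prime_two⟩
  CfsgLib.PGroups.pow_mem_frattini hX x

/-- The data of a non-`2`-group of automorphisms of a metacyclic `2`-group. -/
theorem exists_fpf_aut (hX : IsPGroup 2 X) (hm : Cfsg.IsMetacyclic X) (hA : ¬ IsPGroup 2 (MulAut X)) :
    ∃ φ : MulAut X, ∃ q : ℕ, q.Prime ∧ q ≠ 2 ∧ orderOf φ = q ∧ (frattini X).index = 4 ∧
      (∀ x : X, x⁻¹ * φ x ∈ frattini X → x ∈ frattini X) ∧
      (∀ y : X, ∃ x : X, (x⁻¹ * φ x)⁻¹ * y ∈ frattini X) := by
  classical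
  haveI : Fact (Nat.Prime 2) := ⟨Nat.prime_two⟩
  obtain ⟨q, hq, hqd, hq2⟩ : ∃ q : ℕ, q.Prime ∧ q ∣ Nat.card (MulAut X) ∧ q ≠ 2 := by
    by_contra h
    push Not at h
    exact hA (IsPGroup.of_card (n := _)
      (Nat.eq_prime_pow_of_unique_prime_dvd Nat.card_pos.ne' fun {d} hd hdd => h d hd hdd))
  haveI : Fact q.Prime := ⟨hq⟩
  obtain ⟨φ, hφ⟩ := exists_prime_orderOf_dvd_card' (G := MulAut X) q hqd
  set Φ := frattini X with hΦ
  let ψ : MulAut (X ⧸ Φ) := QuotientGroup.congr Φ Φ φ (Subgroup.characteristic_iff_map_eq.1 inferInstance φ)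
  have hψ : ∀ x : X, ψ (QuotientGroup.mk x) = QuotientGroup.mk (φ x) := fun x => rfl
  have hψpow : ∀ (k : ℕ) (x : X), (ψ ^ k) (QuotientGroup.mk x) = QuotientGroup.mk ((φ ^ k) x) := by
    intro k
    induction k with
    | zero => intro x; simp
    | succ k ih => intro x; rw [pow_succ, pow_succ, MulAut.mul_apply, MulAut.mul_apply, hψ, ih]
  have hψq : ψ ^ q = 1 := MulEquiv.ext fun v => by
    induction v using QuotientGroup.induction_on with
    | _ x => rw [hψpow, ← hφ, pow_orderOf_eq_one]; rfl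
  have hexp : ∀ v : X ⧸ Φ, v ^ 2 = 1 := fun v => by
    induction v using QuotientGroup.induction_on with
    | _ x => rw [← QuotientGroup.mk_pow, QuotientGroup.eq_one_iff]; exact frattini_sq hX x
  have hV4 : Nat.card (X ⧸ Φ) ≤ 4 :=
    metacyclic_card_le hm (QuotientGroup.mk' Φ) (QuotientGroup.mk'_surjective _) two_ne_zero hexp
  have hP : IsPGroup q (zpowers ψ) := fun z => ⟨1, Subtype.ext (by
    obtain ⟨i, hi⟩ := mem_zpowers_iff.1 z.2
    rw [pow_one, SubgroupClass.coe_pow, OneMemClass.coe_one, ← hi, ← zpow_natCast, ← zpow_mul, mul_comm,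
      zpow_mul, zpow_natCast, hψq, one_zpow])⟩
  let F : Subgroup (X ⧸ Φ) :=
    { carrier := {v | ψ v = v}
      one_mem' := map_one ψ
      mul_mem' := fun {u v} (hu : ψ u = u) (hv : ψ v = v) => show ψ (u * v) = u * v by rw [map_mul, hu, hv]
      inv_mem' := fun {u} (hu : ψ u = u) => show ψ u⁻¹ = u⁻¹ by rw [map_inv, hu] }
  have hmod : Nat.card (X ⧸ Φ) ≡ Nat.card F [MOD q] := by
    have h := IsPGroup.card_modEq_card_fixedPoints (p := q) hP (X ⧸ Φ)
    refine h.trans (congrArg (· % q) (Nat.card_congr (Equiv.subtypeEquivRight fun v => ?_)))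
    refine ⟨fun hv => hv ⟨ψ, mem_zpowers ψ⟩, fun (hv : ψ v = v) z => ?_⟩
    obtain ⟨i, hi⟩ := mem_zpowers_iff.1 z.2
    show (z : MulAut (X ⧸ Φ)) v = v
    rw [← hi]
    exact MulAction.mem_stabilizer_iff.1 (zpow_mem (MulAction.mem_stabilizer_iff.2 hv :
      ψ ∈ MulAction.stabilizer (MulAut (X ⧸ Φ)) v) i)
  have hFtop : F ≠ ⊤ := by
    intro htop
    have hne : φ ≠ 1 := fun e => by rw [e, orderOf_one] at hφ; exact hq.one_lt.ne hφ
    refine hne ?_
    let Fx : Subgroup X :=
      { carrier := {x | φ x = x}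
        one_mem' := map_one φ
        mul_mem' := fun {u v} (hu : φ u = u) (hv : φ v = v) => show φ (u * v) = u * v by rw [map_mul, hu, hv]
        inv_mem' := fun {u} (hu : φ u = u) => show φ u⁻¹ = u⁻¹ by rw [map_inv, hu] }
    suffices h : Fx = ⊤ from MulEquiv.ext fun x => (h ▸ mem_top x : x ∈ Fx)
    have key : Fx ⊔ Φ = ⊤ := by
      rw [eq_top_iff]
      intro x _
      -- a fixed point in the coset of `x`
      set S := {y : X // (QuotientGroup.mk y : X ⧸ Φ) = QuotientGroup.mk x}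
      have hfix : ψ (QuotientGroup.mk x) = QuotientGroup.mk x := (htop ▸ mem_top _ : (QuotientGroup.mk x : X ⧸ Φ) ∈ F)
      have hst : ∀ g ∈ zpowers φ, ∀ y : X, (QuotientGroup.mk y : X ⧸ Φ) = QuotientGroup.mk x →
          (QuotientGroup.mk ((g : MulAut X) y) : X ⧸ Φ) = QuotientGroup.mk x := by
        intro g hg y hy
        obtain ⟨i, hi⟩ : ∃ i : ℕ, φ ^ i = g := by
          rw [← mem_powers_iff_mem_zpowers] at hg
          exact hg
        rw [← hi, ← hψpow, hy]
        exact MulAction.mem_stabilizer_iff.1 (pow_mem (MulAction.mem_stabilizer_iff.2 hfix :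
          ψ ∈ MulAction.stabilizer (MulAut (X ⧸ Φ)) (QuotientGroup.mk x : X ⧸ Φ)) i)
      letI : MulAction (zpowers φ) S :=
        { smul := fun g y => ⟨(g : MulAut X) y.1, hst g g.2 y.1 y.2⟩
          one_smul := fun y => Subtype.ext rfl
          mul_smul := fun g h y => Subtype.ext rfl }
      have hS : ¬ q ∣ Nat.card S := by
        have : Nat.card S = Nat.card Φ := Nat.card_congr
          { toFun := fun y => ⟨x⁻¹ * y.1, QuotientGroup.eq.1 y.2.symm⟩
            invFun := fun z => ⟨x * z.1, by rw [QuotientGroup.eq]; simp⟩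
            left_inv := fun y => Subtype.ext (by simp)
            right_inv := fun z => Subtype.ext (by simp) }
        rw [this]
        intro h
        obtain ⟨k, hk⟩ := IsPGroup.iff_card.1 (hX.to_subgroup Φ)
        rw [hk] at h
        exact hq2 ((Nat.prime_dvd_prime_iff_eq hq Nat.prime_two).1 (hq.dvd_of_dvd_pow h))
      have hPφ : IsPGroup q (zpowers φ) :=
        IsPGroup.of_card (n := 1) (by rw [Nat.card_zpowers, hφ, pow_one])
      obtain ⟨y, hy⟩ := hPφ.nonempty_fixed_point_of_prime_not_dvd_card S hS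
      have hyF : y.1 ∈ Fx := congrArg Subtype.val (hy ⟨φ, mem_zpowers φ⟩)
      rw [show x = y.1 * (y.1⁻¹ * x) by group]
      exact mul_mem (mem_sup_left hyF) (mem_sup_right (QuotientGroup.eq.1 y.2))
    exact frattini_nongenerating key
  obtain ⟨m, hm2⟩ : ∃ m, Nat.card (X ⧸ Φ) = 2 ^ m := IsPGroup.iff_card.1 (hX.to_quotient Φ)
  have hq3 : 3 ≤ q := by have := hq.two_le; omega
  have hFdvd := card_subgroup_dvd_card F
  have hFne : Nat.card F ≠ Nat.card (X ⧸ Φ) := fun e => hFtop (eq_top_of_card_eq F e)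
  have hcases : Nat.card (X ⧸ Φ) = 4 ∧ Nat.card F = 1 := by
    rw [hm2] at hV4 hFdvd hFne hmod ⊢
    obtain ⟨j, hj, hjF⟩ := (Nat.dvd_prime_pow Nat.prime_two).1 hFdvd
    rw [hjF] at hFne hmod ⊢
    have hm' : m ≤ 2 := (Nat.pow_le_pow_iff_right (by norm_num)).1 (show 2 ^ m ≤ 2 ^ 2 from hV4)
    have hd : ∀ a b : ℕ, b ≤ a → a ≡ b [MOD q] → q ∣ a - b := fun a b hab h => (Nat.modEq_iff_dvd' hab).1 h.symm
    interval_cases m <;> interval_cases j <;> simp_all <;>
      (have := hd _ _ (by norm_num) hmod; norm_num at this <;> first | omega | (have := Nat.le_of_dvd (by norm_num) this; omega))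
  have hker : ∀ x : X, x⁻¹ * φ x ∈ Φ → x ∈ Φ := by
    intro x hx
    have h1 : (QuotientGroup.mk x : X ⧸ Φ) ∈ F :=
      show ψ (QuotientGroup.mk x) = QuotientGroup.mk x by rw [hψ, eq_comm, QuotientGroup.eq]; exact hx
    rw [eq_bot_of_card_le F hcases.2.le, mem_bot, QuotientGroup.eq_one_iff] at h1
    exact h1
  refine ⟨φ, q, hq, hq2, hφ, hcases.1, hker, fun y => ?_⟩
  -- `v ↦ v⁻¹ ψ v` is injective, hence surjective
  have hinj : Function.Injective fun v : X ⧸ Φ => v⁻¹ * ψ v := by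
    intro u v h
    simp only at h
    have h1 : v * u⁻¹ ∈ F := by
      show ψ (v * u⁻¹) = v * u⁻¹
      calc ψ (v * u⁻¹) = v * (v⁻¹ * ψ v) * (u⁻¹ * ψ u)⁻¹ * u⁻¹ := by rw [map_mul, map_inv]; group
        _ = v * u⁻¹ := by rw [h]; group
    rw [eq_bot_of_card_le F hcases.2.le, mem_bot, mul_inv_eq_one] at h1
    exact h1.symm
  obtain ⟨v, hv⟩ := (Finite.injective_iff_surjective.1 hinj) (QuotientGroup.mk y)
  obtain ⟨x, rfl⟩ := QuotientGroup.mk_surjective v
  exact ⟨x, QuotientGroup.eq.1 hv⟩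

/-- Invariant homomorphisms are trivial. -/
theorem hom_eq_one_of_invariant {φ : MulAut X}
    (hsurj : ∀ y : X, ∃ x : X, (x⁻¹ * φ x)⁻¹ * y ∈ frattini X) {A : Type*} [Group A] (h : X →* A)
    (hinv : ∀ x, h (φ x) = h x) (x : X) : h x = 1 := by
  have key : h.ker ⊔ frattini X = ⊤ := by
    rw [eq_top_iff]
    intro y _
    obtain ⟨z, hz⟩ := hsurj y
    rw [show y = (z⁻¹ * φ z) * ((z⁻¹ * φ z)⁻¹ * y) by group]
    refine mul_mem (mem_sup_left ?_) (mem_sup_right hz)
    rw [MonoidHom.mem_ker, map_mul, map_inv, hinv, inv_mul_cancel]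
  have : h.ker = ⊤ := frattini_nongenerating key
  exact MonoidHom.mem_ker.1 (this ▸ mem_top x)

/-- Outside `Φ` three classes: `x`, `φ x` and their product. -/
theorem class_cases {φ : MulAut X} (hidx : (frattini X).index = 4)
    (hker : ∀ x : X, x⁻¹ * φ x ∈ frattini X → x ∈ frattini X) (hX : IsPGroup 2 X) {a : X}
    (ha : a ∉ frattini X) (x : X) :
    x ∈ frattini X ∨ a⁻¹ * x ∈ frattini X ∨ (φ a)⁻¹ * x ∈ frattini X ∨ (a * φ a)⁻¹ * x ∈ frattini X := by
  classical
  by_contra h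
  push Not at h
  obtain ⟨h0, h1, h2, h3⟩ := h
  have hφΦ : φ a ∉ frattini X := fun hh => ha (by
    have := (Subgroup.characteristic_iff_map_eq.1 (inferInstance : (frattini X).Characteristic) φ).ge hh
    obtain ⟨b, hb, hba⟩ := this
    rwa [← φ.injective hba])
  let mk : X → X ⧸ frattini X := QuotientGroup.mk
  have hsq : ∀ z : X, z * z ∈ frattini X := fun z => by rw [← sq]; exact frattini_sq hX z
  have hinvmem : ∀ z : X, z⁻¹ ∈ frattini X → z ∈ frattini X := fun z => (inv_mem_iff).1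
  let g : Fin 5 → X ⧸ frattini X := ![mk 1, mk a, mk (φ a), mk (a * φ a), mk x]
  have hg : Function.Injective g := by
    have e : ∀ u v : X, u⁻¹ * v ∉ frattini X → mk u ≠ mk v := fun u v huv e => huv (QuotientGroup.eq.1 e)
    have h01 := e 1 a (by simpa using ha)
    have h02 := e 1 (φ a) (by simpa using hφΦ)
    have h03 := e 1 (a * φ a) (by
      rw [inv_one, one_mul]
      intro hh
      refine ha (hker a ?_)
      have h4 := mul_mem (inv_mem (hsq a)) hh
      rwa [show (a * a)⁻¹ * (a * φ a) = a⁻¹ * φ a by group] at h4)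
    have h04 := e 1 x (by simpa using h0)
    have h12 := e a (φ a) (fun hh => ha (hker a hh))
    have h13 := e a (a * φ a) (by rwa [inv_mul_cancel_left])
    have h14 := e a x h1
    have h23 := e (φ a) (a * φ a) (by
      intro hh
      refine ha ?_
      have := (inferInstance : (frattini X).Normal).conj_mem _ hh (φ a)
      rwa [show φ a * ((φ a)⁻¹ * (a * φ a)) * (φ a)⁻¹ = a by group] at this)
    have h24 := e (φ a) x h2
    have h34 := e (a * φ a) x h3
    intro i j hij
    fin_cases i <;> fin_cases j <;> simp [g] at hij ⊢ <;>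
      first | exact absurd hij ‹_› | exact absurd hij.symm ‹_›
  have := Nat.card_le_card_of_injective g hg
  rw [Nat.card_fin] at this
  rw [Subgroup.index] at hidx
  omega

/-- The abelian case. -/
theorem homocyclic_of_abelian (hX : IsPGroup 2 X) (hm : Cfsg.IsMetacyclic X)
    (hA : ¬ IsPGroup 2 (MulAut X)) (hc : ∀ a b : X, a * b = b * a) :
    ∃ n : ℕ, n ≠ 0 ∧ (∀ x : X, x ^ 2 ^ n = 1) ∧ Nat.card X = 2 ^ n * 2 ^ n ∧
      Nonempty (X ≃* Multiplicative (ZMod (2 ^ n)) × Multiplicative (ZMod (2 ^ n))) := by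
  classical
  haveI : Fact (Nat.Prime 2) := ⟨Nat.prime_two⟩
  obtain ⟨φ, q, hq, hq2, hφ, hidx, hker, hsurj⟩ := exists_fpf_aut hX hm hA
  obtain ⟨a, ha⟩ : ∃ a : X, a ∉ frattini X := by
    by_contra h
    push Not at h
    rw [show frattini X = ⊤ from eq_top_iff.2 fun x _ => h x, index_top] at hidx
    omega
  obtain ⟨n, hn, hnmin⟩ : ∃ n : ℕ, (∀ x : X, x ^ 2 ^ n = 1) ∧ ∀ m < n, ∃ x : X, x ^ 2 ^ m ≠ 1 := by
    have hex : ∃ n : ℕ, ∀ x : X, x ^ 2 ^ n = 1 := by
      obtain ⟨k, hk⟩ := IsPGroup.iff_card.1 hX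
      exact ⟨k, fun x => by rw [← hk]; exact pow_card_eq_one'⟩
    exact ⟨Nat.find hex, Nat.find_spec hex, fun m hm => by
      have := Nat.find_min hex hm
      push Not at this
      exact this⟩
  have hn0 : n ≠ 0 := by
    intro e
    exact ha (by have := hn a; rw [e, pow_zero, pow_one] at this; rw [this]; exact one_mem _)
  set b := φ a
  obtain ⟨m, rfl⟩ : ∃ m, n = m + 1 := Nat.exists_eq_add_one_of_ne_zero hn0
  let qh : X →* X :=
    { toFun := fun x => x ^ 2 ^ m
      map_one' := one_pow _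
      map_mul' := fun x y => (show Commute x y from hc x y).mul_pow _ }
  have hqΦ : ∀ x ∈ frattini X, qh x = 1 := by
    intro x hx
    have hle : frattini X ≤ qh.ker := by
      refine CfsgLib.PGroups.frattini_le_of_elementary (p := 2) ?_ fun x => ?_
      · rw [_root_.commutator_def, Subgroup.commutator_le]
        intro u _ v _
        rw [commutatorElement_eq_one_iff_mul_comm.2 (hc u v)]
        exact one_mem _
      · show (x ^ 2) ^ 2 ^ m = 1
        rw [← pow_mul, ← pow_succ']; exact hn x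
    exact hle hx
  have hqker : ∀ x : X, qh x = 1 → x ∈ frattini X := by
    intro x hx
    by_contra hxΦ
    obtain ⟨y, hy⟩ := hnmin m (by omega)
    refine hy ?_
    show qh y = 1
    have hxφ : qh (φ x) = 1 := by
      show (φ x) ^ 2 ^ m = 1
      rw [← map_pow, show x ^ 2 ^ m = 1 from hx, map_one]
    have key : ∀ u v : X, u⁻¹ * v ∈ frattini X → qh v = qh u := fun u v huv => by
      have := hqΦ _ huv
      rw [map_mul, map_inv, inv_mul_eq_one] at this
      exact this.symm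
    rcases class_cases hidx hker hX hxΦ y with h | h | h | h
    · exact hqΦ y h
    · rw [key x y h, hx]
    · rw [key _ y h, hxφ]
    · rw [key _ y h, map_mul, hx, hxφ, one_mul]
  have hodd : ∀ i j : ℕ, a ^ i * b ^ j ∈ frattini X → 2 ∣ i ∧ 2 ∣ j := by
    intro i j h
    have hb : b ∉ frattini X := fun hh => ha (by
      obtain ⟨c, hc', hca⟩ := (Subgroup.characteristic_iff_map_eq.1 (inferInstance : (frattini X).Characteristic) φ).ge hh
      rwa [← φ.injective hca])
    have hred : ∀ (y : X) (k : ℕ), (y ^ (k % 2))⁻¹ * y ^ k ∈ frattini X := fun y k => by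
      conv in y ^ k => rw [← Nat.mod_add_div k 2, pow_add, pow_mul]
      rw [inv_mul_cancel_left]
      exact pow_mem (frattini_sq hX y) _
    have h' : a ^ (i % 2) * b ^ (j % 2) ∈ frattini X := by
      have h1 := mul_mem h (inv_mem (mul_mem (hred a i) (hred b j)))
      rwa [show a ^ i * b ^ j * ((a ^ (i % 2))⁻¹ * a ^ i * ((b ^ (j % 2))⁻¹ * b ^ j))⁻¹ =
          a ^ (i % 2) * b ^ (j % 2) by
        rw [hc ((a ^ (i % 2))⁻¹) (a ^ i), hc ((b ^ (j % 2))⁻¹) (b ^ j)]
        calc _ = a ^ i * b ^ j * (b ^ (j % 2) * (b ^ j)⁻¹) * (a ^ (i % 2) * (a ^ i)⁻¹) := by group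
          _ = a ^ i * (b ^ j * b ^ (j % 2) * (b ^ j)⁻¹) * (a ^ (i % 2) * (a ^ i)⁻¹) := by group
          _ = a ^ i * b ^ (j % 2) * (a ^ (i % 2) * (a ^ i)⁻¹) := by
              rw [hc (b ^ j) (b ^ (j % 2)), mul_inv_cancel_right]
          _ = b ^ (j % 2) * a ^ (i % 2) := by
              rw [hc (a ^ i) (b ^ (j % 2)), hc (a ^ (i % 2)) ((a ^ i)⁻¹), mul_assoc, mul_inv_cancel_left]
          _ = _ := hc _ _] at h1
    rcases Nat.mod_two_eq_zero_or_one i with hi | hi <;> rcases Nat.mod_two_eq_zero_or_one j with hj | hj <;>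
      simp only [hi, hj, pow_zero, pow_one, one_mul, mul_one] at h'
    · exact ⟨Nat.dvd_of_mod_eq_zero hi, Nat.dvd_of_mod_eq_zero hj⟩
    · exact absurd h' hb
    · exact absurd h' ha
    · exfalso
      refine ha (hker a ?_)
      have h4 := mul_mem (inv_mem (frattini_sq hX a)) h'
      rwa [show (a ^ 2)⁻¹ * (a * b) = a⁻¹ * φ a by show _ = a⁻¹ * b; rw [sq]; group] at h4
  have hdiv : ∀ k ≤ m + 1, ∀ i j : ℕ, (a ^ i * b ^ j) ^ 2 ^ (m + 1 - k) = 1 → 2 ^ k ∣ i ∧ 2 ^ k ∣ j := by
    intro k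
    induction k with
    | zero => intro _ i j _; exact ⟨one_dvd _, one_dvd _⟩
    | succ k ih =>
      intro hk i j h
      have h1 : qh (a ^ i * b ^ j) = 1 := by
        show (a ^ i * b ^ j) ^ 2 ^ m = 1
        obtain ⟨d, hd⟩ := pow_dvd_pow 2 (show m + 1 - (k + 1) ≤ m by omega)
        rw [hd, pow_mul, h, one_pow]
      obtain ⟨⟨i', rfl⟩, ⟨j', rfl⟩⟩ := hodd i j (hqker _ h1)
      obtain ⟨hi, hj⟩ := ih (by omega) i' j' (by
        rw [show m + 1 - k = (m + 1 - (k + 1)) + 1 by omega, pow_succ', pow_mul,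
          (show Commute (a ^ i') (b ^ j') from hc _ _).mul_pow, ← pow_mul, ← pow_mul, mul_comm i', mul_comm j']
        exact h)
      exact ⟨by rw [pow_succ']; exact Nat.mul_dvd_mul_left 2 hi, by rw [pow_succ']; exact Nat.mul_dvd_mul_left 2 hj⟩
  set N := 2 ^ (m + 1) with hN
  haveI : NeZero N := ⟨pow_ne_zero _ two_ne_zero⟩
  let f : Multiplicative (ZMod N) × Multiplicative (ZMod N) → X :=
    fun ij => a ^ (Multiplicative.toAdd ij.1).val * b ^ (Multiplicative.toAdd ij.2).val
  have hpow : ∀ (y : X) (u v : ZMod N), y ^ (u + v).val = y ^ u.val * y ^ v.val := fun y u v => by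
    rw [← pow_add, ZMod.val_add]
    exact (pow_eq_pow_mod _ (hn y)).symm
  let F : Multiplicative (ZMod N) × Multiplicative (ZMod N) →* X := MonoidHom.mk' f fun u v => by
    show a ^ ((Multiplicative.toAdd u.1) + (Multiplicative.toAdd v.1)).val *
      b ^ ((Multiplicative.toAdd u.2) + (Multiplicative.toAdd v.2)).val = _
    rw [hpow, hpow]
    exact (show Commute _ _ from hc _ _).mul_mul_mul_comm _ _
  have hFinj : Function.Injective F := (injective_iff_map_eq_one F).2 fun u hu => by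
    obtain ⟨hi, hj⟩ := hdiv (m + 1) le_rfl (Multiplicative.toAdd u.1).val (Multiplicative.toAdd u.2).val (by
      rw [Nat.sub_self, pow_zero, pow_one]; exact hu)
    have h1 := Nat.eq_zero_of_dvd_of_lt hi (ZMod.val_lt _)
    have h2 := Nat.eq_zero_of_dvd_of_lt hj (ZMod.val_lt _)
    rw [ZMod.val_eq_zero] at h1 h2
    exact Prod.ext (Multiplicative.toAdd.injective h1) (Multiplicative.toAdd.injective h2)
  have hcardD : Nat.card (Multiplicative (ZMod N) × Multiplicative (ZMod N)) = N * N := by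
    rw [Nat.card_prod]; simp
  have hcard : Nat.card X = N * N := by
    refine le_antisymm (metacyclic_card_le hm (MonoidHom.id X) (fun x => ⟨x, rfl⟩) (NeZero.ne N) hn) ?_
    rw [← hcardD]
    exact Nat.card_le_card_of_injective F hFinj
  exact ⟨m + 1, m.succ_ne_zero, hn, hcard, ⟨(MulEquiv.ofBijective F
    ((Nat.bijective_iff_injective_and_card F).2 ⟨hFinj, hcardD.trans hcard.symm⟩)).symm⟩⟩

/-- The classification. -/
theorem metacyclic_two_aut (hX : IsPGroup 2 X) (hm : Cfsg.IsMetacyclic X)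
    (hA : ¬ IsPGroup 2 (MulAut X)) :
    Nonempty (X ≃* QuaternionGroup 2) ∨
      ∃ n : ℕ, Nonempty (X ≃* Multiplicative (ZMod (2 ^ n)) × Multiplicative (ZMod (2 ^ n))) := by
  classical
  haveI : Fact (Nat.Prime 2) := ⟨Nat.prime_two⟩
  obtain ⟨φ, q, hq, hq2, hφ, hidx, hker, hsurj⟩ := exists_fpf_aut hX hm hA
  by_cases hab : ∀ a b : X, a * b = b * a
  · obtain ⟨n, -, -, -, h⟩ := homocyclic_of_abelian hX hm hA hab
    exact Or.inr ⟨n, h⟩
  left
  set C := commutator X with hCdef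
  haveI hCn : C.Normal := inferInstance
  -- `C` is cyclic
  haveI hCc : IsCyclic C := by
    obtain ⟨N, hN, hNc, hQc⟩ := hm
    haveI := hN
    have hle : C ≤ N := by
      refine Subgroup.Normal.quotient_commutative_iff_commutator_le.mp ?_
      haveI := hQc
      exact IsCyclic.commutative
    exact (subgroupOfEquivOfLe hle).isCyclic.1 inferInstance
  have hφC : ∀ c ∈ C, φ c ∈ C := fun c hc =>
    (Subgroup.characteristic_iff_map_eq.1 (inferInstance : C.Characteristic) φ).le ⟨c, hc, rfl⟩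
  -- `C` is central
  have hcen : ∀ x : X, ∀ c ∈ C, x * c = c * x := by
    let h : X →* MulAut C := MulAut.conjNormal
    have hcm : ∀ u v : MulAut C, u * v = v * u := fun u v =>
      (IsCyclic.mulAutMulEquiv C).injective (by rw [map_mul, map_mul, mul_comm])
    let σ : MulAut C := ((φ : X ≃* X).subgroupMap C).trans
      (MulEquiv.subgroupCongr (Subgroup.characteristic_iff_map_eq.1 (inferInstance : C.Characteristic) φ))
    have hσ : ∀ c : C, ((σ c : C) : X) = φ c := fun c => rfl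
    intro x c hc
    have hinv : ∀ y, h (φ y) = h y := by
      intro y
      have h1 : h (φ y) * σ = σ * h y := MulEquiv.ext fun d => Subtype.ext (by
        show φ y * (σ d : X) * (φ y)⁻¹ = φ (y * (d : X) * y⁻¹)
        rw [hσ, map_mul, map_mul, map_inv])
      rw [hcm σ (h y)] at h1
      exact mul_right_cancel h1
    have h2 := hom_eq_one_of_invariant hsurj h hinv x
    have h3 : x * c * x⁻¹ = c := congrArg (fun f : MulAut C => ((f ⟨c, hc⟩ : C) : X)) h2
    exact mul_inv_eq_iff_eq_mul.1 h3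
  let C₂ : Subgroup X :=
    { carrier := {y | ∃ c ∈ C, c ^ 2 = y}
      one_mem' := ⟨1, one_mem _, one_pow 2⟩
      mul_mem' := fun {u v} hu hv => by
        obtain ⟨c, hc, rfl⟩ := hu
        obtain ⟨d, hd, rfl⟩ := hv
        exact ⟨c * d, mul_mem hc hd, (show Commute c d from hcen c d hd).mul_pow 2⟩
      inv_mem' := fun {u} hu => by
        obtain ⟨c, hc, rfl⟩ := hu
        exact ⟨c⁻¹, inv_mem hc, inv_pow _ _⟩ }
  haveI hC₂n : C₂.Normal := ⟨fun u hu g => by
    obtain ⟨c, hc, rfl⟩ := hu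
    rw [show g * c ^ 2 * g⁻¹ = c ^ 2 by rw [hcen g _ (pow_mem hc 2), mul_inv_cancel_right]]
    exact ⟨c, hc, rfl⟩⟩
  obtain ⟨γ, hγC, hγgen⟩ : ∃ γ ∈ C, ∀ c ∈ C, ∃ k : ℤ, γ ^ k = c := by
    obtain ⟨⟨γ, hγ⟩, hgen⟩ := hCc.exists_generator
    refine ⟨γ, hγ, fun c hc => ?_⟩
    obtain ⟨k, hk⟩ := mem_zpowers_iff.1 (hgen ⟨c, hc⟩)
    exact ⟨k, congrArg Subtype.val hk⟩
  have hγ1 : γ ≠ 1 := by
    intro e
    refine hab fun a b => commutatorElement_eq_one_iff_mul_comm.1 ?_
    obtain ⟨k, hk⟩ := hγgen _ (commutator_mem_commutator (mem_top a) (mem_top b))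
    rw [← hk, e, one_zpow]
  have hγC₂ : γ ∉ C₂ := by
    rintro ⟨c, hc, hcγ⟩
    obtain ⟨k, hk⟩ := hγgen c hc
    have h1 : γ ^ (2 * k - 1) = 1 := by
      rw [zpow_sub, zpow_one, mul_comm, zpow_mul, hk, show (2 : ℤ) = ((2 : ℕ) : ℤ) from rfl, zpow_natCast,
        hcγ, mul_inv_cancel]
    obtain ⟨j, hj⟩ := IsPGroup.iff_orderOf.1 hX γ
    rw [← orderOf_dvd_iff_zpow_eq_one, hj] at h1
    rcases j with _ | j
    · exact hγ1 (orderOf_eq_one_iff.1 (by rw [hj, pow_zero]))
    · have : (2 : ℤ) ∣ 2 * k - 1 := dvd_trans ⟨(2 : ℤ) ^ j, by push_cast; ring⟩ h1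
      omega
  have hmod2 : ∀ c ∈ C, c ∈ C₂ ∨ γ⁻¹ * c ∈ C₂ := by
    intro c hc
    obtain ⟨k, rfl⟩ := hγgen c hc
    rcases Int.even_or_odd k with ⟨l, rfl⟩ | ⟨l, rfl⟩
    · exact Or.inl ⟨γ ^ l, zpow_mem hγC l, by rw [sq, ← zpow_add]⟩
    · refine Or.inr ⟨γ ^ l, zpow_mem hγC l, ?_⟩
      rw [sq, ← zpow_add, ← zpow_neg_one, ← zpow_add]
      ring_nf
  have hφC₂ : ∀ c ∈ C, c⁻¹ * φ c ∈ C₂ := by
    intro c hc
    have hC₂φ : ∀ u : X, u ∈ C₂ → φ u ∈ C₂ := by
      rintro _ ⟨d, hd, rfl⟩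
      exact ⟨φ d, hφC d hd, (map_pow φ d 2).symm⟩
    have hback : ∀ u : X, φ u ∈ C₂ → u ∈ C₂ := by
      rintro u ⟨d, hd, hdu⟩
      obtain ⟨d', hd', rfl⟩ := (Subgroup.characteristic_iff_map_eq.1 (inferInstance : C.Characteristic) φ).ge hd
      exact ⟨d', hd', φ.injective ((map_pow φ d' 2).trans hdu)⟩
    rcases hmod2 c hc with h | h
    · exact mul_mem (inv_mem h) (hC₂φ c h)
    · rcases hmod2 (φ γ) (hφC γ hγC) with hg | hg
      · exact absurd (hback γ hg) hγC₂
      · have e : c⁻¹ * φ c = (γ⁻¹ * c)⁻¹ * ((γ⁻¹ * φ γ) * φ (γ⁻¹ * c)) := by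
          rw [map_mul, map_inv]; group
        rw [e]
        exact mul_mem (inv_mem h) (mul_mem hg (hC₂φ _ h))
  -- the quotient by `C`
  let φQ : MulAut (X ⧸ C) :=
    QuotientGroup.congr C C φ (Subgroup.characteristic_iff_map_eq.1 inferInstance φ)
  have hCΦ : C ≤ frattini X := CfsgLib.PGroups.commutator_le_frattini' hX
  have hQA : ¬ IsPGroup 2 (MulAut (X ⧸ C)) := by
    intro hp2
    obtain ⟨k, hk⟩ := IsPGroup.iff_orderOf.1 hp2 φQ
    have hpow : ∀ (j : ℕ) (x : X), (φQ ^ j) (QuotientGroup.mk x) = QuotientGroup.mk ((φ ^ j) x) := by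
      intro j
      induction j with
      | zero => intro x; simp
      | succ j ih => intro x; rw [pow_succ, pow_succ, MulAut.mul_apply, MulAut.mul_apply]; exact ih _
    have hq1 : φQ ^ q = 1 := MulEquiv.ext fun v => by
      induction v using QuotientGroup.induction_on with
      | _ x => rw [hpow, ← hφ, pow_orderOf_eq_one]; rfl
    have h1 : orderOf φQ = 1 := Nat.eq_one_of_dvd_coprimes
      (((Nat.coprime_primes hq Nat.prime_two).2 hq2).pow_right k) (orderOf_dvd_of_pow_eq_one hq1) hk.dvd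
    rw [orderOf_eq_one_iff] at h1
    obtain ⟨a, ha⟩ : ∃ a : X, a ∉ frattini X := by
      by_contra h
      push Not at h
      rw [show frattini X = ⊤ from eq_top_iff.2 fun x _ => h x, index_top] at hidx
      omega
    have h2 : φQ (QuotientGroup.mk a) = QuotientGroup.mk a := by rw [h1]; rfl
    exact ha (hker a (hCΦ (QuotientGroup.eq.1 h2.symm)))
  have hQm : Cfsg.IsMetacyclic (X ⧸ C) := by
    obtain ⟨N, hN, hNc, hQc⟩ := hm
    haveI := hN
    haveI := hNc
    haveI := hQc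
    haveI : (N.map (QuotientGroup.mk' C)).Normal := hN.map _ (QuotientGroup.mk'_surjective _)
    refine ⟨N.map (QuotientGroup.mk' C), inferInstance,
      isCyclic_of_surjective _ ((QuotientGroup.mk' C).subgroupMap_surjective N),
      isCyclic_of_surjective (QuotientGroup.map N (N.map (QuotientGroup.mk' C)) (QuotientGroup.mk' C)
        (le_comap_map _ _)) ?_⟩
    intro y
    obtain ⟨y, rfl⟩ := QuotientGroup.mk_surjective y
    obtain ⟨x, rfl⟩ := QuotientGroup.mk_surjective y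
    exact ⟨QuotientGroup.mk x, rfl⟩
  have hQc : ∀ u v : X ⧸ C, u * v = v * u :=
    ((Subgroup.Normal.quotient_commutative_iff_commutator_le (N := C)).2 le_rfl).is_comm.comm
  obtain ⟨n, hn0, hnexp, hncard, -⟩ := homocyclic_of_abelian (hX.to_quotient C) hQm hQA hQc
  have hmemC : ∀ x : X, x ^ 2 ^ n ∈ C := fun x => by
    rw [← QuotientGroup.eq_one_iff, QuotientGroup.mk_pow]; exact hnexp _
  have hcomm : ∀ u v : X, ⁅u, v⁆ ∈ center X := fun u v => mem_center_iff.2 fun g =>
    hcen g _ (commutator_mem_commutator (mem_top u) (mem_top v))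
  have hn1 : n = 1 := by
    by_contra hne
    have hn2 : 2 ≤ n := by omega
    let qh : X →* X ⧸ C₂ :=
      { toFun := fun x => QuotientGroup.mk (x ^ 2 ^ n)
        map_one' := by rw [one_pow]; rfl
        map_mul' := fun x y => by
          rw [← QuotientGroup.mk_mul, CfsgLib.PGroups.mul_pow_of_central (hcomm y x)]
          refine (QuotientGroup.eq.2 ?_).symm
          rw [inv_mul_cancel_left]
          have he : 2 ∣ (2 ^ n).choose 2 := by
            obtain ⟨j, rfl⟩ : ∃ j, n = j + 2 := ⟨n - 2, by omega⟩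
            rw [Nat.choose_two_right, show 2 ^ (j + 2) = 2 * (2 * 2 ^ j) by ring, mul_assoc,
              Nat.mul_div_cancel_left _ two_pos, mul_assoc]
            exact Dvd.intro _ rfl
          obtain ⟨d, hd⟩ := he
          exact ⟨⁅y, x⁆ ^ d, pow_mem (commutator_mem_commutator (mem_top y) (mem_top x)) d,
            by rw [← pow_mul, mul_comm, ← hd]⟩ }
    have hinv : ∀ x, qh (φ x) = qh x := fun x => by
      show (QuotientGroup.mk ((φ x) ^ 2 ^ n) : X ⧸ C₂) = QuotientGroup.mk (x ^ 2 ^ n)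
      rw [← map_pow, eq_comm, QuotientGroup.eq]
      exact hφC₂ _ (hmemC x)
    have hexp : ∀ v : X ⧸ C₂, v ^ 2 ^ n = 1 := fun v => by
      induction v using QuotientGroup.induction_on with
      | _ x => rw [← QuotientGroup.mk_pow]; exact hom_eq_one_of_invariant hsurj qh hinv x
    have hle := metacyclic_card_le hm (QuotientGroup.mk' C₂) (QuotientGroup.mk'_surjective _)
      (pow_ne_zero n two_ne_zero) hexp
    have hC₂C : C₂ ≤ C := fun u ⟨c, hc, hcu⟩ => hcu ▸ pow_mem hc 2
    have hidx' : C₂.index = C₂.relIndex C * C.index := (relIndex_mul_index hC₂C).symm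
    have h2 : 2 ≤ C₂.relIndex C := by
      have h0 : C₂.relIndex C ≠ 0 := index_ne_zero_of_finite
      have h1 : C₂.relIndex C ≠ 1 := fun e => hγC₂ (relIndex_eq_one.1 e hγC)
      omega
    rw [← Subgroup.index, hidx'] at hle
    rw [← Subgroup.index] at hncard
    rw [hncard] at hle
    have := pow_pos (two_pos : 0 < 2) n
    nlinarith
  subst hn1
  rw [pow_one] at hmemC
  have hc2 : ∀ u v : X, ⁅u, v⁆ ^ 2 = 1 := fun u v => by
    rw [← CfsgLib.PGroups.comm_pow_left_of_central (hcomm u v), commutatorElement_eq_one_iff_mul_comm]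
    exact (hcen v _ (hmemC u)).symm
  have hCexp : ∀ c ∈ C, c ^ 2 = 1 := by
    let K : Subgroup X :=
      { carrier := {c | c ^ 2 = 1 ∧ c ∈ center X}
        one_mem' := ⟨one_pow 2, one_mem _⟩
        mul_mem' := fun {u v} hu hv => ⟨by
          rw [(show Commute u v from (mem_center_iff.1 hu.2 v).symm).mul_pow, hu.1, hv.1, one_mul],
          mul_mem hu.2 hv.2⟩
        inv_mem' := fun {u} hu => ⟨by rw [inv_pow, hu.1, inv_one], inv_mem hu.2⟩ }
    have : C ≤ K := by
      rw [hCdef, _root_.commutator_def, Subgroup.commutator_le]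
      exact fun u _ v _ => ⟨hc2 u v, hcomm u v⟩
    exact fun c hc => (this hc).1
  have hCmem : ∀ c ∈ C, c = 1 ∨ c = γ := by
    intro c hc
    rcases hmod2 c hc with ⟨d, hd, hdc⟩ | ⟨d, hd, hdc⟩
    · exact Or.inl (by rw [← hdc, hCexp d hd])
    · rw [hCexp d hd] at hdc
      exact Or.inr (inv_mul_eq_one.1 hdc.symm).symm
  have hCcard : Nat.card C = 2 := by
    rw [Nat.card_eq_two_iff]
    refine ⟨1, ⟨γ, hγC⟩, fun e => hγ1 (congrArg Subtype.val e).symm, ?_⟩
    ext c
    simp only [Set.mem_insert_iff, Set.mem_singleton_iff, Set.mem_univ, iff_true]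
    rcases hCmem c c.2 with h | h
    · exact Or.inl (Subtype.ext h)
    · exact Or.inr (Subtype.ext h)
  have hcard : Nat.card X = 4 * 2 := by
    rw [card_eq_card_quotient_mul_card_subgroup C, hncard, hCcard]; norm_num
  have hCΦ' : frattini X = C := by
    refine (Subgroup.eq_of_le_of_card_ge hCΦ ?_).symm
    have := (frattini X).card_mul_index
    rw [hidx, hcard] at this
    omega
  rw [hCΦ'] at hker
  have hφγ : φ γ = γ := by
    rcases hCmem (φ γ) (hφC γ hγC) with h | h
    · exact absurd (φ.injective (h.trans (map_one φ).symm)) hγ1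
    · exact h
  obtain ⟨a, ha⟩ : ∃ a : X, a ∉ C := by
    by_contra h
    push Not at h
    rw [show C = ⊤ from eq_top_iff.2 fun x _ => h x, card_top, hcard] at hCcard
    omega
  set b := φ a
  have hbC : b ∉ C := fun h => ha (by
    obtain ⟨c, hc, hca⟩ := (Subgroup.characteristic_iff_map_eq.1 (inferInstance : C.Characteristic) φ).ge h
    rwa [← φ.injective hca])
  have hsqφ : ∀ x : X, (φ x) ^ 2 = x ^ 2 := fun x => by
    rcases hCmem _ (hmemC x) with h | h <;> rw [← map_pow, h]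
    · exact map_one φ
    · exact hφγ
  have hsqcoset : ∀ x y : X, x⁻¹ * y ∈ C → y ^ 2 = x ^ 2 := fun x y h => by
    rw [show y = x * (x⁻¹ * y) by group, (show Commute x (x⁻¹ * y) from hcen x _ h).mul_pow,
      hCexp _ h, mul_one]
  -- `(a b)² = a²`
  have habsq : (a * b) ^ 2 = a ^ 2 := by
    rcases class_cases (a := a) hidx (by rw [hCΦ']; exact hker) hX (by rwa [hCΦ']) (φ b) with h | h | h | h <;>
      rw [hCΦ'] at h
    · exact absurd h fun hh => hbC (by
        obtain ⟨c, hc, hca⟩ := (Subgroup.characteristic_iff_map_eq.1 (inferInstance : C.Characteristic) φ).ge hh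
        rwa [← φ.injective hca])
    · -- `φ² a ≡ a` would give a fixed class
      exfalso
      have h1 : (a * b)⁻¹ * φ (a * b) ∈ C := by
        rw [map_mul]
        show (a * b)⁻¹ * (b * φ b) ∈ C
        have e : (a * b)⁻¹ * (b * φ b) = b⁻¹ * a⁻¹ * b * a * (a⁻¹ * φ b) := by group
        rw [e]
        refine mul_mem ?_ h
        rw [show b⁻¹ * a⁻¹ * b * a = ⁅b⁻¹, a⁻¹⁆ by rw [commutatorElement_def]; group]
        exact commutator_mem_commutator (mem_top _) (mem_top _)
      have h2 := hker _ h1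
      refine ha (hker a ?_)
      have h3 := mul_mem (inv_mem (hmemC a)) h2
      rwa [show (a ^ 2)⁻¹ * (a * b) = a⁻¹ * φ a by show _ = a⁻¹ * b; rw [sq]; group] at h3
    · exact absurd (hker b h) hbC
    · rw [← hsqcoset _ _ h, hsqφ, hsqφ]
  have hbsq : b ^ 2 = a ^ 2 := hsqφ a
  have hasq : a ^ 2 = γ := by
    refine (hCmem _ (hmemC a)).resolve_left fun h1 => hab ?_
    have hb2 : b * b = 1 := by rw [← sq, hbsq, h1]
    have ha2 : a * a = 1 := by rw [← sq, h1]
    have hab' : a * b = b * a := by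
      calc a * b = (a * b)⁻¹ := (inv_eq_of_mul_eq_one_left (by rw [← sq, habsq, h1])).symm
        _ = b * a := by rw [mul_inv_rev, inv_eq_of_mul_eq_one_left hb2, inv_eq_of_mul_eq_one_left ha2]
    intro x y
    have hgen : ∀ z : X, z ∈ Subgroup.closure {a, b} ⊔ frattini X := by
      intro z
      have hab1 : a ∈ Subgroup.closure {a, b} := subset_closure (Or.inl rfl)
      have hab2 : b ∈ Subgroup.closure {a, b} := subset_closure (Or.inr rfl)
      rcases class_cases (a := a) hidx (by rw [hCΦ']; exact hker) hX (by rwa [hCΦ']) z with h | h | h | h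
      · exact mem_sup_right h
      · rw [show z = a * (a⁻¹ * z) by group]; exact mul_mem (mem_sup_left hab1) (mem_sup_right h)
      · rw [show z = b * (b⁻¹ * z) by group]; exact mul_mem (mem_sup_left hab2) (mem_sup_right h)
      · rw [show z = a * b * ((a * b)⁻¹ * z) by group]
        exact mul_mem (mem_sup_left (mul_mem hab1 hab2)) (mem_sup_right h)
    have htop : Subgroup.closure {a, b} = (⊤ : Subgroup X) :=
      frattini_nongenerating (eq_top_iff.2 fun z _ => hgen z)
    haveI : IsMulCommutative (Subgroup.closure ({a, b} : Set X)) :=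
      Subgroup.isMulCommutative_closure (by
        rintro u (rfl | rfl) v (rfl | rfl) <;> first | rfl | exact hab' | exact hab'.symm)
    have hx : x ∈ Subgroup.closure {a, b} := htop ▸ mem_top x
    have hy : y ∈ Subgroup.closure {a, b} := htop ▸ mem_top y
    exact congrArg Subtype.val (mul_comm' (⟨x, hx⟩ : Subgroup.closure ({a, b} : Set X)) ⟨y, hy⟩)
  have horda : orderOf a = 2 * 2 := by
    refine (orderOf_eq_prime_pow (p := 2) (n := 1) ?_ ?_).trans (by norm_num)
    · rw [pow_one, hasq]; exact hγ1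
    · rw [show 2 ^ (1 + 1) = 2 * 2 by norm_num, pow_mul, hasq, hCexp γ hγC]
  haveI : NeZero 2 := ⟨two_ne_zero⟩
  refine CfsgLib.TwoGroups.nonempty_mulEquiv_quaternionGroup horda (by rw [← sq, hbsq]) ?_ ?_ hcard
  · intro h
    obtain ⟨k, hk⟩ := mem_zpowers_iff.1 h
    have ha2C := hmemC a
    rcases Int.even_or_odd k with ⟨l, rfl⟩ | ⟨l, rfl⟩
    · refine hbC (hk ▸ ?_)
      rw [← two_mul, zpow_mul, show (2 : ℤ) = ((2 : ℕ) : ℤ) from rfl, zpow_natCast]
      exact zpow_mem ha2C _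
    · refine ha (hker a ?_)
      show a⁻¹ * b ∈ C
      rw [← hk, zpow_add, zpow_one, ← mul_assoc, zpow_mul, show (2 : ℤ) = ((2 : ℕ) : ℤ) from rfl, zpow_natCast,
        hcen a⁻¹ _ (zpow_mem ha2C l), inv_mul_cancel_right]
      exact zpow_mem ha2C l
  · have hγ2 : γ * γ = 1 := by rw [← sq]; exact hCexp γ hγC
    have hb2 : b * b = γ := by rw [← sq, hbsq, hasq]
    have hab2 : a * b * (a * b) = γ := by rw [← sq, habsq, hasq]
    calc b * a * b⁻¹ = a⁻¹ * (a * b * (a * b)) * (b * b)⁻¹ := by group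
      _ = a⁻¹ := by rw [hab2, hb2, mul_inv_cancel_right]

end CfsgLib.Techniques
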