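import Mathlib.GroupTheory.Sylow
import Mathlib.GroupTheory.Subgroup.Centralizer
import Mathlib.Algebra.Group.End
import Mathlib.GroupTheory.Nilpotent

/-!
Elementary helpers used in the classification-techniques statements: conjugation bookkeeping and
Sylow containment up to conjugation.
-/

namespace CfsgLib.Techniques

open Subgroup

variable {G : Type*} [Group G]

theorem mem_map_conj_iff {H : Subgroup G} {g x : G} :
    x ∈ H.map (MulAut.conj g).toMonoidHom ↔ g⁻¹ * x * g ∈ H := by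
  constructor
  · rintro ⟨y, hy, rfl⟩
    simpa [MulAut.conj_apply, mul_assoc] using hy
  · intro h
    exact ⟨_, h, by simp [MulAut.conj_apply, mul_assoc]⟩

theorem map_conj_conj (H : Subgroup G) (g h : G) :
    (H.map (MulAut.conj g).toMonoidHom).map (MulAut.conj h).toMonoidHom =
      H.map (MulAut.conj (h * g)).toMonoidHom := by
  ext x; simp only [mem_map_conj_iff, mul_inv_rev, mul_assoc]

theorem map_conj_one (H : Subgroup G) : H.map (MulAut.conj (1 : G)).toMonoidHom = H := by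
  ext x; simp [mem_map_conj_iff]

theorem card_map_conj (H : Subgroup G) (g : G) :
    Nat.card ↥(H.map (MulAut.conj g).toMonoidHom) = Nat.card ↥H :=
  Nat.card_congr (H.equivMapOfInjective _ (MulAut.conj g).injective).toEquiv.symm

theorem isPGroup_map_conj {p : ℕ} {H : Subgroup G} (hH : IsPGroup p H) (g : G) :
    IsPGroup p ↥(H.map (MulAut.conj g).toMonoidHom) := hH.map _

/-- Every `p`-subgroup is conjugate into a given Sylow subgroup. -/
theorem exists_conj_le_sylow [Finite G] {p : ℕ} [Fact p.Prime] (S : Sylow p G) {H : Subgroup G}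
    (hH : IsPGroup p H) : ∃ g : G, H.map (MulAut.conj g).toMonoidHom ≤ (S : Subgroup G) := by
  obtain ⟨Q, hQ⟩ := hH.exists_le_sylow
  obtain ⟨g, hg⟩ := MulAction.exists_smul_eq G Q S
  refine ⟨g, fun x hx => ?_⟩
  rw [← hg, Sylow.coe_subgroup_smul]
  rw [mem_map_conj_iff] at hx
  rw [Subgroup.mem_pointwise_smul_iff_inv_smul_mem]
  simpa [MulAut.smul_def, MulAut.conj_apply] using hQ hx

theorem exists_conj_mem_sylow [Finite G] {p : ℕ} [Fact p.Prime] (S : Sylow p G) {H : Subgroup G}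
    (hH : IsPGroup p H) : ∃ g : G, ∀ x ∈ H, g * x * g⁻¹ ∈ (S : Subgroup G) := by
  obtain ⟨g, hg⟩ := exists_conj_le_sylow S hH
  exact ⟨g, fun x hx => hg ⟨x, hx, rfl⟩⟩

theorem isPGroup_zpowers_of_mem {p : ℕ} {P : Subgroup G} (hP : IsPGroup p P) {a : G} (ha : a ∈ P) :
    IsPGroup p ↥(Subgroup.zpowers a) :=
  hP.to_le (Subgroup.zpowers_le.mpr ha)

/-- Two `p`-elements of a subgroup `C` can be conjugated simultaneously into `S`, one of them
after a preliminary conjugation inside `C`. -/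
theorem exists_simultaneous_conj [Finite G] {p : ℕ} [Fact p.Prime] (S : Sylow p G) (C : Subgroup G)
    {x y : G} (hx : IsPGroup p ↥(Subgroup.zpowers x)) (hy : IsPGroup p ↥(Subgroup.zpowers y))
    (hxC : x ∈ C) (hyC : y ∈ C) :
    ∃ c ∈ C, ∃ g : G, g * x * g⁻¹ ∈ (S : Subgroup G) ∧
      g * (c * y * c⁻¹) * g⁻¹ ∈ (S : Subgroup G) := by
  have hx' : IsPGroup p ↥((Subgroup.zpowers x).subgroupOf C) :=
    hx.comap_of_injective _ C.subtype_injective
  have hy' : IsPGroup p ↥((Subgroup.zpowers y).subgroupOf C) :=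
    hy.comap_of_injective _ C.subtype_injective
  obtain ⟨R, hR⟩ := hx'.exists_le_sylow
  obtain ⟨c, hc⟩ := exists_conj_mem_sylow R hy'
  obtain ⟨g, hg⟩ := exists_conj_mem_sylow S (R.2.map C.subtype)
  refine ⟨c, c.2, g, ?_, ?_⟩
  · exact hg x ⟨⟨x, hxC⟩, hR (Subgroup.mem_subgroupOf.mpr (Subgroup.mem_zpowers x)), rfl⟩
  · exact hg _ ⟨c * ⟨y, hyC⟩ * c⁻¹,
      hc _ (Subgroup.mem_subgroupOf.mpr (Subgroup.mem_zpowers y)), rfl⟩

/-- In a finite `p`-group a proper subgroup is properly contained in its normalizer. -/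
theorem exists_mem_normalizer_not_mem [Finite G] {p : ℕ} [Fact p.Prime] {P K : Subgroup G}
    (hP : IsPGroup p P) (hKP : K ≤ P) (hne : ¬ P ≤ K) :
    ∃ g ∈ P, g ∈ Subgroup.normalizer (K : Set G) ∧ g ∉ K := by
  haveI : Group.IsNilpotent P := hP.isNilpotent
  have hlt : K.subgroupOf P < ⊤ := by
    rw [lt_top_iff_ne_top, Ne, Subgroup.subgroupOf_eq_top]; exact hne
  have h := Group.normalizerCondition_of_isNilpotent (G := P) _ hlt
  obtain ⟨g, hgN, hgK⟩ := SetLike.exists_of_lt h
  refine ⟨g, g.2, ?_, fun hh => hgK (Subgroup.mem_subgroupOf.mpr hh)⟩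
  rw [Subgroup.mem_normalizer_iff] at hgN ⊢
  intro y
  constructor
  · intro hy
    have := (hgN ⟨y, hKP hy⟩).mp (Subgroup.mem_subgroupOf.mpr hy)
    simpa [Subgroup.mem_subgroupOf] using this
  · intro hy
    have hyP : y ∈ P := by
      have hP' : (g : G)⁻¹ * ((g : G) * y * (g : G)⁻¹) * (g : G) ∈ P :=
        P.mul_mem (P.mul_mem (P.inv_mem g.2) (hKP hy)) g.2
      simpa [mul_assoc] using hP'
    have := (hgN ⟨y, hyP⟩).mpr (by simpa [Subgroup.mem_subgroupOf] using hy)
    simpa [Subgroup.mem_subgroupOf] using this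

end CfsgLib.Techniques
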