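import Mathlib.GroupTheory.SpecificGroups.Cyclic
import Mathlib.GroupTheory.Subgroup.Centralizer
import Mathlib.GroupTheory.OrderOfElement
import Mathlib.GroupTheory.SpecificGroups.KleinFour

/-!
An involution acting without fixed points on a normal subgroup inverts it.
-/

namespace CfsgLib.Techniques

open Subgroup

variable {H : Type*} [Group H] [Finite H]

theorem conj_eq_inv_of_fixedPointFree {z : H} (hz : z * z = 1) {N : Subgroup H} [hN : N.Normal]
    (h : N ⊓ Subgroup.centralizer ({z} : Set H) = ⊥) {n : H} (hn : n ∈ N) :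
    z * n * z⁻¹ = n⁻¹ := by
  have hfun : Function.Injective (fun m : N =>
      (⟨(m : H)⁻¹ * (z * m * z⁻¹), mul_mem (inv_mem m.2) (hN.conj_mem _ m.2 z)⟩ : N)) := by
    intro a b he
    have he' : (a : H)⁻¹ * (z * a * z⁻¹) = (b : H)⁻¹ * (z * b * z⁻¹) := congrArg Subtype.val he
    have hmem : (b : H) * (a : H)⁻¹ ∈ N ⊓ Subgroup.centralizer ({z} : Set H) := by
      refine Subgroup.mem_inf.mpr ⟨mul_mem b.2 (inv_mem a.2), ?_⟩
      rw [Subgroup.mem_centralizer_iff]
      rintro x hx; rw [Set.mem_singleton_iff.mp hx]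
      calc z * ((b : H) * (a : H)⁻¹)
          = (b : H) * ((b : H)⁻¹ * (z * b * z⁻¹)) * (z * a * z⁻¹)⁻¹ * z := by group
        _ = (b : H) * ((a : H)⁻¹ * (z * a * z⁻¹)) * (z * a * z⁻¹)⁻¹ * z := by rw [he']
        _ = (b : H) * (a : H)⁻¹ * z := by group
    rw [h, Subgroup.mem_bot] at hmem
    exact Subtype.ext (mul_inv_eq_one.mp hmem).symm
  obtain ⟨m, hm⟩ := Finite.surjective_of_injective hfun ⟨n, hn⟩
  have hm' : (m : H)⁻¹ * (z * m * z⁻¹) = n := congrArg Subtype.val hm
  have hzi : z⁻¹ = z := inv_eq_of_mul_eq_one_right hz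
  rw [← hm']
  calc z * ((m : H)⁻¹ * (z * m * z⁻¹)) * z⁻¹
      = z * (m : H)⁻¹ * z * m * (z⁻¹ * z⁻¹) := by group
    _ = z * (m : H)⁻¹ * z * m := by rw [hzi, hz, mul_one]
    _ = ((m : H)⁻¹ * (z * m * z⁻¹))⁻¹ := by
        rw [hzi, mul_inv_rev, mul_inv_rev, mul_inv_rev, hzi, inv_inv]; group

/-- If every proper normal subgroup meets the centralizer of `z` trivially and `z` lies in a four
group all of whose involutions are conjugate to `z`, then the only proper normal subgroup is trivial. -/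
theorem eq_bot_of_normal_ne_top {z : H}
    (hN : ∀ N : Subgroup H, N.Normal → N ≠ ⊤ → N ⊓ Subgroup.centralizer ({z} : Set H) = ⊥)
    {E : Subgroup H} (hE : IsKleinFour ↥E) (hzE : z ∈ E) (hz1 : z ≠ 1)
    (hc : ∀ e ∈ E, e ≠ 1 → IsConj z e) (N : Subgroup H) [hNn : N.Normal] (hNtop : N ≠ ⊤) :
    N = ⊥ := by
  haveI := hE
  have hfree : ∀ e ∈ E, e ≠ 1 → N ⊓ Subgroup.centralizer ({e} : Set H) = ⊥ := by
    intro e he he1
    obtain ⟨g, hg⟩ := isConj_iff.mp (hc e he he1)
    rw [eq_bot_iff]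
    intro n hn
    obtain ⟨hnN, hnC⟩ := Subgroup.mem_inf.mp hn
    have h1 : g⁻¹ * n * g ∈ N ⊓ Subgroup.centralizer ({z} : Set H) := by
      refine Subgroup.mem_inf.mpr ⟨by simpa using hNn.conj_mem n hnN g⁻¹, ?_⟩
      rw [Subgroup.mem_centralizer_iff]
      rintro x hx; rw [Set.mem_singleton_iff.mp hx]
      have hne := Subgroup.mem_centralizer_iff.mp hnC e rfl
      rw [← hg] at hne
      calc z * (g⁻¹ * n * g) = g⁻¹ * (g * z * g⁻¹ * n) * g := by group
        _ = g⁻¹ * (n * (g * z * g⁻¹)) * g := by rw [hne]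
        _ = g⁻¹ * n * g * z := by group
    rw [hN N hNn hNtop, Subgroup.mem_bot] at h1
    rw [Subgroup.mem_bot]
    calc n = g * (g⁻¹ * n * g) * g⁻¹ := by group
      _ = 1 := by rw [h1]; group
  have hsq : ∀ e ∈ E, e * e = 1 := fun e he =>
    congrArg Subtype.val (IsKleinFour.mul_self (⟨e, he⟩ : E))
  -- a second involution of `E`
  obtain ⟨e, he, he1, hez⟩ : ∃ e ∈ E, e ≠ 1 ∧ e ≠ z := by
    by_contra hcon
    push Not at hcon
    have : Nat.card E ≤ 2 := by
      have hsurj : Function.Surjective (fun b : Bool => if b then (⟨z, hzE⟩ : E) else 1) := by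
        rintro ⟨e, he⟩
        by_cases h1 : e = 1
        · exact ⟨false, Subtype.ext h1.symm⟩
        · exact ⟨true, Subtype.ext (hcon e he h1).symm⟩
      simpa using Nat.card_le_card_of_surjective _ hsurj
    rw [IsKleinFour.card_four] at this
    omega
  have hze : z * e ≠ 1 := fun h => hez (by
    rw [← inv_eq_of_mul_eq_one_right h, inv_eq_of_mul_eq_one_right (hsq z hzE)])
  rw [eq_bot_iff]
  intro n hn
  have h1 := conj_eq_inv_of_fixedPointFree (hsq z hzE) (hfree z hzE hz1) hn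
  have h2 := conj_eq_inv_of_fixedPointFree (hsq e he) (hfree e he he1) hn
  have h3 : z * e * n * (z * e)⁻¹ = n := by
    calc z * e * n * (z * e)⁻¹ = z * (e * n * e⁻¹) * z⁻¹ := by group
      _ = z * n⁻¹ * z⁻¹ := by rw [h2]
      _ = (z * n * z⁻¹)⁻¹ := by group
      _ = n := by rw [h1, inv_inv]
  have h4 : n ∈ N ⊓ Subgroup.centralizer ({z * e} : Set H) := by
    refine Subgroup.mem_inf.mpr ⟨hn, ?_⟩
    rw [Subgroup.mem_centralizer_iff]
    rintro x hx; rw [Set.mem_singleton_iff.mp hx]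
    calc z * e * n = z * e * n * (z * e)⁻¹ * (z * e) := by group
      _ = n * (z * e) := by rw [h3]
  rw [hfree (z * e) (mul_mem hzE he) hze] at h4
  exact h4

end CfsgLib.Techniques
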