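import Cfsg.Agent.Lib.Signalizer.PComponents
import Cfsg.Agent.Lib.Core.Coprime
import Cfsg.Prelude.Def_EvenTechniques
import Cfsg.Prelude.Def_ClassificationStages
import Cfsg.Prelude.Def_SevenCases

/-!
# `p`-components: commutators, quasisimplicity, centralizers, terminality
-/

set_option autoImplicit false
set_option linter.all false

namespace CfsgLib.Techniques

open Cfsg Subgroup CfsgLib.Signalizer
open scoped commutatorElement Pointwise

variable {X : Type*} [Group X] [Finite X] {p : ℕ} [hp : Fact p.Prime]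

theorem isPComponent_of_no_normal {H : Subgroup X} (hH : H.IsSubnormal)
    (hc : IsComponent (H.map (QuotientGroup.mk' (pPrimeCore p X))))
    (hN : ∀ N : Subgroup ↥H, N.Normal → (N.index).Coprime p → N = ⊤) : IsPComponent p H := by
  obtain ⟨h1, h2⟩ := isPComponent_pGen hc
  set P := (H.map (modCore p X)).comap (modCore p X) with hP
  have hle : pGen p P ≤ H := by
    refine pGen_le_iff.mpr fun x hx k hk => ?_
    refine mem_of_subnormal_sup_eq_top (G := P) (H := H.subgroupOf P)
      (O := (pPrimeCore p X).subgroupOf P) hH.subgroupOf ?_ ?_ (x := ⟨x, hx⟩) (k := k)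
      (Subtype.ext hk)
    · exact (CfsgLib.Core.coprime_card_pPrimeCore p X).coprime_dvd_left
        (card_comap_dvd_of_injective _ (Subgroup.subtype _) (Subgroup.subtype_injective _))
    · have hPe : P = H ⊔ pPrimeCore p X := by rw [hP, comap_map_eq, QuotientGroup.ker_mk']
      rw [← subgroupOf_sup (hPe ▸ le_sup_left) (hPe ▸ le_sup_right), subgroupOf_eq_top, hPe]
  have heq : pGen p P = H := by
    refine le_antisymm hle ?_
    have hHP : H ≤ P := le_comap_map _ _
    have hn : ((pGen p P).subgroupOf H).Normal := (normal_subgroupOf_iff_le_normalizer hle).mpr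
      (hHP.trans (le_normalizer.trans (normalizer_le_normalizer_pGen P)))
    refine subgroupOf_eq_top.mp (hN _ hn ?_)
    rw [Nat.coprime_comm, hp.out.coprime_iff_not_dvd]
    intro hd
    obtain ⟨S⟩ := (Sylow.nonempty : Nonempty (Sylow p H))
    refine S.not_dvd_index (hd.trans (index_dvd_of_le fun x hx => ?_))
    obtain ⟨k, hk⟩ := S.isPGroup' ⟨x, hx⟩
    have hk2 : x ^ p ^ k = 1 := congrArg Subtype.val hk
    have hk' : (x : X) ^ p ^ k = 1 := congrArg Subtype.val hk2
    exact mem_subgroupOf.mpr (mem_pGen (hHP x.2) hk')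
  rw [← heq]
  exact h1

omit hp in
theorem isComponent_iff_commutes {K : Subgroup X} (hK : IsPComponent p K) :
    IsComponent K ↔ ⁅K, pPrimeCore p X⁆ = ⊥ := by
  constructor
  · intro hc
    refine (Components.component_le_or_commutes hc
      (Components.pPrimeCore_normal p).isSubnormal).resolve_left fun hle => ?_
    apply Components.IsComponent.ne_bot hK.2.1
    rw [Subgroup.map_eq_bot_iff, QuotientGroup.ker_mk']
    exact hle
  · intro hcom
    refine ⟨hK.1, ?_⟩
    set π := QuotientGroup.mk' (pPrimeCore p X) with hπ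
    haveI : Nontrivial K := (K.nontrivial_iff_ne_bot).mpr fun h =>
      Components.IsComponent.ne_bot hK.2.1 (by rw [h, Subgroup.map_bot])
    haveI : Group.IsPerfect K := Subgroup.isPerfect_iff.mpr (pComponent_perfect hK)
    refine Components.isQuasisimple_of_normal_le_center fun M hM hne => ?_
    set f := π.subgroupMap K
    have hf : Function.Surjective f := π.subgroupMap_surjective K
    have hMf := hM.map f hf
    rcases Components.IsQuasisimple.normal_le_center_or_eq_top hK.2.1.2 hMf with hcen | htop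
    · intro m hm
      have h1 : ⁅M.map K.subtype, K⁆ ≤ pPrimeCore p X := by
        rw [commutator_le]
        rintro _ ⟨a, ha, rfl⟩ k hk
        rw [← QuotientGroup.eq_one_iff]
        show π ⁅(a : X), k⁆ = 1
        rw [map_commutatorElement, commutatorElement_eq_one_iff_mul_comm]
        exact (congrArg Subtype.val
          (mem_center_iff.mp (hcen (mem_map_of_mem f ha)) (f ⟨k, hk⟩))).symm
      have h2 : ⁅⁅M.map K.subtype, K⁆, K⁆ = ⊥ := le_bot_iff.mp
        ((commutator_mono h1 le_rfl).trans (by rw [commutator_comm, hcom]))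
      have h3 : ⁅⁅K, M.map K.subtype⁆, K⁆ = ⊥ := by rwa [commutator_comm K (M.map K.subtype)]
      have h4 := commutator_commutator_eq_bot_of_rotate h3 h2
      rw [pComponent_perfect hK, commutator_eq_bot_iff_le_centralizer] at h4
      rw [Subgroup.mem_center_iff]
      exact fun y => Subtype.ext
        (mem_centralizer_iff.mp (h4 y.2) m (mem_map_of_mem K.subtype hm)).symm
    · exfalso
      apply hne
      have := hK.2.2 (M.map K.subtype) (hM.isSubnormal.trans' hK.1) (Subgroup.map_subtype_le M) (by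
        have h5 := congrArg (Subgroup.map (K.map π).subtype) htop
        rw [Subgroup.map_map, ← MonoidHom.range_eq_map, Subgroup.range_subtype] at h5
        rw [Subgroup.map_map]
        exact h5)
      rw [eq_top_iff]
      intro x _
      obtain ⟨y, hy, hyx⟩ := this.ge x.2
      exact K.subtype_injective hyx ▸ hy

omit [Finite X] hp in
theorem isComponent_iff_isQuasisimple {K : Subgroup X} (hK : IsPComponent p K) :
    IsComponent K ↔ IsQuasisimple ↥K :=
  ⟨fun h => h.2, fun h => ⟨hK.1, h⟩⟩

theorem le_pLayerOf_inf_centralizer {K : Subgroup X} (hK : IsPComponent p K) (y : X)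
    (hy : orderOf y = p)
    (hyK : ∀ k ∈ K, y * k * y⁻¹ * k⁻¹ ∈ ((pPrimeCore p ↥K).map K.subtype : Subgroup X)) :
    K ≤ pLayerOf p (K ⊓ Subgroup.centralizer ({y} : Set X)) ⊔ (pPrimeCore p ↥K).map K.subtype := by
  set W := (pPrimeCore p ↥K).map K.subtype with hW
  set C := K ⊓ Subgroup.centralizer ({y} : Set X) with hC
  have hWeq : W = pPrimeCore p X ⊓ K := pComponent_core hK
  set π := QuotientGroup.mk' (pPrimeCore p X) with hπ
  have hWcop : (Nat.card W).Coprime p := by
    rw [hW, Subgroup.card_map_of_injective K.subtype_injective]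
    exact CfsgLib.Core.coprime_card_pPrimeCore p K
  have hWK : K ≤ normalizer (W : Set X) := by
    rw [← normal_subgroupOf_iff_le_normalizer (Subgroup.map_subtype_le _),
      Subgroup.subgroupOf, comap_map_eq_self_of_injective K.subtype_injective]
    infer_instance
  have hyN : Subgroup.zpowers y ≤ normalizer (W : Set X) := by
    have hfin : ∀ w ∈ W, y * w * y⁻¹ ∈ W := fun w hw => by
      simpa using W.mul_mem (hyK w (Subgroup.map_subtype_le _ hw)) hw
    rw [zpowers_le, Subgroup.mem_normalizer_iff]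
    have hsurj : W.map (MulAut.conj y).toMonoidHom = W :=
      Subgroup.eq_of_le_of_card_ge (by rintro _ ⟨w, hw, rfl⟩; exact hfin w hw)
        (Subgroup.card_map_of_injective (MulAut.conj y).injective).ge
    intro w
    refine ⟨hfin w, fun hw => ?_⟩
    obtain ⟨v, hv, hvw⟩ := hsurj.ge hw
    exact (MulAut.conj y).injective hvw ▸ hv
  have hsolv : Group.IsSolvable ↥(Subgroup.zpowers y) :=
    Group.isSolvable_of_comm fun a b => mul_comm' a b
  have hcover : K ≤ C ⊔ W := by
    intro k hk
    obtain ⟨n, hn, hc⟩ := CfsgLib.Core.exists_centralizing_in_coset (A := Subgroup.zpowers y)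
      (N := W) hyN (by rw [Nat.card_zpowers, hy]; exact hWcop.symm) (Or.inl hsolv) (k := k) (by
        intro a ha
        obtain ⟨m, rfl⟩ := ((isOfFinOrder_of_finite y).mem_powers_iff_mem_zpowers).mpr ha
        induction m with
        | zero => simp
        | succ m ih =>
          have hm' := ih (npow_mem_zpowers y m)
          have hkm : y ^ m * k * (y ^ m)⁻¹ ∈ K := by
            have := K.mul_mem hk (Subgroup.map_subtype_le _ hm')
            simpa using this
          have h1 := hyK _ hkm
          have h2 := CfsgLib.Core.conj_mem_of_le_normalizer' hWK hkm h1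
          have h3 := W.mul_mem hm' h2
          show k⁻¹ * (y ^ (m + 1) * k * (y ^ (m + 1))⁻¹) ∈ W
          convert h3 using 1
          rw [pow_succ']
          group)
    have hcC : k * n ∈ C := mem_inf.mpr ⟨K.mul_mem hk (Subgroup.map_subtype_le _ hn), by
      rw [mem_centralizer_iff]; intro z hz; rw [Set.mem_singleton_iff.mp hz]
      exact mem_centralizer_iff.mp hc y (mem_zpowers y)⟩
    have : k = (k * n) * n⁻¹ := by rw [mul_inv_cancel_right]
    rw [this]
    exact mul_mem (mem_sup_left hcC) (mem_sup_right (inv_mem hn))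
  have hCK : C ≤ K := inf_le_left
  have hCmap : C.map π = K.map π := by
    refine le_antisymm (map_mono hCK) ((map_mono hcover).trans (le_of_eq ?_))
    rw [Subgroup.map_sup, (Subgroup.map_eq_bot_iff W).mpr
      (by rw [hπ, QuotientGroup.ker_mk', hWeq]; exact inf_le_left), sup_bot_eq]
  set f := π.subgroupMap C with hf'
  have hf : Function.Surjective f := π.subgroupMap_surjective C
  have hO : pPrimeCore p ↥(C.map π) = ⊥ := by
    refine (Subgroup.map_eq_bot_iff_of_injective _ (Subgroup.subtype_injective _)).mp ?_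
    rw [Components.pPrimeCore_subnormal p (hCmap ▸ hK.2.1.1),
      CfsgLib.Core.pPrimeCore_quotient_pPrimeCore, bot_inf_eq]
  have hker : f.ker = pPrimeCore p ↥C := by
    refine le_antisymm ?_ ?_
    · rw [hf', Subgroup.ker_subgroupMap, hπ, QuotientGroup.ker_mk']
      exact CfsgLib.Core.pPrimeCore_subgroupOf_le C
    · rw [← Subgroup.map_eq_bot_iff]
      exact le_bot_iff.mp (hO ▸ CfsgLib.Core.map_pPrimeCore_le f hf)
  let e : ↥C ⧸ pPrimeCore p ↥C ≃* ↥(C.map π) :=
    (QuotientGroup.quotientMulEquivOfEq hker.symm).trans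
      (QuotientGroup.quotientKerEquivOfSurjective f hf)
  have hqs : IsQuasisimple (↥C ⧸ pPrimeCore p ↥C) :=
    Components.IsQuasisimple.congr e.symm (hCmap ▸ hK.2.1.2)
  have htop : IsComponent (⊤ : Subgroup (↥C ⧸ pPrimeCore p ↥C)) :=
    ⟨.top, Components.IsQuasisimple.congr Subgroup.topEquiv.symm hqs⟩
  obtain ⟨h1, h2⟩ := isPComponent_pGen htop
  have hlayer : (pLayer p ↥C).map (modCore p ↥C) = ⊤ :=
    top_le_iff.mp (h2.ge.trans (map_mono (le_sSup h1)))
  have hC' : C ≤ pLayerOf p C ⊔ W := by
    intro c hc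
    obtain ⟨d, hd, hdc⟩ := hlayer.ge (Subgroup.mem_top (modCore p ↥C ⟨c, hc⟩))
    have hdc' : d⁻¹ * ⟨c, hc⟩ ∈ pPrimeCore p ↥C := QuotientGroup.eq.mp hdc
    have hW' : ((d⁻¹ * ⟨c, hc⟩ : C) : X) ∈ W := by
      rw [← hker, hf', Subgroup.ker_subgroupMap, hπ, QuotientGroup.ker_mk', mem_subgroupOf] at hdc'
      rw [hWeq]
      exact mem_inf.mpr ⟨hdc', hCK (d⁻¹ * ⟨c, hc⟩ : C).2⟩
    have : c = (d : X) * ((d⁻¹ * ⟨c, hc⟩ : C) : X) := by simp
    rw [this]
    exact mul_mem (mem_sup_left (mem_map_of_mem _ hd)) (mem_sup_right hW')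
  exact hcover.trans (sup_le hC' le_sup_right)

/-! ### `p`-components of a subgroup -/

section Of

variable {G : Type*} [Group G] [Finite G] {H K : Subgroup G}

omit hp in
theorem core_of_pComponentOf (hK : IsPComponentOf p K H) {x : G} :
    x ∈ (pPrimeCore p ↥K).map K.subtype ↔
      ∃ hx : x ∈ H, (⟨x, hx⟩ : H) ∈ pPrimeCore p ↥H ∧ x ∈ K := by
  let e := Subgroup.subgroupOfEquivOfLe hK.1
  have h1 := pComponent_core hK.2
  have h2 := CfsgLib.Core.map_equiv_pPrimeCore (p := p) e
  constructor
  · intro hx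
    rw [← h2, Subgroup.map_map] at hx
    obtain ⟨y, hy, rfl⟩ := hx
    have := h1.le (mem_map_of_mem (K.subgroupOf H).subtype hy)
    exact ⟨(y : H).2, (mem_inf.mp this).1, y.2⟩
  · rintro ⟨hx, hxO, hxK⟩
    obtain ⟨y, hy, hyx⟩ := h1.ge (mem_inf.mpr ⟨hxO, (hxK : (⟨x, hx⟩ : H) ∈ K.subgroupOf H)⟩)
    rw [← h2, Subgroup.map_map]
    exact ⟨y, hy, congrArg Subtype.val hyx⟩

omit [Finite X] hp in
theorem mem_centralizerModCore {M K : Subgroup G} {g : M} :
    g ∈ centralizerModCore p M K ↔ ∀ k : M, (k : G) ∈ K → ⁅g, k⁆ ∈ pPrimeCore p ↥M := by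
  rw [centralizerModCore, mem_comap, mem_centralizer_iff]
  constructor
  · intro h k hk
    rw [← QuotientGroup.eq_one_iff]
    show QuotientGroup.mk' (pPrimeCore p ↥M) ⁅g, k⁆ = 1
    rw [map_commutatorElement, commutatorElement_eq_one_iff_mul_comm]
    exact (h _ (mem_map_of_mem _ hk)).symm
  · intro h z hz
    obtain ⟨k, hk, rfl⟩ := hz
    have h1 : QuotientGroup.mk' (pPrimeCore p ↥M) ⁅g, k⁆ = 1 :=
      (QuotientGroup.eq_one_iff _).mpr (h k hk)
    rw [map_commutatorElement, commutatorElement_eq_one_iff_mul_comm] at h1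
    exact h1.symm

theorem centralizerModCore_le_normalizer (hK : IsPComponentOf p K H) {g : H}
    (hg : g ∈ centralizerModCore p H K) : g ∈ normalizer ((K.subgroupOf H : Subgroup H) : Set H) := by
  refine mem_normalizer_pComponent hK.2 ?_
  exact centralizer_le_normalizer _ (mem_comap.mp hg)

/-- An element acting trivially on a `p`-component modulo the core. -/
theorem commutator_mem_core (hK : IsPComponentOf p K H) {g : H}
    (hg : g ∈ centralizerModCore p H K) {k : G} (hk : k ∈ K) :
    (g : G) * k * (g : G)⁻¹ * k⁻¹ ∈ (pPrimeCore p ↥K).map K.subtype := by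
  have h1 := mem_centralizerModCore.mp hg ⟨k, hK.1 hk⟩ hk
  refine (core_of_pComponentOf hK).mpr ⟨(⁅g, (⟨k, hK.1 hk⟩ : H)⁆ : H).2, h1, ?_⟩
  refine K.mul_mem ?_ (K.inv_mem hk)
  exact (mem_normalizer_iff.mp (centralizerModCore_le_normalizer hK hg)
    (⟨k, hK.1 hk⟩ : H)).mp hk

/-- A `p`-component is its own `p`-layer. -/
theorem pLayerOf_pComponent (hK : IsPComponentOf p K H) : pLayerOf p K = K := by
  let e := Subgroup.subgroupOfEquivOfLe hK.1
  set L := K.subgroupOf H
  set f := (modCore p ↥H).subgroupMap L with hf'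
  have hf : Function.Surjective f := (modCore p ↥H).subgroupMap_surjective L
  have hker : f.ker = pPrimeCore p ↥L := by
    rw [hf', Subgroup.ker_subgroupMap, QuotientGroup.ker_mk']
    apply Subgroup.map_injective L.subtype_injective
    rw [subgroupOf_map_subtype, pComponent_core hK.2]
  let e1 : ↥L ⧸ pPrimeCore p ↥L ≃* ↥(L.map (modCore p ↥H)) :=
    (QuotientGroup.quotientMulEquivOfEq hker.symm).trans
      (QuotientGroup.quotientKerEquivOfSurjective f hf)
  let e2 : ↥L ⧸ pPrimeCore p ↥L ≃* ↥K ⧸ pPrimeCore p ↥K :=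
    QuotientGroup.congr _ _ e (CfsgLib.Core.map_equiv_pPrimeCore e)
  have hqs : IsQuasisimple (↥K ⧸ pPrimeCore p ↥K) :=
    Components.IsQuasisimple.congr (e1.symm.trans e2) hK.2.2.1.2
  have htop : IsComponent (⊤ : Subgroup (↥K ⧸ pPrimeCore p ↥K)) :=
    ⟨.top, Components.IsQuasisimple.congr Subgroup.topEquiv.symm hqs⟩
  have hpg : pGen p (⊤ : Subgroup ↥K) = ⊤ := by
    have h1 := congrArg (Subgroup.map e.toMonoidHom) (show pGen p (⊤ : Subgroup ↥L) = ⊤ by
      apply Subgroup.map_injective L.subtype_injective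
      rw [map_pGen, ← MonoidHom.range_eq_map, range_subtype, pComponent_pGen_eq hK.2])
    rwa [map_pGen, Subgroup.map_top_of_surjective _ e.surjective] at h1
  have : pLayer p ↥K = ⊤ := by
    obtain ⟨h1, -⟩ := isPComponent_pGen htop
    rw [comap_top, hpg] at h1
    exact top_le_iff.mp (le_sSup h1)
  rw [pLayerOf, this, ← MonoidHom.range_eq_map, range_subtype]

theorem eq_of_pComponentOf_le {J : Subgroup G} (hK : IsPComponentOf p K H)
    (hJ : IsPComponentOf p J H) (hKJ : K ≤ J) : J = K := by
  have hle : K.subgroupOf H ≤ J.subgroupOf H := comap_mono hKJ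
  rcases eq_or_ne (K.subgroupOf H) (J.subgroupOf H) with h | h
  · have := congrArg (Subgroup.map H.subtype) h
    rw [map_subgroupOf_eq_of_le hK.1, map_subgroupOf_eq_of_le hJ.1] at this
    exact this.symm
  · exfalso
    have hcom := Components.components_commute hK.2.2.1 hJ.2.2.1
      fun e => h (pComponent_map_injective hK.2 hJ.2 e)
    refine Components.IsQuasisimple.commutator_self_ne_bot hK.2.2.1.2 (le_bot_iff.mp ?_)
    exact (commutator_mono le_rfl (map_mono hle)).trans hcom.le

theorem isPTerminal_of_rank_one {x : G} (hx : orderOf x = p) {K : Subgroup G}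
    (hK : IsPComponentOf p K (Subgroup.centralizer ({x} : Set G)))
    (h1 : ∀ E : Subgroup G, IsElementaryAbelian p E →
      (∀ e ∈ E, ∀ k ∈ K, e * k * e⁻¹ * k⁻¹ ∈ ((pPrimeCore p ↥K).map K.subtype : Subgroup G)) →
      Nat.card E ≤ p) :
    IsPTerminal p x K := by
  set C := Subgroup.centralizer ({x} : Set G) with hC
  have hxC : x ∈ C := mem_centralizer_iff.mpr fun z hz => by rw [Set.mem_singleton_iff.mp hz]
  have hxD : (⟨x, hxC⟩ : C) ∈ centralizerModCore p C K := by
    refine mem_centralizerModCore.mpr fun k _ => ?_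
    have : ⁅(⟨x, hxC⟩ : C), k⁆ = 1 := by
      rw [commutatorElement_eq_one_iff_mul_comm]
      exact Subtype.ext (mem_centralizer_iff.mp k.2 x rfl)
    rw [this]; exact one_mem _
  have key : ∀ y ∈ centralizerOfPComponent p x K, orderOf y = p →
      Subgroup.centralizer ({y} : Set G) = C := by
    rintro y ⟨g, hg, rfl⟩ hy
    have hxg : x * (g : G) = (g : G) * x := mem_centralizer_iff.mp g.2 x rfl
    have hxp : x ^ p = 1 := hx ▸ pow_orderOf_eq_one x
    have hgp : (g : G) ^ p = 1 := hy ▸ pow_orderOf_eq_one (g : G)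
    let E : Subgroup G := Subgroup.zpowers x ⊔ Subgroup.zpowers (g : G)
    have hgen : E = Subgroup.closure ({x, (g : G)} : Set G) := by
      rw [Set.insert_eq, Subgroup.closure_union, ← Subgroup.zpowers_eq_closure, ← Subgroup.zpowers_eq_closure]
    have hEc : IsMulCommutative E := by
      rw [hgen]
      refine Subgroup.isMulCommutative_closure ?_
      rintro a (rfl | rfl) b (rfl | rfl)
      exacts [rfl, hxg, hxg.symm, rfl]
    have hE : IsElementaryAbelian p E := by
      refine ⟨hEc, fun a ha => ?_⟩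
      obtain ⟨u, hu, v, hv, huv⟩ := (CfsgLib.Core.mem_sup_iff_mul
        (H := Subgroup.zpowers x) (N := Subgroup.zpowers (g : G)) (by
          rw [zpowers_le]
          refine Subgroup.centralizer_le_normalizer _ (mem_centralizer_iff.mpr fun z hz => ?_)
          obtain ⟨i, rfl⟩ := hz
          exact ((show Commute (g : G) x from hxg.symm).zpow_left i).eq)).mp ha
      obtain ⟨i, rfl⟩ := hu
      obtain ⟨j, rfl⟩ := hv
      have e1 : (x ^ i) ^ p = 1 := by
        rw [← zpow_natCast, ← zpow_mul, mul_comm, zpow_mul, zpow_natCast, hxp, one_zpow]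
      have e2 : ((g : G) ^ j) ^ p = 1 := by
        rw [← zpow_natCast, ← zpow_mul, mul_comm, zpow_mul, zpow_natCast, hgp, one_zpow]
      rw [huv, (((show Commute x (g : G) from hxg).zpow_left i).zpow_right j).mul_pow, e1, e2,
        one_mul]
    have hEle : E ≤ (centralizerModCore p C K).map C.subtype := sup_le
      (zpowers_le.mpr ⟨_, hxD, rfl⟩) (zpowers_le.mpr ⟨g, hg, rfl⟩)
    have hcard := h1 E hE fun e he k hk => by
      obtain ⟨e', he', rfl⟩ := hEle he
      exact commutator_mem_core hK he' hk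
    have hxE : Subgroup.zpowers x = E :=
      eq_of_le_of_card_ge le_sup_left (by rw [Nat.card_zpowers, hx]; exact hcard)
    have hgE : Subgroup.zpowers (g : G) = E :=
      eq_of_le_of_card_ge le_sup_right (by rw [Nat.card_zpowers]; exact hcard.trans hy.ge)
    show Subgroup.centralizer ({(g : G)} : Set G) = C
    rw [hC, ← centralizer_closure, ← Subgroup.zpowers_eq_closure, hgE, ← hxE,
      Subgroup.zpowers_eq_closure, centralizer_closure]
  refine ⟨hx, hK, fun y hy hyo => ?_, fun Q y hyQ _ hyo J hJ hLJ => ?_⟩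
  · have hCy := key y hy hyo
    refine ⟨K, by rw [hCy]; exact hK, ?_, ⟨MulEquiv.refl _⟩⟩
    exact (Subgroup.map_subtype_le _).trans inf_le_left
  · have hyD : y ∈ centralizerOfPComponent p x K := (map_subtype_le _) hyQ
    have hCy := key y hyD hyo
    rw [hCy] at hJ hLJ
    rw [inf_eq_left.mpr hK.1, pLayerOf_pComponent hK] at hLJ
    obtain rfl := eq_of_pComponentOf_le hK hJ hLJ
    have hD : centralizerOfPComponent p y J = centralizerOfPComponent p x J := by
      unfold centralizerOfPComponent
      rw [hCy]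
    refine ⟨by rw [hD]; exact map_subtype_le _, ?_⟩
    rw [hD, Subgroup.relIndex, Subgroup.subgroupOf,
      comap_map_eq_self_of_injective (Subgroup.subtype_injective _)]
    exact Q.not_dvd_index

end Of

end CfsgLib.Techniques
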