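import Cfsg.Agent.Lib.Techniques.Family

/-!
Chains of conjugations with a prescribed kind of step, and the induction producing them from
fully normalized subgroups.
-/

namespace CfsgLib.Techniques

open Subgroup

variable {G : Type*} [Group G] {p : ℕ}

/-- `a ↦ g⁻¹ a g` on `A` is a composite of steps `(T, x)` satisfying `R`, each `T` containing the
current image of `A`. -/
inductive RelPath (R : Subgroup G → G → Prop) : Set G → G → Prop
  | one (A : Set G) : RelPath R A 1
  | step (A : Set G) (T : Subgroup G) (x g : G) (hR : R T x) (hA : A ⊆ (T : Set G))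
      (hg : RelPath R ((fun a => x⁻¹ * a * x) '' A) g) : RelPath R A (x * g)

theorem RelPath.mono {R : Subgroup G → G → Prop} {A : Set G} {g : G} (h : RelPath R A g) :
    ∀ B ⊆ A, RelPath R B g := by
  induction h with
  | one A => exact fun B _ => .one B
  | step A T x g hR hA _ ih =>
      exact fun B hB => .step B T x g hR (hB.trans hA) (ih _ (Set.image_mono hB))

theorem RelPath.trans {R : Subgroup G → G → Prop} {A : Set G} {g : G} (h : RelPath R A g) :
    ∀ {k : G}, RelPath R ((fun a => g⁻¹ * a * g) '' A) k → RelPath R A (g * k) := by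
  induction h with
  | one A =>
      intro k hk
      rw [one_mul]
      exact hk.mono _ (fun a ha => ⟨a, ha, by simp⟩)
  | step A T x g hR hA _ ih =>
      intro k hk
      rw [mul_assoc]
      refine .step A T x (g * k) hR hA (ih ?_)
      rw [Set.image_image]
      simpa [mul_assoc] using hk

theorem RelPath.single {R : Subgroup G → G → Prop} {A : Set G} {T : Subgroup G} {x : G}
    (hR : R T x) (hA : A ⊆ (T : Set G)) : RelPath R A x := by
  have h := RelPath.step A T x 1 hR hA (.one _)
  rwa [mul_one] at h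

theorem RelPath.exists_fin {R : Subgroup G → G → Prop} {A : Set G} {g : G} (h : RelPath R A g) :
    ∃ (n : ℕ) (T : Fin n → Subgroup G) (x : Fin n → G), (List.ofFn x).prod = g ∧
      (∀ i, R (T i) (x i)) ∧
      ∀ i : Fin n, (fun a => (((List.ofFn x).take i.val).prod)⁻¹ * a *
        ((List.ofFn x).take i.val).prod) '' A ⊆ (T i : Set G) := by
  induction h with
  | one A => exact ⟨0, Fin.elim0, Fin.elim0, by simp, fun i => i.elim0, fun i => i.elim0⟩
  | step A T₀ x₀ g hR hA _ ih =>
      obtain ⟨n, T, x, h1, h2, h3⟩ := ih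
      refine ⟨n + 1, Fin.cons T₀ T, Fin.cons x₀ x, ?_, ?_, ?_⟩
      · simp [List.ofFn_succ, h1]
      · intro i; induction i using Fin.cases with
        | zero => simpa using hR
        | succ j => simpa using h2 j
      · intro i; induction i using Fin.cases with
        | zero => simpa using hA
        | succ j =>
          have := h3 j
          rw [Set.image_image] at this
          simpa [List.ofFn_succ, mul_assoc] using this

variable [Finite G] [Fact p.Prime]

/-- Induction reducing fusion in `S` to normalizers of fully normalized subgroups. -/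
theorem fusion_induction (S : Sylow p G) (Φ : Set G → G → Prop)
    (mono : ∀ A g, Φ A g → ∀ B ⊆ A, Φ B g)
    (trans : ∀ A g k, Φ A g → Φ ((fun a => g⁻¹ * a * g) '' A) k → Φ A (g * k))
    (hmid : ∀ U : Subgroup G, U ≤ (S : Subgroup G) → IsFullyNormalized p (S : Subgroup G) U →
      (∀ (R : Subgroup G) (g : G), Nat.card U < Nat.card R → R ≤ (S : Subgroup G) →
        R.map (MulAut.conj g⁻¹).toMonoidHom ≤ (S : Subgroup G) → Φ (R : Set G) g) →
      ∀ x ∈ Subgroup.normalizer (U : Set G), Φ (U : Set G) x) :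
    ∀ (D : Subgroup G), D ≤ (S : Subgroup G) → ∀ g : G,
      D.map (MulAut.conj g⁻¹).toMonoidHom ≤ (S : Subgroup G) → Φ (D : Set G) g := by
  intro D
  induction hn : Nat.card (S : Subgroup G) - Nat.card D using Nat.strong_induction_on
    generalizing D with
  | _ n ih => ?_
  subst hn
  intro hD g hg
  have IH : ∀ (D' : Subgroup G) (g : G), Nat.card D < Nat.card D' → D' ≤ (S : Subgroup G) →
      D'.map (MulAut.conj g⁻¹).toMonoidHom ≤ (S : Subgroup G) → Φ (D' : Set G) g :=
    fun D' g hlt hD' => ih _ (by have := Subgroup.card_le_of_le hD'; omega) D' rfl hD' g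
  rcases eq_or_lt_of_le hD with rfl | hlt
  · exact hmid _ le_rfl (isFullyNormalized_self S) (fun R g h => IH R g h) g
      (inv_inv g ▸ inv_mem (mem_normalizer_of_map_conj_eq
        (Subgroup.eq_of_le_of_card_ge hg (by rw [card_map_conj]))))
  obtain ⟨a₀, haS, hfull, -⟩ := exists_fullyNormalized_conj S hD
  set U := D.map (MulAut.conj a₀).toMonoidHom with hU
  have hUD : Nat.card U = Nat.card D := card_map_conj D a₀
  set E := D.map (MulAut.conj g⁻¹).toMonoidHom with hE
  have hb₀ : E.map (MulAut.conj (a₀ * g)).toMonoidHom = U := by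
    rw [hE, map_conj_conj, mul_inv_cancel_right]
  obtain ⟨m, -, haU, haN⟩ := hfull.exists_correct S.2 hU.symm
  obtain ⟨m', -, hbU, hbN⟩ := hfull.exists_correct S.2 hb₀
  set a := m * a₀
  set b := m' * (a₀ * g)
  set n := a * g * b⁻¹ with hn
  have hnU : n ∈ Subgroup.normalizer (U : Set G) := by
    refine inv_inv n ▸ inv_mem (mem_normalizer_of_map_conj_eq ?_)
    have e : n⁻¹ = b * g⁻¹ * a⁻¹ := by rw [hn]; group
    rw [e, ← map_conj_conj, ← haU, map_conj_inv_conj, ← map_conj_conj, ← hE, hbU, haU]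
  have hElt : E < (S : Subgroup G) := lt_of_le_of_ne hg fun he => by
    have := card_map_conj D g⁻¹
    rw [← hE, he] at this
    exact hlt.ne (Subgroup.eq_of_le_of_card_ge hlt.le this.le)
  have p1 : Φ (D : Set G) a⁻¹ := by
    refine mono _ _ (IH _ a⁻¹ (CfsgLib.Transfer.card_lt_of_lt
      (CfsgLib.Transfer.lt_inf_normalizer S.2 hlt)) inf_le_left ?_) _
      (SetLike.coe_subset_coe.mpr (le_inf hD le_normalizer))
    rw [inv_inv]
    exact haN.trans inf_le_left
  have p2 : Φ (D : Set G) (a⁻¹ * n) := by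
    refine trans _ _ _ p1 (mono _ _ (hmid U haS hfull (fun R g h => IH R g (hUD ▸ h)) n hnU) _ ?_)
    rintro _ ⟨d, hd, rfl⟩
    rw [← haU]
    exact ⟨d, hd, by simp [MulAut.conj_apply]⟩
  have hbig : Nat.card D <
      Nat.card (((S : Subgroup G) ⊓ Subgroup.normalizer (E : Set G)).map
        (MulAut.conj b).toMonoidHom : Subgroup G) := by
    rw [card_map_conj, ← card_map_conj D g⁻¹]
    exact CfsgLib.Transfer.card_lt_of_lt (CfsgLib.Transfer.lt_inf_normalizer S.2 hElt)
  have p3 := IH _ b hbig (hbN.trans inf_le_left) (by rw [map_conj_inv_conj]; exact inf_le_left)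
  have e : g = a⁻¹ * n * b := by rw [hn]; group
  rw [e]
  refine trans _ _ _ p2 (mono _ _ p3 _ ?_)
  rintro _ ⟨d, hd, rfl⟩
  refine ⟨g⁻¹ * d * g, le_inf hg le_normalizer ⟨d, hd, by simp [MulAut.conj_apply]⟩, ?_⟩
  simp [MulAut.conj_apply, hn, mul_assoc]

/-- Frattini argument inside the ambient group. -/
theorem exists_mul_normalizer {T K N : Subgroup G} (hT : IsSylowSub p T K) {x : G} (hx : x ∈ N)
    (hKN : N ≤ Subgroup.normalizer (K : Set G)) (hK : K ≤ N) :
    ∃ k ∈ K, ∃ n ∈ N, n ∈ Subgroup.normalizer (T : Set G) ∧ x = k * n := by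
  have h2 := hT.map_conj x
  rw [map_conj_of_mem_normalizer (hKN hx)] at h2
  obtain ⟨k, hk, he⟩ := hT.exists_conj_eq h2
  rw [map_conj_conj] at he
  exact ⟨k⁻¹, inv_mem hk, k * x, mul_mem (hK hk) hx, mem_normalizer_of_map_conj_eq he, by group⟩

/-- A Sylow subgroup of `N` meets a normal subgroup of `N` in a Sylow subgroup of it. -/
theorem IsSylowSub.inf_normal {T K N : Subgroup G} (hT : IsSylowSub p T N) (hK : K ≤ N)
    (hKN : N ≤ Subgroup.normalizer (K : Set G)) : IsSylowSub p (T ⊓ K) K := by
  obtain ⟨Q, -, hQ⟩ := exists_isSylowSub (p := p) (bot_le : (⊥ : Subgroup G) ≤ K) IsPGroup.of_bot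
  obtain ⟨n, hn, hle⟩ := hT.exists_conj_le (hQ.1.trans hK) hQ.2.1
  have h := hQ.map_conj n
  rw [map_conj_of_mem_normalizer (hKN hn)] at h
  have := h.eq_of_le (le_inf hle h.1) inf_le_right (hT.2.1.to_le inf_le_left)
  rw [this] at h
  exact h

theorem IsSylowSub.of_le {T K N : Subgroup G} (hT : IsSylowSub p T N) (hTK : T ≤ K) (hK : K ≤ N) :
    IsSylowSub p T K :=
  ⟨hTK, hT.2.1, fun hd => hT.2.2 (hd.trans (Dvd.intro _ (Subgroup.relIndex_mul_relIndex T K N hTK hK)))⟩

end CfsgLib.Techniques
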