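import Cfsg.Agent.Lib.Techniques.Family
import Mathlib.GroupTheory.Commutator.Basic

/-!
Control of fusion and transfer by conjugacy functors: independence of the Sylow subgroup, and the
downward induction passing from local to global control.
-/

namespace CfsgLib.Techniques

open Subgroup

variable {G : Type*} [Group G] {p : ℕ}

theorem conj_mul_conj (g k a : G) : k * g * a * (k * g)⁻¹ = k * (g * a * g⁻¹) * k⁻¹ := by group

theorem map_conj_inf (H K : Subgroup G) (g : G) :
    (H ⊓ K).map (MulAut.conj g).toMonoidHom =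
      H.map (MulAut.conj g).toMonoidHom ⊓ K.map (MulAut.conj g).toMonoidHom :=
  Subgroup.map_inf _ _ _ (MulAut.conj g).injective

theorem map_conj_commutator (H K : Subgroup G) (g : G) :
    (⁅H, K⁆).map (MulAut.conj g).toMonoidHom =
      ⁅H.map (MulAut.conj g).toMonoidHom, K.map (MulAut.conj g).toMonoidHom⁆ :=
  Subgroup.map_commutator _ _ _

theorem map_conj_of_mem {H : Subgroup G} {g : G} (hg : g ∈ H) :
    H.map (MulAut.conj g).toMonoidHom = H :=
  map_conj_of_mem_normalizer (Subgroup.le_normalizer hg)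

section
variable [Finite G] [Fact p.Prime] {W : Subgroup G → Subgroup G}

/-- Control of strong fusion does not depend on the Sylow subgroup. -/
theorem controlsFusion_at (hW : Cfsg.IsConjugacyFunctor p W) {H : Subgroup G}
    (h : Cfsg.ControlsStrongFusionIn p W H) {Q : Subgroup G} (hQ : IsSylowSub p Q H) :
    ∀ (A : Set G) (y : G), y ∈ H → A ⊆ Q → (fun a => y * a * y⁻¹) '' A ⊆ Q →
      ∃ x ∈ H ⊓ Subgroup.normalizer ((W Q : Subgroup G) : Set G),
        ∀ a ∈ A, x * a * x⁻¹ = y * a * y⁻¹ := by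
  obtain ⟨T, hTH, hTp, hTi, hctl⟩ := h
  obtain ⟨n, hn, hnQ⟩ := (show IsSylowSub p T H from ⟨hTH, hTp, hTi⟩).exists_conj_eq hQ
  intro A y hy hA hAy
  obtain ⟨m, hm, hmeq⟩ := hctl ((fun a => n * a * n⁻¹) '' A) (n * y * n⁻¹)
    (mul_mem (mul_mem hn hy) (inv_mem hn))
    (by rintro _ ⟨a, ha, rfl⟩; rw [← hnQ]; exact ⟨a, hA ha, rfl⟩)
    (by
      rintro _ ⟨_, ⟨a, ha, rfl⟩, rfl⟩
      rw [← hnQ]
      exact ⟨y * a * y⁻¹, hAy ⟨a, ha, rfl⟩, by simp [MulAut.conj_apply, mul_assoc]⟩)
  obtain ⟨hmH, hmN⟩ := Subgroup.mem_inf.mp hm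
  rw [← hnQ, functor_map hW hQ.2.1, normalizer_map_conj', mem_map_conj_iff] at hmN
  refine ⟨n⁻¹ * m * n, Subgroup.mem_inf.mpr ⟨mul_mem (mul_mem (inv_mem hn) hmH) hn, hmN⟩, fun a ha => ?_⟩
  calc n⁻¹ * m * n * a * (n⁻¹ * m * n)⁻¹ = n⁻¹ * (m * (n * a * n⁻¹) * m⁻¹) * n := by group
    _ = n⁻¹ * (n * y * n⁻¹ * (n * a * n⁻¹) * (n * y * n⁻¹)⁻¹) * n := by rw [hmeq _ ⟨a, ha, rfl⟩]
    _ = y * a * y⁻¹ := by group

/-- Control of transfer does not depend on the Sylow subgroup. -/
theorem controlsTransfer_at (hW : Cfsg.IsConjugacyFunctor p W) {H : Subgroup G}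
    (h : Cfsg.ControlsTransferIn p W H) {Q : Subgroup G} (hQ : IsSylowSub p Q H) :
    Q ⊓ ⁅H, H⁆ = Q ⊓ ⁅H ⊓ Subgroup.normalizer ((W Q : Subgroup G) : Set G),
      H ⊓ Subgroup.normalizer ((W Q : Subgroup G) : Set G)⁆ := by
  obtain ⟨T, hTH, hTp, hTi, hctl⟩ := h
  obtain ⟨n, hn, hnQ⟩ := (show IsSylowSub p T H from ⟨hTH, hTp, hTi⟩).exists_conj_eq hQ
  apply Subgroup.map_injective (f := (MulAut.conj n).toMonoidHom) (MulAut.conj n).injective
  rw [map_conj_inf, map_conj_inf, map_conj_commutator, map_conj_commutator, map_conj_inf,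
    map_conj_of_mem hn, ← normalizer_map_conj', ← functor_map hW hQ.2.1, hnQ]
  exact hctl

/-- Control of transfer by a set of functors does not depend on the Sylow subgroup. -/
theorem familyControlsTransfer_at {𝓦 : Set (Subgroup G → Subgroup G)}
    (hW : ∀ W ∈ 𝓦, Cfsg.IsConjugacyFunctor p W) {H : Subgroup G}
    (h : Cfsg.FamilyControlsTransferIn p 𝓦 H) {Q : Subgroup G} (hQ : IsSylowSub p Q H) :
    Q ⊓ ⁅H, H⁆ = ⨆ W ∈ 𝓦, Q ⊓ ⁅H ⊓ Subgroup.normalizer ((W Q : Subgroup G) : Set G),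
      H ⊓ Subgroup.normalizer ((W Q : Subgroup G) : Set G)⁆ := by
  obtain ⟨T, hTH, hTp, hTi, hctl⟩ := h
  obtain ⟨n, hn, hnQ⟩ := (show IsSylowSub p T H from ⟨hTH, hTp, hTi⟩).exists_conj_eq hQ
  apply Subgroup.map_injective (f := (MulAut.conj n).toMonoidHom) (MulAut.conj n).injective
  simp only [Subgroup.map_iSup]
  rw [map_conj_inf, map_conj_commutator, map_conj_of_mem hn, hnQ, hctl]
  refine iSup_congr fun V => iSup_congr fun hV => ?_
  rw [map_conj_inf, map_conj_commutator, map_conj_inf, map_conj_of_mem hn, ← normalizer_map_conj',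
    ← functor_map (hW V hV) hQ.2.1, hnQ]

end

/-! ### Composites of conjugations staying in `T` -/

/-- The map `a ↦ g a g⁻¹` on `A` is a composite of conjugations by elements of `M` staying
inside `T`. -/
inductive SPath (T : Subgroup G) (M : Set G) : Set G → G → Prop
  | one (A : Set G) (hA : A ⊆ (T : Set G)) : SPath T M A 1
  | step (A : Set G) (m g : G) (hm : m ∈ M) (hA : A ⊆ (T : Set G))
      (hg : SPath T M ((fun a => m * a * m⁻¹) '' A) g) : SPath T M A (g * m)
  | congr (A : Set G) (g g' : G) (h : SPath T M A g)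
      (he : ∀ a ∈ A, g' * a * g'⁻¹ = g * a * g⁻¹) : SPath T M A g'

theorem SPath.subset {T : Subgroup G} {M A : Set G} {g : G} (h : SPath T M A g) :
    A ⊆ (T : Set G) := by
  induction h with
  | one A hA => exact hA
  | step A m g hm hA _ _ => exact hA
  | congr A g g' _ _ ih => exact ih

theorem SPath.mono {T : Subgroup G} {M A : Set G} {g : G} (h : SPath T M A g) :
    ∀ B ⊆ A, SPath T M B g := by
  induction h with
  | one A hA => exact fun B hB => .one B (hB.trans hA)
  | step A m g hm hA _ ih =>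
      exact fun B hB => .step B m g hm (hB.trans hA) (ih _ (Set.image_mono hB))
  | congr A g g' _ he ih => exact fun B hB => .congr B g g' (ih B hB) fun a ha => he a (hB ha)

theorem SPath.trans {T : Subgroup G} {M A : Set G} {g : G} (h : SPath T M A g) :
    ∀ {k : G}, SPath T M ((fun a => g * a * g⁻¹) '' A) k → SPath T M A (k * g) := by
  induction h with
  | one A hA =>
      intro k hk
      rw [mul_one]
      exact hk.mono _ (fun a ha => ⟨a, ha, by simp⟩)
  | step A m g hm hA _ ih =>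
      intro k hk
      rw [← mul_assoc]
      refine .step A m (k * g) hm hA (ih ?_)
      rw [Set.image_image]
      simpa [mul_assoc] using hk
  | congr A g g' _ he ih =>
      intro k hk
      have e : (fun a => g' * a * g'⁻¹) '' A = (fun a => g * a * g⁻¹) '' A :=
        Set.image_congr he
      rw [e] at hk
      refine .congr A (k * g) (k * g') (ih hk) fun a ha => ?_
      rw [conj_mul_conj, conj_mul_conj, he a ha]

theorem SPath.exists_fin {T : Subgroup G} {M A : Set G} {g : G} (h : SPath T M A g) :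
    ∃ (n : ℕ) (c : Fin (n + 1) → G), c 0 = 1 ∧
      (∀ i : Fin n, c i.succ * (c i.castSucc)⁻¹ ∈ M) ∧
      (∀ i : Fin (n + 1), (fun a => c i * a * (c i)⁻¹) '' A ⊆ (T : Set G)) ∧
      ∀ a ∈ A, c (Fin.last n) * a * (c (Fin.last n))⁻¹ = g * a * g⁻¹ := by
  induction h with
  | one A hA =>
      refine ⟨0, fun _ => 1, rfl, fun i => i.elim0, fun _ => ?_, fun a _ => rfl⟩
      rintro _ ⟨a, ha, rfl⟩
      simpa using hA ha
  | step A m g hm hA _ ih =>
      obtain ⟨n, c, h0, h1, h2, h3⟩ := ih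
      refine ⟨n + 1, Fin.cons 1 fun i => c i * m, rfl, ?_, ?_, ?_⟩
      · intro i
        induction i using Fin.cases with
        | zero => simpa [h0] using hm
        | succ j =>
          rw [Fin.cons_succ, Fin.castSucc_succ, Fin.cons_succ]
          simpa [mul_assoc] using h1 j
      · intro i
        induction i using Fin.cases with
        | zero =>
          rintro _ ⟨a, ha, rfl⟩
          simpa using hA ha
        | succ j =>
          rintro _ ⟨a, ha, rfl⟩
          rw [Fin.cons_succ]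
          exact h2 j ⟨m * a * m⁻¹, ⟨a, ha, rfl⟩, by group⟩
      · intro a ha
        rw [← Fin.succ_last, Fin.cons_succ, conj_mul_conj, conj_mul_conj]
        exact h3 _ ⟨a, ha, rfl⟩
  | congr A g g' _ he ih =>
      obtain ⟨n, c, h0, h1, h2, h3⟩ := ih
      exact ⟨n, c, h0, h1, h2, fun a ha => (h3 a ha).trans (he a ha).symm⟩

theorem SPath.of_fin {T : Subgroup G} {M A : Set G} {g : G} {n : ℕ} {c : Fin (n + 1) → G}
    (h0 : c 0 = 1) (h1 : ∀ i : Fin n, c i.succ * (c i.castSucc)⁻¹ ∈ M)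
    (h2 : ∀ i : Fin (n + 1), (fun a => c i * a * (c i)⁻¹) '' A ⊆ (T : Set G))
    (h3 : ∀ a ∈ A, c (Fin.last n) * a * (c (Fin.last n))⁻¹ = g * a * g⁻¹) :
    SPath T M A g := by
  suffices H : ∀ i : Fin (n + 1), SPath T M A (c i) from
    .congr A _ _ (H (Fin.last n)) fun a ha => (h3 a ha).symm
  intro i
  induction i using Fin.induction with
  | zero =>
    rw [h0]
    refine .one A fun a ha => ?_
    simpa [h0] using h2 0 ⟨a, ha, rfl⟩
  | succ i ih =>
    have h := ih.trans (.step _ _ 1 (h1 i) (h2 i.castSucc) (.one _ ?_))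
    · simpa using h
    · rintro _ ⟨_, ⟨a, ha, rfl⟩, rfl⟩
      exact h2 i.succ ⟨a, ha, by group⟩

theorem familyControlsFusion_at [Finite G] [Fact p.Prime] {𝓦 : Set (Subgroup G → Subgroup G)}
    (hW : ∀ W ∈ 𝓦, Cfsg.IsConjugacyFunctor p W) {H : Subgroup G}
    (h : Cfsg.FamilyControlsStrongFusionIn p 𝓦 H) {Q : Subgroup G} (hQ : IsSylowSub p Q H) :
    ∀ (A : Set G) (y : G), y ∈ H → A ⊆ Q → (fun a => y * a * y⁻¹) '' A ⊆ Q →
      SPath Q {m | ∃ W ∈ 𝓦, m ∈ H ⊓ Subgroup.normalizer ((W Q : Subgroup G) : Set G)} A y := by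
  obtain ⟨T, hTH, hTp, hTi, hctl⟩ := h
  obtain ⟨n, hn, hnQ⟩ := (show IsSylowSub p T H from ⟨hTH, hTp, hTi⟩).exists_conj_eq hQ
  intro A y hy hA hAy
  obtain ⟨k, c, h0, h1, h2, h3⟩ := hctl ((fun a => n * a * n⁻¹) '' A) (n * y * n⁻¹)
    (mul_mem (mul_mem hn hy) (inv_mem hn))
    (by rintro _ ⟨a, ha, rfl⟩; rw [← hnQ]; exact ⟨a, hA ha, rfl⟩)
    (by
      rintro _ ⟨_, ⟨a, ha, rfl⟩, rfl⟩
      rw [← hnQ]
      exact ⟨y * a * y⁻¹, hAy ⟨a, ha, rfl⟩, by simp [MulAut.conj_apply, mul_assoc]⟩)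
  refine SPath.of_fin (c := fun i => n⁻¹ * c i * n) (by simp [h0]) (fun i => ?_) (fun i => ?_) ?_
  · obtain ⟨V, hV, hmem⟩ := h1 i
    obtain ⟨hmH, hmN⟩ := Subgroup.mem_inf.mp hmem
    rw [← hnQ, functor_map (hW V hV) hQ.2.1, normalizer_map_conj', mem_map_conj_iff] at hmN
    have e : n⁻¹ * c i.succ * n * (n⁻¹ * c i.castSucc * n)⁻¹ =
        n⁻¹ * (c i.succ * (c i.castSucc)⁻¹) * n := by group
    exact ⟨V, hV, e ▸ Subgroup.mem_inf.mpr ⟨mul_mem (mul_mem (inv_mem hn) hmH) hn, hmN⟩⟩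
  · rintro _ ⟨a, ha, rfl⟩
    have h := h2 i ⟨_, ⟨a, ha, rfl⟩, rfl⟩
    rw [← hnQ, SetLike.mem_coe, mem_map_conj_iff] at h
    rw [SetLike.mem_coe]
    simpa [mul_assoc] using h
  · intro a ha
    calc n⁻¹ * c (Fin.last k) * n * a * (n⁻¹ * c (Fin.last k) * n)⁻¹
        = n⁻¹ * (c (Fin.last k) * (n * a * n⁻¹) * (c (Fin.last k))⁻¹) * n := by group
      _ = n⁻¹ * (n * y * n⁻¹ * (n * a * n⁻¹) * (n * y * n⁻¹)⁻¹) * n := by
        rw [h3 _ ⟨a, ha, rfl⟩]
      _ = y * a * y⁻¹ := by group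

/-! ### The downward induction -/

variable [Finite G] [Fact p.Prime]

/-- Local-to-global induction along normalizers of fully normalized subgroups. -/
theorem downward_induction (S : Sylow p G) (Φ : Set G → G → Prop) (K : Subgroup G → Prop)
    (mono : ∀ A g, Φ A g → ∀ B ⊆ A, Φ B g)
    (trans : ∀ A g k, Φ A g → Φ ((fun a => g * a * g⁻¹) '' A) k → Φ A (k * g))
    (hbot : ∀ g, Φ ((⊥ : Subgroup G) : Set G) g)
    (hK : ∀ U : Subgroup G, U ≤ (S : Subgroup G) → U ≠ ⊥ →
      IsFullyNormalized p (S : Subgroup G) U →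
      (∀ U' : Subgroup G, U' ≤ (S : Subgroup G) → U' ≠ ⊥ →
        IsFullyNormalized p (S : Subgroup G) U' →
        Nat.card ((S : Subgroup G) ⊓ Subgroup.normalizer (U : Set G) : Subgroup G) <
          Nat.card ((S : Subgroup G) ⊓ Subgroup.normalizer (U' : Set G) : Subgroup G) → K U') →
      (∀ (D : Subgroup G) (g : G), D ≤ (S : Subgroup G) →
        D.map (MulAut.conj g).toMonoidHom ≤ (S : Subgroup G) →
        Nat.card ((S : Subgroup G) ⊓ Subgroup.normalizer (U : Set G) : Subgroup G) < Nat.card D →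
        Φ (D : Set G) g) → K U)
    (hKΦ : ∀ U : Subgroup G, U ≤ (S : Subgroup G) → U ≠ ⊥ →
      IsFullyNormalized p (S : Subgroup G) U → K U →
      ∀ x ∈ Subgroup.normalizer (U : Set G), Φ (U : Set G) x) :
    ∀ (D : Subgroup G) (g : G), D ≤ (S : Subgroup G) →
      D.map (MulAut.conj g).toMonoidHom ≤ (S : Subgroup G) → Φ (D : Set G) g := by
  suffices H : ∀ k, (∀ U : Subgroup G, U ≤ (S : Subgroup G) → U ≠ ⊥ →
        IsFullyNormalized p (S : Subgroup G) U →
        Nat.card (S : Subgroup G) -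
          Nat.card ((S : Subgroup G) ⊓ Subgroup.normalizer (U : Set G) : Subgroup G) ≤ k → K U) ∧
      ∀ (D : Subgroup G) (g : G), D ≤ (S : Subgroup G) →
        D.map (MulAut.conj g).toMonoidHom ≤ (S : Subgroup G) →
        Nat.card (S : Subgroup G) - Nat.card D ≤ k → Φ (D : Set G) g from
    fun D g h1 h2 => (H _).2 D g h1 h2 le_rfl
  intro k
  induction k using Nat.strong_induction_on with
  | _ k ih => ?_
  have hcard : ∀ X : Subgroup G, X ≤ (S : Subgroup G) →
      Nat.card X ≤ Nat.card (S : Subgroup G) := fun X hX => Subgroup.card_le_of_le hX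
  have first : ∀ U : Subgroup G, U ≤ (S : Subgroup G) → U ≠ ⊥ →
      IsFullyNormalized p (S : Subgroup G) U →
      Nat.card (S : Subgroup G) -
        Nat.card ((S : Subgroup G) ⊓ Subgroup.normalizer (U : Set G) : Subgroup G) ≤ k → K U := by
    intro U hU hne hfull hk
    refine hK U hU hne hfull (fun U' hU' hne' hfull' hlt => ?_) (fun D g hD hg hlt => ?_)
    · have := hcard _ (inf_le_left : (S : Subgroup G) ⊓ Subgroup.normalizer (U' : Set G) ≤ _)
      exact (ih (Nat.card (S : Subgroup G) -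
        Nat.card ((S : Subgroup G) ⊓ Subgroup.normalizer (U' : Set G) : Subgroup G)) (by omega)).1
          U' hU' hne' hfull' le_rfl
    · have := hcard D hD
      exact (ih (Nat.card (S : Subgroup G) - Nat.card D) (by omega)).2 D g hD hg le_rfl
  refine ⟨first, fun D g hD hg hk => ?_⟩
  by_cases hDb : D = ⊥
  · subst hDb; exact hbot g
  obtain ⟨a₀, haS, hfull, -⟩ := exists_fullyNormalized_conj S hD
  set U := D.map (MulAut.conj a₀).toMonoidHom with hU
  have hUne : U ≠ ⊥ := fun h => hDb (by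
    rw [← map_conj_inv_conj D a₀, ← hU, h, Subgroup.map_bot])
  have hUD : Nat.card U = Nat.card D := card_map_conj D a₀
  have hKU : K U := first U haS hUne hfull (by
    have := Subgroup.card_le_of_le (le_inf haS Subgroup.le_normalizer :
      U ≤ (S : Subgroup G) ⊓ Subgroup.normalizer (U : Set G))
    omega)
  rcases eq_or_lt_of_le hD with rfl | hlt
  · have hgS : g ∈ Subgroup.normalizer ((S : Subgroup G) : Set G) :=
      mem_normalizer_of_map_conj_eq (Subgroup.eq_of_le_of_card_ge hg (by rw [card_map_conj]))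
    have hUS : U = (S : Subgroup G) := Subgroup.eq_of_le_of_card_ge haS (by rw [hUD])
    rw [hUS] at hKU
    exact hKΦ _ le_rfl hDb (isFullyNormalized_self S) hKU g hgS
  set E := D.map (MulAut.conj g).toMonoidHom with hE
  have hb₀ : E.map (MulAut.conj (a₀ * g⁻¹)).toMonoidHom = U := by
    rw [hE, map_conj_conj, inv_mul_cancel_right]
  obtain ⟨m, -, haU, haN⟩ := hfull.exists_correct S.2 (hU.symm)
  obtain ⟨m', -, hbU, hbN⟩ := hfull.exists_correct S.2 hb₀
  set a := m * a₀
  set b := m' * (a₀ * g⁻¹)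
  set n := b * g * a⁻¹ with hn
  have hnU : n ∈ Subgroup.normalizer (U : Set G) := by
    refine mem_normalizer_of_map_conj_eq ?_
    rw [hn, ← map_conj_conj, ← haU, map_conj_inv_conj, ← map_conj_conj, ← hE, hbU, haU]
  have hElt : E < (S : Subgroup G) := lt_of_le_of_ne hg fun he => by
    have := card_map_conj D g
    rw [← hE, he] at this
    exact hlt.ne (Subgroup.eq_of_le_of_card_ge hlt.le this.le)
  have IH : ∀ (D' : Subgroup G) (g' : G), D' ≤ (S : Subgroup G) →
      D'.map (MulAut.conj g').toMonoidHom ≤ (S : Subgroup G) → Nat.card D < Nat.card D' →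
      Φ (D' : Set G) g' := fun D' g' h1 h2 h3 => by
    have := hcard D' h1
    exact (ih (Nat.card (S : Subgroup G) - Nat.card D') (by omega)).2 D' g' h1 h2 le_rfl
  have p1 : Φ (D : Set G) a :=
    mono _ _ (IH _ a inf_le_left (haN.trans inf_le_left)
      (CfsgLib.Transfer.card_lt_of_lt (CfsgLib.Transfer.lt_inf_normalizer S.2 hlt))) _
      (SetLike.coe_subset_coe.mpr (le_inf hD le_normalizer))
  have p2 : Φ (D : Set G) (n * a) := by
    refine trans _ _ _ p1 (mono _ _ (hKΦ U haS hUne hfull hKU n hnU) _ ?_)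
    rintro _ ⟨d, hd, rfl⟩
    rw [← haU]
    exact ⟨d, hd, by simp [MulAut.conj_apply]⟩
  have hbig : Nat.card D <
      Nat.card (((S : Subgroup G) ⊓ Subgroup.normalizer (E : Set G)).map
        (MulAut.conj b).toMonoidHom : Subgroup G) := by
    rw [card_map_conj, ← card_map_conj D g]
    exact CfsgLib.Transfer.card_lt_of_lt (CfsgLib.Transfer.lt_inf_normalizer S.2 hElt)
  have p3 := IH _ b⁻¹ (hbN.trans inf_le_left) (by rw [map_conj_inv_conj]; exact inf_le_left) hbig
  have e : g = b⁻¹ * (n * a) := by rw [hn]; group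
  rw [e]
  refine trans _ _ _ p2 (mono _ _ p3 _ ?_)
  rintro _ ⟨d, hd, rfl⟩
  refine ⟨g * d * g⁻¹, le_inf hg le_normalizer ⟨d, hd, by simp [MulAut.conj_apply]⟩, ?_⟩
  simp [MulAut.conj_apply, hn, mul_assoc]

end CfsgLib.Techniques
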