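import Cfsg.Agent.Lib.Techniques.Sections
import Cfsg.Agent.Lib.Techniques.Path
import Cfsg.Agent.Lib.PLocal.PConstrained
import Cfsg.Agent.Lib.Transfer.PResidual
import Cfsg.Agent.S1959

/-!
Fusion by a family of section functors is controlled as soon as it is controlled in the sections
with `C(O_p) ≤ O_p`.
-/

namespace CfsgLib.Techniques

open Subgroup

universe u

section Paths

variable {G : Type u} [Group G] {p : ℕ}

/-- The elements normalizing some `V T`, `V ∈ 𝓥`. -/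
abbrev stepSet (𝓥 : Set (Subgroup G → Subgroup G)) (T : Subgroup G) : Set G :=
  {m | ∃ V ∈ 𝓥, m ∈ (⊤ : Subgroup G) ⊓ Subgroup.normalizer ((V T : Subgroup G) : Set G)}

theorem SPath.image_subset {T : Subgroup G} {M A : Set G} {g : G} (h : SPath T M A g) :
    (fun a => g * a * g⁻¹) '' A ⊆ (T : Set G) := by
  induction h with
  | one A hA => rintro _ ⟨a, ha, rfl⟩; simpa using hA ha
  | step A m g hm hA _ ih =>
      rintro _ ⟨a, ha, rfl⟩
      exact ih ⟨m * a * m⁻¹, ⟨a, ha, rfl⟩, by group⟩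
  | congr A g g' _ he ih => rw [Set.image_congr he]; exact ih

theorem SPath.mono_steps {T : Subgroup G} {M M' A : Set G} {g : G} (h : SPath T M A g)
    (hM : M ⊆ M') : SPath T M' A g := by
  induction h with
  | one A hA => exact .one A hA
  | step A m g hm hA _ ih => exact .step A m g (hM hm) hA ih
  | congr A g g' _ he ih => exact .congr A g g' ih he

theorem SPath.of_centralizes {T : Subgroup G} {M A : Set G} {g : G} (hA : A ⊆ (T : Set G))
    (h : ∀ a ∈ A, g * a * g⁻¹ = a) : SPath T M A g :=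
  .congr A 1 g (.one A hA) fun a ha => by simp [h a ha]

theorem SPath.single {T : Subgroup G} {M A : Set G} {m : G} (hm : m ∈ M) (hA : A ⊆ (T : Set G))
    (hmA : (fun a => m * a * m⁻¹) '' A ⊆ (T : Set G)) : SPath T M A m := by
  have h := SPath.step A m 1 hm hA (.one _ hmA)
  rwa [one_mul] at h

/-- Control of fusion at `S` by chains. -/
theorem familyControls_of_spath [Finite G] [Fact p.Prime] (S : Sylow p G)
    {𝓥 : Set (Subgroup G → Subgroup G)}
    (h : ∀ (A : Set G) (y : G), A ⊆ (S : Subgroup G) →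
      (fun a => y * a * y⁻¹) '' A ⊆ (S : Subgroup G) →
      SPath (S : Subgroup G) (stepSet 𝓥 S) A y) :
    Cfsg.FamilyControlsStrongFusionIn p 𝓥 ⊤ := by
  refine ⟨(S : Subgroup G), le_top, S.2, (isSylowSub_sylow S).2.2, fun A y _ hA hAy => ?_⟩
  obtain ⟨n, c, h0, h1, h2, h3⟩ := (h A y hA hAy).exists_fin
  exact ⟨n, c, h0, h1, h2, h3⟩

variable [Finite G] [Fact p.Prime] {𝓥 : Set (Subgroup G → Subgroup G)}
  (hV : ∀ V ∈ 𝓥, Cfsg.IsConjugacyFunctor p V) (S : Sylow p G)

include hV in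
/-- Fusion inside a controlled subgroup containing `S`. -/
theorem spath_of_controlled {L : Subgroup G} (hL : Cfsg.FamilyControlsStrongFusionIn p 𝓥 L)
    (hSL : (S : Subgroup G) ≤ L) {A : Set G} {y : G} (hy : y ∈ L)
    (hA : A ⊆ (S : Subgroup G)) (hAy : (fun a => y * a * y⁻¹) '' A ⊆ (S : Subgroup G)) :
    SPath (S : Subgroup G) (stepSet 𝓥 S) A y := by
  refine (familyControlsFusion_at hV hL ((isSylowSub_sylow S).of_le hSL le_top) A y hy hA
    hAy).mono_steps ?_
  rintro m ⟨V, hVm, hm⟩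
  exact ⟨V, hVm, Subgroup.mem_inf.mpr ⟨trivial, (Subgroup.mem_inf.mp hm).2⟩⟩

include hV in
/-- Fusion by a product of elements of two controlled subgroups containing `S`. -/
theorem spath_of_factor {L₁ L₂ : Subgroup G} (h₁ : Cfsg.FamilyControlsStrongFusionIn p 𝓥 L₁)
    (h₂ : Cfsg.FamilyControlsStrongFusionIn p 𝓥 L₂) (hS₁ : (S : Subgroup G) ≤ L₁)
    (hS₂ : (S : Subgroup G) ≤ L₂) {A : Set G} {l₁ l₂ : G} (hl₁ : l₁ ∈ L₁) (hl₂ : l₂ ∈ L₂)
    (hA : A ⊆ (S : Subgroup G))
    (hAy : (fun a => l₂ * l₁ * a * (l₂ * l₁)⁻¹) '' A ⊆ (S : Subgroup G)) :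
    SPath (S : Subgroup G) (stepSet 𝓥 S) A (l₂ * l₁) := by
  set X := (Subgroup.closure A).map (MulAut.conj l₁).toMonoidHom with hX
  have hXle : X ≤ L₁ ⊓ L₂ := by
    rw [hX, Subgroup.map_le_iff_le_comap, Subgroup.closure_le]
    intro a ha
    refine Subgroup.mem_inf.mpr ⟨mul_mem (mul_mem hl₁ (hS₁ (hA ha))) (inv_mem hl₁), ?_⟩
    have h := hS₂ (hAy ⟨a, ha, rfl⟩)
    have e : MulAut.conj l₁ a = l₂⁻¹ * (l₂ * l₁ * a * (l₂ * l₁)⁻¹) * l₂ := by
      rw [MulAut.conj_apply]; group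
    show MulAut.conj l₁ a ∈ L₂
    rw [e]
    exact mul_mem (mul_mem (inv_mem hl₂) h) hl₂
  obtain ⟨j, hj, hjS⟩ := ((isSylowSub_sylow S).of_le (le_inf hS₁ hS₂) le_top).exists_conj_le hXle
    ((S.2.to_le ((Subgroup.closure_le _).mpr hA)).map _)
  obtain ⟨hj₁, hj₂⟩ := Subgroup.mem_inf.mp hj
  have hmid : (fun a => j * l₁ * a * (j * l₁)⁻¹) '' A ⊆ ((S : Subgroup G) : Set G) := by
    rintro _ ⟨a, ha, rfl⟩
    exact hjS ⟨l₁ * a * l₁⁻¹, ⟨a, Subgroup.subset_closure ha, rfl⟩,
      by simp [MulAut.conj_apply, mul_assoc]⟩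
  have e : l₂ * l₁ = l₂ * j⁻¹ * (j * l₁) := by group
  rw [e] at hAy ⊢
  refine (spath_of_controlled hV S h₁ hS₁ (mul_mem hj₁ hl₁) hA hmid).trans
    (spath_of_controlled hV S h₂ hS₂ (mul_mem hl₂ (inv_mem hj₂)) hmid ?_)
  rintro _ ⟨_, ⟨a, ha, rfl⟩, rfl⟩
  exact hAy ⟨a, ha, by group⟩

omit [Finite G] in
/-- Lifting chains of conjugations along a homomorphism. -/
theorem spath_lift {H : Type u} [Group H] (π : G →* H) {T : Subgroup G} {M : Set G} {M' : Set H}
    (hstep : ∀ m ∈ M', ∀ A : Set G, A ⊆ (T : Set G) →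
      (fun a => m * a * m⁻¹) '' (π '' A) ⊆ (T.map π : Subgroup H) →
      ∃ m', π m' = m ∧ SPath T M A m')
    {A' : Set H} {g : H} (h : SPath (T.map π) M' A' g) :
    ∀ A : Set G, A ⊆ (T : Set G) → π '' A = A' →
      ∃ g₀, SPath T M A g₀ ∧ ∀ a ∈ A, π (g₀ * a * g₀⁻¹) = g * π a * g⁻¹ := by
  induction h with
  | one A' hA' =>
      intro A hA _
      exact ⟨1, .one A hA, fun a _ => by simp⟩
  | step A' m g hm hA' hg ih =>
      intro A hA he
      subst he
      obtain ⟨m', hm', hp'⟩ := hstep m hm A hA hg.subset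
      obtain ⟨g₀, hg₀, he₀⟩ := ih ((fun a => m' * a * m'⁻¹) '' A) hp'.image_subset (by
        simp only [Set.image_image, map_mul, map_inv, hm'])
      refine ⟨g₀ * m', hp'.trans hg₀, fun a ha => ?_⟩
      rw [conj_mul_conj, conj_mul_conj, he₀ _ ⟨a, ha, rfl⟩, map_mul, map_mul, map_inv, hm']
  | congr A' g g' _ he ih =>
      intro A hA hAA
      obtain ⟨g₀, hg₀, he₀⟩ := ih A hA hAA
      exact ⟨g₀, hg₀, fun a ha => (he₀ a ha).trans (he _ (hAA ▸ ⟨a, ha, rfl⟩)).symm⟩

omit [Finite G] [Fact p.Prime] in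
theorem normalizer_le_normalizer_centralizer {P : Subgroup G} :
    Subgroup.normalizer (P : Set G) ≤
      Subgroup.normalizer ((Subgroup.centralizer (P : Set G) : Subgroup G) : Set G) := by
  intro g hg
  refine mem_normalizer_of_map_conj_eq ?_
  ext x
  rw [mem_map_conj_iff, Subgroup.mem_centralizer_iff, Subgroup.mem_centralizer_iff]
  constructor
  · intro h a ha
    have h1 := h (g⁻¹ * a * g) ((Subgroup.mem_normalizer_iff''.mp hg a).mp ha)
    simpa [mul_assoc] using congrArg (fun t => g * t * g⁻¹) h1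
  · intro h a ha
    have h1 := h (g * a * g⁻¹) ((Subgroup.mem_normalizer_iff.mp hg a).mp ha)
    simpa [mul_assoc] using congrArg (fun t => g⁻¹ * t * g) h1

end Paths

section Cases

variable {G : Type u} [Group G] [Finite G] {p : ℕ} [Fact p.Prime]
  {𝓦 : Set (∀ (Q : Type u) [Group Q], Subgroup Q)}
  (h𝓦 : ∀ W ∈ 𝓦, Cfsg.IsCharPFunctor.{u} p W)

omit [Finite G] [Fact p.Prime] in
theorem injOn_mk' {N S : Subgroup G} [N.Normal] (h : S ⊓ N = ⊥) :
    Set.InjOn (QuotientGroup.mk' N) (S : Set G) := by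
  intro a ha b hb hab
  have h1 : a⁻¹ * b ∈ N := QuotientGroup.eq.mp hab
  have h2 : a⁻¹ * b ∈ S ⊓ N := Subgroup.mem_inf.mpr ⟨mul_mem (inv_mem ha) hb, h1⟩
  rw [h, Subgroup.mem_bot] at h2
  exact inv_mul_eq_one.mp h2

omit [Finite G] [Fact p.Prime] in
theorem inf_eq_bot_of_coprime [Finite G] [Fact p.Prime] {N S : Subgroup G} (hS : IsPGroup p S)
    (hN : (Nat.card N).Coprime p) : S ⊓ N = ⊥ := by
  obtain ⟨k, hk⟩ := IsPGroup.iff_card.mp hS
  refine disjoint_iff.mp (Subgroup.disjoint_of_coprime_natCard ?_)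
  rw [hk]
  exact hN.symm.pow_left k

include h𝓦 in
/-- Lifting modulo a normal `p'`-subgroup. -/
theorem spath_of_quotient_coprime (N : Subgroup G) [N.Normal] (hN : (Nat.card N).Coprime p)
    (hq : Cfsg.FamilyControlsStrongFusionIn p (inducedSet 𝓦 (G ⧸ N)) ⊤) (S : Sylow p G)
    {A : Set G} {y : G} (hA : A ⊆ (S : Subgroup G))
    (hAy : (fun a => y * a * y⁻¹) '' A ⊆ (S : Subgroup G)) :
    SPath (S : Subgroup G) (stepSet (inducedSet 𝓦 G) S) A y := by
  set π := QuotientGroup.mk' N with hπ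
  have hinj : Set.InjOn π ((S : Subgroup G) : Set G) := injOn_mk' (inf_eq_bot_of_coprime S.2 hN)
  have hS' : IsSylowSub p ((S : Subgroup G).map π) ⊤ := by
    have h := isSylowSub_sylow (S.mapSurjective (QuotientGroup.mk'_surjective N))
    rwa [Sylow.coe_mapSurjective] at h
  have hq' := familyControlsFusion_at (inducedSet_conjugacy h𝓦 _) hq hS' (π '' A) (π y) trivial
    (Set.image_mono hA) (by
      rintro _ ⟨_, ⟨a, ha, rfl⟩, rfl⟩
      exact ⟨y * a * y⁻¹, hAy ⟨a, ha, rfl⟩, by rw [map_mul, map_mul, map_inv]⟩)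
  have hstep : ∀ m ∈ {m | ∃ V ∈ inducedSet 𝓦 (G ⧸ N), m ∈ (⊤ : Subgroup (G ⧸ N)) ⊓
      Subgroup.normalizer ((V ((S : Subgroup G).map π) : Subgroup (G ⧸ N)) : Set (G ⧸ N))},
      ∀ B : Set G, B ⊆ ((S : Subgroup G) : Set G) →
      (fun a => m * a * m⁻¹) '' (π '' B) ⊆ ((S : Subgroup G).map π : Subgroup (G ⧸ N)) →
      ∃ m', π m' = m ∧ SPath (S : Subgroup G) (stepSet (inducedSet 𝓦 G) S) B m' := by
    rintro m' ⟨_, ⟨W, hW, rfl⟩, hm'⟩ B hB hmB
    set V := Cfsg.inducedFunctor W (S : Subgroup G) with hV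
    have hVp : IsPGroup p V := S.2.to_le (Subgroup.map_subtype_le _)
    have hm'' : m' ∈ Subgroup.normalizer
        ((Cfsg.inducedFunctor W ((S : Subgroup G).map π) : Subgroup (G ⧸ N)) : Set (G ⧸ N)) :=
      (Subgroup.mem_inf.mp hm').2
    rw [inducedFunctor_map (h𝓦 W hW) S.2 π hinj, ← hV, hπ,
      ← CfsgLib.PLocal.map_normalizer_eq N hN hVp] at hm''
    obtain ⟨m, hm, hmm⟩ := hm''
    have hSV : (S : Subgroup G) ≤ Subgroup.normalizer (V : Set G) :=
      le_normalizer_functor (inducedFunctor_isConjugacyFunctor (h𝓦 W hW) G) S.2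
    set J := Subgroup.normalizer (V : Set G) ⊓ ((S : Subgroup G) ⊔ N) with hJ
    have hX : (Subgroup.closure B).map (MulAut.conj m).toMonoidHom ≤ J := by
      rw [Subgroup.map_le_iff_le_comap, Subgroup.closure_le]
      intro a ha
      refine Subgroup.mem_inf.mpr ⟨mul_mem (mul_mem hm (hSV (hB ha))) (inv_mem hm), ?_⟩
      have h : QuotientGroup.mk' N m * π a * (QuotientGroup.mk' N m)⁻¹ ∈ (S : Subgroup G).map π :=
        hmm.symm ▸ hmB ⟨_, ⟨a, ha, rfl⟩, rfl⟩
      rw [hπ, ← map_inv, ← map_mul, ← map_mul] at h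
      rw [← QuotientGroup.ker_mk' N, ← Subgroup.comap_map_eq]
      exact h
    obtain ⟨c, hc, hcS⟩ := ((isSylowSub_sylow S).of_le (le_inf hSV le_sup_left) le_top).exists_conj_le
      hX ((S.2.to_le ((Subgroup.closure_le _).mpr hB)).map _)
    obtain ⟨hcV, hcSN⟩ := Subgroup.mem_inf.mp hc
    obtain ⟨s, hs, o, ho, rfl⟩ := Subgroup.mem_sup_of_normal_right.mp hcSN
    have hoV : o ∈ Subgroup.normalizer (V : Set G) := by
      simpa using mul_mem (inv_mem (hSV hs)) hcV
    refine ⟨o * m, ?_, SPath.single ⟨_, ⟨W, hW, rfl⟩, Subgroup.mem_inf.mpr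
      ⟨trivial, mul_mem hoV hm⟩⟩ hB ?_⟩
    · rw [map_mul, (QuotientGroup.eq_one_iff o).mpr ho |> fun h => (show π o = 1 from h), one_mul,
        hmm]
    rintro _ ⟨a, ha, rfl⟩
    have h := hcS ⟨m * a * m⁻¹, ⟨a, Subgroup.subset_closure ha, rfl⟩, rfl⟩
    rw [SetLike.mem_coe]
    have h2 := mul_mem (mul_mem (inv_mem hs) h) hs
    simpa [MulAut.conj_apply, mul_assoc] using h2
  obtain ⟨g₀, hg₀, he₀⟩ := spath_lift π hstep hq' A hA rfl
  refine .congr A g₀ y hg₀ fun a ha => hinj (hAy ⟨a, ha, rfl⟩)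
    (hg₀.image_subset ⟨a, ha, rfl⟩) ?_
  rw [he₀ a ha, map_mul, map_mul, map_inv]

omit [Fact p.Prime] in
theorem normalizer_ne_top_of_pCore_bot (h : Cfsg.pCore p G = ⊥) {T : Subgroup G}
    (hT : IsPGroup p T) (hne : T ≠ ⊥) : Subgroup.normalizer (T : Set G) ≠ ⊤ := fun ht => by
  haveI := Subgroup.normalizer_eq_top_iff.mp ht
  exact hne (le_bot_iff.mp (h ▸ CfsgLib.Core.le_pCore hT))

/-- In a group without normal `p'`-subgroup, if `O_p` is a Sylow subgroup of its product with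
its centralizer then it contains it. -/
theorem centralizer_le_of_sylow (hO : Cfsg.pPrimeCore p G = ⊥) {Q : Subgroup G} [Q.Normal]
    (hQ : IsSylowSub p Q (Subgroup.centralizer (Q : Set G) ⊔ Q)) :
    Subgroup.centralizer (Q : Set G) ≤ Q := by
  set C := Subgroup.centralizer (Q : Set G) with hC
  have h1 : IsSylowSub p (Q ⊓ C) C := hQ.inf_normal le_sup_left (by
    rw [Subgroup.normalizer_eq_top]; exact le_top)
  set Z := Q.subgroupOf C with hZ
  haveI : Z.Normal := inferInstance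
  have hidx : ¬ p ∣ Z.index := by
    have h := h1.2.2
    rw [Subgroup.relIndex, Subgroup.inf_subgroupOf_right] at h
    exact h
  have hco : Nat.Coprime (Nat.card Z) Z.index := by
    obtain ⟨k, hk⟩ := IsPGroup.iff_card.mp (hQ.2.1.comap_of_injective C.subtype C.subtype_injective)
    rw [hZ, Subgroup.subgroupOf, hk]
    exact ((Nat.Prime.coprime_iff_not_dvd Fact.out).mpr hidx).pow_left k
  obtain ⟨O, hO'⟩ := Subgroup.exists_right_complement'_of_coprime hco
  haveI : O.Normal := by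
    rw [← Subgroup.normalizer_eq_top_iff, eq_top_iff, ← hO'.sup_eq_top]
    refine sup_le ?_ Subgroup.le_normalizer
    refine le_trans ?_ (Subgroup.centralizer_le_normalizer _)
    intro z hz
    rw [Subgroup.mem_centralizer_iff]
    intro o _
    exact Subtype.ext (Subgroup.mem_centralizer_iff.mp o.2 (z : G) hz).symm
  have hOc : (Nat.card O).Coprime p := by
    rw [← hO'.symm.index_eq_card ]
    exact ((Nat.Prime.coprime_iff_not_dvd Fact.out).mpr hidx).symm
  have hbot : O = ⊥ := by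
    have h := (Subgroup.map_mono (f := C.subtype) (CfsgLib.Core.le_pPrimeCore hOc)).trans
      (CfsgLib.Core.map_subtype_pPrimeCore_le C)
    rw [hO, le_bot_iff, Subgroup.map_eq_bot_iff_of_injective _ C.subtype_injective] at h
    exact h
  have htop := hO'.sup_eq_top
  rw [hbot, sup_bot_eq, hZ, Subgroup.subgroupOf_eq_top] at htop
  exact htop

include h𝓦 in
/-- The case with no normal `p'`-subgroup and a normal `p`-subgroup not containing its centralizer. -/
theorem spath_of_not_constrained (hO : Cfsg.pPrimeCore p G = ⊥)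
    (hQ : ¬ Subgroup.centralizer ((Cfsg.pCore p G : Subgroup G) : Set G) ≤ Cfsg.pCore p G)
    (ind : ∀ L : Subgroup G, L ≠ ⊤ → Cfsg.FamilyControlsStrongFusionIn p (inducedSet 𝓦 G) L)
    (indq : Cfsg.pCore p G ≠ ⊥ →
      Cfsg.FamilyControlsStrongFusionIn p (inducedSet 𝓦 (G ⧸ Cfsg.pCore p G)) ⊤)
    (hne : Cfsg.pCore p G ≠ ⊥) (S : Sylow p G)
    {A : Set G} {y : G} (hA : A ⊆ (S : Subgroup G))
    (hAy : (fun a => y * a * y⁻¹) '' A ⊆ (S : Subgroup G)) :
    SPath (S : Subgroup G) (stepSet (inducedSet 𝓦 G) S) A y := by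
  have hV := inducedSet_conjugacy h𝓦 G
  set Q := Cfsg.pCore p G with hQdef
  haveI : Q.Normal := CfsgLib.Core.normal_pCore p G
  set C := Subgroup.centralizer (Q : Set G) with hCdef
  set K := C ⊔ Q with hK
  set R := (S : Subgroup G) ⊓ K with hR
  have hQS : Q ≤ (S : Subgroup G) := CfsgLib.Core.pCore_le_sylow S
  have hRs : IsSylowSub p R K := (isSylowSub_sylow S).inf_normal le_top (by
    rw [Subgroup.normalizer_eq_top])
  have hRn : Subgroup.normalizer (R : Set G) ≠ ⊤ := fun ht => by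
    haveI := Subgroup.normalizer_eq_top_iff.mp ht
    have he : R = Q := le_antisymm (CfsgLib.Core.le_pCore (S.2.to_le inf_le_left))
      (le_inf hQS le_sup_right)
    exact hQ (centralizer_le_of_sylow hO (show IsSylowSub p Q K from he ▸ hRs))
  have hSR : (S : Subgroup G) ≤ Subgroup.normalizer (R : Set G) := by
    intro s hs
    rw [Subgroup.mem_normalizer_iff]
    intro r
    simp only [hR, Subgroup.mem_inf]
    rw [Subgroup.mem_normalizer_iff.mp (Subgroup.le_normalizer hs) r,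
      Subgroup.mem_normalizer_iff.mp
        ((Subgroup.normalizer_eq_top K).symm ▸ Subgroup.mem_top s) r]
  by_cases hM : C ⊔ (S : Subgroup G) = ⊤
  swap
  · obtain ⟨k, hk, n, -, hn, he⟩ := exists_mul_normalizer hRs (Subgroup.mem_top y⁻¹)
      (by rw [Subgroup.normalizer_eq_top]) le_top
    have e : y = n⁻¹ * k⁻¹ := by rw [← mul_inv_rev, ← he, inv_inv]
    have hKM : K ≤ C ⊔ (S : Subgroup G) := sup_le le_sup_left (hQS.trans le_sup_right)
    rw [e] at hAy ⊢
    exact spath_of_factor hV S (ind _ hM) (ind _ hRn) le_sup_right hSR (inv_mem (hKM hk))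
      (inv_mem hn) hA hAy
  set π := QuotientGroup.mk' Q with hπ
  have hres : Cfsg.pResidual p G ≤ C := by
    refine CfsgLib.Transfer.pResidual_le_of_isPGroup_quotient
      (S.2.of_surjective ((QuotientGroup.mk' C).comp (S : Subgroup G).subtype) ?_)
    intro x
    obtain ⟨g, rfl⟩ := QuotientGroup.mk'_surjective C x
    obtain ⟨c, hc, s, hs, rfl⟩ := Subgroup.mem_sup_of_normal_left.mp
      (hM.symm ▸ Subgroup.mem_top g : g ∈ C ⊔ (S : Subgroup G))
    exact ⟨⟨s, hs⟩, by simp [(QuotientGroup.eq_one_iff c).mpr hc]⟩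
  have hSQ : ¬ (S : Subgroup G) ≤ Q := fun h => hRn (by
    have he : R = Q := le_antisymm (inf_le_left.trans h) (le_inf hQS le_sup_right)
    rw [he, Subgroup.normalizer_eq_top])
  have hS' : IsSylowSub p ((S : Subgroup G).map π) ⊤ := by
    have h := isSylowSub_sylow (S.mapSurjective (QuotientGroup.mk'_surjective Q))
    rwa [Sylow.coe_mapSurjective] at h
  have hcm : ((S : Subgroup G).map π).comap π = (S : Subgroup G) := by
    rw [Subgroup.comap_map_eq, hπ, QuotientGroup.ker_mk', sup_eq_left.mpr hQS]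
  -- fusion of arbitrary subgroups by induction
  suffices H : ∀ D : Subgroup G, D ≤ (S : Subgroup G) → ∀ g : G,
      D.map (MulAut.conj g⁻¹).toMonoidHom ≤ (S : Subgroup G) →
      SPath (S : Subgroup G) (stepSet (inducedSet 𝓦 G) S) (D : Set G) g⁻¹ by
    have h := H (Subgroup.closure A) ((Subgroup.closure_le _).mpr hA) y⁻¹ (by
      rw [inv_inv, Subgroup.map_le_iff_le_comap, Subgroup.closure_le]
      intro a ha
      exact hAy ⟨a, ha, rfl⟩)
    rw [inv_inv] at h
    exact h.mono A Subgroup.subset_closure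
  refine fusion_induction S
    (fun A g => SPath (S : Subgroup G) (stepSet (inducedSet 𝓦 G) S) A g⁻¹)
    (fun A g h => h.mono) (fun A g k h1 h2 => ?_) ?_
  · have h2' : SPath (S : Subgroup G) (stepSet (inducedSet 𝓦 G) S)
        ((fun a => g⁻¹ * a * g⁻¹⁻¹) '' A) k⁻¹ := by simpa using h2
    rw [mul_inv_rev]
    exact h1.trans h2'
  intro U hU hfull IH x hx
  have hxi : x⁻¹ ∈ Subgroup.normalizer (U : Set G) := inv_mem hx
  by_cases hQU : Q ≤ U
  swap
  · have hlt : U < U ⊔ Q := left_lt_sup.mpr hQU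
    refine (IH (U ⊔ Q) x (CfsgLib.Transfer.card_lt_of_lt hlt) (sup_le hU hQS) ?_).mono _
      (SetLike.coe_subset_coe.mpr le_sup_left)
    rw [Subgroup.map_sup, map_conj_of_mem_normalizer hxi,
      map_conj_of_mem_normalizer ((Subgroup.normalizer_eq_top Q).symm ▸ Subgroup.mem_top x⁻¹)]
    exact sup_le hU hQS
  set z₀ := x⁻¹ with hz₀
  have hconj : ∀ a ∈ U, z₀ * a * z₀⁻¹ ∈ U := fun a ha =>
    (Subgroup.mem_normalizer_iff.mp hxi a).mp ha
  have hq := familyControlsFusion_at (inducedSet_conjugacy h𝓦 _) (indq hne) hS' (π '' (U : Set G))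
    (π z₀) trivial (Set.image_mono (SetLike.coe_subset_coe.mpr hU)) (by
      rintro _ ⟨_, ⟨a, ha, rfl⟩, rfl⟩
      exact ⟨z₀ * a * z₀⁻¹, hU (hconj a ha), by simp [hz₀]⟩)
  have hstep : ∀ m ∈ {m | ∃ V ∈ inducedSet 𝓦 (G ⧸ Q), m ∈ (⊤ : Subgroup (G ⧸ Q)) ⊓
      Subgroup.normalizer ((V ((S : Subgroup G).map π) : Subgroup (G ⧸ Q)) : Set (G ⧸ Q))},
      ∀ B : Set G, B ⊆ ((S : Subgroup G) : Set G) →
      (fun a => m * a * m⁻¹) '' (π '' B) ⊆ ((S : Subgroup G).map π : Subgroup (G ⧸ Q)) →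
      ∃ m', π m' = m ∧ SPath (S : Subgroup G) (stepSet (inducedSet 𝓦 G) S) B m' := by
    rintro m' ⟨V', hV', hm'⟩ B hB hmB
    obtain ⟨m, rfl⟩ := QuotientGroup.mk'_surjective Q m'
    have hW' := inducedSet_conjugacy h𝓦 _ V' hV'
    set L := (Subgroup.normalizer ((V' ((S : Subgroup G).map π) : Subgroup (G ⧸ Q)) :
      Set (G ⧸ Q))).comap π with hL
    have hbar : (S : Subgroup G).map π ≠ ⊥ := fun hb => hSQ (by
      rw [← hcm, hb, MonoidHom.comap_bot, hπ, QuotientGroup.ker_mk'])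
    have hLne : L ≠ ⊤ := fun ht => normalizer_ne_top_of_pCore_bot
      (CfsgLib.Core.pCore_quotient_pCore p G)
      ((S.2.map π).to_le (functor_le hW' (S.2.map π)))
      (functor_ne_bot hW' (S.2.map π) hbar) (by
        rw [eq_top_iff, ← Subgroup.map_top_of_surjective π (QuotientGroup.mk'_surjective Q), ← ht]
        exact Subgroup.map_comap_le _ _)
    have hSL : (S : Subgroup G) ≤ L := fun s hs =>
      le_normalizer_functor hW' (S.2.map π) ⟨s, hs, rfl⟩
    refine ⟨m, rfl, spath_of_controlled hV S (ind L hLne) hSL (Subgroup.mem_inf.mp hm').2 hB ?_⟩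
    rintro _ ⟨a, ha, rfl⟩
    rw [SetLike.mem_coe, ← hcm, Subgroup.mem_comap, map_mul, map_mul, map_inv]
    exact hmB ⟨π a, ⟨a, ha, rfl⟩, rfl⟩
  obtain ⟨h, hh, he⟩ := spath_lift π hstep hq (U : Set G) (SetLike.coe_subset_coe.mpr hU) rfl
  set z := h⁻¹ * z₀ with hz
  have hzπ : ∀ a ∈ U, π (z * a * z⁻¹) = π a := by
    intro a ha
    have h1 := he a ha
    rw [map_mul, map_mul, map_inv] at h1
    calc π (z * a * z⁻¹) = (π h)⁻¹ * (π z₀ * π a * (π z₀)⁻¹) * π h := by
          simp [hz, mul_assoc]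
      _ = (π h)⁻¹ * (π h * π a * (π h)⁻¹) * π h := by rw [h1]
      _ = π a := by group
  set X := (Subgroup.centralizer ((U.map π : Subgroup (G ⧸ Q)) : Set (G ⧸ Q))).comap π with hX
  have hXU : ∀ g ∈ X, ∀ a ∈ U, g * a * g⁻¹ ∈ U ∧ π (g * a * g⁻¹) = π a := by
    intro g hg a ha
    have h1 : π (g * a * g⁻¹) = π a := by
      rw [map_mul, map_mul, map_inv]
      rw [← Subgroup.mem_centralizer_iff.mp hg (π a) ⟨a, ha, rfl⟩]
      group
    refine ⟨?_, h1⟩
    have h2 : a⁻¹ * (g * a * g⁻¹) ∈ U := hQU (QuotientGroup.eq.mp h1.symm)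
    simpa using mul_mem ha h2
  have hzX : z ∈ X := by
    rw [hX, Subgroup.mem_comap, Subgroup.mem_centralizer_iff]
    rintro _ ⟨a, ha, rfl⟩
    have h1 := hzπ a ha
    rw [map_mul, map_mul, map_inv, mul_inv_eq_iff_eq_mul] at h1
    exact h1.symm
  have hXN : X ≤ Subgroup.normalizer (U : Set G) := by
    intro g hg
    rw [Subgroup.mem_normalizer_iff]
    intro a
    refine ⟨fun ha => (hXU g hg a ha).1, fun ha => ?_⟩
    simpa [mul_assoc] using (hXU g⁻¹ (inv_mem hg) _ ha).1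
  have hNX : Subgroup.normalizer (U : Set G) ≤ Subgroup.normalizer (X : Set G) :=
    ((Subgroup.map_le_iff_le_comap.mp (Subgroup.le_normalizer_map π)).trans
      (Subgroup.comap_mono normalizer_le_normalizer_centralizer)).trans
      (Subgroup.le_normalizer_comap π)
  have hT := (hfull.isSylowSub S.2).inf_normal hXN hNX
  set T := (S : Subgroup G) ⊓ Subgroup.normalizer (U : Set G) ⊓ X with hTdef
  have hTs : ¬ p ∣ (T.subgroupOf X).index := hT.2.2
  obtain ⟨s, hs, k, hk, hsk⟩ := CfsgLib.Transfer.exists_mul_mem_pResidual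
    ((hT.2.1.comap_of_injective X.subtype X.subtype_injective).toSylow hTs) (⟨z, hzX⟩ : X)
  have hsT : (s : G) ∈ T := hs
  have hkU : ∀ a ∈ U, (k : G) * a * (k : G)⁻¹ = a := by
    suffices hle : Cfsg.pResidual p X ≤
        (Subgroup.centralizer (U : Set G)).subgroupOf X by
      intro a ha
      have h1 := Subgroup.mem_centralizer_iff.mp (hle hk : (k : G) ∈ _) a ha
      rw [← h1, mul_inv_cancel_right]
    rw [CfsgLib.Transfer.pResidual_le_iff]
    intro g hg
    have hgo : Nat.Coprime (orderOf (g : G)) p := by rwa [Subgroup.orderOf_coe]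
    have hgC : (g : G) ∈ C := hres (CfsgLib.Transfer.mem_pResidual_of_coprime hgo)
    rw [Subgroup.mem_subgroupOf, Subgroup.mem_centralizer_iff]
    intro a ha
    obtain ⟨q, hq', hga⟩ : ∃ q ∈ Q, (g : G) * a * (g : G)⁻¹ = a * q :=
      ⟨a⁻¹ * ((g : G) * a * (g : G)⁻¹), QuotientGroup.eq.mp (hXU _ g.2 a ha).2.symm,
        by simp [mul_assoc]⟩
    have hpow : ∀ n : ℕ, (g : G) ^ n * a * ((g : G) ^ n)⁻¹ = a * q ^ n := by
      intro n
      induction n with
      | zero => simp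
      | succ n ih =>
        have hc : (g : G) * q ^ n = q ^ n * (g : G) := (Subgroup.mem_centralizer_iff.mp hgC _
          (Subgroup.pow_mem _ hq' n)).symm
        calc (g : G) ^ (n + 1) * a * ((g : G) ^ (n + 1))⁻¹
            = (g : G) * ((g : G) ^ n * a * ((g : G) ^ n)⁻¹) * (g : G)⁻¹ := by
              rw [pow_succ']; group
          _ = (g : G) * a * (g : G)⁻¹ * ((g : G) * q ^ n * (g : G)⁻¹) := by rw [ih]; group
          _ = a * q ^ (n + 1) := by rw [hga, hc, mul_inv_cancel_right, pow_succ']; group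
    have hq1 : q = 1 := by
      have h1 : q ^ orderOf (g : G) = 1 := by
        have := hpow (orderOf (g : G))
        rw [pow_orderOf_eq_one] at this
        simpa using this.symm
      have h2 := CfsgLib.Transfer.eq_one_of_coprime_of_isPGroup (CfsgLib.Core.isPGroup_pCore p G)
        (g := ⟨q, hq'⟩) (hgo.coprime_dvd_left (by
          rw [Subgroup.orderOf_mk]; exact orderOf_dvd_of_pow_eq_one h1))
      exact congrArg Subtype.val h2
    rw [hq1, mul_one, mul_inv_eq_iff_eq_mul] at hga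
    exact hga.symm
  have hsN : (s : G) ∈ Subgroup.normalizer (U : Set G) :=
    hXN (s : X).2
  have himg : (fun a => (s : G) * a * (s : G)⁻¹) '' (U : Set G) ⊆ (U : Set G) := by
    rintro _ ⟨a, ha, rfl⟩
    exact (Subgroup.mem_normalizer_iff.mp hsN a).mp ha
  have hUS : (U : Set G) ⊆ (S : Subgroup G) := SetLike.coe_subset_coe.mpr hU
  have p1 : SPath (S : Subgroup G) (stepSet (inducedSet 𝓦 G) S) (U : Set G) (k : G) :=
    .of_centralizes hUS hkU
  have p2 : SPath (S : Subgroup G) (stepSet (inducedSet 𝓦 G) S) (U : Set G) ((s : G) * k) := by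
    refine p1.trans ((spath_of_controlled hV S (ind _ hRn) hSR (hSR hsT.1.1) hUS
      (himg.trans hUS)).mono _ ?_)
    rintro _ ⟨a, ha, rfl⟩
    show (k : G) * a * (k : G)⁻¹ ∈ U
    rw [hkU a ha]
    exact ha
  have e : z₀ = h * ((s : G) * k) := by
    have h1 : z = (s : G) * k := congrArg Subtype.val hsk
    rw [← h1, hz, mul_inv_cancel_left]
  show SPath _ _ _ z₀
  rw [e]
  refine p2.trans (hh.mono _ ?_)
  rintro _ ⟨a, ha, rfl⟩
  show (s : G) * k * a * ((s : G) * k)⁻¹ ∈ U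
  rw [conj_mul_conj, hkU a ha]
  exact himg ⟨a, ha, rfl⟩

end Cases

/-- The functors control fusion in every section if they do so in the constrained ones. -/
theorem familyFusion_of_sections {G : Type u} [Group G] [Finite G] {p : ℕ} [Fact p.Prime]
    {𝓦 : Set (∀ (Q : Type u) [Group Q], Subgroup Q)}
    (h𝓦 : ∀ W ∈ 𝓦, Cfsg.IsCharPFunctor.{u} p W)
    (hyp : ∀ (H : Type u) [Group H] [Finite H], IsSec G H →
      Subgroup.centralizer ((Cfsg.pCore p H : Subgroup H) : Set H) ≤ Cfsg.pCore p H →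
      Cfsg.FamilyControlsStrongFusionIn p (inducedSet 𝓦 H) ⊤) :
    ∀ (H : Type u) [Group H] [Finite H], IsSec G H →
      Cfsg.FamilyControlsStrongFusionIn p (inducedSet 𝓦 H) ⊤ := by
  intro H _ _ hsec
  induction hn : Nat.card H using Nat.strong_induction_on generalizing H with
  | _ n ih => ?_
  subst hn
  have ind : ∀ L : Subgroup H, L ≠ ⊤ →
      Cfsg.FamilyControlsStrongFusionIn p (inducedSet 𝓦 H) L := by
    intro L hL
    have hlt : Nat.card L < Nat.card H :=
      lt_of_le_of_ne (Subgroup.card_le_card_group L) fun h => hL (Subgroup.eq_top_of_card_eq L h)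
    have h := familyFusion_map h𝓦 L.subtype L.subtype_injective
      (ih _ hlt L (hsec.subgroup L) rfl)
    rwa [Subgroup.range_subtype] at h
  have indq : ∀ N : Subgroup H, ∀ [N.Normal], N ≠ ⊥ →
      Cfsg.FamilyControlsStrongFusionIn p (inducedSet 𝓦 (H ⧸ N)) ⊤ := by
    intro N _ hN
    refine ih _ ?_ (H ⧸ N) (hsec.quotient N) rfl
    rw [← Subgroup.index_eq_card, ← Subgroup.card_mul_index N]
    exact lt_mul_left (Nat.pos_of_ne_zero Subgroup.index_ne_zero_of_finite)
      (N.one_lt_card_iff_ne_bot.mpr hN)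
  haveI : (Cfsg.pPrimeCore p H).Normal := CfsgLib.Core.normal_pPrimeCore p H
  haveI : (Cfsg.pCore p H).Normal := CfsgLib.Core.normal_pCore p H
  by_cases hO : Cfsg.pPrimeCore p H = ⊥
  swap
  · obtain ⟨S⟩ : Nonempty (Sylow p H) := inferInstance
    exact familyControls_of_spath S fun A y hA hAy => spath_of_quotient_coprime h𝓦 _
      (CfsgLib.Core.coprime_card_pPrimeCore p H) (indq _ hO) S hA hAy
  obtain ⟨S⟩ : Nonempty (Sylow p H) := inferInstance
  by_cases hQ : Cfsg.pCore p H = ⊥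
  · refine Cfsg.Agent.S1959.result S _ (inducedSet_conjugacy h𝓦 H) fun T hT hne _ => ?_
    exact ind _ (normalizer_ne_top_of_pCore_bot hQ (S.2.to_le hT) hne)
  by_cases hC : Subgroup.centralizer ((Cfsg.pCore p H : Subgroup H) : Set H) ≤ Cfsg.pCore p H
  · exact hyp H hsec hC
  exact familyControls_of_spath S fun A y hA hAy =>
    spath_of_not_constrained h𝓦 hO hC ind (fun h => indq _ h) hQ S hA hAy

end CfsgLib.Techniques

namespace CfsgLib.Techniques

open Subgroup

universe v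

/-- Hypotheses on the quotients `K / R` extend to all sections. -/
theorem sections_of_quotients {G : Type v} [Group G] [Finite G] {p : ℕ}
    {𝓦 : Set (∀ (Q : Type v) [Group Q], Subgroup Q)}
    (h𝓦 : ∀ W ∈ 𝓦, Cfsg.IsCharPFunctor.{v} p W)
    (hloc : ∀ (K R : Subgroup G) [hR : (R.subgroupOf K).Normal],
      Subgroup.centralizer ((Cfsg.pCore p (↥K ⧸ R.subgroupOf K) :
        Subgroup (↥K ⧸ R.subgroupOf K)) : Set (↥K ⧸ R.subgroupOf K)) ≤
          Cfsg.pCore p (↥K ⧸ R.subgroupOf K) →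
      Cfsg.FamilyControlsStrongFusionIn p (inducedSet 𝓦 (↥K ⧸ R.subgroupOf K)) ⊤)
    (H : Type v) [Group H] [Finite H] (hs : IsSec G H)
    (hc : Subgroup.centralizer ((Cfsg.pCore p H : Subgroup H) : Set H) ≤ Cfsg.pCore p H) :
    Cfsg.FamilyControlsStrongFusionIn p (inducedSet 𝓦 H) ⊤ := by
  obtain ⟨K, R, hn, ⟨e⟩⟩ := hs.exists_quotient
  exact familyFusion_congr h𝓦 e
    (hloc K R (CfsgLib.PLocal.centralizer_pCore_le_congr e.symm hc))

/-- A chain of conjugations inside a single subgroup collapses to one conjugation. -/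
theorem SPath.exists_mem {G : Type v} [Group G] {T N : Subgroup G} {M A : Set G} {g : G}
    (h : SPath T M A g) (hM : M ⊆ (N : Set G)) :
    ∃ x ∈ N, ∀ a ∈ A, g * a * g⁻¹ = x * a * x⁻¹ := by
  induction h with
  | one A _ => exact ⟨1, one_mem _, fun a _ => rfl⟩
  | step A m g hm _ _ ih =>
      obtain ⟨x, hx, he⟩ := ih
      exact ⟨x * m, mul_mem hx (hM hm), fun a ha => by
        rw [conj_mul_conj, conj_mul_conj, he _ ⟨a, ha, rfl⟩]⟩
  | congr A g g' _ he ih =>
      obtain ⟨x, hx, hx'⟩ := ih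
      exact ⟨x, hx, fun a ha => (he a ha).trans (hx' a ha)⟩

/-- The normalizer of a value of one of the functors is controlled. -/
theorem familyFusion_normalizer_functor {G : Type v} [Group G] [Finite G] {p : ℕ} [Fact p.Prime]
    {𝓥 : Set (Subgroup G → Subgroup G)} (hV : ∀ V ∈ 𝓥, Cfsg.IsConjugacyFunctor p V)
    (S : Sylow p G) {V : Subgroup G → Subgroup G} (hmem : V ∈ 𝓥) :
    Cfsg.FamilyControlsStrongFusionIn p 𝓥
      (Subgroup.normalizer ((V (S : Subgroup G) : Subgroup G) : Set G)) := by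
  have hle := le_normalizer_functor (hV V hmem) S.2
  refine ⟨(S : Subgroup G), hle, S.2, ((isSylowSub_sylow S).of_le hle le_top).2.2,
    fun A y hy hA hAy => ?_⟩
  refine ⟨1, Fin.cons 1 fun _ => y, rfl, fun i => ⟨V, hmem, ?_⟩, ?_, fun a _ => ?_⟩
  · fin_cases i
    simpa using Subgroup.mem_inf.mpr ⟨hy, hy⟩
  · intro i
    induction i using Fin.cases with
    | zero =>
      rintro _ ⟨a, ha, rfl⟩
      simpa using hA ha
    | succ j => simpa using hAy
  · rw [← Fin.succ_last, Fin.cons_succ]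

end CfsgLib.Techniques
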