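import Cfsg.Agent.Lib.Techniques.Control

/-!
Sections of a group and functors induced by isomorphism invariant functors.
-/

namespace CfsgLib.Techniques

open Subgroup

universe u

/-- `H` is a homomorphic image of a subgroup of `G`. -/
def IsSec (G : Type u) [Group G] (H : Type u) [Group H] : Prop :=
  ∃ (K : Subgroup G) (f : K →* H), Function.Surjective f

theorem isSec_self (G : Type u) [Group G] : IsSec G G :=
  ⟨⊤, (Subgroup.topEquiv (G := G)).toMonoidHom, Subgroup.topEquiv.surjective⟩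

theorem IsSec.subgroup {G H : Type u} [Group G] [Group H] (h : IsSec G H) (L : Subgroup H) :
    IsSec G L := by
  obtain ⟨K, f, hf⟩ := h
  have hle : (L.comap f).map K.subtype ≤ K := Subgroup.map_subtype_le _
  have hmem : ∀ x : (L.comap f).map K.subtype, f ⟨x, hle x.2⟩ ∈ L := by
    rintro ⟨_, y, hy, rfl⟩
    exact hy
  refine ⟨(L.comap f).map K.subtype, (f.comp (Subgroup.inclusion hle)).codRestrict L hmem, ?_⟩
  rintro ⟨l, hl⟩
  obtain ⟨y, rfl⟩ := hf l
  exact ⟨⟨y, y, hl, rfl⟩, Subtype.ext rfl⟩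

theorem IsSec.of_surjective {G H H' : Type u} [Group G] [Group H] [Group H'] (h : IsSec G H)
    (f : H →* H') (hf : Function.Surjective f) : IsSec G H' := by
  obtain ⟨K, g, hg⟩ := h
  exact ⟨K, f.comp g, hf.comp hg⟩

theorem IsSec.quotient {G H : Type u} [Group G] [Group H] (h : IsSec G H) (N : Subgroup H)
    [N.Normal] : IsSec G (H ⧸ N) :=
  h.of_surjective _ (QuotientGroup.mk'_surjective N)

/-- A statement about the quotients `K / R` of a group transfers to all its sections. -/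
theorem IsSec.exists_quotient {G H : Type u} [Group G] [Group H] (h : IsSec G H) :
    ∃ (K R : Subgroup G) (_ : (R.subgroupOf K).Normal), Nonempty (↥K ⧸ R.subgroupOf K ≃* H) := by
  obtain ⟨K, f, hf⟩ := h
  have e : (f.ker.map K.subtype).subgroupOf K = f.ker :=
    Subgroup.comap_map_eq_self_of_injective K.subtype_injective _
  haveI hn : ((f.ker.map K.subtype).subgroupOf K).Normal := e.symm ▸ MonoidHom.normal_ker f
  exact ⟨K, f.ker.map K.subtype, hn, ⟨(QuotientGroup.quotientMulEquivOfEq e).trans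
    (QuotientGroup.quotientKerEquivOfSurjective f hf)⟩⟩

theorem isSec_quotient {G : Type u} [Group G] (K R : Subgroup G) [(R.subgroupOf K).Normal] :
    IsSec G (↥K ⧸ R.subgroupOf K) :=
  ⟨K, QuotientGroup.mk' _, QuotientGroup.mk'_surjective _⟩

variable {p : ℕ}

/-- An isomorphism invariant functor commutes with a homomorphism injective on the `p`-group. -/
theorem inducedFunctor_map {W : ∀ (Q : Type u) [Group Q], Subgroup Q} (hW : Cfsg.IsCharPFunctor.{u} p W)
    {H G : Type u} [Group H] [Group G] [Finite H] {P : Subgroup H} (hP : IsPGroup p P)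
    (f : H →* G) (hf : Set.InjOn f P) :
    Cfsg.inducedFunctor W (P.map f) = (Cfsg.inducedFunctor W P).map f := by
  have hbij : Function.Bijective (f.subgroupMap P) :=
    ⟨fun a b h => Subtype.ext (hf a.2 b.2 (congrArg Subtype.val h)), f.subgroupMap_surjective P⟩
  have h := hW.2 (↥P) (↥(P.map f)) hP (MulEquiv.ofBijective _ hbij)
  unfold Cfsg.inducedFunctor
  rw [← h, Subgroup.map_map, Subgroup.map_map]
  rfl

theorem inducedFunctor_isConjugacyFunctor {W : ∀ (Q : Type u) [Group Q], Subgroup Q}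
    (hW : Cfsg.IsCharPFunctor.{u} p W) (G : Type u) [Group G] [Finite G] :
    Cfsg.IsConjugacyFunctor p (Cfsg.inducedFunctor (G := G) W) := by
  intro P hP
  refine ⟨Subgroup.map_subtype_le _, fun hne h => ?_,
    fun g => inducedFunctor_map hW hP _ ((MulAut.conj g).injective.injOn)⟩
  refine hW.1 P hP ((nontrivial_iff_ne_bot P).mpr hne) ?_
  exact (Subgroup.map_eq_bot_iff_of_injective _ P.subtype_injective).mp h

/-- The functors induced by a set of isomorphism invariant functors. -/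
abbrev inducedSet (𝓦 : Set (∀ (Q : Type u) [Group Q], Subgroup Q)) (G : Type u) [Group G] :
    Set (Subgroup G → Subgroup G) :=
  (fun W => Cfsg.inducedFunctor (G := G) W) '' 𝓦

theorem inducedSet_conjugacy {𝓦 : Set (∀ (Q : Type u) [Group Q], Subgroup Q)}
    (h𝓦 : ∀ W ∈ 𝓦, Cfsg.IsCharPFunctor.{u} p W) (G : Type u) [Group G] [Finite G] :
    ∀ V ∈ inducedSet 𝓦 G, Cfsg.IsConjugacyFunctor p V := by
  rintro _ ⟨W, hW, rfl⟩
  exact inducedFunctor_isConjugacyFunctor (h𝓦 W hW) G

/-- Control of fusion in a group gives control in its isomorphic image. -/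
theorem familyFusion_map {𝓦 : Set (∀ (Q : Type u) [Group Q], Subgroup Q)}
    (h𝓦 : ∀ W ∈ 𝓦, Cfsg.IsCharPFunctor.{u} p W) {H G : Type u} [Group H] [Group G] [Finite H]
    (f : H →* G) (hf : Function.Injective f)
    (h : Cfsg.FamilyControlsStrongFusionIn p (inducedSet 𝓦 H) ⊤) :
    Cfsg.FamilyControlsStrongFusionIn p (inducedSet 𝓦 G) f.range := by
  obtain ⟨T, -, hTp, hTi, hctl⟩ := h
  refine ⟨T.map f, (f.range_eq_map ▸ Subgroup.map_mono le_top), hTp.map f, ?_, ?_⟩
  · rwa [f.range_eq_map, Subgroup.relIndex_map_map_of_injective _ _ hf]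
  rintro A _ ⟨y, rfl⟩ hA hAy
  obtain ⟨n, c, h0, h1, h2, h3⟩ := hctl (f ⁻¹' A) y trivial
    (fun a ha => by
      obtain ⟨b, hb, he⟩ := hA ha
      exact hf he ▸ hb)
    (by
      rintro _ ⟨a, ha, rfl⟩
      obtain ⟨b, hb, he⟩ := hAy ⟨f a, ha, rfl⟩
      have : b = y * a * y⁻¹ := hf (by rw [he, map_mul, map_mul, map_inv])
      show y * a * y⁻¹ ∈ T
      rw [← this]
      exact hb)
  refine ⟨n, fun i => f (c i), by simp [h0], fun i => ?_, fun i => ?_, fun a ha => ?_⟩
  · obtain ⟨_, ⟨W, hW, rfl⟩, hm⟩ := h1 i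
    refine ⟨_, ⟨W, hW, rfl⟩, Subgroup.mem_inf.mpr ⟨?_, ?_⟩⟩
    · exact mul_mem ⟨c i.succ, rfl⟩ (inv_mem ⟨c i.castSucc, rfl⟩)
    · show f (c i.succ) * (f (c i.castSucc))⁻¹ ∈
        Subgroup.normalizer ((Cfsg.inducedFunctor W (T.map f) : Subgroup G) : Set G)
      rw [inducedFunctor_map (h𝓦 W hW) hTp f hf.injOn, ← map_inv, ← map_mul]
      exact Subgroup.le_normalizer_map f ⟨_, (Subgroup.mem_inf.mp hm).2, rfl⟩
  · rintro _ ⟨a, ha, rfl⟩
    obtain ⟨b, -, rfl⟩ := hA ha
    exact ⟨c i * b * (c i)⁻¹, h2 i ⟨b, ha, rfl⟩, by rw [map_mul, map_mul, map_inv]⟩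
  · obtain ⟨b, -, rfl⟩ := hA ha
    have := congrArg f (h3 b ha)
    simpa only [map_mul, map_inv] using this

/-- Control of fusion transports along isomorphisms. -/
theorem familyFusion_congr {𝓦 : Set (∀ (Q : Type u) [Group Q], Subgroup Q)}
    (h𝓦 : ∀ W ∈ 𝓦, Cfsg.IsCharPFunctor.{u} p W) {H G : Type u} [Group H] [Group G] [Finite H]
    (e : H ≃* G) (h : Cfsg.FamilyControlsStrongFusionIn p (inducedSet 𝓦 H) ⊤) :
    Cfsg.FamilyControlsStrongFusionIn p (inducedSet 𝓦 G) ⊤ := by
  have := familyFusion_map h𝓦 e.toMonoidHom e.injective h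
  rwa [MonoidHom.range_eq_top.mpr e.surjective] at this

end CfsgLib.Techniques
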