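import Cfsg.Agent.Lib.Techniques.ChiefAction
import Cfsg.Prelude.Def_PLocal
import Mathlib.Algebra.Ring.GeomSum
import Mathlib.RingTheory.Nilpotent.Basic

/-!
Degrees of an element on the chief factors below a `p`-group and below a critical subgroup of it.
-/

set_option autoImplicit false
set_option linter.all false

namespace CfsgLib.Techniques

open Subgroup Cfsg
open scoped commutatorElement IsMulCommutative

universe u

variable {G : Type u} [Group G] [Finite G]

omit [Finite G] in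
theorem iterCommutator_map' {H : Type*} [Group H] (f : G →* H) (X : Subgroup G) (w : G) (k : ℕ) :
    (iterCommutator X (Subgroup.zpowers w) k).map f =
      iterCommutator (X.map f) (Subgroup.zpowers (f w)) k := by
  induction k with
  | zero => rfl
  | succ k ih =>
    show (⁅iterCommutator X (Subgroup.zpowers w) k, Subgroup.zpowers w⁆).map f =
      ⁅iterCommutator (X.map f) (Subgroup.zpowers (f w)) k, Subgroup.zpowers (f w)⁆
    rw [map_commutator, ih, MonoidHom.map_zpowers]

omit [Finite G] in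
theorem iterCommutator_le_of_normal {V : Subgroup G} [V.Normal] {X : Subgroup G} {w : G} {i n : ℕ}
    (h : iterCommutator X (Subgroup.zpowers w) i ≤ V) (hin : i ≤ n) :
    iterCommutator X (Subgroup.zpowers w) n ≤ V := by
  induction n, hin using Nat.le_induction with
  | base => exact h
  | succ n _ ih => exact (commutator_mono ih le_rfl).trans (commutator_le_left _ _)

omit [Finite G] in
theorem iterCommutator_le_of_le_sup {U V X : Subgroup G} [V.Normal] (hX : U ≤ X ⊔ V) {w : G}
    {n : ℕ} (h : iterCommutator X (Subgroup.zpowers w) n ≤ V) :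
    iterCommutator U (Subgroup.zpowers w) n ≤ V := by
  have hker : ∀ Y : Subgroup G, Y ≤ V ↔ Y.map (QuotientGroup.mk' V) = ⊥ := fun Y => by
    rw [Subgroup.map_eq_bot_iff, QuotientGroup.ker_mk']
  have hmono : ∀ {Y Y' : Subgroup (G ⧸ V)}, Y ≤ Y' → ∀ {Z : Subgroup (G ⧸ V)} (k : ℕ),
      iterCommutator Y Z k ≤ iterCommutator Y' Z k := by
    intro Y Y' hY Z k
    induction k with
    | zero => exact hY
    | succ k ih => exact commutator_mono ih le_rfl
  rw [hker, iterCommutator_map', ← le_bot_iff]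
  refine (hmono ?_ n).trans (le_of_eq ((iterCommutator_map' (QuotientGroup.mk' V) X w n).symm.trans
    ((hker _).mp h)))
  refine (map_mono hX).trans ?_
  rw [Subgroup.map_sup, (hker V).mp le_rfl, sup_bot_eq]

theorem commutator_lt_of_isPGroup {p : ℕ} [Fact p.Prime] {P X : Subgroup G} (hP : IsPGroup p P)
    (hXP : X ≤ P) (hX : X ≠ ⊥) (hXn : X.Normal) : ⁅X, P⁆ < X := by
  refine lt_of_le_of_ne (commutator_le_left _ _) fun e => hX ?_
  obtain ⟨n, hn⟩ := _root_.nilpotent_iff_lowerCentralSeries.mp hP.isNilpotent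
  have : ∀ k, X ≤ ((⊤ : Subgroup P).lowerCentralSeries k).map P.subtype := by
    intro k
    induction k with
    | zero => simpa [← MonoidHom.range_eq_map] using hXP
    | succ k ih =>
      rw [← e, Subgroup.lowerCentralSeries_succ, map_commutator]
      refine commutator_mono ih (le_of_eq ?_)
      rw [← MonoidHom.range_eq_map, range_subtype]
  simpa [hn] using this n

theorem binom_vanish {A : Type*} [AddCommGroup A] (L R : AddMonoid.End A) (hLR : Commute L R)
    (i j : ℕ) (hL : ∀ F, ((L - 1) ^ j) F = 0) (a : A) (hR : ((R - 1) ^ i) a = 0) :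
    ((L * R - 1) ^ (i + j - 1)) a = 0 := by
  have e : L * R - 1 = (L - 1) * R + (R - 1) := by rw [sub_mul, one_mul, sub_add_sub_cancel]
  have h2 : Commute (L - 1) R := hLR.sub_left (Commute.one_left R)
  have h3 : Commute R (R - 1) := (Commute.refl R).sub_right (Commute.one_right R)
  have h1 : Commute (L - 1) (R - 1) := h2.sub_right (Commute.one_right _)
  rw [e, (h1.mul_left h3).add_pow]
  refine Eq.trans (map_sum ((⟨⟨fun T : AddMonoid.End A => T a, rfl⟩, fun _ _ => rfl⟩ :
    AddMonoid.End A →+ A)) _ _) (Finset.sum_eq_zero fun m _ => ?_)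
  show (((L - 1) * R) ^ m * (R - 1) ^ (i + j - 1 - m) * ↑((i + j - 1).choose m) : AddMonoid.End A) a = 0
  rw [AddMonoid.End.coe_mul, Function.comp_apply]
  rcases le_or_gt j m with hm | hm
  · obtain ⟨d, rfl⟩ := Nat.exists_eq_add_of_le hm
    rw [AddMonoid.End.coe_mul, Function.comp_apply, h2.mul_pow, pow_add, mul_assoc,
      AddMonoid.End.coe_mul, Function.comp_apply]
    exact hL _
  · obtain ⟨d, hd⟩ := Nat.exists_eq_add_of_le (show i ≤ i + j - 1 - m by omega)
    rw [AddMonoid.End.coe_mul, Function.comp_apply, AddMonoid.End.natCast_apply, map_nsmul, hd,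
      add_comm i d, pow_add, AddMonoid.End.coe_mul, Function.comp_apply, hR, map_zero, smul_zero,
      map_zero]

omit [Group G] [Finite G] in
theorem level_step {A : Type*} [AddCommGroup A] (γ : AddMonoid.End A) (k m : ℕ) (a : A)
    (h : ((γ - 1) ^ (k + 1)) a = 0) : ((γ - 1) ^ k) (a - (γ ^ m) a) = 0 := by
  have hcs : Commute ((γ - 1) ^ k) (∑ l ∈ Finset.range m, γ ^ l) :=
    Commute.sum_right _ _ _ fun l _ =>
      (((Commute.refl γ).sub_left (Commute.one_left γ)).pow_left k).pow_right l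
  have e2 : (γ - 1) ^ k * (γ ^ m - 1) = (∑ l ∈ Finset.range m, γ ^ l) * (γ - 1) ^ (k + 1) := by
    rw [← geom_sum_mul, ← mul_assoc, hcs.eq, mul_assoc, ← pow_succ]
  have h' := congrArg (fun T : AddMonoid.End A => T a) e2
  simp only [AddMonoid.End.coe_mul, Function.comp_apply, h, map_zero] at h'
  have e3 : a - (γ ^ m) a = -((γ ^ m - 1) a) := (neg_sub _ _).symm
  rw [e3, map_neg, h', neg_zero]

theorem degree_above {p : ℕ} [Fact p.Prime] (P : Subgroup G) [P.Normal] (hP : IsPGroup p P)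
    (Q : Subgroup G) [Q.Normal] (hQP : Q ≤ P)
    (hQ3 : ⁅P, Q⁆ ≤ Q ⊓ Subgroup.centralizer (Q : Set G))
    (hQ4 : P ⊓ Subgroup.centralizer (Q : Set G) ≤ Q) (g : G) (i j : ℕ)
    (hQi : ∀ U V : Subgroup G, IsChiefFactor U V → U ≤ Q →
      iterCommutator U (Subgroup.zpowers g) i ≤ V)
    (hZj : ∀ U V : Subgroup G, IsChiefFactor U V → U ≤ Q ⊓ Subgroup.centralizer (Q : Set G) →
      iterCommutator U (Subgroup.zpowers g) j ≤ V)
    {U V : Subgroup G} (hUV : IsChiefFactor U V) (hU : U ≤ P) (hUQ : U ⊓ Q ≤ V) :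
    iterCommutator U (Subgroup.zpowers g) (i + j - 1) ≤ V := by
  classical
  haveI := hUV.2.1
  haveI := hUV.2.2.1
  obtain ⟨M, hM, hMmin⟩ := Set.Finite.exists_minimal
    (s := {M : Subgroup G | M.Normal ∧ M ≤ U ∧ U ≤ M ⊔ V}) (Set.toFinite _)
    ⟨U, hUV.2.1, le_rfl, le_sup_left⟩
  obtain ⟨hMn, hMU, hUM⟩ := hM
  haveI := hMn
  have hMQ : ⁅M, Q⁆ ≠ ⊥ := by
    intro h
    have : M ≤ Q := (le_inf (hMU.trans hU) (commutator_eq_bot_iff_le_centralizer.mp h)).trans hQ4
    exact hUV.1.not_ge (hUM.trans (sup_le ((le_inf hMU this).trans hUQ) le_rfl))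
  obtain ⟨X, hX, hXmin⟩ := Set.Finite.exists_minimal
    (s := {X : Subgroup G | X.Normal ∧ X ≤ Q ∧ ⁅M, X⁆ ≠ ⊥}) (Set.toFinite _)
    ⟨Q, inferInstance, le_rfl, hMQ⟩
  obtain ⟨hXn, hXQ, hMX⟩ := hX
  haveI := hXn
  have hXne : X ≠ ⊥ := fun e => hMX (by rw [e, commutator_bot_right])
  have hlt := commutator_lt_of_isPGroup hP (hXQ.trans hQP) hXne hXn
  obtain ⟨Y, hY, hYmax⟩ := Set.Finite.exists_maximal
    (s := {Y : Subgroup G | Y.Normal ∧ ⁅X, P⁆ ≤ Y ∧ Y < X}) (Set.toFinite _)
    ⟨⁅X, P⁆, inferInstance, le_rfl, hlt⟩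
  obtain ⟨hYn, hPY, hYX⟩ := hY
  have hXY : IsChiefFactor X Y := ⟨hYX, hXn, hYn, fun N hN hYN hNX =>
    (eq_or_lt_of_le hNX).elim Or.inr fun h =>
      Or.inl (le_antisymm (hYmax ⟨hN, hPY.trans hYN, h⟩ hYN) hYN)⟩
  have hMY : ⁅M, Y⁆ = ⊥ := by_contra fun h =>
    hYX.not_ge (hXmin ⟨hYn, hYX.le.trans hXQ, h⟩ hYX.le)
  set W := ⁅M, X⁆ with hWdef
  haveI : W.Normal := by rw [hWdef]; infer_instance
  have hWZ : W ≤ Q ⊓ Subgroup.centralizer (Q : Set G) :=
    (commutator_mono (hMU.trans hU) hXQ).trans hQ3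
  have hWY : W ≤ Y := (le_of_eq (commutator_comm M X)).trans
    ((commutator_mono le_rfl (hMU.trans hU)).trans hPY)
  obtain ⟨R, hR, hRmax⟩ := Set.Finite.exists_maximal
    (s := {R : Subgroup G | R.Normal ∧ R < W}) (Set.toFinite _)
    ⟨⊥, inferInstance, bot_lt_iff_ne_bot.mpr hMX⟩
  haveI := hR.1
  have hWR : IsChiefFactor W R := ⟨hR.2, inferInstance, hR.1, fun N hN hRN hNW =>
    (eq_or_lt_of_le hNW).elim Or.inr fun h => Or.inl (le_antisymm (hRmax ⟨hN, h⟩ hRN) hRN)⟩
  set π := QuotientGroup.mk' R with hπ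
  set Wb := W.map π with hWb
  haveI : Wb.Normal := ‹W.Normal›.map π (QuotientGroup.mk'_surjective R)
  haveI : IsMulCommutative Wb := ⟨⟨by
    rintro ⟨_, a, ha, rfl⟩ ⟨_, b, hb, rfl⟩
    refine Subtype.ext ?_
    show π a * π b = π b * π a
    rw [← map_mul, ← map_mul, mem_centralizer_iff.mp (mem_inf.mp (hWZ hb)).2 a
      (mem_inf.mp (hWZ ha)).1]⟩⟩
  -- the pairing
  let φ : M → (X →* Wb) := fun u =>
    { toFun := fun x => ⟨π ⁅(u : G), (x : G)⁆, mem_map_of_mem π
        (commutator_mem_commutator u.2 x.2)⟩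
      map_one' := by
        apply Subtype.ext
        simp
      map_mul' := fun x y => Subtype.ext (by
        show π ⁅(u : G), (x : G) * (y : G)⁆ = π ⁅(u : G), (x : G)⁆ * π ⁅(u : G), (y : G)⁆
        rw [← map_mul]
        congr 1
        have hw : (x : G) * ⁅(u : G), (y : G)⁆ = ⁅(u : G), (y : G)⁆ * (x : G) :=
          mem_centralizer_iff.mp (mem_inf.mp (hWZ (commutator_mem_commutator u.2 y.2))).2 x
            (hXQ x.2)
        have e : ⁅(u : G), (x : G) * (y : G)⁆ =
            ⁅(u : G), (x : G)⁆ * ((x : G) * ⁅(u : G), (y : G)⁆ * (x : G)⁻¹) := by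
          simp only [commutatorElement_def]; group
        rw [e, hw, mul_inv_cancel_right]) }
  have hφmul : ∀ u v : M, φ (u * v) = φ u * φ v := by
    intro u v
    refine MonoidHom.ext fun x => Subtype.ext ?_
    show π ⁅((u * v : M) : G), (x : G)⁆ = π ⁅(u : G), (x : G)⁆ * π ⁅(v : G), (x : G)⁆
    have hw : (u : G) * ⁅(v : G), (x : G)⁆ = ⁅(v : G), (x : G)⁆ * (u : G) :=
      (mem_centralizer_iff.mp (commutator_eq_bot_iff_le_centralizer.mp hMY u.2) _
        (hWY (commutator_mem_commutator v.2 x.2))).symm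
    have hc : ⁅(v : G), (x : G)⁆ * ⁅(u : G), (x : G)⁆ = ⁅(u : G), (x : G)⁆ * ⁅(v : G), (x : G)⁆ :=
      mem_centralizer_iff.mp (mem_inf.mp (hWZ (commutator_mem_commutator u.2 x.2))).2 _
        (mem_inf.mp (hWZ (commutator_mem_commutator v.2 x.2))).1
    have e : ⁅(u : G) * (v : G), (x : G)⁆ =
        ((u : G) * ⁅(v : G), (x : G)⁆ * (u : G)⁻¹) * ⁅(u : G), (x : G)⁆ := by
      simp only [commutatorElement_def]; group
    rw [Subgroup.coe_mul, e, hw, mul_inv_cancel_right, hc, map_mul]
  let Φ : M →* (X →* Wb) := MonoidHom.mk' φ hφmul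
  -- the operators
  let cX : X →* X := (MulAut.conjNormal (H := X) g⁻¹).toMonoidHom
  let cW : Wb →* Wb := (MulAut.conjNormal (H := Wb) (π g)).toMonoidHom
  let L : AddMonoid.End (Additive (X →* Wb)) := MonoidHom.toAdditive (MonoidHom.compHom cW)
  let Rr : AddMonoid.End (Additive (X →* Wb)) := MonoidHom.toAdditive
    (MonoidHom.mk' (fun f : X →* Wb => f.comp cX) fun a b => rfl)
  have hLR : Commute L Rr := AddMonoidHom.ext fun f => rfl
  have hRi : ∀ (k : ℕ) (f : X →* Wb) (x : X),
      Additive.toMul (((Rr - 1) ^ k) (Additive.ofMul f)) x = f ((fun y => y⁻¹ * cX y)^[k] x) := by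
    intro k
    induction k with
    | zero => exact fun f x => rfl
    | succ k ih =>
      intro f x
      rw [pow_succ]
      show Additive.toMul (((Rr - 1) ^ k) ((Rr - 1) (Additive.ofMul f))) x = _
      rw [← ofMul_toMul ((Rr - 1) (Additive.ofMul f)), ih, Function.iterate_succ', Function.comp_apply]
      set y := (fun y => y⁻¹ * cX y)^[k] x
      show f (cX y) / f y = f (y⁻¹ * cX y)
      rw [map_mul, map_inv, div_eq_mul_inv, mul_comm]
  have hLi : ∀ (k : ℕ) (f : X →* Wb) (x : X),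
      Additive.toMul (((L - 1) ^ k) (Additive.ofMul f)) x = (fun w => w⁻¹ * cW w)^[k] (f x) := by
    intro k
    induction k with
    | zero => exact fun f x => rfl
    | succ k ih =>
      intro f x
      rw [pow_succ']
      show Additive.toMul ((L - 1) (((L - 1) ^ k) (Additive.ofMul f))) x = _
      rw [Function.iterate_succ', Function.comp_apply, ← ih]
      set f' := ((L - 1) ^ k) (Additive.ofMul f)
      show cW (Additive.toMul f' x) / Additive.toMul f' x = _
      rw [div_eq_mul_inv, mul_comm]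
  have hXiter : ∀ (k : ℕ) (x : X),
      ((((fun y => y⁻¹ * cX y)^[k] x) : X) : G) ∈ iterCommutator X (Subgroup.zpowers g) k := by
    intro k x
    induction k with
    | zero => exact x.2
    | succ k ih =>
      rw [Function.iterate_succ', Function.comp_apply]
      have := commutator_mem_commutator (inv_mem ih) (inv_mem (mem_zpowers g))
      show _ ∈ ⁅iterCommutator X (Subgroup.zpowers g) k, Subgroup.zpowers g⁆
      simpa [cX, commutatorElement_def, mul_assoc] using this
  have hWiter : ∀ (k : ℕ) (w : Wb), ((((fun y => y⁻¹ * cW y)^[k] w) : Wb) : G ⧸ R) ∈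
      iterCommutator Wb (Subgroup.zpowers (π g)) k := by
    intro k w
    induction k with
    | zero => exact w.2
    | succ k ih =>
      rw [Function.iterate_succ', Function.comp_apply]
      have := commutator_mem_commutator (inv_mem ih) (mem_zpowers (π g))
      show _ ∈ ⁅iterCommutator Wb (Subgroup.zpowers (π g)) k, Subgroup.zpowers (π g)⁆
      simpa [cW, commutatorElement_def, mul_assoc] using this
  have hLj : ∀ F, ((L - 1) ^ j) F = 0 := by
    intro F
    refine Additive.toMul.injective (MonoidHom.ext fun x => Subtype.ext ?_)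
    rw [← ofMul_toMul F, hLi]
    have h1 := hWiter j (Additive.toMul F x)
    have hW' : iterCommutator Wb (Subgroup.zpowers (π g)) j =
        (iterCommutator W (Subgroup.zpowers g) j).map π := (iterCommutator_map' π W g j).symm
    rw [hW'] at h1
    obtain ⟨w, hw, hwx⟩ := h1
    rw [← hwx]
    exact (QuotientGroup.eq_one_iff w).mpr (hZj W R hWR hWZ hw)
  have hRu : ∀ u : M, ((Rr - 1) ^ i) (Additive.ofMul (Φ u)) = 0 := by
    intro u
    refine Additive.toMul.injective (MonoidHom.ext fun x => Subtype.ext ?_)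
    rw [hRi]
    show π ⁅(u : G), _⁆ = 1
    have : ⁅(u : G), (((fun y => y⁻¹ * cX y)^[i] x : X) : G)⁆ = 1 := by
      rw [← mem_bot, ← hMY]
      exact commutator_mem_commutator u.2 (hQi X Y hXY hXQ (hXiter i x))
    rw [this, map_one]
  -- the twisted operator
  set γ : AddMonoid.End (Additive (X →* Wb)) := L * Rr with hγ
  have hγΦ : ∀ u : M, Additive.ofMul (Φ (MulAut.conjNormal g u)) = γ (Additive.ofMul (Φ u)) := by
    intro u
    refine Additive.toMul.injective (MonoidHom.ext fun x => Subtype.ext ?_)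
    show π ⁅((MulAut.conjNormal g u : M) : G), (x : G)⁆ =
      ((cW (φ u (cX x)) : Wb) : G ⧸ R)
    simp only [cW, cX, φ, MulEquiv.coe_toMonoidHom, MulAut.conjNormal_apply, MonoidHom.coe_mk,
      OneHom.coe_mk]
    rw [← map_inv, ← map_mul, ← map_mul]
    congr 1
    simp only [commutatorElement_def]
    group
  have hvanish : ∀ u : M, ((γ - 1) ^ (i + j - 1)) (Additive.ofMul (Φ u)) = 0 := by
    intro u
    exact binom_vanish L Rr hLR i j hLj _ (hRu u)
  let lvl : ℕ → Subgroup G := fun k =>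
    ((MonoidHom.ker (MonoidHom.comp (AddMonoidHom.toMultiplicative
      (((γ - 1) ^ k : AddMonoid.End (Additive (X →* Wb))) : Additive (X →* Wb) →+ Additive (X →* Wb))) Φ))).map M.subtype
  have hstep : ∀ k, ⁅lvl (k + 1), Subgroup.zpowers g⁆ ≤ lvl k := by
    intro k
    rw [commutator_le]
    rintro _ ⟨u, hu, rfl⟩ h hh
    obtain ⟨m, rfl⟩ := ((isOfFinOrder_of_finite g).mem_powers_iff_mem_zpowers).mpr hh
    refine ⟨u * MulAut.conjNormal (g ^ m) u⁻¹, ?_, ?_⟩
    · rw [SetLike.mem_coe, MonoidHom.mem_ker]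
      show ((γ - 1) ^ k) (Additive.ofMul (Φ (u * MulAut.conjNormal (g ^ m) u⁻¹))) = 0
      have hpow : ∀ (m : ℕ) (u : M), Additive.ofMul (Φ (MulAut.conjNormal (g ^ m) u)) =
          (γ ^ m) (Additive.ofMul (Φ u)) := by
        intro m
        induction m with
        | zero => intro u; simp
        | succ m ihm =>
          intro u
          rw [pow_succ, map_mul, MulAut.mul_apply, ihm, hγΦ, ← Function.comp_apply (f := ⇑(γ ^ m)),
            ← AddMonoid.End.coe_mul, ← pow_succ]
      have hu' : ((γ - 1) ^ (k + 1)) (Additive.ofMul (Φ u)) = 0 := hu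
      rw [map_mul Φ, ofMul_mul, hpow, map_inv Φ, ofMul_inv, map_neg, ← sub_eq_add_neg]
      exact level_step γ k m _ hu'
    · show (u : G) * (g ^ m * (u : G)⁻¹ * (g ^ m)⁻¹) = ⁅(u : G), g ^ m⁆
      rw [commutatorElement_def]; group
  have hiter : ∀ l k, iterCommutator (lvl (l + k)) (Subgroup.zpowers g) l ≤ lvl k := by
    intro l
    induction l with
    | zero => intro k; rw [Nat.zero_add]; exact le_rfl
    | succ l ih =>
      intro k
      refine le_trans (commutator_mono ?_ le_rfl) (hstep k)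
      have := ih (k + 1)
      rwa [show l + (k + 1) = l + 1 + k by omega] at this
  have hK : lvl 0 ≤ V := by
    have hKn : (lvl 0).Normal := by
      refine ⟨fun y hy h => ?_⟩
      obtain ⟨u, hu, rfl⟩ := hy
      refine ⟨MulAut.conjNormal h u, ?_, rfl⟩
      have hu' : Φ u = 1 := hu
      show Φ (MulAut.conjNormal h u) = 1
      refine MonoidHom.ext fun x => Subtype.ext ?_
      have hz := congrArg Subtype.val (DFunLike.congr_fun hu' (MulAut.conjNormal h⁻¹ x))
      change π ⁅(u : G), ((MulAut.conjNormal h⁻¹ x : X) : G)⁆ = 1 at hz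
      show π ⁅((MulAut.conjNormal h u : M) : G), (x : G)⁆ = 1
      rw [QuotientGroup.mk'_apply, QuotientGroup.eq_one_iff] at hz ⊢
      have := hR.1.conj_mem _ hz h
      simpa [commutatorElement_def, mul_assoc] using this
    haveI := hKn
    have hle : lvl 0 ≤ M := map_subtype_le _
    rcases hUV.2.2.2 (lvl 0 ⊔ V) inferInstance le_sup_right
      (sup_le (hle.trans hMU) hUV.1.le) with h | h
    · exact h ▸ le_sup_left
    · exfalso
      have hMle : M ≤ lvl 0 := hMmin ⟨hKn, hle.trans hMU, h.ge⟩ hle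
      refine hR.2.not_ge (commutator_le.mpr fun u hu x hx => ?_)
      obtain ⟨u', hu', rfl⟩ := hMle hu
      have hz := congrArg Subtype.val (DFunLike.congr_fun (show Φ u' = 1 from hu') ⟨x, hx⟩)
      change π ⁅(u' : G), x⁆ = 1 at hz
      rwa [QuotientGroup.mk'_apply, QuotientGroup.eq_one_iff] at hz
  refine iterCommutator_le_of_le_sup hUM ?_
  have htop : M ≤ lvl (i + j - 1) := fun u hu => ⟨⟨u, hu⟩, hvanish ⟨u, hu⟩, rfl⟩
  have hmono : ∀ k, iterCommutator M (Subgroup.zpowers g) k ≤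
      iterCommutator (lvl (i + j - 1)) (Subgroup.zpowers g) k := by
    intro k
    induction k with
    | zero => exact htop
    | succ k ih => exact commutator_mono ih le_rfl
  exact ((hmono _).trans (hiter (i + j - 1) 0)).trans hK

theorem chiefFactor_inf {U V Q : Subgroup G} [Q.Normal] (hUV : IsChiefFactor U V)
    (h : U ≤ V ⊔ Q) : IsChiefFactor (U ⊓ Q) (V ⊓ Q) ∧ U ≤ (U ⊓ Q) ⊔ V := by
  haveI := hUV.2.1
  haveI := hUV.2.2.1
  have hdec : U ≤ (U ⊓ Q) ⊔ V := fun u hu => by
    obtain ⟨v, hv, q, hq, rfl⟩ := mem_sup_of_normal_right.mp (h hu)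
    refine mul_mem (mem_sup_right hv) (mem_sup_left (mem_inf.mpr ⟨?_, hq⟩))
    simpa using mul_mem (inv_mem (hUV.1.le hv)) hu
  refine ⟨⟨lt_of_le_of_ne (inf_le_inf_right _ hUV.1.le) fun e => hUV.1.not_ge
    (hdec.trans (sup_le (e ▸ inf_le_left) le_rfl)), inferInstance, inferInstance,
    fun N hN hVN hNU => ?_⟩, hdec⟩
  haveI := hN
  rcases hUV.2.2.2 (N ⊔ V) inferInstance le_sup_right
    (sup_le (hNU.trans inf_le_left) hUV.1.le) with h' | h'
  · exact Or.inl (le_antisymm (le_inf (h' ▸ le_sup_left) (hNU.trans inf_le_right)) hVN)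
  · refine Or.inr (le_antisymm hNU fun u hu => ?_)
    obtain ⟨n, hn, v, hv, rfl⟩ := mem_sup_of_normal_right.mp (h'.ge (mem_inf.mp hu).1)
    refine mul_mem hn (hVN (mem_inf.mpr ⟨hv, ?_⟩))
    simpa using mul_mem (inv_mem (mem_inf.mp (hNU hn)).2) (mem_inf.mp hu).2

/-- Degrees on a `p`-group from those on a subgroup containing its centralizer. -/
theorem degree_of_critical {p : ℕ} [Fact p.Prime] (P : Subgroup G) [P.Normal] (hP : IsPGroup p P)
    (Q : Subgroup G) [Q.Normal] (hQP : Q ≤ P)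
    (hQ3 : ⁅P, Q⁆ ≤ Q ⊓ Subgroup.centralizer (Q : Set G))
    (hQ4 : P ⊓ Subgroup.centralizer (Q : Set G) ≤ Q) (g : G) (i j : ℕ) (hj : 1 ≤ j)
    (hQi : ∀ U V : Subgroup G, IsChiefFactor U V → U ≤ Q →
      iterCommutator U (Subgroup.zpowers g) i ≤ V)
    (hZj : ∀ U V : Subgroup G, IsChiefFactor U V → U ≤ Q ⊓ Subgroup.centralizer (Q : Set G) →
      iterCommutator U (Subgroup.zpowers g) j ≤ V) :
    ∀ U V : Subgroup G, IsChiefFactor U V → U ≤ P →
      iterCommutator U (Subgroup.zpowers g) (i + j - 1) ≤ V := by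
  intro U V hUV hU
  haveI := hUV.2.2.1
  rcases chief_inter (Z := Q) hUV with h | h
  · obtain ⟨hc, hdec⟩ := chiefFactor_inf hUV h
    exact iterCommutator_le_of_le_sup hdec
      (iterCommutator_le_of_normal ((hQi _ _ hc inf_le_right).trans inf_le_left) (by omega))
  · exact degree_above P hP Q hQP hQ3 hQ4 g i j hQi hZj hUV hU h

end CfsgLib.Techniques
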