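import Cfsg.Prelude.Def_ClassificationK
import Cfsg.Agent.Lib.Signalizer.OrderFormula
import Mathlib.GroupTheory.Nilpotent

/-!
A `2`-group of symplectic type and exponent four has commutators and squares in a central subgroup of
order two.
-/

set_option autoImplicit false

namespace CfsgLib.Techniques

open Subgroup
open scoped commutatorElement

variable {Q : Type*} [Group Q]

theorem sq_sq_eq_one (h4 : ∀ q : Q, q ^ 4 = 1) (x : Q) : x * x * (x * x) = 1 := by
  rw [← h4 x, ← sq, ← sq, ← pow_mul]

theorem sq_eq_one_aux (h4 : ∀ q : Q, q ^ 4 = 1) {u y j : Q} (hj : u * y * u⁻¹ = j * y)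
    (hu : u * j * u⁻¹ = j ∨ u * j * u⁻¹ = j⁻¹) (hy : y * j = j * y) : j * j = 1 := by
  have hj4 : j * j * (j * j) = 1 := sq_sq_eq_one h4 j
  have hj2i : (j * j)⁻¹ = j * j := inv_eq_of_mul_eq_one_right hj4
  have huy : u * y = j * y * u := by rw [← hj]; group
  have hyy : Commute j (y * y) := (show Commute j y from hy.symm).mul_right (show Commute j y from hy.symm)
  have huu : Commute j (u * u) := by
    refine (mul_inv_eq_iff_eq_mul.1 ?_).symm
    rw [show u * u * j * (u * u)⁻¹ = u * (u * j * u⁻¹) * u⁻¹ by group]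
    rcases hu with h | h <;> rw [h]
    · exact h
    · rw [← conj_inv, h, inv_inv]
  -- the square of `u y`
  have hsq : ∃ e, (e = j ∨ e = j * j * j) ∧ u * y * (u * y) = e * (y * y) * (u * u) ∧
      Commute (u * u) (y * y) := by
    rcases hu with h | h
    · have h1 : u * u * y = j * j * y * (u * u) := by
        calc u * u * y = u * (u * y) := mul_assoc _ _ _
          _ = u * (j * y * u) := by rw [huy]
          _ = (u * j * u⁻¹) * (u * y) * u := by group
          _ = j * j * y * (u * u) := by rw [h, huy]; group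
      have hc2 : Commute y (j * j) := (show Commute y j from hy).mul_right (show Commute y j from hy)
      refine ⟨j * j * j, Or.inr rfl, ?_, ?_⟩
      · calc u * y * (u * y) = (j * y * u) * (u * y) := by rw [← huy]
          _ = j * y * (u * u * y) := by group
          _ = j * (y * (j * j)) * y * (u * u) := by rw [h1]; group
          _ = j * ((j * j) * y) * y * (u * u) := by rw [hc2.eq]
          _ = j * j * j * (y * y) * (u * u) := by group
      · calc u * u * (y * y) = (u * u * y) * y := by group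
          _ = j * j * y * (u * u) * y := by rw [h1]
          _ = j * j * y * (u * u * y) := by simp only [mul_assoc]
          _ = j * j * (y * (j * j)) * y * (u * u) := by rw [h1]; group
          _ = j * j * ((j * j) * y) * y * (u * u) := by rw [hc2.eq]
          _ = (j * j * (j * j)) * (y * y) * (u * u) := by group
          _ = y * y * (u * u) := by rw [hj4, one_mul]
    · have h1 : u * u * y = y * (u * u) := by
        calc u * u * y = u * (u * y) := mul_assoc _ _ _
          _ = u * (j * y * u) := by rw [huy]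
          _ = (u * j * u⁻¹) * (u * y) * u := by group
          _ = y * (u * u) := by rw [h, huy]; group
      refine ⟨j, Or.inl rfl, ?_, ?_⟩
      · calc u * y * (u * y) = (j * y * u) * (u * y) := by rw [← huy]
          _ = j * y * (u * u * y) := by group
          _ = j * (y * y) * (u * u) := by rw [h1]; group
      · exact (show Commute (u * u) y from h1).mul_right (show Commute (u * u) y from h1)
  obtain ⟨e, he, heq, hc⟩ := hsq
  have hce : Commute e (y * y) ∧ Commute e (u * u) := by
    rcases he with rfl | rfl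
    · exact ⟨hyy, huu⟩
    · exact ⟨(hyy.mul_left hyy).mul_left hyy, (huu.mul_left huu).mul_left huu⟩
  have h := sq_sq_eq_one h4 (u * y)
  rw [heq] at h
  have hcu : Commute (u * u) (e * (y * y)) := hce.2.symm.mul_right hc
  have h2 : e * (y * y) * (e * (y * y)) = e * e * ((y * y) * (y * y)) := Commute.mul_mul_mul_comm hce.1.symm e (y * y)
  have h' : e * e * ((y * y) * (y * y)) * ((u * u) * (u * u)) = 1 := by
    rw [← h2, ← Commute.mul_mul_mul_comm hcu (e * (y * y)) (u * u)]
    exact h
  rw [sq_sq_eq_one h4 y, sq_sq_eq_one h4 u, mul_one, mul_one] at h'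
  rcases he with rfl | rfl
  · exact h'
  · rw [show j * j * j * (j * j * j) = (j * j * (j * j)) * (j * j) by group, hj4, one_mul] at h'
    exact h'

/-- In a group of exponent four no commutator of order four spans a normal subgroup. -/
theorem commutator_sq_eq_one (h4 : ∀ q : Q, q ^ 4 = 1) {u y : Q}
    (hn : ∀ x : Q, x * ⁅u, y⁆ * x⁻¹ = ⁅u, y⁆ ∨ x * ⁅u, y⁆ * x⁻¹ = ⁅u, y⁆⁻¹) :
    ⁅u, y⁆ * ⁅u, y⁆ = 1 := by
  set j := ⁅u, y⁆ with hj
  have hjy : u * y * u⁻¹ = j * y := by rw [hj, commutatorElement_def]; group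
  rcases hn y with h | h
  · exact sq_eq_one_aux h4 hjy (hn u) (mul_inv_eq_iff_eq_mul.1 h)
  rcases hn u with h' | h'
  · have hji : y * u * y⁻¹ = j⁻¹ * u := by rw [hj, commutatorElement_def]; group
    have h2 := sq_eq_one_aux h4 hji (Or.inr (by rw [← conj_inv, h, inv_inv]))
      (show Commute u j from mul_inv_eq_iff_eq_mul.1 h').inv_right.eq
    rw [← mul_inv_rev, inv_eq_one] at h2
    exact h2
  · have hc : u * (u * y) * u⁻¹ = j⁻¹ * (u * y) := by
      rw [← h']
      rw [hj, commutatorElement_def]; group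
    have h2 := sq_eq_one_aux h4 hc (Or.inr (by rw [← conj_inv, h', inv_inv]))
      (mul_inv_eq_iff_eq_mul.1 (by
        rw [show u * y * j⁻¹ * (u * y)⁻¹ = u * (y * j⁻¹ * y⁻¹) * u⁻¹ by group, ← conj_inv, h, inv_inv, h']))
    rw [← mul_inv_rev, inv_eq_one] at h2
    exact h2

/-- Symplectic type and exponent four: the commutators and squares lie in the centre's group of order two. -/
theorem symplectic_exponent_four [Finite Q] (hQ : Cfsg.IsOfSymplecticType Q) (h4 : ∀ q : Q, q ^ 4 = 1)
    {z : Q} (hz : z ∈ center Q) (hzz : z * z = 1) (hz1 : z ≠ 1) :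
    (∀ a b : Q, ⁅a, b⁆ = 1 ∨ ⁅a, b⁆ = z) ∧ ∀ a : Q, a * a = 1 ∨ a * a = z := by
  classical
  obtain ⟨hp, hchar⟩ := hQ
  haveI : Fact (Nat.Prime 2) := ⟨Nat.prime_two⟩
  haveI := hp.isNilpotent
  -- central elements of order two
  have huniq : ∀ c ∈ center Q, c * c = 1 → c = 1 ∨ c = z := by
    intro c hc hcc
    by_cases hc1 : c = 1
    · exact Or.inl hc1
    obtain ⟨⟨w, hw⟩, hgen⟩ := (hchar (center Q) inferInstance inferInstance).exists_generator
    have hin : ∀ x ∈ center Q, x ∈ zpowers w := fun x hx => by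
      obtain ⟨i, hi⟩ := mem_zpowers_iff.1 (hgen ⟨x, hx⟩)
      exact mem_zpowers_iff.2 ⟨i, congrArg Subtype.val hi⟩
    exact Or.inr (CfsgLib.Signalizer.unique_involution_in_zpowers (hin c hc) (hin z hz)
      (orderOf_eq_prime (by rw [sq]; exact hcc) hc1) (orderOf_eq_prime (by rw [sq]; exact hzz) hz1))
  -- class at most two
  have hclass : Subgroup.lowerCentralSeries (⊤ : Subgroup Q) 1 ≤ center Q := by
    by_contra hne
    obtain ⟨c, hc⟩ := (Subgroup.nilpotent_iff_lowerCentralSeries (G := Q)).1 inferInstance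
    have hex : ∃ m, Subgroup.lowerCentralSeries (⊤ : Subgroup Q) (m + 1) ≤ center Q :=
      ⟨c, le_trans (le_trans (Subgroup.lowerCentralSeries_antitone _ (Nat.le_succ c)) hc.le) bot_le⟩
    obtain ⟨m, hm⟩ : ∃ m, Nat.find hex = m + 1 := ⟨Nat.find hex - 1, by
      have : Nat.find hex ≠ 0 := fun h => hne (by
        have h' := Nat.find_spec hex
        rw [h] at h'
        exact h')
      omega⟩
    have hspec := Nat.find_spec hex
    rw [hm] at hspec
    have hnot : ¬ Subgroup.lowerCentralSeries (⊤ : Subgroup Q) (m + 1) ≤ center Q := Nat.find_min hex (by omega)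
    set L := Subgroup.lowerCentralSeries (⊤ : Subgroup Q) (m + 1) with hL
    have hL1 : L ≤ Subgroup.lowerCentralSeries (⊤ : Subgroup Q) 1 :=
      Subgroup.lowerCentralSeries_antitone _ (by omega)
    have hLQ : ∀ a ∈ L, ∀ x : Q, ⁅a, x⁆ ∈ center Q := fun a ha x =>
      hspec (Subgroup.commutator_mem_commutator ha (mem_top x))
    -- `L` is abelian
    have hLc : ∀ a ∈ L, ∀ b ∈ Subgroup.lowerCentralSeries (⊤ : Subgroup Q) 1, a * b = b * a := by
      intro a ha b hb
      let f : Q →* center Q := MonoidHom.mk' (fun x => ⟨⁅a, x⁆, hLQ a ha x⟩) fun x y => Subtype.ext (by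
        show ⁅a, x * y⁆ = ⁅a, x⁆ * ⁅a, y⁆
        have h := mem_center_iff.1 (hLQ a ha y) x
        rw [show ⁅a, x * y⁆ = ⁅a, x⁆ * (x * ⁅a, y⁆ * x⁻¹) by simp only [commutatorElement_def]; group, h,
          mul_inv_cancel_right])
      have hker : Subgroup.lowerCentralSeries (⊤ : Subgroup Q) 1 ≤ f.ker := by
        rw [Subgroup.top_lowerCentralSeries_one, _root_.commutator_def, Subgroup.commutator_le]
        intro p _ q _
        rw [MonoidHom.mem_ker, map_commutatorElement, commutatorElement_eq_one_iff_mul_comm]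
        exact Subtype.ext (mem_center_iff.1 (f q).2 _)
      exact commutatorElement_eq_one_iff_mul_comm.1 (congrArg Subtype.val (MonoidHom.mem_ker.1 (hker hb)))
    haveI hLn : L.Normal := inferInstance
    haveI : IsMulCommutative L := ⟨⟨fun a b => Subtype.ext (hLc a a.2 b (hL1 b.2))⟩⟩
    obtain ⟨⟨w, hw⟩, hgen⟩ := (hchar L inferInstance inferInstance).exists_generator
    have hin : ∀ x ∈ L, x ∈ zpowers w := fun x hx => by
      obtain ⟨i, hi⟩ := mem_zpowers_iff.1 (hgen ⟨x, hx⟩)
      exact mem_zpowers_iff.2 ⟨i, congrArg Subtype.val hi⟩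
    have hpw : ∀ x ∈ L, x = 1 ∨ x = w ∨ x = w * w ∨ x = w⁻¹ := by
      intro x hx
      obtain ⟨i, rfl⟩ := mem_zpowers_iff.1 (hin x hx)
      have h4w : w ^ (4 : ℤ) = 1 := by rw [show (4 : ℤ) = ((4 : ℕ) : ℤ) from rfl, zpow_natCast, h4]
      have key : w ^ i = w ^ (i % 4) := by
        conv_lhs => rw [← Int.emod_add_mul_ediv i 4, zpow_add, zpow_mul, h4w, one_zpow, mul_one]
      have h0 := Int.emod_nonneg i (show (4 : ℤ) ≠ 0 by norm_num)
      have h3 := Int.emod_lt_of_pos i (show (0 : ℤ) < 4 by norm_num)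
      rw [key]
      interval_cases (i % 4)
      · exact Or.inl (zpow_zero w)
      · exact Or.inr (Or.inl (zpow_one w))
      · exact Or.inr (Or.inr (Or.inl (zpow_two w)))
      · exact Or.inr (Or.inr (Or.inr (eq_inv_of_mul_eq_one_left (by rw [← h4w]; group))))
    -- commutators in `L` square to one
    have hww : w * w = 1 ∨ ∀ x ∈ L, x * x ≠ 1 → x = w ∨ x = w⁻¹ := by
      by_cases h : w * w = 1
      · exact Or.inl h
      · refine Or.inr fun x hx hxx => ?_
        have hw4 : w * w * (w * w) = 1 := sq_sq_eq_one h4 w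
        rcases hpw x hx with rfl | rfl | rfl | rfl
        · exact absurd (one_mul 1) hxx
        · exact Or.inl rfl
        · exact absurd hw4 hxx
        · exact Or.inr rfl
    have hgenle : L ≤ center Q := by
      rw [hL, Subgroup.lowerCentralSeries_succ, Subgroup.commutator_def, Subgroup.closure_le]
      rintro q ⟨u, hu, y, -, rfl⟩
      have huy : ⁅u, y⁆ ∈ L := Subgroup.commutator_mem_commutator hu (mem_top y)
      have hsq : ⁅u, y⁆ * ⁅u, y⁆ = 1 := by
        by_contra hne2
        have hwn : w * w ≠ 1 := fun h => by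
          rcases hpw _ huy with e | e | e | e <;> rw [e] at hne2
          · exact hne2 (one_mul 1)
          · exact hne2 h
          · exact hne2 (by rw [h, one_mul])
          · exact hne2 (by rw [← mul_inv_rev, h, inv_one])
        refine hne2 (commutator_sq_eq_one h4 fun x => ?_)
        have hx := hLn.conj_mem _ huy x
        have hxx : x * ⁅u, y⁆ * x⁻¹ * (x * ⁅u, y⁆ * x⁻¹) ≠ 1 := fun e => hne2 (by
          rw [conj_mul, conj_eq_one_iff] at e; exact e)
        rcases hww.resolve_left hwn _ huy hne2 with e | e <;>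
          rcases hww.resolve_left hwn _ hx hxx with e' | e' <;> rw [e] at e' ⊢
        · exact Or.inl e'
        · exact Or.inr e'
        · exact Or.inr (by rw [inv_inv]; exact e')
        · exact Or.inl e'
      -- the conjugates of an involution in a cyclic group
      rw [SetLike.mem_coe, mem_center_iff]
      intro x
      refine (mul_inv_eq_iff_eq_mul.1 ?_)
      by_cases h1 : ⁅u, y⁆ = 1
      · rw [h1, mul_one, mul_inv_cancel]
      exact CfsgLib.Signalizer.unique_involution_in_zpowers (hin _ (hLn.conj_mem _ huy x)) (hin _ huy)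
        (orderOf_eq_prime (by rw [sq, conj_mul, hsq]; simp) (fun e => h1 (conj_eq_one_iff.1 e)))
        (orderOf_eq_prime (by rw [sq]; exact hsq) h1)
    exact hnot hgenle
  have hcomm : ∀ a b : Q, ⁅a, b⁆ ∈ center Q := fun a b => hclass (by
    rw [Subgroup.top_lowerCentralSeries_one]
    exact Subgroup.commutator_mem_commutator (mem_top a) (mem_top b))
  have hc2 : ∀ a b : Q, ⁅a, b⁆ * ⁅a, b⁆ = 1 := fun a b => commutator_sq_eq_one h4 fun x =>
    Or.inl (by rw [mem_center_iff.1 (hcomm a b) x, mul_inv_cancel_right])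
  refine ⟨fun a b => huniq _ (hcomm a b) (hc2 a b), fun a => huniq _ (mem_center_iff.2 fun b => ?_) ?_⟩
  · have h : a * b * a⁻¹ = ⁅a, b⁆ * b := by rw [commutatorElement_def]; group
    refine (mul_inv_eq_iff_eq_mul.1 ?_).symm
    rw [show a * a * b * (a * a)⁻¹ = a * (a * b * a⁻¹) * a⁻¹ by group, h,
      show a * (⁅a, b⁆ * b) * a⁻¹ = a * ⁅a, b⁆ * a⁻¹ * (a * b * a⁻¹) by group,
      mem_center_iff.1 (hcomm a b) a, mul_inv_cancel_right, h, ← mul_assoc, hc2, one_mul]
  · exact sq_sq_eq_one h4 a

end CfsgLib.Techniques
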