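import Cfsg.Prelude.Def_Classification2

/-!
The list of known simple groups is invariant under isomorphism; sections of proper subgroups of a
K-proper group are K-groups.
-/

namespace CfsgLib.Techniques

theorem nonempty_mulEquiv_congr {G H X : Type*} [Mul G] [Mul H] [Mul X] (e : G ≃* H) :
    Nonempty (G ≃* X) ↔ Nonempty (H ≃* X) :=
  ⟨fun ⟨f⟩ => ⟨e.symm.trans f⟩, fun ⟨f⟩ => ⟨e.trans f⟩⟩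

theorem isKnownSimple'_congr {G : Type*} {H : Type*} [Group G] [Group H] (e : G ≃* H) :
    Cfsg.IsKnownSimple' G ↔ Cfsg.IsKnownSimple' H := by
  unfold Cfsg.IsKnownSimple' Cfsg.IsPrimeCyclic Cfsg.IsAlternating Cfsg.IsPSL Cfsg.IsPSp Cfsg.IsPSU
    Cfsg.IsPOmegaOdd Cfsg.IsPOmegaPlus Cfsg.IsPOmegaMinus Cfsg.IsExceptionalLieType Cfsg.IsSporadicGroup
    Cfsg.Lie.IsoChevG2 Cfsg.Lie.IsoF4 Cfsg.Lie.IsoChevE6 Cfsg.Lie.IsoE7 Cfsg.Lie.IsoE8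
    Cfsg.Lie.Iso2E6 Cfsg.Lie.Iso3D4 Cfsg.Lie.Iso2F4 Cfsg.Lie.IsoRee Cfsg.Lie.IsoSuzuki Cfsg.Lie.IsoTits
    Cfsg.Spor.IsoM11 Cfsg.Spor.IsoM12 Cfsg.Spor.IsoM22 Cfsg.Spor.IsoM23 Cfsg.Spor.IsoM24
    Cfsg.Spor.IsoJ1 Cfsg.Spor.IsoJ2 Cfsg.Spor.IsoJ3 Cfsg.Spor.IsoJ4
    Cfsg.Spor.IsoCo1 Cfsg.Spor.IsoCo2 Cfsg.Spor.IsoCo3 Cfsg.Spor.IsoMcL Cfsg.Spor.IsoHS Cfsg.Spor.IsoSuz
    Cfsg.Spor.IsoHe Cfsg.Spor.IsoRu Cfsg.Spor.IsoON Cfsg.Spor.IsoLy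
    Cfsg.Spor.IsoFi22 Cfsg.Spor.IsoFi23 Cfsg.Spor.IsoFi24'
    Cfsg.Spor.IsoHN Cfsg.Spor.IsoTh Cfsg.Spor.IsoB Cfsg.Spor.IsoM
    Cfsg.Lie.ChevalleyDatum.IsGroupOver
  simp only [nonempty_mulEquiv_congr e, Nat.card_congr e.toEquiv]

end CfsgLib.Techniques
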