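import Mathlib.GroupTheory.Nilpotent
import Mathlib.GroupTheory.PGroup
import Mathlib.GroupTheory.Index
import Mathlib.Algebra.Group.ForwardDiff
import Mathlib.Algebra.BigOperators.Group.Finset.Basic
import Mathlib.Data.Int.GCD
import Mathlib.Data.Nat.Choose.Dvd
import Mathlib.Tactic.Ring
import Mathlib.Tactic.LinearCombination
import Mathlib.FieldTheory.Finite.Basic
import Mathlib.GroupTheory.Sylow

/-!
Products over a set acted on by a `p`-group, and the identity between a sum of `p` consecutive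
terms and an iterated difference.
-/

namespace CfsgLib.Techniques

open scoped fwdDiff

section Diff

variable {A : Type*} [AddCommGroup A]

/-- In exponent `p`, the sum of `p` consecutive terms is an iterated difference. -/
theorem sum_range_eq_fwdDiff {p : ℕ} [hp : Fact p.Prime] (g : ℕ → A) (hg : ∀ k, p • g k = 0) :
    ∑ k ∈ Finset.range p, g k = Δ_[1]^[p - 1] g 0 := by
  rw [fwdDiff_iter_eq_sum_shift, Nat.sub_add_cancel hp.out.one_le]
  refine Finset.sum_congr rfl fun k hk => ?_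
  have hk' : k ≤ p - 1 := Nat.le_sub_one_of_lt (Finset.mem_range.mp hk)
  have hc : ((((p - 1).choose k : ℕ) : ℤ) : ZMod p) = (-1) ^ k := by
    have : ∀ j, j ≤ p - 1 → ((((p - 1).choose j : ℕ) : ℤ) : ZMod p) = (-1) ^ j := by
      intro j
      induction j with
      | zero => simp
      | succ j ih =>
        intro hj
        have h1 : (((p.choose (j + 1) : ℕ) : ℤ) : ZMod p) = 0 := by
          rw [Int.cast_natCast, ZMod.natCast_eq_zero_iff]
          exact Nat.Prime.dvd_choose_self (show p.Prime from Fact.out) (Nat.succ_ne_zero j) (by omega)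
        have h2 : p.choose (j + 1) = (p - 1).choose j + (p - 1).choose (j + 1) := by
          conv_lhs => rw [← Nat.sub_add_cancel hp.out.one_le, Nat.choose_succ_succ]
        rw [h2, Nat.cast_add, Int.cast_add, ih (by omega)] at h1
        rw [pow_succ, mul_neg_one]
        linear_combination h1
    exact this k hk'
  have hd : (p : ℤ) ∣ (-1 : ℤ) ^ (p - 1 - k) * ((p - 1).choose k : ℤ) - 1 := by
    rw [← ZMod.intCast_zmod_eq_zero_iff_dvd]
    rw [Int.cast_sub, Int.cast_mul, hc, Int.cast_one, Int.cast_pow, Int.cast_neg, Int.cast_one,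
      ← pow_add, Nat.sub_add_cancel hk', sub_eq_zero]
    have hf := ZMod.pow_card_sub_one_eq_one (p := p) (a := (-1 : ZMod p)) (by simp)
    exact hf
  obtain ⟨c, hc'⟩ := hd
  have e : (-1 : ℤ) ^ (p - 1 - k) * ((p - 1).choose k : ℤ) = (p : ℤ) * c + 1 := by omega
  rw [e, add_zsmul, one_zsmul, mul_zsmul', natCast_zsmul, hg, smul_zero, zero_add, zero_add,
    smul_eq_mul, mul_one]

end Diff

variable {B : Type*} [Group B] [Finite B] {p : ℕ} [Fact p.Prime] {α : Type*} [MulAction B α]
  [DecidableEq α] {M : Type*} [CommMonoid M]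

/-- Products over orbits vanish when they do along the orbits of enough single elements. -/
theorem prod_eq_one_of_no_fixed (hB : IsPGroup p B) (U : Set B)
    (hU : Subgroup.closure U = ⊤) (P : α → M)
    (hP : ∀ u ∈ U, ∀ a : α, ∏ i ∈ Finset.range p, P (u ^ i • a) = 1) (s : Finset α)
    (hs : ∀ b : B, ∀ a ∈ s, b • a ∈ s) (hfix : ∀ a ∈ s, a ∉ MulAction.fixedPoints B α) :
    ∏ a ∈ s, P a = 1 := by
  classical
  induction s using Finset.strongInduction with
  | _ s ih => ?_
  rcases s.eq_empty_or_nonempty with rfl | ⟨a, ha⟩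
  · simp
  haveI : Fintype B := Fintype.ofFinite B
  set O := Finset.univ.image (fun b : B => b • a) with hO
  have hOs : O ⊆ s := fun x hx => by
    obtain ⟨b, -, rfl⟩ := Finset.mem_image.mp hx
    exact hs b a ha
  rw [← Finset.prod_sdiff hOs, ih (s \ O) (Finset.sdiff_ssubset hOs
      ⟨a, Finset.mem_image.mpr ⟨1, Finset.mem_univ _, one_smul _ a⟩⟩)
    (fun b x hx => by
      obtain ⟨h1, h2⟩ := Finset.mem_sdiff.mp hx
      refine Finset.mem_sdiff.mpr ⟨hs b x h1, fun h3 => h2 ?_⟩
      obtain ⟨c, -, hc⟩ := Finset.mem_image.mp h3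
      exact Finset.mem_image.mpr ⟨b⁻¹ * c, Finset.mem_univ _, by rw [mul_smul, hc, inv_smul_smul]⟩)
    (fun x hx => hfix x (Finset.mem_sdiff.mp hx).1), one_mul]
  obtain h | ⟨B₀, hB₀, hle⟩ := eq_top_or_exists_le_coatom (MulAction.stabilizer B a)
  · exact absurd (fun b => MulAction.mem_stabilizer_iff.mp (h ▸ Subgroup.mem_top b)) (hfix a ha)
  haveI : Group.IsNilpotent B := hB.isNilpotent
  haveI : B₀.Normal :=
    Subgroup.NormalizerCondition.normal_of_coatom _ Group.normalizerCondition_of_isNilpotent hB₀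
  obtain ⟨u, huU, hu⟩ : ∃ u ∈ U, u ∉ B₀ := by
    by_contra hne
    push Not at hne
    exact hB₀.1 (top_le_iff.mp (hU ▸ (Subgroup.closure_le B₀).mpr hne))
  have hgen : ∀ v : B, v ∉ B₀ → ∀ b : B, ∃ j : ℤ, ∃ b₀ ∈ B₀, b = v ^ j * b₀ := by
    intro v hv b
    have hlt : B₀ < Subgroup.zpowers v ⊔ B₀ := by
      refine lt_of_le_of_ne le_sup_right fun he => hv ?_
      rw [he]
      exact Subgroup.mem_sup_left (Subgroup.mem_zpowers v)
    obtain ⟨_, ⟨j, rfl⟩, b₀, hb₀, rfl⟩ :=
      Subgroup.mem_sup_of_normal_right.mp ((hB₀.2 _ hlt).symm ▸ Subgroup.mem_top b)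
    exact ⟨j, b₀, hb₀, rfl⟩
  have hup : u ^ p ∈ B₀ := by
    by_contra hv
    obtain ⟨j, b₀, hb₀, he⟩ := hgen _ hv u
    refine hu ?_
    have h1 : u ^ (1 - (p : ℤ) * j) ∈ B₀ := by
      have e : u ^ (1 - (p : ℤ) * j) = b₀ := by
        rw [sub_eq_neg_add, zpow_add, zpow_one, zpow_neg]
        conv_lhs => enter [2]; rw [he]
        rw [zpow_mul, zpow_natCast, inv_mul_cancel_left]
      rwa [e]
    obtain ⟨k, hk⟩ := isPGroup_iff_orderOf_dvd_pow.mp hB u
    have hcop : IsCoprime (1 - (p : ℤ) * j) ((p : ℤ) ^ k) :=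
      (IsCoprime.pow_right ⟨1, j, by ring⟩)
    obtain ⟨x, y, hxy⟩ := hcop
    have h0 : u ^ ((p : ℤ) ^ k) = 1 := by
      rw [← Nat.cast_pow, zpow_natCast]
      exact orderOf_dvd_iff_pow_eq_one.mp hk
    have : u = (u ^ (1 - (p : ℤ) * j)) ^ x :=
      calc u = u ^ ((1 - (p : ℤ) * j) * x + (p : ℤ) ^ k * y) := by
            rw [mul_comm _ x, mul_comm _ y, hxy, zpow_one]
        _ = (u ^ (1 - (p : ℤ) * j)) ^ x := by
            rw [zpow_add, zpow_mul, zpow_mul, h0, one_zpow, mul_one]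
    rw [this]
    exact zpow_mem h1 x
  set O₀ := (Finset.univ.filter (· ∈ B₀)).image (fun b : B => b • a) with hO₀
  have hmem : ∀ y, y ∈ O₀ ↔ ∃ b₀ ∈ B₀, b₀ • a = y := fun y => by simp [hO₀]
  have key : ∏ a ∈ O, P a = ∏ x ∈ Finset.range p ×ˢ O₀, P (u ^ x.1 • x.2) := by
    symm
    refine Finset.prod_nbij (fun x => u ^ x.1 • x.2) ?_ ?_ ?_ (fun x _ => rfl)
    · intro x hx
      obtain ⟨b, -, hb⟩ := (hmem _).mp (Finset.mem_product.mp hx).2
      exact Finset.mem_image.mpr ⟨u ^ x.1 * b, Finset.mem_univ _, by rw [mul_smul, hb]⟩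
    · rintro ⟨i, y⟩ hx ⟨i', y'⟩ hx' heq
      simp only [Finset.mem_coe, Finset.mem_product, Finset.mem_range] at hx hx'
      obtain ⟨b, hb, rfl⟩ := (hmem _).mp hx.2
      obtain ⟨b', hb', rfl⟩ := (hmem _).mp hx'.2
      simp only [← mul_smul] at heq
      have hst : (u ^ i' * b')⁻¹ * (u ^ i * b) ∈ B₀ := hle (by
        rw [MulAction.mem_stabilizer_iff, mul_smul, heq, inv_smul_smul])
      have hii : u ^ ((i : ℤ) - i') ∈ B₀ := by
        have h1 : (u ^ i')⁻¹ * u ^ i ∈ B₀ := by
          have h2 := mul_mem (mul_mem hb' hst) (inv_mem hb)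
          simpa [mul_assoc] using h2
        rw [← zpow_natCast u i, ← zpow_natCast u i', ← zpow_neg, ← zpow_add] at h1
        rwa [sub_eq_add_neg, add_comm]
      have hdvd : (p : ℤ) ∣ (i : ℤ) - i' := by
        by_contra hnd
        obtain ⟨x, y, hxy⟩ :=
          ((Nat.prime_iff_prime_int.mp Fact.out).coprime_iff_not_dvd.mpr hnd).symm
        refine hu ?_
        have : u = (u ^ ((i : ℤ) - i')) ^ x * ((u ^ p) ^ y) := by
          rw [← zpow_natCast u p, ← zpow_mul, ← zpow_mul, ← zpow_add, mul_comm _ x, mul_comm _ y,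
            hxy, zpow_one]
        rw [this]
        exact mul_mem (zpow_mem hii x) (zpow_mem hup y)
      obtain rfl : i = i' := by
        have h3 := Int.eq_zero_of_abs_lt_dvd hdvd (by rw [abs_lt]; omega)
        omega
      rw [mul_smul, mul_smul, smul_left_cancel_iff] at heq
      exact Prod.ext rfl heq
    · intro x hx
      obtain ⟨b, -, rfl⟩ := Finset.mem_image.mp (Finset.mem_coe.mp hx)
      obtain ⟨j, b₀, hb₀, rfl⟩ := hgen u hu b
      have hp0 : (p : ℤ) ≠ 0 := by exact_mod_cast (Fact.out : p.Prime).ne_zero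
      have h0 := Int.emod_nonneg j hp0
      have h1 := Int.emod_lt_of_pos j (show (0 : ℤ) < p by exact_mod_cast (Fact.out : p.Prime).pos)
      refine ⟨((j % p).toNat, ((u ^ p) ^ (j / (p : ℤ)) * b₀) • a),
        Finset.mem_coe.mpr (Finset.mem_product.mpr ⟨Finset.mem_range.mpr (by omega),
          (hmem _).mpr ⟨_, mul_mem (zpow_mem hup _) hb₀, rfl⟩⟩), ?_⟩
      simp only [← mul_smul]
      congr 1
      rw [← mul_assoc, ← zpow_natCast u p, ← zpow_mul, ← zpow_natCast u, Int.toNat_of_nonneg h0,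
        ← zpow_add, Int.emod_add_mul_ediv]
  rw [key, Finset.prod_product_right]
  exact Finset.prod_eq_one fun y _ => hP u huU y

/-- The product over all points is the product over the fixed points. -/
theorem prod_eq_prod_fixed [Fintype α] (hB : IsPGroup p B) (U : Set B)
    (hU : Subgroup.closure U = ⊤) (P : α → M)
    (hP : ∀ u ∈ U, ∀ a : α, ∏ i ∈ Finset.range p, P (u ^ i • a) = 1)
    [DecidablePred (· ∈ MulAction.fixedPoints B α)] :
    ∏ a, P a = ∏ a ∈ Finset.univ.filter (· ∈ MulAction.fixedPoints B α), P a := by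
  rw [← Finset.prod_filter_mul_prod_filter_not Finset.univ (· ∈ MulAction.fixedPoints B α)]
  rw [prod_eq_one_of_no_fixed hB U hU P hP (Finset.univ.filter (· ∉ MulAction.fixedPoints B α))
    (fun b a ha => ?_) (fun a ha => (Finset.mem_filter.mp ha).2), mul_one]
  refine Finset.mem_filter.mpr ⟨Finset.mem_univ _, fun h => (Finset.mem_filter.mp ha).2 ?_⟩
  have h1 := h b⁻¹
  rw [inv_smul_smul] at h1
  rw [h1]
  exact h

end CfsgLib.Techniques
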