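import Cfsg.Agent.Lib.Techniques.SectionTransfer
import Cfsg.Agent.Lib.Techniques.Orbits
import Cfsg.Prelude.Def_PLocal
import Cfsg.Prelude.Def_LocalEven

/-!
The structure of a minimal failure of control of transfer, and the Engel condition excluding it.
-/

namespace CfsgLib.Techniques

open Subgroup
open scoped commutatorElement fwdDiff

universe u

theorem mem_iterCommutator_comm {G : Type u} [Group G] (X : Subgroup G) (w x : G) (k : ℕ)
    (hx : x ∈ Cfsg.iterCommutator X (Subgroup.zpowers w) k) :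
    x⁻¹ * (w⁻¹ * x * w) ∈ Cfsg.iterCommutator X (Subgroup.zpowers w) (k + 1) := by
  have h := Subgroup.commutator_mem_commutator (inv_mem hx)
    (inv_mem (Subgroup.mem_zpowers w))
  simpa [Cfsg.iterCommutator, commutatorElement_def, mul_assoc] using h

theorem iterCommutator_map {G H : Type u} [Group G] [Group H] (f : G →* H) (X : Subgroup G)
    (w : G) (k : ℕ) :
    (Cfsg.iterCommutator X (Subgroup.zpowers w) k).map f =
      Cfsg.iterCommutator (X.map f) (Subgroup.zpowers (f w)) k := by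
  induction k with
  | zero => rfl
  | succ k ih =>
    rw [Cfsg.iterCommutator, Cfsg.iterCommutator, Subgroup.map_commutator, ih,
      MonoidHom.map_zpowers]

section Failure

variable {G : Type u} [Group G] [Finite G] {p : ℕ} [Fact p.Prime]
  {𝓦 : Set (∀ (Q : Type u) [Group Q], Subgroup Q)}
  (h𝓦 : ∀ W ∈ 𝓦, Cfsg.IsCharPFunctor.{u} p W)
  (ind : ∀ L : Subgroup G, L ≠ ⊤ → Cfsg.FamilyControlsTransferIn p (inducedSet 𝓦 G) L)
  (S : Sylow p G)

include h𝓦 ind in
/-- Proper subgroups over `S` move `O_p` only inside the transfer part. -/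
theorem commutator_pCore_le {H : Subgroup G} (hH : H ≠ ⊤) (hSH : (S : Subgroup G) ≤ H) :
    ⁅Cfsg.pCore p G, H⁆ ≤ Cfsg.pCore p G ⊓ ⁅H, H⁆ ∧
      Cfsg.pCore p G ⊓ ⁅H, H⁆ ≤
        Cfsg.pCore p G ⊓ transferPart (inducedSet 𝓦 G) (S : Subgroup G) := by
  haveI : (Cfsg.pCore p G).Normal := CfsgLib.Core.normal_pCore p G
  have hQS : Cfsg.pCore p G ≤ (S : Subgroup G) := CfsgLib.Core.pCore_le_sylow S
  exact ⟨le_inf (Subgroup.commutator_le_left _ _)
      (Subgroup.commutator_mono (hQS.trans hSH) le_rfl),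
    le_inf inf_le_left ((le_inf (inf_le_left.trans hQS) inf_le_right).trans
      (inf_commutator_le_transferPart h𝓦 S (ind H hH) hSH))⟩

include h𝓦 ind in
/-- Proper subgroups over `S` normalize the transfer part inside `O_p`. -/
theorem le_normalizer_transferPart {H : Subgroup G} (hH : H ≠ ⊤)
    (hSH : (S : Subgroup G) ≤ H) :
    H ≤ Subgroup.normalizer
      ((transferPart (inducedSet 𝓦 G) (S : Subgroup G) ⊓ Cfsg.pCore p G : Subgroup G) :
        Set G) := by
  haveI : (Cfsg.pCore p G).Normal := CfsgLib.Core.normal_pCore p G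
  obtain ⟨h1, h2⟩ := commutator_pCore_le h𝓦 ind S hH hSH
  intro h hh
  refine mem_normalizer_of_map_conj_eq (Subgroup.eq_of_le_of_card_ge ?_
    (card_map_conj _ _).ge)
  rintro _ ⟨t, ht, rfl⟩
  have hc := h2 (h1 (Subgroup.commutator_mem_commutator
    (inv_mem (Subgroup.mem_inf.mp ht).2) hh))
  have e : (MulAut.conj h).toMonoidHom t = t * ⁅t⁻¹, h⁆ := by
    simp [commutatorElement_def, mul_assoc]
  rw [e]
  exact mul_mem ht (by rwa [inf_comm] at hc)

variable (hne : 𝓦.Nonempty)
  (hfail : ¬ Cfsg.pCore p G ⊓ ⁅(⊤ : Subgroup G), ⊤⁆ ≤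
    transferPart (inducedSet 𝓦 G) (S : Subgroup G))

include h𝓦 hne hfail in
theorem normalizer_sylow_ne_top : Subgroup.normalizer ((S : Subgroup G) : Set G) ≠ ⊤ := by
  intro ht
  obtain ⟨W, hW⟩ := hne
  have hc := inducedFunctor_isConjugacyFunctor (h𝓦 W hW) G
  have htop : Subgroup.normalizer ((Cfsg.inducedFunctor W (S : Subgroup G) : Subgroup G) : Set G) =
      ⊤ := top_le_iff.mp (ht ▸ normalizer_le_normalizer_functor hc S.2)
  refine hfail fun x hx => Subgroup.mem_iSup_of_mem _ (Subgroup.mem_iSup_of_mem ⟨W, hW, rfl⟩ ?_)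
  obtain ⟨hxQ, hxc⟩ := Subgroup.mem_inf.mp hx
  refine Subgroup.mem_inf.mpr ⟨CfsgLib.Core.pCore_le_sylow S hxQ, ?_⟩
  show x ∈ ⁅(⊤ : Subgroup G) ⊓ Subgroup.normalizer
    ((Cfsg.inducedFunctor W (S : Subgroup G) : Subgroup G) : Set G), _⁆
  rw [htop, top_inf_eq]
  exact hxc

include h𝓦 hne hfail in
theorem sylow_ne_top : (S : Subgroup G) ≠ ⊤ := fun h =>
  normalizer_sylow_ne_top h𝓦 S hne hfail
    (top_le_iff.mp (h.ge.trans Subgroup.le_normalizer))

include h𝓦 ind hne hfail in
theorem commutator_sylow_le :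
    ⁅(S : Subgroup G), (S : Subgroup G)⁆ ≤ transferPart (inducedSet 𝓦 G) (S : Subgroup G) :=
  (le_inf (commutator_le_self _) le_rfl).trans
    (inf_commutator_le_transferPart h𝓦 S (ind _ (sylow_ne_top h𝓦 S hne hfail)) le_rfl)

omit [Finite G] [Fact p.Prime] in
/-- A homomorphism to an abelian group with kernel a given subgroup over the derived group. -/
theorem exists_hom_ker {Z T : Subgroup G} (h : ⁅T, T⁆ ≤ Z) :
    ∃ (A : Type u) (_ : CommGroup A) (φ : T →* A), ∀ x : T, φ x = 1 ↔ (x : G) ∈ Z := by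
  set Z' := (Z.subgroupOf T).map (Abelianization.of (G := T)) with hZ'
  refine ⟨Abelianization T ⧸ Z', inferInstance, (QuotientGroup.mk' Z').comp Abelianization.of,
    fun x => ?_⟩
  rw [MonoidHom.comp_apply, QuotientGroup.mk'_apply, QuotientGroup.eq_one_iff, hZ',
    ← Subgroup.mem_comap, Subgroup.comap_map_eq, Abelianization.ker_of, sup_eq_left.mpr,
    Subgroup.mem_subgroupOf]
  intro c hc
  rw [Subgroup.mem_subgroupOf]
  refine h ?_
  rw [← Subgroup.map_subtype_commutator]
  exact ⟨c, hc, rfl⟩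

include h𝓦 ind hne hfail in
/-- The transfer part meets `O_p` in a subgroup which is not normal. -/
theorem normalizer_transferPart_ne_top :
    Subgroup.normalizer ((transferPart (inducedSet 𝓦 G) (S : Subgroup G) ⊓ Cfsg.pCore p G :
      Subgroup G) : Set G) ≠ ⊤ := by
  intro ht
  set Q := Cfsg.pCore p G with hQdef
  haveI : Q.Normal := CfsgLib.Core.normal_pCore p G
  set Z := transferPart (inducedSet 𝓦 G) (S : Subgroup G) with hZ
  set T₀ := Z ⊓ Q with hT₀
  haveI : T₀.Normal := Subgroup.normalizer_eq_top_iff.mp ht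
  have hQS : Q ≤ (S : Subgroup G) := CfsgLib.Core.pCore_le_sylow S
  set π := QuotientGroup.mk' T₀ with hπ
  haveI : (Q.map π).Normal := ‹Q.Normal›.map π (QuotientGroup.mk'_surjective T₀)
  set C := (Subgroup.centralizer ((Q.map π : Subgroup (G ⧸ T₀)) : Set (G ⧸ T₀))).comap π with hC
  have hmem : ∀ H : Subgroup G, H ≠ ⊤ → (S : Subgroup G) ≤ H → H ≤ C := by
    intro H hH hSH h hh
    rw [hC, Subgroup.mem_comap, Subgroup.mem_centralizer_iff]
    rintro _ ⟨q, hq, rfl⟩
    rw [← map_mul, ← map_mul]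
    obtain ⟨h1, h2⟩ := commutator_pCore_le h𝓦 ind S hH hSH
    have hc : ⁅q⁻¹, h⁻¹⁆ ∈ Q ⊓ Z :=
      h2 (h1 (Subgroup.commutator_mem_commutator (inv_mem hq) (inv_mem hh)))
    refine (QuotientGroup.eq.mpr ?_).symm
    have e : (h * q)⁻¹ * (q * h) = ⁅q⁻¹, h⁻¹⁆ := by
      simp [commutatorElement_def, mul_assoc]
    rw [e, hT₀, inf_comm]
    exact hc
  have htop : C = ⊤ := by
    by_contra hCne
    haveI : C.Normal := Subgroup.Normal.comap inferInstance π
    have hSC : (S : Subgroup G) ≤ C := hmem _ (sylow_ne_top h𝓦 S hne hfail) le_rfl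
    have hNC : Subgroup.normalizer ((S : Subgroup G) : Set G) ≤ C :=
      hmem _ (normalizer_sylow_ne_top h𝓦 S hne hfail) Subgroup.le_normalizer
    apply hCne
    rw [eq_top_iff]
    intro g _
    obtain ⟨k, hk, n, -, hn, rfl⟩ := exists_mul_normalizer
      ((isSylowSub_sylow S).of_le hSC le_top) (Subgroup.mem_top g)
      (by rw [Subgroup.normalizer_eq_top]) le_top
    exact mul_mem hk (hNC hn)
  refine hfail fun q hq => ?_
  obtain ⟨hqQ, hqc⟩ := Subgroup.mem_inf.mp hq
  obtain ⟨A, _, φ, hφ⟩ := exists_hom_ker (commutator_sylow_le h𝓦 ind S hne hfail)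
  refine (hφ ⟨q, hQS hqQ⟩).mp (hom_eq_one_of_mem_commutator S hQS φ hqQ
    (by rwa [_root_.commutator_def]) fun g => ?_)
  have hg : g ∈ C := htop ▸ Subgroup.mem_top g
  rw [hC, Subgroup.mem_comap, Subgroup.mem_centralizer_iff] at hg
  have h1 := hg (π q) ⟨q, hqQ, rfl⟩
  rw [← map_mul, ← map_mul] at h1
  have hz : (g * q)⁻¹ * (q * g) ∈ T₀ := QuotientGroup.eq.mp h1.symm
  have e : g⁻¹ * q * g = q * ((g * q)⁻¹ * (q * g)) := by group
  have hzS : (g * q)⁻¹ * (q * g) ∈ (S : Subgroup G) :=
    transferPart_le _ _ (Subgroup.mem_inf.mp hz).1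
  calc φ ⟨g⁻¹ * q * g, _⟩ = φ (⟨q, hQS hqQ⟩ * ⟨_, hzS⟩) := congrArg φ (Subtype.ext e)
    _ = φ ⟨q, hQS hqQ⟩ := by
      rw [map_mul, (hφ ⟨_, hzS⟩).mpr (Subgroup.mem_inf.mp hz).1, mul_one]

include h𝓦 ind hne hfail in
/-- No element of `S` outside `O_p` acts on every chief factor below `O_p` with degree `p - 1`. -/
theorem exists_chiefFactor_not_engel (u : G) (huS : u ∈ (S : Subgroup G))
    (huQ : u ∉ Cfsg.pCore p G) :
    ∃ U V : Subgroup G, Cfsg.IsChiefFactor U V ∧ U ≤ Cfsg.pCore p G ∧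
      ¬ Cfsg.iterCommutator U (Subgroup.zpowers u) (p - 1) ≤ V := by
  classical
  by_contra hcon
  push Not at hcon
  set Q := Cfsg.pCore p G with hQdef
  haveI : Q.Normal := CfsgLib.Core.normal_pCore p G
  set Z := transferPart (inducedSet 𝓦 G) (S : Subgroup G) with hZ
  have hQS : Q ≤ (S : Subgroup G) := CfsgLib.Core.pCore_le_sylow S
  haveI : (Q ⊓ ⁅(⊤ : Subgroup G), ⊤⁆).Normal := Subgroup.normal_inf_normal _ _
  obtain ⟨X, ⟨hXn, hXle, hXZ⟩, hXmin⟩ := Set.Finite.exists_minimal
    (s := {X : Subgroup G | X.Normal ∧ X ≤ Q ⊓ ⁅(⊤ : Subgroup G), ⊤⁆ ∧ ¬ X ≤ Z})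
    (Set.toFinite _) ⟨_, inferInstance, le_rfl, hfail⟩
  haveI := hXn
  have hXQ : X ≤ Q := hXle.trans inf_le_left
  have hXS : X ≤ (S : Subgroup G) := hXQ.trans hQS
  have hsmall : ∀ Y : Subgroup G, Y.Normal → Y < X → Y ≤ Z := fun Y hY hlt => by
    by_contra h
    exact hlt.not_ge (hXmin ⟨hY, hlt.le.trans hXle, h⟩ hlt.le)
  obtain ⟨Y, ⟨hYn, hYX⟩, hYmax⟩ := Set.Finite.exists_maximal
    (s := {Y : Subgroup G | Y.Normal ∧ Y < X}) (Set.toFinite _)
    ⟨⊥, inferInstance, bot_lt_iff_ne_bot.mpr fun h => hXZ (h ▸ bot_le)⟩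
  have hchief : Cfsg.IsChiefFactor X Y := ⟨hYX, hXn, hYn, fun N hN h1 h2 => by
    rcases eq_or_lt_of_le h2 with h | h
    · exact Or.inr h
    · exact Or.inl (le_antisymm (hYmax ⟨hN, h⟩ h1) h1)⟩
  have hYZ : Y ≤ Z := hsmall Y hYn hYX
  obtain ⟨A, _, φ, hφ⟩ := exists_hom_ker (commutator_sylow_le h𝓦 ind S hne hfail)
  set ι : X →* (S : Subgroup G) := Subgroup.inclusion hXS with hι
  set f : X →* A := φ.comp ι with hf
  have hfker : ∀ x : X, f x = 1 ↔ (x : G) ∈ Z := fun x => hφ (ι x)
  -- the image of `X` has exponent `p`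
  have hexp : ∀ x : X, f x ^ p = 1 := by
    set P := Subgroup.closure (Set.range fun x : X => (x : G) ^ p) with hP
    have hPX : P ≤ X := (Subgroup.closure_le _).mpr (by
      rintro _ ⟨x, rfl⟩
      exact pow_mem x.2 p)
    by_cases hPZ : P ≤ Z
    · intro x
      rw [← map_pow, hfker, Subgroup.coe_pow]
      exact hPZ (Subgroup.subset_closure ⟨x, rfl⟩)
    haveI hPn : P.Normal := by
      rw [← Subgroup.normalizer_eq_top_iff, eq_top_iff]
      intro g _
      refine mem_normalizer_of_map_conj_eq (Subgroup.eq_of_le_of_card_ge ?_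
        (card_map_conj _ _).ge)
      rw [hP, MonoidHom.map_closure, Subgroup.closure_le]
      rintro _ ⟨_, ⟨x, rfl⟩, rfl⟩
      exact Subgroup.subset_closure ⟨⟨g * x * g⁻¹, hXn.conj_mem x x.2 g⟩, by
        simp [MulAut.conj_apply, conj_pow]⟩
    have hPe : P = X := by
      rcases eq_or_lt_of_le hPX with h | h
      · exact h
      · exact absurd (hsmall P hPn h) hPZ
    intro x₀
    set pw : f.range →* f.range := (powMonoidHom p).domRestrict f.range |>.codRestrict f.range
      (fun y => pow_mem y.2 p) with hpw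
    have hsurj : Function.Surjective pw := by
      have : (⊤ : Subgroup f.range) ≤ pw.range := by
        rintro ⟨_, x, rfl⟩ -
        have hx : (x : G) ∈ Subgroup.closure (Set.range fun x : X => (x : G) ^ p) := by
          rw [← hP, hPe]; exact x.2
        have : ∀ z (hz : z ∈ Subgroup.closure (Set.range fun x : X => (x : G) ^ p))
            (hzX : z ∈ X), ∃ y : X, f y ^ p = f ⟨z, hzX⟩ := by
          intro z hz
          induction hz using Subgroup.closure_induction with
          | mem z hz => obtain ⟨y, rfl⟩ := hz; exact fun _ => ⟨y, by rw [← map_pow]; rfl⟩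
          | one => exact fun _ => ⟨1, by rw [map_one, one_pow]; exact (map_one f).symm⟩
          | mul a b ha hb iha ihb =>
            intro hab
            obtain ⟨ya, hya⟩ := iha (hPX ha)
            obtain ⟨yb, hyb⟩ := ihb (hPX hb)
            refine ⟨ya * yb, ?_⟩
            rw [map_mul, mul_pow, hya, hyb, ← map_mul]
            rfl
          | inv a ha iha =>
            intro hab
            obtain ⟨ya, hya⟩ := iha (hPX ha)
            refine ⟨ya⁻¹, ?_⟩
            rw [map_inv, inv_pow, hya, ← map_inv]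
            rfl
        obtain ⟨y, hy⟩ := this x hx x.2
        exact ⟨⟨f y, y, rfl⟩, Subtype.ext hy⟩
      exact fun y => this (Subgroup.mem_top y)
    haveI : Finite f.range := Finite.of_surjective f.rangeRestrict f.rangeRestrict_surjective
    have hinj := Finite.injective_iff_surjective.mpr hsurj
    obtain ⟨k, hk⟩ := isPGroup_iff_pow_pow_eq_one.mp
      (S.2.to_le hXS |>.of_surjective f.rangeRestrict f.rangeRestrict_surjective) ⟨f x₀, x₀, rfl⟩
    have hone : ∀ k : ℕ, ∀ y : f.range, y ^ p ^ k = 1 → y = 1 := by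
      intro k
      induction k with
      | zero => intro y hy; simpa using hy
      | succ k ih =>
        intro y hy
        rw [pow_succ', pow_mul] at hy
        exact hinj (by rw [map_one]; exact ih _ (Subtype.ext (congrArg Subtype.val hy)))
    have := congrArg Subtype.val (hone k _ hk)
    simp only [Subgroup.coe_one] at this
    rw [this, one_pow]
  -- the good elements and the subgroup they generate
  set E := {w : G | w ∈ (S : Subgroup G) ∧
    Cfsg.iterCommutator X (Subgroup.zpowers w) (p - 1) ≤ Y} with hE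
  set B := Subgroup.closure E with hB
  have hEmem : ∀ w ∈ E, ∀ g : G, g * w * g⁻¹ ∈ (S : Subgroup G) → g * w * g⁻¹ ∈ E := by
    intro w hw g hg
    refine ⟨hg, ?_⟩
    have h := Subgroup.map_mono (f := (MulAut.conj g).toMonoidHom) hw.2
    rw [iterCommutator_map, map_conj_of_mem_normalizer ((Subgroup.normalizer_eq_top X).symm ▸ Subgroup.mem_top g),
      map_conj_of_mem_normalizer ((Subgroup.normalizer_eq_top Y).symm ▸ Subgroup.mem_top g)] at h
    exact h
  have hBS : B ≤ (S : Subgroup G) := (Subgroup.closure_le _).mpr fun w hw => hw.1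
  have huE : u ∈ E := ⟨huS, hcon X Y hchief hXQ⟩
  have hBn : Subgroup.normalizer (B : Set G) ≠ ⊤ := fun ht => by
    haveI := Subgroup.normalizer_eq_top_iff.mp ht
    exact huQ (CfsgLib.Core.le_pCore (S.2.to_le hBS) (Subgroup.subset_closure huE))
  have hSB : (S : Subgroup G) ≤ Subgroup.normalizer (B : Set G) := by
    intro s hs
    refine mem_normalizer_of_map_conj_eq (Subgroup.eq_of_le_of_card_ge ?_
      (card_map_conj _ _).ge)
    rw [hB, MonoidHom.map_closure, Subgroup.closure_le]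
    rintro _ ⟨w, hw, rfl⟩
    exact Subgroup.subset_closure
      (hEmem w hw s (mul_mem (mul_mem hs hw.1) (inv_mem hs)))
  obtain ⟨hc1, hc2⟩ := commutator_pCore_le h𝓦 ind S hBn hSB
  -- the sum over the cosets
  haveI : Fintype (G ⧸ (S : Subgroup G)) := Fintype.ofFinite _
  let F : G ⧸ (S : Subgroup G) → X → A := fun c x =>
    f ⟨c.out⁻¹ * x * c.out, by simpa using hXn.conj_mem x x.2 c.out⁻¹⟩
  have hcj : ∀ (g : G) (x : X), g⁻¹ * (x : G) * g ∈ X := fun g x => by
    simpa using hXn.conj_mem x x.2 g⁻¹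
  have hFmk : ∀ (g : G) (x : X),
      F (g : G ⧸ (S : Subgroup G)) x = f ⟨g⁻¹ * x * g, hcj g x⟩ := by
    intro g x
    set g' := (g : G ⧸ (S : Subgroup G)).out with hg'
    have hs : g'⁻¹ * g ∈ (S : Subgroup G) := QuotientGroup.eq.mp (QuotientGroup.out_eq' _)
    show f _ = _
    rw [hf, MonoidHom.comp_apply, MonoidHom.comp_apply]
    have e : ι ⟨g⁻¹ * x * g, hcj g x⟩ =
        (⟨_, hs⟩ : (S : Subgroup G))⁻¹ * ι ⟨g'⁻¹ * x * g', hcj g' x⟩ * ⟨_, hs⟩ := by
      ext
      simp [hι, mul_assoc]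
    rw [e, map_mul, map_mul, map_inv, mul_right_comm, inv_mul_cancel, one_mul]
  have hall : ∀ x : X, ∏ c, F c x = 1 := by
    intro x
    have h1 : MonoidHom.transfer φ (x : G) = 1 := Abelianization.commutator_subset_ker _ (by
      rw [_root_.commutator_def]; exact (hXle x.2 |> fun h => (Subgroup.mem_inf.mp h).2))
    rw [transfer_eq_prod_of_mem_normal φ hXS x.2] at h1
    exact h1
  have horb : ∀ (x : X) (w : G), w ∈ E → ∀ c : G ⧸ (S : Subgroup G),
      ∏ i ∈ Finset.range p, F (w ^ i • c) x = 1 := by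
    intro x w hw c
    induction c using QuotientGroup.induction_on with
    | _ g =>
    let h : ℕ → X → Additive A := fun i y =>
      Additive.ofMul (f ⟨g⁻¹ * ((w ^ i)⁻¹ * y * w ^ i) * g, hcj g ⟨_, hcj (w ^ i) y⟩⟩)
    let D : X → X := fun y => ⟨(y : G)⁻¹ * (w⁻¹ * y * w), mul_mem (inv_mem y.2) (hcj w y)⟩
    have hstep : ∀ (n : ℕ) (i : ℕ), (Δ_[1])^[n] (fun i => h i x) i = h i (D^[n] x) := by
      intro n
      induction n with
      | zero => intro i; rfl
      | succ n ih =>
        intro i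
        rw [Function.iterate_succ', Function.comp_apply, fwdDiff, ih, ih, Function.iterate_succ',
          Function.comp_apply]
        show Additive.ofMul _ - Additive.ofMul _ = Additive.ofMul _
        rw [← ofMul_div]
        congr 1
        rw [div_eq_iff_eq_mul', ← map_mul]
        congr 1
        ext
        simp only [D, Subgroup.coe_mul, Subgroup.coe_inv, pow_succ']
        group
    have hD : ∀ n, ((D^[n] x : X) : G) ∈ Cfsg.iterCommutator X (Subgroup.zpowers w) n := by
      intro n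
      induction n with
      | zero => exact x.2
      | succ n ih =>
        rw [Function.iterate_succ', Function.comp_apply]
        exact mem_iterCommutator_comm X w _ n ih
    have key := sum_range_eq_fwdDiff (p := p) (fun i => h i x) (fun i => by
      show p • Additive.ofMul (f _) = 0
      rw [← ofMul_pow, hexp, ofMul_one])
    rw [hstep] at key
    have hz : h 0 (D^[p - 1] x) = 0 := by
      show Additive.ofMul (f _) = 0
      rw [ofMul_eq_zero, hfker]
      refine hYZ ?_
      have hy := hYn.conj_mem _ (hw.2 (hD (p - 1))) g⁻¹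
      simpa using hy
    rw [hz] at key
    have e : ∀ i ∈ Finset.range p, F (w ^ i • (g : G ⧸ (S : Subgroup G))) x =
        (Additive.toMul (h i x)) := by
      intro i _
      rw [MulAction.Quotient.smul_coe, hFmk]
      show f _ = f _
      congr 1
      ext
      simp [mul_assoc]
    rw [Finset.prod_congr rfl e, ← toMul_sum, key, toMul_zero]
  -- the fixed cosets
  set U' : Set B := {w | (w : G) ∈ E} with hU'
  have hBgen : Subgroup.closure U' = ⊤ := by
    rw [hU', hB]
    exact Subgroup.closure_closure_coe_preimage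
  have hfixed : ∀ c : G ⧸ (S : Subgroup G), c ∈ MulAction.fixedPoints B _ →
      ∀ x : X, F c x = f x := by
    intro c hc x
    induction c using QuotientGroup.induction_on with
    | _ g =>
    have hgB : B.map (MulAut.conj g⁻¹).toMonoidHom ≤ B := by
      rw [hB, MonoidHom.map_closure, Subgroup.closure_le]
      rintro _ ⟨w, hw, rfl⟩
      have h1 : ((⟨w, Subgroup.subset_closure hw⟩ : B) : G) • (g : G ⧸ (S : Subgroup G)) = g :=
        hc ⟨w, Subgroup.subset_closure hw⟩
      rw [MulAction.Quotient.smul_coe, QuotientGroup.eq] at h1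
      refine Subgroup.subset_closure (hEmem w hw g⁻¹ ?_)
      simpa [mul_assoc] using inv_mem h1
    have hgN : g ∈ Subgroup.normalizer (B : Set G) := inv_inv g ▸ inv_mem
      (mem_normalizer_of_map_conj_eq (Subgroup.eq_of_le_of_card_ge hgB (card_map_conj _ _).ge))
    rw [hFmk]
    have hz := hc2 (hc1 (Subgroup.commutator_mem_commutator (inv_mem (hXQ x.2)) (inv_mem hgN)))
    have hzX : ⁅((x : G))⁻¹, g⁻¹⁆ ∈ X := by
      have := mul_mem (inv_mem x.2) (hcj g x)
      simpa [commutatorElement_def, mul_assoc] using this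
    have e : (⟨g⁻¹ * x * g, hcj g x⟩ : X) = x * ⟨_, hzX⟩ := by
      ext; simp [commutatorElement_def, mul_assoc]
    rw [e, map_mul, (hfker ⟨_, hzX⟩).mpr (Subgroup.mem_inf.mp hz).2, mul_one]
  have hcount : ¬ p ∣ (Finset.univ.filter
      (· ∈ MulAction.fixedPoints B (G ⧸ (S : Subgroup G)))).card := by
    intro hd
    have h1 := (S.2.to_le hBS).card_modEq_card_fixedPoints (G ⧸ (S : Subgroup G))
    rw [← Subgroup.index_eq_card, Nat.card_eq_fintype_card, Fintype.card_subtype] at h1
    exact S.not_dvd_index ((Nat.ModEq.dvd_iff h1 dvd_rfl).mpr hd)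
  refine hXZ fun x hx => (hfker ⟨x, hx⟩).mp ?_
  have h1 := hall ⟨x, hx⟩
  rw [prod_eq_prod_fixed (S.2.to_le hBS) U' hBgen (fun c => F c ⟨x, hx⟩)
    (fun w hw c => horb _ _ hw c)] at h1
  rw [Finset.prod_congr rfl fun c hc => hfixed c (Finset.mem_filter.mp hc).2 ⟨x, hx⟩,
    Finset.prod_const] at h1
  refine orderOf_eq_one_iff.mp (Nat.eq_one_of_dvd_coprimes ?_
    (orderOf_dvd_of_pow_eq_one (hexp ⟨x, hx⟩)) (orderOf_dvd_of_pow_eq_one h1))
  exact (Nat.Prime.coprime_iff_not_dvd Fact.out).mpr hcount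

end Failure

end CfsgLib.Techniques

namespace CfsgLib.Techniques

open Subgroup

universe v

/-- The transport of an element violating the Engel condition along an isomorphism. -/
theorem isChiefFactor_map {G H : Type v} [Group G] [Group H] (e : G ≃* H) {U V : Subgroup G}
    (h : Cfsg.IsChiefFactor U V) :
    Cfsg.IsChiefFactor (U.map e.toMonoidHom) (V.map e.toMonoidHom) := by
  obtain ⟨h1, h2, h3, h4⟩ := h
  refine ⟨(Subgroup.map_lt_map_iff_of_injective e.injective).mpr h1,
    h2.map _ e.surjective, h3.map _ e.surjective, fun N hN hVN hNU => ?_⟩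
  haveI := hN
  have hNm : (N.comap e.toMonoidHom).map e.toMonoidHom = N :=
    Subgroup.map_comap_eq_self_of_surjective e.surjective N
  rcases h4 (N.comap e.toMonoidHom) inferInstance (Subgroup.map_le_iff_le_comap.mp hVN)
    ((Subgroup.comap_mono hNU).trans
      (Subgroup.comap_map_eq_self_of_injective e.injective U).le) with h | h
  · exact Or.inl (by rw [← hNm, h])
  · exact Or.inr (by rw [← hNm, h])

/-- When transfer is not controlled, the failure lies inside `O_p`. -/
theorem not_pCore_inf_le {G : Type v} [Group G] [Finite G] {p : ℕ} [Fact p.Prime]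
    {𝓦 : Set (∀ (Q : Type v) [Group Q], Subgroup Q)}
    (h𝓦 : ∀ W ∈ 𝓦, Cfsg.IsCharPFunctor.{v} p W)
    (ind : ∀ L : Subgroup G, L ≠ ⊤ → Cfsg.FamilyControlsTransferIn p (inducedSet 𝓦 G) L)
    (indq : Cfsg.FamilyControlsTransferIn p (inducedSet 𝓦 (G ⧸ Cfsg.pCore p G)) ⊤)
    (hG : ¬ Cfsg.FamilyControlsTransferIn p (inducedSet 𝓦 G) ⊤) (S : Sylow p G) :
    ¬ Cfsg.pCore p G ⊓ ⁅(⊤ : Subgroup G), ⊤⁆ ≤
      transferPart (inducedSet 𝓦 G) (S : Subgroup G) := fun h =>
  hG (familyControlsTransfer_of_le S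
    ((transfer_le_sup_pCore h𝓦 ind indq S).trans (sup_le le_rfl h)))

end CfsgLib.Techniques
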