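import Cfsg.Agent.Lib.Signalizer.Involutions
import Cfsg.Agent.Lib.LocalEven.StronglyEmbedded

/-!
Subgroups containing the centralizers of their involutions: classes of involutions and
Bender's transitivity lemma.
-/

set_option autoImplicit false

namespace CfsgLib.Techniques

open Subgroup CfsgLib.Signalizer

variable {S : Type*} [Group S] [Finite S] {M : Subgroup S}
  (hC : ∀ i ∈ M, orderOf i = 2 → centralizer ({i} : Set S) ≤ M)

include hC

theorem exists_conj_involution_outside {i t : S} (hi : orderOf i = 2) (hiM : i ∈ M)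
    (ht : orderOf t = 2) (htM : t ∉ M) :
    ∃ d ∈ closure ({i, t} : Set S), d * i * d⁻¹ = t := by
  rcases Nat.even_or_odd (orderOf (i * t)) with he | ho
  · obtain ⟨h2, hci, hct⟩ := central_involution hi ht he
    exact absurd (hC _ (hC i hiM hi (mem_centralizer_singleton_iff.2 hci.eq)) h2
      (mem_centralizer_singleton_iff.2 hct.eq.symm)) htM
  · exact exists_conj_of_odd hi ht ho

theorem all_involutions_conj (hM : Even (Nat.card M)) (hcore : Odd (Nat.card M.normalCore))
    {x y : S} (hx : orderOf x = 2) (hy : orderOf y = 2) : IsConj x y := by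
  obtain ⟨⟨i, hiM⟩, hi'⟩ := exists_prime_orderOf_dvd_card' 2 (hM.two_dvd : 2 ∣ Nat.card M)
  have hi : orderOf i = 2 := by rwa [Subgroup.orderOf_mk] at hi'
  have key : ∀ z : S, orderOf z = 2 → IsConj i z := by
    intro z hz
    by_contra hne
    by_cases hall : ∀ g : S, g * z * g⁻¹ ∈ M
    · have hz' : z ∈ M.normalCore := hall
      exact (Nat.not_even_iff_odd.2 hcore) (even_iff_two_dvd.2
        (hz ▸ Subgroup.orderOf_dvd_natCard _ hz'))
    · push Not at hall
      obtain ⟨g, hg⟩ := hall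
      obtain ⟨d, -, hd⟩ := exists_conj_involution_outside hC hi hiM
        ((Signalizer.orderOf_conj g z).trans hz) hg
      exact hne ((isConj_iff.2 ⟨d, hd⟩).trans (isConj_iff.2 ⟨g⁻¹, by group⟩))
  exact (key x hx).symm.trans (key y hy)

theorem inverted_centralizing_eq_one {i t d : S} (hi : orderOf i = 2) (hiM : i ∈ M)
    (ht : orderOf t = 2) (htM : t ∉ M) (hdM : d ∈ M) (htd : t * d * t⁻¹ = d⁻¹)
    (hid : i * d * i⁻¹ = d) : d = 1 := by
  obtain ⟨g, hg, hgt⟩ := exists_conj_involution_outside hC hi hiM ht htM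
  have hg' : g * d * g⁻¹ = d ∨ g * d * g⁻¹ = d⁻¹ := by
    clear hgt
    induction hg using closure_induction with
    | mem z hz =>
      rcases hz with rfl | rfl
      · exact Or.inl hid
      · exact Or.inr htd
    | one => exact Or.inl (by group)
    | mul a b _ _ ha hb =>
      have e : a * b * d * (a * b)⁻¹ = a * (b * d * b⁻¹) * a⁻¹ := by group
      rw [e]
      rcases hb with hb | hb <;> rw [hb] <;> rcases ha with ha | ha
      · exact Or.inl ha
      · exact Or.inr ha
      · exact Or.inr (by rw [← conj_inv, ha])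
      · exact Or.inl (by rw [← conj_inv, ha, inv_inv])
    | inv a _ ha =>
      rcases ha with ha | ha
      · refine Or.inl ?_
        calc a⁻¹ * d * a⁻¹⁻¹ = a⁻¹ * (a * d * a⁻¹) * a⁻¹⁻¹ := by rw [ha]
          _ = d := by group
      · refine Or.inr ?_
        calc a⁻¹ * d * a⁻¹⁻¹ = a⁻¹ * (a * d * a⁻¹)⁻¹ * a⁻¹⁻¹ := by rw [ha, inv_inv d]
          _ = d⁻¹ := by group
  have h1 : t * (g * d * g⁻¹) * t⁻¹ = g * d * g⁻¹ := by
    rw [← hgt]
    calc g * i * g⁻¹ * (g * d * g⁻¹) * (g * i * g⁻¹)⁻¹ = g * (i * d * i⁻¹) * g⁻¹ := by group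
      _ = g * d * g⁻¹ := by rw [hid]
  have h2 : t * d * t⁻¹ = d := by
    rcases hg' with h | h
    · rwa [h] at h1
    · rw [h, ← conj_inv] at h1
      exact inv_injective h1
  by_contra hne
  have hd2 : orderOf d = 2 := orderOf_eq_two_of hne (mul_eq_one_iff_eq_inv.2 (h2.symm.trans htd))
  exact htM (hC d hdM hd2 (mem_centralizer_singleton_iff.2 (mul_inv_eq_iff_eq_mul.1 h2)))

theorem containsNormalizers_of_sylow (X : Sylow 2 M)
    (hN : normalizer (((X : Subgroup M).map M.subtype : Subgroup S) : Set S) ≤ M)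
    {I : M} (hI : I ∈ (center ↥(X : Subgroup ↥M)).map (X : Subgroup ↥M).subtype)
    (hI2 : orderOf I = 2) : CfsgLib.LocalEven.ContainsPNormalizers 2 M := by
  set X' : Subgroup S := (X : Subgroup M).map M.subtype with hX'
  have hXp : IsPGroup 2 X' := X.2.map _
  obtain ⟨P, hP⟩ := hXp.exists_le_sylow
  have hPX : (P : Subgroup S) ⊓ M ≤ X' := by
    intro x hx
    have h1 : ((P : Subgroup S).subgroupOf M) = X := X.3 (P.2.comap_subtype) fun z hz =>
      hP ⟨z, hz, rfl⟩
    exact ⟨⟨x, hx.2⟩, h1 ▸ hx.1, rfl⟩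
  have hPM : (P : Subgroup S) = X' := by
    refine le_antisymm ?_ hP
    have := CfsgLib.LocalEven.eq_of_normalizer_inf_le P.2 hP
      ((le_inf inf_le_left (inf_le_right.trans hN)).trans hPX)
    exact this.symm.le
  obtain ⟨⟨c, hcX⟩, hc, rfl⟩ := hI
  set i : S := ((c : M) : S)
  have hiM : i ∈ M := c.2
  have hi : orderOf i = 2 := by rw [Subgroup.orderOf_coe]; exact hI2
  have hXi : X' ≤ centralizer ({i} : Set S) := by
    rintro _ ⟨y, hy, rfl⟩
    rw [mem_centralizer_singleton_iff]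
    exact congrArg Subtype.val (congrArg Subtype.val (mem_center_iff.1 hc ⟨y, hy⟩))
  have key : ∀ {x g : S}, x ∈ X' → orderOf x = 2 → g * x * g⁻¹ ∈ X' → g ∈ M := by
    intro x g hx hx2 hgx
    have hxM : x ∈ M := (map_subtype_le _) hx
    have h1 : g⁻¹ * i * g ∈ centralizer ({x} : Set S) := by
      rw [mem_centralizer_singleton_iff]
      have h := mem_centralizer_singleton_iff.1 (hXi hgx)
      calc g⁻¹ * i * g * x = g⁻¹ * (i * (g * x * g⁻¹)) * g := by group
        _ = g⁻¹ * (g * x * g⁻¹ * i) * g := by rw [h]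
        _ = x * (g⁻¹ * i * g) := by group
    have h2 : orderOf (g⁻¹ * i * g) = 2 := by
      simpa using (Signalizer.orderOf_conj g⁻¹ i).trans hi
    have hi'M := hC x hxM hx2 h1
    have h3 : ∀ y ∈ X', g⁻¹ * y * g ∈ M := fun y hy => hC _ hi'M h2 (by
      rw [mem_centralizer_singleton_iff]
      have h := mem_centralizer_singleton_iff.1 (hXi hy)
      calc g⁻¹ * y * g * (g⁻¹ * i * g) = g⁻¹ * (y * i) * g := by group
        _ = g⁻¹ * (i * y) * g := by rw [h]
        _ = g⁻¹ * i * g * (g⁻¹ * y * g) := by group)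
    let Y : Sylow 2 M := (g⁻¹ • P).subtype (by
      rw [Sylow.coe_subgroup_smul, hPM]
      rintro _ ⟨y, hy, rfl⟩
      simpa using h3 y hy)
    obtain ⟨m, hm⟩ := MulAction.exists_smul_eq M Y X
    have h4 : (m : S) * g⁻¹ ∈ normalizer (X' : Set S) := by
      rw [mem_normalizer_iff]
      intro y
      have hY : ∀ z : M, z ∈ (Y : Subgroup M) ↔ g * (z : S) * g⁻¹ ∈ X' := fun z => by
        show (z : S) ∈ ((g⁻¹ • P : Sylow 2 S) : Subgroup S) ↔ _
        rw [Sylow.coe_subgroup_smul, hPM, mem_pointwise_smul_iff_inv_smul_mem, ← map_inv, inv_inv]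
        rfl
      constructor
      · intro hy
        have hzM : g⁻¹ * y * g ∈ M := h3 y hy
        have hz : m * ⟨_, hzM⟩ * m⁻¹ ∈ (X : Subgroup M) := by
          rw [← hm, Sylow.coe_subgroup_smul]
          exact ⟨_, (hY _).2 (by simpa [mul_assoc] using hy), rfl⟩
        exact ⟨_, hz, by simp [mul_assoc]⟩
      · rintro ⟨z, hz, he⟩
        rw [← hm, Sylow.coe_subgroup_smul] at hz
        obtain ⟨w, hw, rfl⟩ := hz
        have hw' := (hY w).1 hw
        have he' : (m : S) * (w : S) * (m : S)⁻¹ = (m : S) * g⁻¹ * y * ((m : S) * g⁻¹)⁻¹ := he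
        have : g * (w : S) * g⁻¹ = y := by
          calc g * (w : S) * g⁻¹ = g * ((m : S)⁻¹ * ((m : S) * w * (m : S)⁻¹) * m) * g⁻¹ := by group
            _ = g * ((m : S)⁻¹ * ((m : S) * g⁻¹ * y * ((m : S) * g⁻¹)⁻¹) * m) * g⁻¹ := by rw [he']
            _ = y := by group
        exact this ▸ hw'
    have := mul_mem (inv_mem m.2) (hN h4)
    rwa [inv_mul_cancel_left, inv_mem_iff] at this
  intro A hA hAp hA1 g hg
  obtain ⟨x, hxA, hx2⟩ := CfsgLib.LocalEven.exists_order_p hAp hA1
  have hgxA : g * x * g⁻¹ ∈ A := (mem_normalizer_iff.1 hg x).1 hxA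
  have intoX : ∀ z ∈ M, orderOf z = 2 → ∃ a ∈ M, a * z * a⁻¹ ∈ X' := fun z hz hz2 => by
    have hzp : IsPGroup 2 (zpowers (⟨z, hz⟩ : M)) := IsPGroup.of_card (n := 1) (by
      rw [Nat.card_zpowers, Subgroup.orderOf_mk, hz2, pow_one])
    obtain ⟨Q, hQ⟩ := hzp.exists_le_sylow
    obtain ⟨a, ha⟩ := MulAction.exists_smul_eq M Q X
    refine ⟨a, a.2, a * ⟨z, hz⟩ * a⁻¹, ?_, rfl⟩
    rw [← ha, Sylow.coe_subgroup_smul]
    exact ⟨_, hQ (mem_zpowers _), rfl⟩
  obtain ⟨a, ha, hax⟩ := intoX x (hA hxA) hx2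
  obtain ⟨b, hb, hbx⟩ := intoX _ (hA hgxA) ((Signalizer.orderOf_conj g x).trans hx2)
  have h := key hax ((Signalizer.orderOf_conj a x).trans hx2) (g := b * g * a⁻¹) (by
    rwa [show b * g * a⁻¹ * (a * x * a⁻¹) * (b * g * a⁻¹)⁻¹ = b * (g * x * g⁻¹) * b⁻¹ by group])
  have := mul_mem (mul_mem (inv_mem hb) h) ha
  rwa [show b⁻¹ * (b * g * a⁻¹) * a = g by group] at this

/-- Bender's transitivity lemma. -/
theorem exists_odd_transitive (hE : CfsgLib.LocalEven.ContainsPNormalizers 2 M) (htop : M ≠ ⊤)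
    (hall : ∀ x y : S, orderOf x = 2 → orderOf y = 2 → IsConj x y)
    {i : S} (hi : orderOf i = 2) (hiM : i ∈ M) :
    ∃ D : Subgroup S, D ≤ M ∧ Odd (Nat.card D) ∧
      ∀ u ∈ M, orderOf u = 2 → ∃ a ∈ D, a * i * a⁻¹ = u := by
  classical
  haveI := Fintype.ofFinite S
  haveI := Fintype.ofFinite (S ⧸ M)
  set IM := Finset.univ.filter fun x : S => orderOf x = 2 ∧ x ∈ M
  set O := Finset.univ.filter fun x : S => orderOf x = 2 ∧ x ∉ M
  set Q := Finset.univ.filter fun q : S ⧸ M => q ≠ ((1 : S) : S ⧸ M)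
  have hmem : ∀ {x g : S}, orderOf x = 2 → x ∈ M → g * x * g⁻¹ ∈ M → g ∈ M :=
    fun hx hxM hg => CfsgLib.LocalEven.mem_of_conj_mem hE hx hxM hg
  have hcard : O.card = Q.card * IM.card := by
    rw [← Finset.card_product]
    refine (Finset.card_bij (fun a _ => a.1.out * a.2 * a.1.out⁻¹) ?_ ?_ ?_).symm
    · rintro ⟨q, x⟩ ha
      simp only [Finset.mem_product, Finset.mem_filter, Finset.mem_univ, true_and, IM, Q] at ha
      simp only [Finset.mem_filter, Finset.mem_univ, true_and, O]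
      refine ⟨(Signalizer.orderOf_conj _ x).trans ha.2.1, fun hm => ha.1 ?_⟩
      rw [← QuotientGroup.out_eq' q, QuotientGroup.eq]
      simpa using hmem ha.2.1 ha.2.2 hm
    · rintro ⟨q, x⟩ ha ⟨q', x'⟩ ha' h
      simp only [Finset.mem_product, Finset.mem_filter, Finset.mem_univ, true_and, IM, Q] at ha ha'
      have h1 : q'.out⁻¹ * q.out ∈ M := hmem ha.2.1 ha.2.2 (by
        rw [show q'.out⁻¹ * q.out * x * (q'.out⁻¹ * q.out)⁻¹ = q'.out⁻¹ * (q.out * x * q.out⁻¹) * q'.out by
          group]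
        dsimp only at h
        rw [h, show q'.out⁻¹ * (q'.out * x' * q'.out⁻¹) * q'.out = x' by group]
        exact ha'.2.2)
      have hq : q' = q := by
        rw [← QuotientGroup.out_eq' q, ← QuotientGroup.out_eq' q', QuotientGroup.eq]
        exact h1
      subst hq
      simp only [mul_left_inj, mul_right_inj] at h
      rw [h]
    · intro t ht
      simp only [Finset.mem_filter, Finset.mem_univ, true_and, O] at ht
      obtain ⟨g, hg⟩ := isConj_iff.1 (hall i t hi ht.1)
      set q : S ⧸ M := (g : S ⧸ M) with hq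
      have hm : q.out⁻¹ * g ∈ M := by
        rw [← QuotientGroup.eq, QuotientGroup.out_eq']
      refine ⟨(q, q.out⁻¹ * t * q.out), ?_, by group⟩
      simp only [Finset.mem_product, Finset.mem_filter, Finset.mem_univ, true_and, IM, Q]
      refine ⟨fun h1 => ht.2 ?_, by simpa using (Signalizer.orderOf_conj q.out⁻¹ t).trans ht.1, ?_⟩
      · have hgM : g ∈ M := by simpa using inv_mem_iff.2 (QuotientGroup.eq.1 h1)
        exact hg ▸ mul_mem (mul_mem hgM hiM) (inv_mem hgM)
      · rw [← hg, show q.out⁻¹ * (g * i * g⁻¹) * q.out = (q.out⁻¹ * g) * i * (q.out⁻¹ * g)⁻¹ by group]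
        exact mul_mem (mul_mem hm hiM) (inv_mem hm)
  have hImg : O.image (fun t : S => (t : S ⧸ M)) ⊆ Q := by
    intro q hq
    obtain ⟨t, ht, rfl⟩ := Finset.mem_image.1 hq
    simp only [Finset.mem_filter, Finset.mem_univ, true_and, O] at ht
    simp only [Finset.mem_filter, Finset.mem_univ, true_and, Q]
    exact fun h => ht.2 (by simpa using QuotientGroup.eq.1 h)
  have hQ : 0 < Q.card := by
    obtain ⟨g, -, hg⟩ := SetLike.exists_of_lt (lt_top_iff_ne_top.2 htop)
    exact Finset.card_pos.2 ⟨(g : S ⧸ M), by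
      simp only [Finset.mem_filter, Finset.mem_univ, true_and, Q]
      exact fun h => hg (by simpa using QuotientGroup.eq.1 h)⟩
  have hIM : 0 < IM.card := Finset.card_pos.2 ⟨i, by simp [IM, hi, hiM]⟩
  obtain ⟨k, hkO, hk⟩ : ∃ k ∈ O, IM.card ≤ (O.filter fun t : S => (t : S ⧸ M) = (k : S ⧸ M)).card := by
    by_contra hno
    push Not at hno
    have h1 := Finset.card_le_mul_card_image (f := fun t : S => (t : S ⧸ M)) O (IM.card - 1)
      fun q hq => by
        obtain ⟨t, ht, rfl⟩ := Finset.mem_image.1 hq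
        exact Nat.le_sub_one_of_lt (hno t ht)
    rw [hcard] at h1
    have h2 := h1.trans (Nat.mul_le_mul_left _ (Finset.card_le_card hImg))
    rw [mul_comm (IM.card - 1)] at h2
    have := Nat.le_of_mul_le_mul_left h2 hQ
    omega
  simp only [Finset.mem_filter, Finset.mem_univ, true_and, O] at hkO
  obtain ⟨hk2, hkM⟩ := hkO
  set T := O.filter fun t : S => (t : S ⧸ M) = (k : S ⧸ M) with hT
  have hTm : ∀ t ∈ T, orderOf t = 2 ∧ t ∉ M ∧ k * t ∈ M := by
    intro t ht
    simp only [hT, O, Finset.mem_filter, Finset.mem_univ, true_and] at ht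
    refine ⟨ht.1.1, ht.1.2, ?_⟩
    have := QuotientGroup.eq.1 ht.2.symm
    rwa [involution_inv hk2] at this
  have himg : T.image (fun t => k * t * i * (k * t)⁻¹) = IM := by
    refine Finset.eq_of_subset_of_card_le ?_ ?_
    · intro u hu
      obtain ⟨t, ht, rfl⟩ := Finset.mem_image.1 hu
      obtain ⟨-, -, htm⟩ := hTm t ht
      simp only [IM, Finset.mem_filter, Finset.mem_univ, true_and]
      exact ⟨(Signalizer.orderOf_conj _ i).trans hi, mul_mem (mul_mem htm hiM) (inv_mem htm)⟩
    · rw [Finset.card_image_of_injOn]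
      · exact hk
      · intro t ht t' ht' h
        obtain ⟨ht2, htM, htm⟩ := hTm t ht
        obtain ⟨ht2', htM', htm'⟩ := hTm t' ht'
        have h' : t * i * t⁻¹ = t' * i * t'⁻¹ := by
          have e : ∀ s : S, k * s * i * (k * s)⁻¹ = k * (s * i * s⁻¹) * k⁻¹ := fun s => by group
          simp only [e] at h
          exact mul_left_cancel (mul_right_cancel h)
        have hd : t' * t ∈ M := by
          have := mul_mem (inv_mem htm') htm
          rwa [mul_inv_rev, mul_assoc, inv_mul_cancel_left, involution_inv ht2'] at this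
        have h1 := inverted_centralizing_eq_one hC hi hiM ht2 htM hd
          (by simp [mul_assoc, involution_inv ht2, involution_inv ht2', involution_sq ht2])
          (by
            calc i * (t' * t) * i⁻¹ = i * t'⁻¹ * (t * i⁻¹) := by
                  rw [involution_inv ht2']; group
              _ = t'⁻¹ * (t' * i * t'⁻¹) * (t * i⁻¹) := by group
              _ = t'⁻¹ * (t * i * t⁻¹) * (t * i⁻¹) := by rw [h']
              _ = t'⁻¹ * t := by group
              _ = t' * t := by rw [involution_inv ht2'])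
        rw [← involution_inv ht2'] at h1
        exact (inv_mul_eq_one.1 h1).symm
  refine ⟨M ⊓ M.map (MulAut.conj k).toMonoidHom, inf_le_left, ?_, fun u huM hu => ?_⟩
  · exact Nat.not_even_iff_odd.1 fun he =>
      CfsgLib.LocalEven.disjoint_of_containsPNormalizers hE k hkM he.two_dvd
  · have : u ∈ T.image (fun t => k * t * i * (k * t)⁻¹) := by
      rw [himg]; simp [IM, hu, huM]
    obtain ⟨t, ht, rfl⟩ := Finset.mem_image.1 this
    obtain ⟨ht2, -, htm⟩ := hTm t ht
    refine ⟨k * t, ⟨htm, ⟨_, inv_mem htm, ?_⟩⟩, rfl⟩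
    simp [mul_assoc, involution_inv ht2, involution_inv hk2, involution_sq hk2]

end CfsgLib.Techniques
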