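import Cfsg.Agent.Lib.Techniques.SectionTransfer

/-!
Normal subgroups of index `p` and the automizer of a Sylow subgroup.
-/

namespace CfsgLib.Techniques

open Subgroup

variable {G : Type*} [Group G] [Finite G] {p : ℕ} [Fact p.Prime]

/-- If `G'` does not contain a Sylow subgroup, there is a normal subgroup of index `p`. -/
theorem exists_normal_index_prime (S : Sylow p G) (h : ¬ (S : Subgroup G) ≤ commutator G) :
    ∃ N : Subgroup G, N.Normal ∧ N.index = p := by
  set A := Abelianization G
  obtain ⟨s, hs, hsn⟩ := SetLike.not_le_iff_exists.mp h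
  set a : A := Abelianization.of s with ha
  have hane : a ≠ 1 := fun h1 => hsn (by rw [← Abelianization.ker_of]; exact h1)
  obtain ⟨e, m, hm, hem⟩ :=
    Nat.exists_eq_pow_mul_and_not_dvd (Nat.card_pos (α := A)).ne' p (Fact.out : p.Prime).ne_one
  have hmc : Nat.Coprime p m := (Nat.Prime.coprime_iff_not_dvd Fact.out).mpr hm
  set K := (powMonoidHom m : A →* A).ker with hK
  have hres : Cfsg.pResidual p A ≤ K := CfsgLib.Transfer.pResidual_le_iff.mpr fun g hg => by
    have h1 : orderOf g ∣ p ^ e * m := hem ▸ orderOf_dvd_natCard g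
    rw [hK, MonoidHom.mem_ker, powMonoidHom_apply, ← orderOf_dvd_iff_pow_eq_one]
    exact Nat.Coprime.dvd_of_dvd_mul_left (hg.pow_right e) h1
  have haK : a ∉ K := fun h1 => hane (by
    rw [hK, MonoidHom.mem_ker, powMonoidHom_apply, ← orderOf_dvd_iff_pow_eq_one] at h1
    obtain ⟨k, hk⟩ := isPGroup_iff_orderOf_dvd_pow.mp S.2 ⟨s, hs⟩
    rw [Subgroup.orderOf_mk] at hk
    exact orderOf_eq_one_iff.mp (Nat.eq_one_of_dvd_coprimes (hmc.pow_left k)
      ((orderOf_map_dvd Abelianization.of s).trans hk) h1))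
  obtain ⟨j, hj⟩ := IsPGroup.iff_card.mp
    (CfsgLib.Transfer.isPGroup_quotient_pResidual (p := p) (G := A))
  have hj0 : j ≠ 0 := by
    rintro rfl
    rw [pow_zero, Nat.card_eq_one_iff_unique] at hj
    exact haK (hres ((QuotientGroup.eq_one_iff a).mp (hj.1.elim _ _)))
  obtain ⟨M, hM⟩ := Sylow.exists_subgroup_card_pow_prime p
    (G := A ⧸ Cfsg.pResidual p A) (n := j - 1) (hj ▸ pow_dvd_pow p (Nat.sub_le j 1))
  have hidx : M.index = p := by
    have h1 := M.card_mul_index
    rw [hM, hj] at h1
    conv_rhs at h1 => rw [← Nat.sub_add_cancel (Nat.pos_of_ne_zero hj0), pow_succ]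
    exact Nat.eq_of_mul_eq_mul_left (pow_pos (Fact.out : p.Prime).pos _) h1
  refine ⟨(M.comap (QuotientGroup.mk' _)).comap Abelianization.of, inferInstance, ?_⟩
  exact (Subgroup.index_comap_of_surjective _ (f := (Abelianization.of : G →* A))
    (fun x => QuotientGroup.mk'_surjective _ x)).trans
    ((Subgroup.index_comap_of_surjective M (QuotientGroup.mk'_surjective _)).trans hidx)

/-- A normal Sylow subgroup centralized by the `p'`-elements is not inside the derived group. -/
theorem not_le_commutator_of_normal_sylow (S : Sylow p G) (hS : (S : Subgroup G) ≠ ⊥)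
    (hN : ∀ g ∈ Subgroup.normalizer ((S : Subgroup G) : Set G), (orderOf g).Coprime p →
      g ∈ Subgroup.centralizer ((S : Subgroup G) : Set G))
    (hn : (S : Subgroup G).Normal) : ¬ (S : Subgroup G) ≤ commutator G := by
  intro hle
  haveI := hn
  haveI : Nontrivial (S : Subgroup G) := (Subgroup.nontrivial_iff_ne_bot _).mpr hS
  have key : ∀ q : (S : Subgroup G), Abelianization.of q = 1 := by
    intro q
    refine hom_eq_one_of_mem_commutator S le_rfl Abelianization.of q.2 (hle q.2) fun g => ?_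
    obtain ⟨x, hx, k, hk, rfl⟩ := CfsgLib.Transfer.exists_mul_mem_pResidual S g
    have hkC : k ∈ Subgroup.centralizer ((S : Subgroup G) : Set G) :=
      CfsgLib.Transfer.pResidual_le_iff.mpr (fun g' hg' => hN g'
        ((Subgroup.normalizer_eq_top (S : Subgroup G)).symm ▸ Subgroup.mem_top g') hg') hk
    have hxq : x⁻¹ * (q : G) * x ∈ (S : Subgroup G) := mul_mem (mul_mem (inv_mem hx) q.2) hx
    have e : (x * k)⁻¹ * q * (x * k) = x⁻¹ * q * x := by
      have := Subgroup.mem_centralizer_iff.mp hkC _ hxq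
      calc (x * k)⁻¹ * (q : G) * (x * k) = k⁻¹ * ((x⁻¹ * q * x) * k) := by group
        _ = x⁻¹ * q * x := by rw [this]; group
    calc Abelianization.of (⟨(x * k)⁻¹ * q * (x * k), _⟩ : (S : Subgroup G))
        = Abelianization.of ((⟨x, hx⟩ : (S : Subgroup G))⁻¹ * q * ⟨x, hx⟩) :=
          congrArg _ (Subtype.ext e)
      _ = _ := by rw [map_mul, map_mul, map_inv, mul_right_comm, inv_mul_cancel, one_mul]
  haveI : Group.IsNilpotent (S : Subgroup G) := S.2.isNilpotent
  haveI : Group.IsSolvable (S : Subgroup G) := inferInstance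
  refine (Group.IsSolvable.commutator_lt_top_of_nontrivial (S : Subgroup G)).ne ?_
  rw [eq_top_iff]
  intro q _
  rw [← Abelianization.ker_of, MonoidHom.mem_ker]
  exact key q

/-- The automizer hypothesis passes to quotients by subgroups of `S`. -/
theorem automizer_quotient (S : Sylow p G) {P : Subgroup G} [P.Normal]
    (hPS : P ≤ (S : Subgroup G))
    (hN : ∀ g ∈ Subgroup.normalizer ((S : Subgroup G) : Set G), (orderOf g).Coprime p →
      g ∈ Subgroup.centralizer ((S : Subgroup G) : Set G)) :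
    ∀ g ∈ Subgroup.normalizer (((S : Subgroup G).map (QuotientGroup.mk' P) :
        Subgroup (G ⧸ P)) : Set (G ⧸ P)), (orderOf g).Coprime p →
      g ∈ Subgroup.centralizer (((S : Subgroup G).map (QuotientGroup.mk' P) :
        Subgroup (G ⧸ P)) : Set (G ⧸ P)) := by
  intro g hg hgo
  obtain ⟨x, rfl⟩ := QuotientGroup.mk'_surjective P g
  have hxN : x ∈ Subgroup.normalizer ((S : Subgroup G) : Set G) := by
    have h := Subgroup.le_normalizer_comap (H := (S : Subgroup G).map (QuotientGroup.mk' P))
      (QuotientGroup.mk' P) (show x ∈ (Subgroup.normalizer _).comap _ from hg)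
    rwa [Subgroup.comap_map_eq, QuotientGroup.ker_mk', sup_eq_left.mpr hPS] at h
  obtain ⟨k, hk⟩ := CfsgLib.Transfer.exists_pow_prime_pow_coprime (p := p) x
  have hxC := hN _ (pow_mem hxN (p ^ k)) hk
  have h1 : (QuotientGroup.mk' P x) ^ p ^ k ∈
      Subgroup.centralizer (((S : Subgroup G).map (QuotientGroup.mk' P) :
        Subgroup (G ⧸ P)) : Set (G ⧸ P)) := by
    rw [Subgroup.mem_centralizer_iff]
    rintro _ ⟨s, hs, rfl⟩
    rw [← map_pow, ← map_mul, ← map_mul, Subgroup.mem_centralizer_iff.mp hxC s hs]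
  obtain ⟨m, hm⟩ := exists_pow_eq_self_of_coprime (hgo.pow_right k).symm
  rw [← hm]
  exact pow_mem h1 m

end CfsgLib.Techniques
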