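import Cfsg.Agent.Lib.Techniques.KInfTheorems
import Cfsg.Agent.S1971
import Cfsg.Agent.S0144

/-!
A complement in the normalizer of the lower K-infinity subgroup; self-normalizing Sylow subgroups.
-/

set_option autoImplicit false
set_option linter.all false

namespace CfsgLib.Techniques

open Subgroup Cfsg
open scoped commutatorElement

universe u

variable {G : Type u} [Group G] [Finite G] {p : ℕ} [hp : Fact p.Prime]

theorem npc_normalizer_kInfLower (S : Sylow p G)
    (h : ∀ g ∈ Subgroup.normalizer
        ((inducedFunctor kInfLower (S : Subgroup G) : Subgroup G) : Set G),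
      (orderOf g).Coprime p →
        g ∈ Subgroup.centralizer ((inducedFunctor kInfLower (S : Subgroup G) : Subgroup G) : Set G)) :
    HasNormalPComplement p ↥(Subgroup.normalizer
      ((inducedFunctor kInfLower (S : Subgroup G) : Subgroup G) : Set G)) := by
  set K := inducedFunctor kInfLower (S : Subgroup G) with hK
  set N := Subgroup.normalizer (K : Set G) with hN
  have hKS : K ≤ (S : Subgroup G) := map_subtype_le _
  have hSN : (S : Subgroup G) ≤ N :=
    le_normalizer_functor (inducedFunctor_isConjugacyFunctor kInf_isCharPFunctor.1 G) S.2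
  have hcen : (S : Subgroup G) ⊓ Subgroup.centralizer (K : Set G) ≤ K := by
    intro x hx
    obtain ⟨hxS, hxc⟩ := mem_inf.mp hx
    exact ⟨⟨x, hxS⟩, (centralizer_kInf_le S.2).1 (mem_centralizer_iff.mpr fun b hb =>
      Subtype.ext (mem_centralizer_iff.mp hxc _ (mem_map_of_mem _ hb))), rfl⟩
  set C := (Subgroup.centralizer (K : Set G)).subgroupOf N with hC
  haveI hCn : C.Normal := Subgroup.Normal.mk fun c hc n => mem_subgroupOf.mpr
    (le_normalizer_iff.mp (normalizer_le_normalizer_centralizer' K) n n.2 c (mem_subgroupOf.mp hc))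
  let S' : Sylow p N := S.subtype hSN
  have hSC : ∀ x ∈ (S' : Subgroup N), x ∈ C → ∀ c ∈ C, c * x = x * c := by
    intro x hx hxC c hc
    apply Subtype.ext
    exact (mem_centralizer_iff.mp (mem_subgroupOf.mp hc) _
      (hcen (mem_inf.mpr ⟨mem_subgroupOf.mp hx, mem_subgroupOf.mp hxC⟩))).symm
  obtain ⟨P⟩ : Nonempty (Sylow p C) := inferInstance
  have hPcen : ∀ x ∈ (P : Subgroup C), ∀ c : C, c * x = x * c := by
    intro x hx c
    obtain ⟨Q, hQ⟩ := (P.2.map C.subtype).exists_le_sylow
    obtain ⟨n, hn⟩ := MulAction.exists_smul_eq N Q S'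
    have hxQ : n * (x : N) * n⁻¹ ∈ (S' : Subgroup N) := by
      rw [← hn, Sylow.coe_subgroup_smul]
      exact Subgroup.smul_mem_pointwise_smul _ (MulAut.conj n) _ (hQ ⟨x, hx, rfl⟩)
    have h1 := hSC _ hxQ (hCn.conj_mem _ x.2 n) (n * (c : N) * n⁻¹) (hCn.conj_mem _ c.2 n)
    exact Subtype.ext ((MulAut.conj n).injective (by
      show n * ((c : N) * x) * n⁻¹ = n * ((x : N) * c) * n⁻¹
      calc n * ((c : N) * x) * n⁻¹ = (n * c * n⁻¹) * (n * x * n⁻¹) := by group
        _ = (n * x * n⁻¹) * (n * c * n⁻¹) := h1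
        _ = _ := by group))
  have hnpc : HasNormalPComplement p C :=
    CfsgLib.Transfer.hasNormalPComplement_of_centralizes P fun Q hQ c _ _ =>
      mem_centralizer_iff.mpr fun x hx => (hPcen x (hQ hx) c).symm
  refine CfsgLib.Transfer.hasNormalPComplement_of_centralizes S' fun X hX g hg hgc => ?_
  have hgC : g ∈ C := mem_subgroupOf.mpr (h (g : G) g.2 (by rwa [orderOf_coe]))
  refine mem_centralizer_iff.mpr fun x hx => ?_
  have hy : g * x * g⁻¹ * x⁻¹ ∈ X := mul_mem ((mem_normalizer_iff.mp hg x).mp hx) (inv_mem hx)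
  have hgC' : (⟨g, hgC⟩ : C) ∈ Cfsg.pResidual p C :=
    (CfsgLib.Transfer.mem_pResidual_iff_coprime hnpc).mpr (by rw [← orderOf_coe]; exact hgc)
  have hxgC : x * g⁻¹ * x⁻¹ ∈ C := hCn.conj_mem _ (inv_mem hgC) x
  have hxg : (⟨_, hxgC⟩ : C) ∈ Cfsg.pResidual p C := by
    refine (CfsgLib.Transfer.mem_pResidual_iff_coprime hnpc).mpr ?_
    rw [← orderOf_coe]
    show (orderOf (x * g⁻¹ * x⁻¹)).Coprime p
    rw [← MulAut.conj_apply, MulEquiv.orderOf_eq, orderOf_inv]
    exact hgc
  have hcop := (CfsgLib.Transfer.mem_pResidual_iff_coprime hnpc).mp (mul_mem hgC' hxg)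
  rw [← orderOf_coe] at hcop
  have hy1 := CfsgLib.Transfer.eq_one_of_coprime_of_isPGroup (S'.2.to_le hX) (g := ⟨_, hy⟩) (by
    rw [orderOf_mk]
    simpa [mul_assoc] using hcop)
  have h4 : g * x * g⁻¹ * x⁻¹ = 1 := congrArg Subtype.val hy1
  rw [mul_inv_eq_one, mul_inv_eq_iff_eq_mul] at h4
  exact h4.symm

omit hp in
/-- A finite group all of whose Sylow normalizers are the Sylow subgroups has prime power order. -/
theorem exists_prime_isPGroup (h : ∀ q : ℕ, q.Prime → q ∣ Nat.card G → ∀ Q : Sylow q G,
    Subgroup.normalizer ((Q : Subgroup G) : Set G) = Q) : ∃ q : ℕ, q.Prime ∧ IsPGroup q G := by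
  -- a normal subgroup of prime index leaves no other prime
  have key : ∀ (p : ℕ) (N : Subgroup G), p.Prime → N.Normal → N.index = p → IsPGroup p G := by
    intro p N hp hN hi
    haveI := Fact.mk hp
    refine IsPGroup.of_card (n := (Nat.card G).primeFactorsList.length)
      (Nat.eq_prime_pow_of_unique_prime_dvd Nat.card_pos.ne' fun {q} hq hqd => ?_)
    by_contra hne
    haveI := Fact.mk hq
    haveI := hN
    obtain ⟨Q⟩ : Nonempty (Sylow q N) := inferInstance
    have hQe : (Q : Subgroup N).map N.subtype =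
        (Sylow.ofCard ((Q : Subgroup N).map N.subtype) (by
          rw [card_map_of_injective N.subtype_injective, Q.card_eq_multiplicity]
          congr 1
          rw [← Subgroup.card_mul_index N, hi, Nat.factorization_mul Nat.card_pos.ne' hp.ne_zero,
            hp.factorization]
          simp [Finsupp.single_eq_of_ne hne]) : Sylow q G) := (Sylow.coe_ofCard _ _).symm
    have htop := Sylow.normalizer_sup_eq_top Q
    rw [hQe, h q hq hqd, ← hQe, sup_eq_right.mpr (map_subtype_le _)] at htop
    rw [htop, index_top] at hi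
    exact hp.ne_one hi.symm
  by_cases h1 : Nat.card G = 1
  · exact ⟨2, Nat.prime_two, IsPGroup.of_card (n := 0) (by rw [pow_zero, h1])⟩
  by_cases h5 : ∃ p : ℕ, p.Prime ∧ 5 ≤ p ∧ p ∣ Nat.card G
  · obtain ⟨p, hp, hp5, hpd⟩ := h5
    haveI := Fact.mk hp
    obtain ⟨S⟩ : Nonempty (Sylow p G) := inferInstance
    obtain ⟨N, hN, hi⟩ := Cfsg.Agent.S1971.result (G := G) _
      (kInf_isCharPFunctor (p := p)).1
      (kInf_transfer_sections (kInf_isCharPFunctor (p := p)).1 kBad_lower hp5) S
      (S.ne_bot_of_dvd_card hpd) (fun g hg hgo => by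
        rw [h p hp hpd S] at hg
        obtain ⟨k, hk⟩ := S.2 ⟨g, hg⟩
        have hk' : g ^ p ^ k = 1 := congrArg Subtype.val hk
        rw [orderOf_eq_one_iff.mp (Nat.eq_one_of_dvd_coprimes (hgo.pow_right k) dvd_rfl
          (orderOf_dvd_of_pow_eq_one hk'))]
        exact one_mem _)
    exact ⟨p, hp, key p N hp hN hi⟩
  · have hsub : ∀ q : ℕ, q.Prime → q ∣ Nat.card G → q = 2 ∨ q = 3 := by
      intro q hq hqd
      by_contra hc
      refine h5 ⟨q, hq, ?_, hqd⟩
      have := hq.two_le
      have hq4 : q ≠ 4 := by rintro rfl; norm_num at hq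
      omega
    have hcard : Nat.card G =
        2 ^ (Nat.card G).factorization 2 * 3 ^ (Nat.card G).factorization 3 := by
      refine Nat.eq_of_factorization_eq Nat.card_pos.ne' (by positivity) fun q => ?_
      rw [Nat.factorization_mul (by positivity) (by positivity), Nat.Prime.factorization_pow
        Nat.prime_two, Nat.Prime.factorization_pow Nat.prime_three]
      by_cases hq : q.Prime ∧ q ∣ Nat.card G
      · rcases hsub q hq.1 hq.2 with rfl | rfl <;> simp
      · have h0 : (Nat.card G).factorization q = 0 := by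
          rw [Nat.factorization_eq_zero_iff]
          tauto
        have h2 : q = 2 → (Nat.card G).factorization 2 = 0 := fun e => e ▸ h0
        have h3 : q = 3 → (Nat.card G).factorization 3 = 0 := fun e => e ▸ h0
        rcases eq_or_ne q 2 with rfl | h2'
        · simp [h0]
        rcases eq_or_ne q 3 with rfl | h3'
        · simp [h0]
        simp [h0, Finsupp.single_eq_of_ne h2', Finsupp.single_eq_of_ne h3']
    haveI : Group.IsSolvable G := Cfsg.Agent.S0144.result 2 3 _ _ Nat.prime_two Nat.prime_three hcard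
    haveI : Nontrivial G := Finite.one_lt_card_iff_nontrivial.mp (by
      have := Nat.card_pos (α := G); omega)
    have hne : commutator G ≠ ⊤ := (Group.IsSolvable.commutator_lt_top_of_nontrivial G).ne
    obtain ⟨M, hMt, hcM⟩ := (eq_top_or_exists_le_coatom (commutator G)).resolve_left hne
    haveI hMn : M.Normal := Subgroup.Normal.mk fun x hx g => by
      have : g * x * g⁻¹ = ⁅g, x⁆ * x := by rw [commutatorElement_def]; group
      rw [this]
      exact mul_mem (hcM (commutator_mem_commutator (mem_top g) (mem_top x))) hx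
    obtain ⟨q, hq, hqd⟩ := Nat.exists_prime_and_dvd (n := M.index) (fun e => hMt.1 (index_eq_one.mp e))
    haveI := Fact.mk hq
    obtain ⟨y, hy⟩ := exists_prime_orderOf_dvd_card' (G := G ⧸ M) q (by rwa [← index_eq_card])
    have hZ : (Subgroup.zpowers y).comap (QuotientGroup.mk' M) = ⊤ := by
      refine hMt.2 _ (lt_of_le_of_ne (fun x hx => ?_) fun e => ?_)
      · rw [mem_comap, QuotientGroup.mk'_apply, (QuotientGroup.eq_one_iff x).mpr hx]
        exact one_mem _
      · obtain ⟨z, rfl⟩ := QuotientGroup.mk'_surjective M y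
        have hz : z ∈ M := e.ge (mem_zpowers _)
        rw [QuotientGroup.mk'_apply, (QuotientGroup.eq_one_iff z).mpr hz, orderOf_one] at hy
        exact hq.ne_one hy.symm
    have hM : M.index = q := by
      rw [index_eq_card, ← hy, ← Nat.card_zpowers, ← map_comap_eq_self_of_surjective
        (QuotientGroup.mk'_surjective M) (Subgroup.zpowers y), hZ,
        map_top_of_surjective _ (QuotientGroup.mk'_surjective M), card_top]
    exact ⟨q, hq, key q M hq hMn hM⟩

end CfsgLib.Techniques
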