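import Cfsg.Agent.Lib.Techniques.Criterion
import Cfsg.Agent.Lib.Transfer.Stability
import Cfsg.Prelude.Def_LocalEven
import Cfsg.Agent.Lib.OddLocal.Basic

/-!
The structure of a minimal failure of a normal `p`-complement criterion, and its stability for
odd `p`.
-/

namespace CfsgLib.Techniques

open Subgroup Cfsg
open scoped commutatorElement

universe u

variable {p : ℕ} [Fact p.Prime]

/-- A `p`-group, an abelian `p'`-group and a `p`-group on top of each other. -/
def AbelianMiddle (p : ℕ) (H : Type*) [Group H] : Prop :=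
  ∃ (A B : Subgroup H) (_ : B.Normal), A ≤ B ∧ A.Normal ∧ IsPGroup p A ∧ ⁅B, B⁆ ≤ A ∧
    (A.relIndex B).Coprime p ∧ ∃ k, B.index = p ^ k

theorem AbelianMiddle.subgroup {H : Type*} [Group H] (h : AbelianMiddle p H) (L : Subgroup H) :
    AbelianMiddle p L := by
  obtain ⟨A, B, hB, hAB, hA, hAp, hBB, hco, k, hk⟩ := h
  haveI := hA
  refine ⟨A.subgroupOf L, B.subgroupOf L, hB.subgroupOf L, Subgroup.comap_mono hAB,
    hA.subgroupOf L, hAp.comap_subtype, ?_, ?_, ?_⟩
  · refine (Subgroup.map_le_iff_le_comap (f := L.subtype)).mp ?_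
    rw [Subgroup.map_commutator]
    exact (Subgroup.commutator_mono (Subgroup.map_comap_le _ _) (Subgroup.map_comap_le _ _)).trans
      hBB
  · have he : (A.subgroupOf L).relIndex (B.subgroupOf L) = A.relIndex (B ⊓ L) := by
      rw [← Subgroup.inf_subgroupOf_right B L, Subgroup.relIndex_subgroupOf inf_le_right]
    rw [he]
    exact hco.coprime_dvd_left (CfsgLib.PLocal.relIndex_dvd_of_normal_le _ inf_le_left)
  · have hd : (B.subgroupOf L).index ∣ p ^ k := hk ▸ Subgroup.relIndex_dvd_index_of_normal B L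
    obtain ⟨j, -, hj⟩ := (Nat.dvd_prime_pow Fact.out).mp hd
    exact ⟨j, hj⟩

theorem AbelianMiddle.of_surjective {H H' : Type*} [Group H] [Group H'] (h : AbelianMiddle p H)
    (f : H →* H') (hf : Function.Surjective f) : AbelianMiddle p H' := by
  obtain ⟨A, B, hB, hAB, hA, hAp, hBB, hco, k, hk⟩ := h
  refine ⟨A.map f, B.map f, hB.map f hf, Subgroup.map_mono hAB, hA.map f hf, hAp.map f, ?_, ?_, ?_⟩
  · rw [← Subgroup.map_commutator]
    exact Subgroup.map_mono hBB
  · refine hco.coprime_dvd_left ?_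
    rw [← Subgroup.relIndex_comap, Subgroup.comap_map_eq]
    exact Subgroup.relIndex_dvd_of_le_left _ le_sup_left
  · have hd : (B.map f).index ∣ p ^ k := hk ▸ Subgroup.index_map_dvd B hf
    obtain ⟨j, -, hj⟩ := (Nat.dvd_prime_pow Fact.out).mp hd
    exact ⟨j, hj⟩

theorem AbelianMiddle.of_isSec {H L : Type u} [Group H] [Group L] (h : AbelianMiddle p H)
    (hs : IsSec H L) : AbelianMiddle p L := by
  obtain ⟨K, f, hf⟩ := hs
  exact (h.subgroup K).of_surjective f hf

/-- For odd `p` these groups have no quadratic linear sections. -/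
theorem noQuad_of_abelianMiddle {G : Type u} [Group G] [Finite G] (hp : p ≠ 2)
    (h : AbelianMiddle p G) : CfsgLib.Transfer.NoQuad p G := by
  intro X _ _ V L hL hV hN hf hO x hx hxp hq
  obtain ⟨A, B, hB, hAB, hA, hAp, hBB, hco, k, hk⟩ := h.of_isSec hL
  haveI := hA
  haveI := hB
  have hA1 : A = ⊥ := le_bot_iff.mp (hO ▸ CfsgLib.Core.le_pCore hAp)
  subst hA1
  rw [Subgroup.relIndex_bot_left] at hco
  -- work in the normalizer of `V`
  set T := B.map L.subtype with hT
  have hTL : T ≤ L := Subgroup.map_subtype_le _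
  haveI hTc : IsMulCommutative T := by
    rw [← Subgroup.le_centralizer_iff_isMulCommutative]
    rintro _ ⟨a, ha, rfl⟩
    rw [Subgroup.mem_centralizer_iff]
    rintro _ ⟨b, hb, rfl⟩
    have := hBB (Subgroup.commutator_mem_commutator hb ha)
    rw [Subgroup.mem_bot, commutatorElement_eq_one_iff_mul_comm] at this
    exact congrArg Subtype.val this
  have hTcard : (Nat.card T).Coprime p := by
    rwa [hT, Subgroup.card_map_of_injective L.subtype_injective]
  have hxT : x ∈ Subgroup.normalizer (T : Set X) :=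
    Subgroup.le_normalizer_map L.subtype
      ⟨⟨x, hx⟩, (Subgroup.normalizer_eq_top B).ge (Subgroup.mem_top _), rfl⟩
  obtain ⟨i, hi⟩ := hxp
  have hzT : Subgroup.zpowers x ≤ Subgroup.normalizer (T : Set X) := Subgroup.zpowers_le.mpr hxT
  have hzc : (Nat.card (Subgroup.zpowers x)).Coprime (Nat.card T) := by
    rw [Nat.card_zpowers, hi]
    exact (hTcard.pow_right i).symm
  set S := ⁅T, Subgroup.zpowers x⁆ with hS
  have hST : S ≤ T := Subgroup.le_normalizer_iff_commutator_le_left.mp hzT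
  have hxS : x ∈ Subgroup.normalizer (S : Set X) :=
    CfsgLib.Core.le_normalizer_commutator_self (Subgroup.zpowers x) T
      (Subgroup.mem_sup_right (Subgroup.mem_zpowers x))
  set N := Subgroup.normalizer (V : Set X) with hNdef
  haveI : (V.subgroupOf N).Normal := Subgroup.normal_in_normalizer
  have hsc : S.subgroupOf N ≤ Subgroup.centralizer ((V.subgroupOf N : Subgroup N) : Set N) := by
    refine CfsgLib.PLocal.centralizes_of_quadratic hp ⟨?_, ?_⟩ (n := ⟨x, hN hx⟩) ?_ ?_ ?_ ?_
    · haveI := hV.1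
      exact ⟨⟨fun a b => Subtype.ext (Subtype.ext
        (show ((a : N) : X) * ((b : N) : X) = ((b : N) : X) * ((a : N) : X) from
          congrArg Subtype.val (mul_comm' (⟨((a : N) : X), a.2⟩ : V) ⟨((b : N) : X), b.2⟩)))⟩⟩
    · intro a ha
      exact Subtype.ext (hV.2 _ ha)
    · rw [Subgroup.mem_normalizer_iff]
      intro s
      exact Subgroup.mem_normalizer_iff.mp hxS (s : X)
    · intro j hj s hs hcomm
      have hcop : j.Coprime (orderOf x) := by
        rw [hi]
        exact ((Fact.out : p.Prime).coprime_iff_not_dvd.mpr hj).symm.pow_right i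
      obtain ⟨l, hl⟩ := exists_pow_eq_self_of_coprime hcop
      have hc : Commute (x ^ j) (s : X) := congrArg Subtype.val hcomm
      have hc' : Commute x (s : X) := hl ▸ hc.pow_left l
      refine Subtype.ext (Subgroup.mem_bot.mp
        ((CfsgLib.Core.abelian_inf_eq_bot hzT hzc).le (Subgroup.mem_inf.mpr
          ⟨Subgroup.mem_inf.mpr ⟨hST hs, Subgroup.mem_centralizer_iff.mpr ?_⟩, hs⟩)))
      rintro _ ⟨m, rfl⟩
      exact (hc'.zpow_left m).eq
    · intro v hv
      exact Subtype.ext (CfsgLib.PLocal.quad_of_commutator hq hv)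
    · rw [Nat.card_congr (Subgroup.subgroupOfEquivOfLe ((hST.trans hTL).trans hN)).toEquiv]
      exact hTcard.coprime_dvd_left (Subgroup.card_dvd_of_le hST)
  have hS1 : S = ⊥ := by
    rw [eq_bot_iff, ← hf]
    refine le_inf (hST.trans hTL) fun s hs => Subgroup.mem_centralizer_iff.mpr fun v hv => ?_
    exact congrArg Subtype.val (Subgroup.mem_centralizer_iff.mp
      (hsc (show (⟨s, hN (hTL (hST hs))⟩ : N) ∈ S.subgroupOf N from hs)) ⟨v, Subgroup.le_normalizer hv⟩ hv)
  -- `C(B) ≤ B`
  have hxC : ∀ b ∈ B, b * (⟨x, hx⟩ : L) = ⟨x, hx⟩ * b := fun b hb => Subtype.ext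
    (Subgroup.mem_centralizer_iff.mp
      (Subgroup.commutator_eq_bot_iff_le_centralizer.mp hS1 ⟨b, hb, rfl⟩)
      x (Subgroup.mem_zpowers x)).symm
  set C := Subgroup.centralizer (B : Set L) with hCdef
  haveI hFin : Finite L := Subtype.finite
  have hBC : B ≤ C := Subgroup.le_centralizer_iff_isMulCommutative.mpr ⟨⟨fun a b =>
    Subtype.ext (commutatorElement_eq_one_iff_mul_comm.mp
      (Subgroup.mem_bot.mp (hBB (Subgroup.commutator_mem_commutator a.2 b.2))))⟩⟩
  have hCB : C ≤ B := by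
    have hnpc : Cfsg.HasNormalPComplement p C := by
      refine CfsgLib.Transfer.hasNormalPComplement_iff_exists.mpr
        ⟨B.subgroupOf C, inferInstance, ?_, ?_⟩
      · rwa [Nat.card_congr (Subgroup.subgroupOfEquivOfLe hBC).toEquiv]
      · obtain ⟨j, -, hj⟩ := (Nat.dvd_prime_pow Fact.out).mp
          (hk ▸ Subgroup.relIndex_dvd_index_of_normal B C)
        exact IsPGroup.of_card (n := j) (by rw [← Subgroup.index_eq_card]; exact hj)
    obtain ⟨S'⟩ : Nonempty (Sylow p C) := inferInstance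
    -- the Sylow subgroup of `C` is normal, since `B` centralizes it
    have hnorm : (S' : Subgroup C).Normal := by
      rw [← Subgroup.normalizer_eq_top_iff, eq_top_iff]
      have hsup : B.subgroupOf C ⊔ (S' : Subgroup C) = ⊤ := by
        refine CfsgLib.Transfer.sup_sylow_eq_top ?_ S'
        obtain ⟨j, -, hj⟩ := (Nat.dvd_prime_pow Fact.out).mp
          (hk ▸ Subgroup.relIndex_dvd_index_of_normal B C)
        exact IsPGroup.of_card (n := j) (by rw [← Subgroup.index_eq_card]; exact hj)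
      rw [← hsup]
      refine sup_le (le_trans ?_ (Subgroup.centralizer_le_normalizer _)) Subgroup.le_normalizer
      intro b hb
      rw [Subgroup.mem_centralizer_iff]
      intro s _
      exact Subtype.ext (Subgroup.mem_centralizer_iff.mp s.2 (b : L) hb).symm
    have h1 : (S' : Subgroup C).map C.subtype = ⊥ := le_bot_iff.mp (hO ▸
      (Subgroup.map_mono (CfsgLib.Core.le_pCore S'.2)).trans (CfsgLib.Core.map_subtype_pCore_le C))
    rw [Subgroup.map_eq_bot_iff_of_injective _ C.subtype_injective] at h1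
    intro c hc
    have hsup : B.subgroupOf C ⊔ (S' : Subgroup C) = ⊤ := by
      refine CfsgLib.Transfer.sup_sylow_eq_top ?_ S'
      obtain ⟨j, -, hj⟩ := (Nat.dvd_prime_pow Fact.out).mp
        (hk ▸ Subgroup.relIndex_dvd_index_of_normal B C)
      exact IsPGroup.of_card (n := j) (by rw [← Subgroup.index_eq_card]; exact hj)
    rw [h1, sup_bot_eq, Subgroup.subgroupOf_eq_top] at hsup
    exact hsup hc
  have hxB : (⟨x, hx⟩ : L) ∈ B := hCB (Subgroup.mem_centralizer_iff.mpr hxC)
  refine orderOf_eq_one_iff.mp (Nat.eq_one_of_dvd_coprimes (hTcard.pow_right i)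
    (Subgroup.orderOf_dvd_natCard T ⟨⟨x, hx⟩, hxB, rfl⟩) hi.dvd)

/-- In a minimal failure the complement of `O_p` is abelian. -/
theorem CriterionFailure.isMulCommutative {W : ∀ (Q : Type u) [Group Q], Subgroup Q} {H : Type u}
    [Group H] [Finite H] {S : Sylow p H} (hf : CriterionFailure W S) :
    IsMulCommutative (Cfsg.pResidual p (H ⧸ Cfsg.pCore p H) : Subgroup (H ⧸ Cfsg.pCore p H)) ∧
    ∀ L : Subgroup (H ⧸ Cfsg.pCore p H), L ≤ Cfsg.pResidual p (H ⧸ Cfsg.pCore p H) →
      (S : Subgroup H).map (QuotientGroup.mk' (Cfsg.pCore p H)) ≤ Subgroup.normalizer (L : Set _) →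
      L ≠ ⊥ → L = Cfsg.pResidual p (H ⧸ Cfsg.pCore p H) := by
  set Q := Cfsg.pCore p H with hQ
  set π := QuotientGroup.mk' Q with hπ
  set K := Cfsg.pResidual p (H ⧸ Q) with hK
  let S' : Sylow p (H ⧸ Q) := S.mapSurjective (QuotientGroup.mk'_surjective Q)
  have hS' : (S' : Subgroup (H ⧸ Q)) = (S : Subgroup H).map π := Sylow.coe_mapSurjective _ _
  have hKc : (Nat.card K).Coprime p :=
    CfsgLib.Transfer.hasNormalPComplement_iff_coprime.mp hf.quotient
  have hKS : (S' : Subgroup (H ⧸ Q)) ⊓ K = ⊥ := inf_eq_bot_of_coprime S'.2 hKc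
  have hmax : ∀ L : Subgroup (H ⧸ Q), L ≤ K → (S : Subgroup H).map π ≤
      Subgroup.normalizer (L : Set _) → L ≠ ⊥ → L = K := by
    intro L hLK hLn hne
    rw [← hS'] at hLn
    have hcm : ((S : Subgroup H).map π).comap π = (S : Subgroup H) := by
      rw [Subgroup.comap_map_eq, hπ, QuotientGroup.ker_mk', sup_eq_left.mpr hf.lt.le]
    have hSU : (S : Subgroup H) < (L ⊔ (S' : Subgroup (H ⧸ Q))).comap π := by
      refine lt_of_le_of_ne ?_ fun he => hne ?_
      · exact hcm.ge.trans (Subgroup.comap_mono (hS' ▸ le_sup_right))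
      · have hLS : L ≤ (S' : Subgroup (H ⧸ Q)) := by
          rw [hS']
          have h := congrArg (Subgroup.map π) he
          rw [Subgroup.map_comap_eq_self_of_surjective (QuotientGroup.mk'_surjective Q)] at h
          exact le_sup_left.trans h.ge
        exact le_bot_iff.mp (hKS ▸ le_inf hLS hLK)
    have htop : L ⊔ (S' : Subgroup (H ⧸ Q)) = ⊤ := by
      rw [← Subgroup.map_comap_eq_self_of_surjective (QuotientGroup.mk'_surjective Q)
        (L ⊔ (S' : Subgroup (H ⧸ Q))), ← hπ, hf.coatom.2 _ hSU]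
      exact Subgroup.map_top_of_surjective π (QuotientGroup.mk'_surjective Q)
    refine le_antisymm hLK fun k hk => ?_
    have hk' : k ∈ L ⊔ (S' : Subgroup (H ⧸ Q)) := by
      rw [htop]; trivial
    obtain ⟨l, hl, s, hs, rfl⟩ := CfsgLib.OddLocal.mem_sup_of_le_normalizer hLn |>.mp hk'
    have hsK : s ∈ (S' : Subgroup (H ⧸ Q)) ⊓ K :=
      Subgroup.mem_inf.mpr ⟨hs, by simpa using mul_mem (inv_mem (hLK hl)) hk⟩
    rw [hKS, Subgroup.mem_bot] at hsK
    rwa [hsK, mul_one]
  refine ⟨?_, hmax⟩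
  by_cases hK1 : K = ⊥
  · rw [hK1]; infer_instance
  obtain ⟨q, hq, hqK⟩ := Nat.exists_prime_and_dvd
    (fun h => hK1 (Subgroup.card_eq_one.mp h) : Nat.card K ≠ 1)
  haveI : Fact q.Prime := ⟨hq⟩
  obtain ⟨R⟩ : Nonempty (Sylow q K) := inferInstance
  set RG := (R : Subgroup K).map K.subtype with hRG
  have hRs : IsSylowSub q RG K := ⟨Subgroup.map_subtype_le _, R.2.map _, by
    rw [hRG, Subgroup.relIndex, Subgroup.subgroupOf, Subgroup.comap_map_eq_self_of_injective
      K.subtype_injective]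
    exact R.not_dvd_index⟩
  have hRne : RG ≠ ⊥ := fun h => by
    rw [hRG, Subgroup.map_eq_bot_iff_of_injective _ K.subtype_injective] at h
    have hne : (R : Subgroup K) ≠ ⊥ := R.ne_bot_of_dvd_card hqK
    exact hne h
  -- some conjugate of `S'` normalizes `RG`
  set N := Subgroup.normalizer (RG : Set (H ⧸ Q)) with hN
  have hidx : ¬ p ∣ N.index := by
    have htop : K ⊔ N = ⊤ := by
      rw [eq_top_iff]
      intro g _
      obtain ⟨k, hk, n, -, hn, rfl⟩ := exists_mul_normalizer hRs (Subgroup.mem_top g)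
        (by rw [Subgroup.normalizer_eq_top]) le_top
      exact mul_mem (Subgroup.mem_sup_left hk) (Subgroup.mem_sup_right hn)
    intro hd
    have h1 : N.index ∣ Nat.card K := by
      have h := CfsgLib.Core.card_sup_mul_card_inf N K Subgroup.le_normalizer_of_normal
      rw [sup_comm, htop, Subgroup.card_top, ← N.index_mul_card] at h
      refine ⟨Nat.card (N ⊓ K : Subgroup (H ⧸ Q)), ?_⟩
      refine Nat.eq_of_mul_eq_mul_left (Nat.card_pos (α := N)) ?_
      rw [← h]
      ring
    exact (Fact.out : p.Prime).ne_one (Nat.eq_one_of_dvd_coprimes hKc (hd.trans h1) dvd_rfl)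
  obtain ⟨P₁, hP₁⟩ : ∃ P₁ : Sylow p (H ⧸ Q), (P₁ : Subgroup (H ⧸ Q)) ≤ N := by
    obtain ⟨P₀⟩ : Nonempty (Sylow p N) := inferInstance
    refine ⟨(P₀.2.map N.subtype).toSylow ?_, Subgroup.map_subtype_le _⟩
    have h1 := Subgroup.relIndex_mul_index (Subgroup.map_subtype_le (P₀ : Subgroup N))
    rw [← h1, (Fact.out : p.Prime).dvd_mul]
    rintro (h | h)
    · rw [Subgroup.relIndex, Subgroup.subgroupOf,
        Subgroup.comap_map_eq_self_of_injective N.subtype_injective] at h
      exact P₀.not_dvd_index h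
    · exact hidx h
  obtain ⟨g, hg⟩ := MulAction.exists_smul_eq (H ⧸ Q) P₁ S'
  set R' := RG.map (MulAut.conj g).toMonoidHom with hR'
  have hR'K : R' = K := by
    refine hmax R' ?_ ?_ fun h => hRne ?_
    · rw [← map_conj_of_mem_normalizer ((Subgroup.normalizer_eq_top K).ge (Subgroup.mem_top g))]
      exact Subgroup.map_mono hRs.1
    · rw [← hS', ← hg, Sylow.coe_subgroup_smul, hR', normalizer_map_conj']
      exact Subgroup.map_mono hP₁
    · rw [← map_conj_inv_conj RG g, ← hR', h, Subgroup.map_bot]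
  have hKq : IsPGroup q K := hR'K ▸ (hRs.2.1.map _)
  haveI : Group.IsNilpotent K := hKq.isNilpotent
  haveI : Nontrivial K := (Subgroup.nontrivial_iff_ne_bot _).mpr hK1
  have hKK : ⁅K, K⁆ = ⊥ := by
    by_contra hne
    have h := hmax ⁅K, K⁆ (commutator_le_self K)
      (le_top.trans (Subgroup.normalizer_eq_top _).ge) hne
    rw [← Subgroup.map_subtype_commutator] at h
    exact (Group.IsSolvable.commutator_lt_top_of_nontrivial K).ne
      (Subgroup.map_injective K.subtype_injective (h.trans (by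
        rw [← MonoidHom.range_eq_map, Subgroup.range_subtype])))
  exact ⟨⟨fun a b => Subtype.ext (commutatorElement_eq_one_iff_mul_comm.mp
    (Subgroup.mem_bot.mp (hKK ▸ Subgroup.commutator_mem_commutator a.2 b.2)))⟩⟩

theorem CriterionFailure.abelianMiddle {W : ∀ (Q : Type u) [Group Q], Subgroup Q} {H : Type u}
    [Group H] [Finite H] {S : Sylow p H} (hf : CriterionFailure W S) : AbelianMiddle p H := by
  set Q := Cfsg.pCore p H with hQ
  set π := QuotientGroup.mk' Q with hπ
  set K := Cfsg.pResidual p (H ⧸ Q) with hK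
  haveI := hf.isMulCommutative.1
  refine ⟨Q, K.comap π, inferInstance, (QuotientGroup.ker_mk' Q).ge.trans (Subgroup.ker_le_comap π K),
    inferInstance, CfsgLib.Core.isPGroup_pCore p H, ?_, ?_, ?_⟩
  · refine le_trans ?_ (le_of_eq (QuotientGroup.ker_mk' Q))
    rw [← hπ, ← MonoidHom.comap_bot, ← Subgroup.map_le_iff_le_comap, Subgroup.map_commutator]
    refine (Subgroup.commutator_mono (Subgroup.map_comap_le _ _) (Subgroup.map_comap_le _ _)).trans ?_
    rw [Subgroup.commutator_eq_bot_iff_le_centralizer.mpr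
      (Subgroup.le_centralizer_iff_isMulCommutative.mpr inferInstance)]
  · have h := Subgroup.relIndex_ker (K := K.comap π) π
    rw [hπ, QuotientGroup.ker_mk',
      Subgroup.map_comap_eq_self_of_surjective (QuotientGroup.mk'_surjective _)] at h
    rw [hπ, h]
    exact CfsgLib.Transfer.hasNormalPComplement_iff_coprime.mp hf.quotient
  · rw [Subgroup.index_comap_of_surjective _ (QuotientGroup.mk'_surjective _)]
    exact CfsgLib.Transfer.exists_index_pResidual

end CfsgLib.Techniques

namespace CfsgLib.Techniques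

open Subgroup Cfsg

universe v

variable {p : ℕ} [Fact p.Prime]

/-- Without linear quadratic sections a group is `p`-stable in the normalizer form. -/
theorem isNormalizerPStable_of_noQuad {G : Type v} [Group G] [Finite G]
    (hG : CfsgLib.Transfer.NoQuad p G) : Cfsg.IsNormalizerPStable p G := by
  intro P hP g hg hquad
  set N := Subgroup.normalizer (P : Set G) with hNdef
  have hNQ : CfsgLib.Transfer.NoQuad p N := hG.of_isSec ((isSec_self G).subgroup N)
  haveI : (P.subgroupOf N).Normal := Subgroup.normal_in_normalizer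
  set n : N := ⟨g, hg⟩ with hn
  have hC : Subgroup.centralizer ((P.subgroupOf N : Subgroup N) : Set N) =
      (Subgroup.centralizer (P : Set G)).subgroupOf N := by
    ext x
    rw [Subgroup.mem_subgroupOf, Subgroup.mem_centralizer_iff, Subgroup.mem_centralizer_iff]
    exact ⟨fun h y hy => congrArg Subtype.val (h ⟨y, Subgroup.le_normalizer hy⟩ hy),
      fun h y hy => Subtype.ext (h y hy)⟩
  -- a `p`-power of `g` centralizes `P`
  obtain ⟨e, he⟩ := IsPGroup.iff_card.mp hP
  have hc : ∀ x ∈ P, g ^ p ^ e * x = x * g ^ p ^ e := by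
    intro x hx
    set c := g * x * g⁻¹ * x⁻¹ with hcdef
    have hcP : c ∈ P := mul_mem ((Subgroup.mem_normalizer_iff.mp hg x).mp hx) (inv_mem hx)
    have hgc : g * c * g⁻¹ = c := CfsgLib.PLocal.quad_of_commutator hquad hx
    have hk : ∀ k : ℕ, g ^ k * x * (g ^ k)⁻¹ = c ^ k * x := by
      intro k
      induction k with
      | zero => simp
      | succ k ih =>
        calc g ^ (k + 1) * x * (g ^ (k + 1))⁻¹ = g * (g ^ k * x * (g ^ k)⁻¹) * g⁻¹ := by
              rw [pow_succ']; group
          _ = (g * c * g⁻¹) ^ k * (g * x * g⁻¹) := by rw [ih, conj_pow]; group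
          _ = c ^ (k + 1) * x := by
            rw [hgc, show g * x * g⁻¹ = c * x by rw [hcdef, inv_mul_cancel_right], ← mul_assoc,
              pow_succ]
    have hc1 : c ^ p ^ e = 1 := by
      rw [← he]
      exact orderOf_dvd_iff_pow_eq_one.mp (Subgroup.orderOf_dvd_natCard P hcP)
    have h := hk (p ^ e)
    rwa [hc1, one_mul, mul_inv_eq_iff_eq_mul] at h
  -- the `p`-part of `g`
  obtain ⟨k, m, hm, hkm⟩ :=
    Nat.exists_eq_pow_mul_and_not_dvd (orderOf_pos g).ne' p (Fact.out : p.Prime).ne_one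
  have hcop : IsCoprime (m : ℤ) ((p ^ e : ℕ) : ℤ) := Int.isCoprime_iff_gcd_eq_one.mpr
    (((Nat.Prime.coprime_iff_not_dvd Fact.out).mpr hm).symm.pow_right e)
  obtain ⟨a, b, hab⟩ := hcop
  set a' := n ^ ((m : ℤ) * a) with ha'
  have hgn : (QuotientGroup.mk n : N ⧸ Subgroup.centralizer ((P.subgroupOf N : Subgroup N) : Set N)) =
      QuotientGroup.mk a' := by
    have h1 : n ^ (((p ^ e : ℕ) : ℤ) * b) ∈
        Subgroup.centralizer ((P.subgroupOf N : Subgroup N) : Set N) := by
      rw [zpow_mul, zpow_natCast]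
      refine zpow_mem (Subgroup.mem_centralizer_iff.mpr fun y hy => Subtype.ext ?_) b
      exact (hc (y : G) hy).symm
    have e1 : n = a' * n ^ (((p ^ e : ℕ) : ℤ) * b) := by
      rw [ha', ← zpow_add, mul_comm (m : ℤ) a, mul_comm _ b, hab, zpow_one]
    conv_lhs => rw [e1]
    rw [QuotientGroup.mk_mul, (QuotientGroup.eq_one_iff _).mpr h1, mul_one]
  have hap : ∃ j : ℕ, orderOf a' = p ^ j := by
    have h1 : a' ^ p ^ k = 1 := by
      rw [ha', ← zpow_natCast, ← zpow_mul, ← orderOf_dvd_iff_zpow_eq_one, ← Subgroup.orderOf_coe]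
      show ((orderOf g : ℕ) : ℤ) ∣ _
      rw [hkm]
      exact ⟨a, by push_cast; ring⟩
    obtain ⟨j, -, hj⟩ := (Nat.dvd_prime_pow Fact.out).mp (orderOf_dvd_of_pow_eq_one h1)
    exact ⟨j, hj⟩
  have hq : ⁅⁅P.subgroupOf N, Subgroup.zpowers a'⁆, Subgroup.zpowers a'⁆ = ⊥ := by
    have hle : Subgroup.zpowers a' ≤ Subgroup.zpowers n :=
      Subgroup.zpowers_le.mpr (zpow_mem (Subgroup.mem_zpowers n) _)
    refine le_bot_iff.mp ((Subgroup.commutator_mono (Subgroup.commutator_mono le_rfl hle) hle).trans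
      (le_of_eq ?_))
    refine (Subgroup.map_eq_bot_iff_of_injective _ N.subtype_injective).mp ?_
    rw [Subgroup.map_commutator, Subgroup.map_commutator, MonoidHom.map_zpowers,
      Subgroup.map_subgroupOf_eq_of_le Subgroup.le_normalizer]
    exact hquad
  have h := CfsgLib.Transfer.quadratic_mem_of_noQuad _ N hNQ (P.subgroupOf N) rfl
    hP.comap_subtype a' hap hq
  rw [← hgn] at h
  show (QuotientGroup.mk n : N ⧸ (Subgroup.centralizer (P : Set G)).subgroupOf N) ∈ _
  rw [← CfsgLib.Core.map_equiv_pCore (QuotientGroup.quotientMulEquivOfEq hC)]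
  exact ⟨_, h, rfl⟩

/-- Control of fusion by a subgroup whose normalizer has a complement gives a complement. -/
theorem npc_of_fusion_control {G H : Type v} [Group G] [Finite G] [Group H] [Finite H] (e : G ≃* H)
    (T T₁ : Sylow p G) (U : Subgroup G)
    (hTN : (T : Subgroup G) ≤ Subgroup.normalizer (U : Set G)) (hUT : U ≤ (T₁ : Subgroup G))
    (hfus : ∀ A : Set G, A ⊆ (T₁ : Subgroup G) → ∀ g : G,
      (fun a => g * a * g⁻¹) '' A ⊆ (T₁ : Subgroup G) →
      ∃ x ∈ Subgroup.normalizer (U : Set G), ∀ a ∈ A, g * a * g⁻¹ = x * a * x⁻¹)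
    (hnpc : Cfsg.HasNormalPComplement p ((Subgroup.normalizer (U : Set G)).map e.toMonoidHom)) :
    Cfsg.HasNormalPComplement p H := by
  refine CfsgLib.Transfer.hasNormalPComplement_of_surjective e.toMonoidHom e.surjective ?_
  set N := Subgroup.normalizer (U : Set G) with hN
  have hnpc' : Cfsg.HasNormalPComplement p N :=
    CfsgLib.Transfer.hasNormalPComplement_of_injective
      (N.equivMapOfInjective e.toMonoidHom e.injective).toMonoidHom
      (N.equivMapOfInjective e.toMonoidHom e.injective).injective hnpc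
  refine CfsgLib.Transfer.hasNormalPComplement_of_centralizes T₁ fun X hX g hg hgc => ?_
  obtain ⟨x, hx, hxe⟩ := hfus (X : Set G) hX g (by
    rintro _ ⟨a, ha, rfl⟩
    exact hX ((Subgroup.mem_normalizer_iff.mp hg a).mp ha))
  have hXN : X ≤ N := by
    intro t ht
    obtain ⟨y, hy, hye⟩ := hfus (U : Set G) hUT t (by
      rintro _ ⟨a, ha, rfl⟩
      exact mul_mem (mul_mem (hX ht) (hUT ha)) (inv_mem (hX ht)))
    refine mem_normalizer_of_map_conj_eq (Subgroup.eq_of_le_of_card_ge ?_ (card_map_conj _ _).ge)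
    rintro _ ⟨a, ha, rfl⟩
    show MulAut.conj t a ∈ U
    rw [MulAut.conj_apply, hye a ha]
    exact (Subgroup.mem_normalizer_iff.mp hy a).mp ha
  have hxX : x ∈ Subgroup.normalizer (X : Set G) := by
    refine mem_normalizer_of_map_conj_eq (Subgroup.eq_of_le_of_card_ge ?_ (card_map_conj _ _).ge)
    rintro _ ⟨a, ha, rfl⟩
    show MulAut.conj x a ∈ X
    rw [MulAut.conj_apply, ← hxe a ha]
    exact (Subgroup.mem_normalizer_iff.mp hg a).mp ha
  obtain ⟨k, hk⟩ := CfsgLib.Transfer.exists_pow_prime_pow_coprime (p := p) (⟨x, hx⟩ : N)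
  haveI hnX : (X.subgroupOf (Subgroup.normalizer (X : Set G))).Normal := Subgroup.normal_in_normalizer
  have hxkX : ((⟨x, hx⟩ : N) ^ p ^ k) ∈ Subgroup.normalizer ((X.subgroupOf N : Subgroup N) : Set N) := by
    rw [Subgroup.mem_normalizer_iff]
    intro a
    exact Subgroup.mem_normalizer_iff.mp (pow_mem hxX (p ^ k)) (a : G)
  have hcen := CfsgLib.Transfer.mem_centralizer_of_hasNormalPComplement hnpc'
    (Q := X.subgroupOf N) ((T₁.2.to_le hX).comap_subtype) hxkX hk
  obtain ⟨m, hm⟩ := exists_pow_eq_self_of_coprime (hgc.pow_right k).symm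
  rw [← hm]
  refine pow_mem (Subgroup.mem_centralizer_iff.mpr fun a ha => ?_) m
  have hsame : ∀ j : ℕ, g ^ j * a * (g ^ j)⁻¹ = x ^ j * a * (x ^ j)⁻¹ := by
    intro j
    induction j with
    | zero => simp
    | succ j ih =>
      have hmem : x ^ j * a * (x ^ j)⁻¹ ∈ X :=
        (Subgroup.mem_normalizer_iff.mp (pow_mem hxX j) a).mp ha
      calc g ^ (j + 1) * a * (g ^ (j + 1))⁻¹ = g * (g ^ j * a * (g ^ j)⁻¹) * g⁻¹ := by
            rw [pow_succ']; group
        _ = x * (x ^ j * a * (x ^ j)⁻¹) * x⁻¹ := by rw [ih, hxe _ hmem]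
        _ = x ^ (j + 1) * a * (x ^ (j + 1))⁻¹ := by rw [pow_succ']; group
  have h1 : a * x ^ p ^ k = x ^ p ^ k * a :=
    congrArg Subtype.val (Subgroup.mem_centralizer_iff.mp hcen ⟨a, hXN ha⟩ ha)
  have h2 := hsame (p ^ k)
  rw [← h1, mul_inv_cancel_right, mul_inv_eq_iff_eq_mul] at h2
  exact h2.symm

end CfsgLib.Techniques
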