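import Cfsg.Agent.Lib.Techniques.Order320
import Cfsg.Agent.Lib.Classical.Unitary.Isotropic

/-!
The centralizer of an involution of `PSU(3,4)`, by explicit matrices over the field with sixteen elements.
-/

set_option autoImplicit false

namespace CfsgLib.Techniques.PSU34Involution

open Matrix
open scoped commutatorElement

/-- An element `a + b w + c w² + d w³`, `w⁴ = w + 1`. -/
abbrev E := ℕ × ℕ × ℕ × ℕ

/-- A row. -/
abbrev R3 := E × E × E

/-- A matrix of degree three. -/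
abbrev M3 := R3 × R3 × R3

/-- Sum. -/
def ad : E → E → E
  | (a, b, c, d), (a', b', c', d') => ((a + a') % 2, (b + b') % 2, (c + c') % 2, (d + d') % 2)

/-- Product. -/
def mu : E → E → E
  | (a, b, c, d), (a', b', c', d') =>
    ((a * a' + (b * d' + c * c' + d * b')) % 2,
      (a * b' + b * a' + (b * d' + c * c' + d * b') + (c * d' + d * c')) % 2,
      (a * c' + b * b' + c * a' + (c * d' + d * c') + d * d') % 2,
      (a * d' + b * c' + c * b' + d * a' + d * d') % 2)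

/-- The fourth power. -/
def cj (x : E) : E := mu (mu x x) (mu x x)

/-- Row times column. -/
def dot (r c : R3) : E := ad (ad (mu r.1 c.1) (mu r.2.1 c.2.1)) (mu r.2.2 c.2.2)

/-- Columns as rows. -/
def tr : M3 → M3
  | ((a, b, c), (d, e, f), (g, h, k)) => ((a, d, g), (b, e, h), (c, f, k))

/-- Product of matrices. -/
def mm (A B : M3) : M3 :=
  let C := tr B
  ((dot A.1 C.1, dot A.1 C.2.1, dot A.1 C.2.2),
    (dot A.2.1 C.1, dot A.2.1 C.2.1, dot A.2.1 C.2.2),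
    (dot A.2.2 C.1, dot A.2.2 C.2.1, dot A.2.2 C.2.2))

/-- Entrywise fourth power. -/
def cjM : M3 → M3
  | ((a, b, c), (d, e, f), (g, h, k)) => ((cj a, cj b, cj c), (cj d, cj e, cj f), (cj g, cj h, cj k))

/-- Inverse of a unitary matrix. -/
def inv (A : M3) : M3 := cjM (tr A)

/-- The identity. -/
def one3 : M3 :=
  (((1, 0, 0, 0), (0, 0, 0, 0), (0, 0, 0, 0)), ((0, 0, 0, 0), (1, 0, 0, 0), (0, 0, 0, 0)),
    ((0, 0, 0, 0), (0, 0, 0, 0), (1, 0, 0, 0)))

/-- Determinant. -/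
def det3 : M3 → E
  | ((a, b, c), (d, e, f), (g, h, k)) =>
    ad (ad (ad (mu (mu a e) k) (mu (mu b f) g)) (mu (mu c d) h))
      (ad (ad (mu (mu a f) h) (mu (mu b d) k)) (mu (mu c e) g))

/-- An element of order 5. -/
def mA : M3 := (((0, 0, 0, 1), (0, 0, 0, 0), (0, 0, 0, 0)), ((0, 0, 0, 0), (0, 0, 0, 1), (0, 0, 0, 0)),
  ((0, 0, 0, 0), (0, 0, 0, 0), (0, 1, 0, 1)))

/-- An element of order 4. -/
def mX : M3 := (((0, 0, 1, 0), (1, 0, 1, 0), (1, 0, 0, 0)), ((1, 0, 1, 0), (0, 0, 1, 0), (1, 0, 0, 0)),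
  ((1, 0, 0, 0), (1, 0, 0, 0), (1, 0, 0, 0)))

/-- An involution. -/
def mT : M3 := (((0, 0, 0, 0), (1, 0, 0, 0), (0, 0, 0, 0)), ((1, 0, 0, 0), (0, 0, 0, 0), (0, 0, 0, 0)),
  ((0, 0, 0, 0), (0, 0, 0, 0), (1, 0, 0, 0)))

/-- An element fixing the centre line of the involution. -/
def mG : M3 := (((0, 1, 0, 0), (0, 0, 1, 0), (0, 0, 0, 0)), ((1, 0, 1, 0), (1, 1, 0, 0), (0, 0, 0, 0)),
  ((0, 0, 0, 0), (0, 0, 0, 0), (1, 0, 0, 0)))

/-- `x²`. -/
def mS : M3 := mm mX mX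

/-- `[x, a x a⁻¹]`. -/
def mC : M3 :=
  mm (mm (mm mX (mm (mm mA mX) (inv mA))) (inv mX)) (inv (mm (mm mA mX) (inv mA)))

/-- `[x, a² x a⁻²]`. -/
def mC2 : M3 :=
  mm (mm (mm mX (mm (mm (mm mA mA) mX) (inv (mm mA mA)))) (inv mX))
    (inv (mm (mm (mm mA mA) mX) (inv (mm mA mA))))

/-- A unitary matrix of determinant one. -/
def good (A : M3) : Bool :=
  mm (tr A) (cjM A) == one3 && mm A (inv A) == one3 && det3 A == (1, 0, 0, 0)

theorem checks :
    (good mA && good mX && good mT && good mG &&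
      mm (mm (mm mA mA) (mm mA mA)) mA == one3 &&
      mm (mm (mm (mm mX mA) (mm mX mA)) (mm (mm mX mA) (mm mX mA))) (mm mX mA) == one3 &&
      mm mS mS == one3 && mm mC mC == one3 && mm mA mS == mm mS mA && mm mA mC == mm mC mA &&
      mm mX mC == mm mC mX && mC2 == mm mS mC && mm mA mT == mm mT mA && mm mX mT == mm mT mX &&
      mS == mT) = true := by
  decide +kernel

theorem entries :
    mS.1.1 = (0, 0, 0, 0) ∧ mu (ad mC.1.1 (1, 0, 0, 0)) (1, 1, 1, 0) = (1, 0, 0, 0) ∧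
      mu (ad mS.1.1 mC.1.1) (0, 1, 1, 0) = (1, 0, 0, 0) ∧ mu (ad (mm mT mG).1.1 (mm mG mT).1.1) (1, 0, 0, 0) = (1, 0, 0, 0) ∧
      mu (ad (mm mT (mm mG mG)).1.1 (mm (mm mG mG) mT).1.1) (1, 0, 0, 0) = (1, 0, 0, 0) := by
  decide +kernel

theorem checks2 :
    (mm (tr (mm (mm mA mX) (inv mA))) (cjM (mm (mm mA mX) (inv mA))) == one3 &&
      mm (tr (mm mA mA)) (cjM (mm mA mA)) == one3 &&
      mm (tr (mm (mm (mm mA mA) mX) (inv (mm mA mA)))) (cjM (mm (mm (mm mA mA) mX) (inv (mm mA mA)))) == one3 &&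
      mm mT mT == one3) = true := by
  decide +kernel

variable {F : Type*} [Field F]

/-- The value in the field. -/
def toF (w : F) (x : E) : F := (x.1 : F) + (x.2.1 : F) * w + (x.2.2.1 : F) * w ^ 2 + (x.2.2.2 : F) * w ^ 3

/-- The matrix in the field. -/
def toM (w : F) : M3 → Matrix (Fin 3) (Fin 3) F
  | ((a, b, c), (d, e, f), (g, h, k)) =>
    !![toF w a, toF w b, toF w c; toF w d, toF w e, toF w f; toF w g, toF w h, toF w k]

theorem toF_one (w : F) : toF w (1, 0, 0, 0) = 1 := by simp [toF]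

theorem toF_zero (w : F) : toF w (0, 0, 0, 0) = 0 := by simp [toF]

theorem exists_root [Fintype F] (hF : Fintype.card F = 16) : ∃ w : F, w ^ 4 = w + 1 := by
  classical
  have h2 : (2 : F) = 0 := by
    have h : ((16 : ℕ) : F) = 0 := hF ▸ Nat.cast_card_eq_zero F
    have : (2 : F) ^ 4 = 0 := by norm_num at h ⊢; exact h
    exact pow_eq_zero_iff (by norm_num) |>.1 this
  obtain ⟨u, hu⟩ := IsCyclic.exists_generator (α := Fˣ)
  have ho : orderOf u = 15 := by
    rw [orderOf_eq_card_of_forall_mem_zpowers hu, Nat.card_eq_fintype_card, Fintype.card_units, hF]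
  have hu15 : (u : F) ^ 15 = 1 := by rw [← Units.val_pow_eq_pow_val, ← ho, pow_orderOf_eq_one, Units.val_one]
  have hne : ∀ k, 0 < k → k < 15 → (u : F) ^ k ≠ 1 := fun k h0 hk h => by
    have := Nat.le_of_dvd h0 (orderOf_dvd_of_pow_eq_one (Units.ext (by rw [Units.val_pow_eq_pow_val, h, Units.val_one]) : u ^ k = 1))
    omega
  set v := (u : F)
  by_contra hno
  push Not at hno
  have h1 : v ^ 4 + v + 1 ≠ 0 := fun h => hno v (by linear_combination h - (v + 1) * h2)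
  have h2' : v ^ 4 + v ^ 3 + 1 ≠ 0 := fun h => hno v⁻¹ (by
    have hv : v ≠ 0 := u.ne_zero
    field_simp
    linear_combination h - (v ^ 3 + v ^ 4) * h2)
  have h3 : v - 1 ≠ 0 := fun h => hne 1 one_pos (by norm_num) (by rw [pow_one]; linear_combination h)
  have h4 : v ^ 2 + v + 1 ≠ 0 := fun h => hne 3 (by norm_num) (by norm_num) (by linear_combination (v - 1) * h)
  have h5 : v ^ 4 + v ^ 3 + v ^ 2 + v + 1 ≠ 0 := fun h => hne 5 (by norm_num) (by norm_num) (by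
    linear_combination (v - 1) * h)
  refine mul_ne_zero (mul_ne_zero (mul_ne_zero (mul_ne_zero h3 h4) h5) h1) h2' ?_
  linear_combination hu15 + (-v - v ^ 2 - v ^ 3 - 2 * v ^ 4 - 2 * v ^ 5 - v ^ 6 + v ^ 9 + 2 * v ^ 10 + 2 * v ^ 11 + v ^ 12 + v ^ 13 + v ^ 14) * h2

variable [CharP F 2] {w : F}

omit w in
theorem cast_mod2 (n : ℕ) : ((n % 2 : ℕ) : F) = (n : F) := by
  conv_rhs => rw [← Nat.mod_add_div n 2, Nat.cast_add, Nat.cast_mul, CharP.cast_eq_zero F 2, zero_mul, add_zero]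

theorem toF_ad (x y : E) : toF w (ad x y) = toF w x + toF w y := by
  obtain ⟨a, b, c, d⟩ := x; obtain ⟨a', b', c', d'⟩ := y
  simp only [toF, ad, cast_mod2]; push_cast; ring

theorem toF_mu (hw : w ^ 4 = w + 1) (x y : E) : toF w (mu x y) = toF w x * toF w y := by
  obtain ⟨a, b, c, d⟩ := x; obtain ⟨a', b', c', d'⟩ := y
  simp only [toF, mu, cast_mod2]
  push_cast
  linear_combination (-((b : F) * d' + c * c' + d * b') - ((c : F) * d' + d * c') * w - (d : F) * d' * w ^ 2) * hw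

theorem toF_cj (hw : w ^ 4 = w + 1) (x : E) : toF w (cj x) = toF w x ^ 4 := by
  rw [cj, toF_mu hw, toF_mu hw]; ring

theorem toM_mm (hw : w ^ 4 = w + 1) (A B : M3) : toM w (mm A B) = toM w A * toM w B := by
  obtain ⟨⟨a, b, c⟩, ⟨d, e, f⟩, ⟨g, h, k⟩⟩ := A
  obtain ⟨⟨a', b', c'⟩, ⟨d', e', f'⟩, ⟨g', h', k'⟩⟩ := B
  ext r s
  fin_cases r <;> fin_cases s <;>
    simp [toM, mm, dot, tr, toF_ad, toF_mu hw, Matrix.mul_apply, Fin.sum_univ_three]

omit [CharP F 2] in
theorem toM_one : toM w one3 = 1 := by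
  ext r s
  fin_cases r <;> fin_cases s <;> simp [toM, one3, toF]

theorem det_toM (hw : w ^ 4 = w + 1) (A : M3) : (toM w A).det = toF w (det3 A) := by
  obtain ⟨⟨a, b, c⟩, ⟨d, e, f⟩, ⟨g, h, k⟩⟩ := A
  rw [Matrix.det_fin_three]
  simp only [toM, det3, toF_ad, toF_mu hw, Matrix.of_apply, Matrix.cons_val', Matrix.cons_val_zero,
    Matrix.cons_val_one, Matrix.cons_val_two, Matrix.tail_cons, Matrix.cons_val_fin_one,
    Matrix.vecHead]
  linear_combination (-(toF w a * toF w f * toF w h + toF w b * toF w d * toF w k + toF w c * toF w e * toF w g)) *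
    ((CharP.cast_eq_zero F 2 : ((2 : ℕ) : F) = 0))

omit [CharP F 2] in
theorem toM_tr (A : M3) : toM w (tr A) = (toM w A)ᵀ := by
  obtain ⟨⟨a, b, c⟩, ⟨d, e, f⟩, ⟨g, h, k⟩⟩ := A
  ext r s
  fin_cases r <;> fin_cases s <;> simp [toM, tr]

theorem toM_cjM (hw : w ^ 4 = w + 1) (A : M3) : toM w (cjM A) = (toM w A).map (· ^ 4) := by
  obtain ⟨⟨a, b, c⟩, ⟨d, e, f⟩, ⟨g, h, k⟩⟩ := A
  ext r s
  fin_cases r <;> fin_cases s <;> simp [toM, cjM, toF_cj hw]

theorem preserves_of_gram {M : Matrix (Fin 3) (Fin 3) F} (hM : Mᵀ * M.map (· ^ 4) = 1) (u v : Fin 3 → F) :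
    Cfsg.hermForm 3 F 4 (M *ᵥ u) (M *ᵥ v) = Cfsg.hermForm 3 F 4 u v := by
  have : Fact (Nat.Prime 2) := ⟨Nat.prime_two⟩
  have key : (fun j => (M *ᵥ v) j ^ 4) = (M.map (· ^ 4)) *ᵥ (fun j => v j ^ 4) := by
    funext j
    exact (iterateFrobenius F 2 2).map_mulVec M v j
  show (M *ᵥ u) ⬝ᵥ (fun j => (M *ᵥ v) j ^ 4) = u ⬝ᵥ (fun j => v j ^ 4)
  rw [key, Matrix.dotProduct_mulVec, Matrix.vecMul_mulVec, hM, Matrix.vecMul_one]

/-- `g` is given by the code `A`. -/
def Rep (w : F) (g : Cfsg.SU 3 F 4) (A : M3) : Prop :=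
  ((g : SpecialLinearGroup (Fin 3) F) : Matrix (Fin 3) (Fin 3) F) = toM w A

theorem exists_rep (hw : w ^ 4 = w + 1) {A : M3} (h : good A = true) : ∃ g, Rep w g A := by
  simp only [good, Bool.and_eq_true, beq_iff_eq] at h
  refine ⟨⟨⟨toM w A, by rw [det_toM hw, h.2, toF_one]⟩, preserves_of_gram ?_⟩, rfl⟩
  show (toM w A)ᵀ * (toM w A).map (· ^ 4) = 1
  rw [← toM_tr, ← toM_cjM hw, ← toM_mm hw, h.1.1, toM_one]

theorem Rep.mul (hw : w ^ 4 = w + 1) {g g' : Cfsg.SU 3 F 4} {A B : M3} (hg : Rep w g A) (hg' : Rep w g' B) :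
    Rep w (g * g') (mm A B) := by
  rw [Rep, toM_mm hw, ← hg, ← hg']; rfl

omit [CharP F 2] in
theorem Rep.one : Rep w (1 : Cfsg.SU 3 F 4) one3 := by rw [Rep, toM_one]; rfl

omit [CharP F 2] in
theorem Rep.eq {g g' : Cfsg.SU 3 F 4} {A B : M3} (hg : Rep w g A) (hg' : Rep w g' B) (h : A = B) : g = g' :=
  Subtype.ext (Subtype.ext (by rw [hg, hg', h]))

theorem Rep.ne (hw : w ^ 4 = w + 1) {g g' : Cfsg.SU 3 F 4} {A B : M3} {y : E} (hg : Rep w g A) (hg' : Rep w g' B)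
    (h : mu (ad A.1.1 B.1.1) y = (1, 0, 0, 0)) : g ≠ g' := by
  rintro rfl
  have e : toM w A = toM w B := hg.symm.trans hg'
  have e00 : toF w A.1.1 = toF w B.1.1 := by
    obtain ⟨⟨a, b, c⟩, ⟨d, e', f⟩, ⟨g, h', k⟩⟩ := A
    obtain ⟨⟨a', b', c'⟩, ⟨d', e'', f'⟩, ⟨g', h'', k'⟩⟩ := B
    simpa [toM] using congrFun (congrFun e 0) 0
  have h1 : toF w (mu (ad A.1.1 B.1.1) y) = 1 := by rw [h, toF_one]
  rw [toF_mu hw, toF_ad, e00, CharTwo.add_self_eq_zero, zero_mul] at h1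
  exact zero_ne_one h1

theorem Rep.inv (hw : w ^ 4 = w + 1) {g : Cfsg.SU 3 F 4} {A : M3} (hg : Rep w g A)
    (h : mm (tr A) (cjM A) = one3) : Rep w g⁻¹ (inv A) := by
  have h1 : toM w (PSU34Involution.inv A) * toM w A = 1 := by
    have e : (toM w A)ᵀ * (toM w A).map (· ^ 4) = 1 := by
      rw [← toM_tr, ← toM_cjM hw, ← toM_mm hw, h, toM_one]
    have e' := congrArg Matrix.transpose e
    rw [Matrix.transpose_mul, Matrix.transpose_transpose, Matrix.transpose_one] at e'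
    rw [PSU34Involution.inv, toM_cjM hw, toM_tr]
    exact e'
  have h2 : toM w A * ((g⁻¹ : Cfsg.SU 3 F 4) : SpecialLinearGroup (Fin 3) F).1 = 1 := by
    rw [← hg]
    exact congrArg (fun z : Cfsg.SU 3 F 4 => ((z : SpecialLinearGroup (Fin 3) F) : Matrix (Fin 3) (Fin 3) F))
      (mul_inv_cancel g)
  exact (left_inv_eq_right_inv h1 h2).symm

theorem exists_involution [Fintype F] (hF : Fintype.card F = 16) :
    ∃ t a x : Cfsg.SU 3 F 4, t ≠ 1 ∧ t * t = 1 ∧ a * t = t * a ∧ x * t = t * x ∧ Order320.Rel a x ∧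
      x * x ≠ 1 ∧ ⁅x, a * x * a⁻¹⁆ ≠ 1 ∧ x * x ≠ ⁅x, a * x * a⁻¹⁆ ∧
      Nat.card (Subgroup.centralizer ({t} : Set (Cfsg.SU 3 F 4))) ≤ 320 := by
  obtain ⟨w, hw⟩ := exists_root hF
  have hcheck := checks
  simp only [Bool.and_eq_true, beq_iff_eq] at hcheck
  obtain ⟨⟨⟨⟨⟨⟨⟨⟨⟨⟨⟨⟨⟨⟨hgA, hgX⟩, hgT⟩, hgG⟩, ha5⟩, hxa5⟩, hs2⟩, hc2⟩, has⟩, hac⟩, hxc⟩, hCC⟩, hat⟩, hxt⟩, hst⟩ := hcheck
  obtain ⟨he0, he1, he2, he3, he4⟩ := entries
  have hcheck2 := checks2
  simp only [Bool.and_eq_true, beq_iff_eq] at hcheck2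
  obtain ⟨⟨⟨hq1, hq2⟩, hq3⟩, hq4⟩ := hcheck2
  obtain ⟨a, hA⟩ := exists_rep hw hgA
  obtain ⟨x, hX⟩ := exists_rep hw hgX
  obtain ⟨t, hT⟩ := exists_rep hw hgT
  obtain ⟨g, hG⟩ := exists_rep hw hgG
  simp only [good, Bool.and_eq_true, beq_iff_eq] at hgA hgX
  have hconj : ∀ {b : Cfsg.SU 3 F 4} {B : M3}, Rep w b B → mm (tr B) (cjM B) = one3 →
      mm (tr (mm (mm B mX) (inv B))) (cjM (mm (mm B mX) (inv B))) = one3 →
      Rep w ⁅x, b * x * b⁻¹⁆ (mm (mm (mm mX (mm (mm B mX) (inv B))) (inv mX)) (inv (mm (mm B mX) (inv B)))) := by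
    intro b B hB h h'
    have hy := (hB.mul hw hX).mul hw (hB.inv hw h)
    rw [commutatorElement_def]
    exact (((hX.mul hw hy).mul hw (hX.inv hw hgX.1.1))).mul hw (hy.inv hw h')
  have hS : Rep w (x * x) mS := hX.mul hw hX
  have hC : Rep w ⁅x, a * x * a⁻¹⁆ mC := hconj hA hgA.1.1 hq1
  have hC2 : Rep w ⁅x, a ^ 2 * x * (a ^ 2)⁻¹⁆ mC2 :=
    hconj (by rw [pow_two]; exact hA.mul hw hA) hq2 hq3
  have hxa : Rep w (x * a) (mm mX mA) := hX.mul hw hA
  refine ⟨t, a, x, ?_, ?_, (hA.mul hw hT).eq (hT.mul hw hA) hat, (hX.mul hw hT).eq (hT.mul hw hX) hxt,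
    ⟨?_, ?_, ?_, ?_, ?_, ?_, ?_, ?_⟩, ?_, ?_, ?_, ?_⟩
  · refine Rep.ne hw hT Rep.one (y := (1, 0, 0, 0)) ?_
    decide +kernel
  · exact (hT.mul hw hT).eq Rep.one hq4
  · rw [show a ^ 5 = a * a * (a * a) * a by simp [pow_succ, mul_assoc]]
    exact (((hA.mul hw hA).mul hw (hA.mul hw hA)).mul hw hA).eq Rep.one ha5
  · rw [show (x * a) ^ 5 = x * a * (x * a) * (x * a * (x * a)) * (x * a) by simp [pow_succ, mul_assoc]]
    exact (((hxa.mul hw hxa).mul hw (hxa.mul hw hxa)).mul hw hxa).eq Rep.one hxa5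
  · exact (hS.mul hw hS).eq Rep.one hs2
  · exact (hC.mul hw hC).eq Rep.one hc2
  · exact (hA.mul hw hS).eq (hS.mul hw hA) has
  · exact (hA.mul hw hC).eq (hC.mul hw hA) hac
  · exact (hX.mul hw hC).eq (hC.mul hw hX) hxc
  · exact hC2.eq (hS.mul hw hC) hCC
  · refine Rep.ne hw hS Rep.one (y := (1, 0, 0, 0)) ?_
    decide +kernel
  · exact Rep.ne hw hC Rep.one he1
  · exact Rep.ne hw hS hC he2
  -- the order of the centralizer
  · have hF2 : Fintype.card F = 4 ^ 2 := by rw [hF]; norm_num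
    set v : Fin 3 → F := ![1, 1, 0]
    have hv0 : v ≠ 0 := fun h => one_ne_zero (congrFun h 0)
    set W := Submodule.span F ({v} : Set (Fin 3 → F))
    have hvv : Cfsg.hermForm 3 F 4 v v = 0 := by
      simp [Cfsg.hermForm, Fin.sum_univ_three, v, CharTwo.add_self_eq_zero]
    have hW : ∀ u ∈ W, ∀ u' ∈ W, Cfsg.hermForm 3 F 4 u u' = 0 := by
      intro u hu u' hu'
      obtain ⟨c, rfl⟩ := Submodule.mem_span_singleton.1 hu
      obtain ⟨d, rfl⟩ := Submodule.mem_span_singleton.1 hu'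
      simp only [Cfsg.hermForm, Pi.smul_apply, smul_eq_mul] at hvv ⊢
      calc ∑ i, c * v i * (d * v i) ^ 4 = c * d ^ 4 * ∑ i, v i * v i ^ 4 := by
            rw [Finset.mul_sum]; exact Finset.sum_congr rfl fun i _ => by ring
        _ = 0 := by rw [hvv, mul_zero]
    have hcard := CfsgLib.Classical.Herm.card_su_stab hF2 3 1 (by norm_num) (by norm_num) W
      (finrank_span_singleton hv0) hW
    norm_num [Finset.prod_range_succ] at hcard
    set St := ((Cfsg.stabilizing (Cfsg.slToMat 3 F) (W : Set (Fin 3 → F))).subgroupOf (Cfsg.SU 3 F 4))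
    have hSt : Nat.card St = 960 := by omega
    have hmemSt : ∀ (z : Cfsg.SU 3 F 4), ((z : SpecialLinearGroup (Fin 3) F).1 *ᵥ v ∈ W) → z ∈ St := by
      intro z hz
      rw [Subgroup.mem_subgroupOf]
      intro u
      obtain ⟨l, hl⟩ := Submodule.mem_span_singleton.1 hz
      have hl0 : l ≠ 0 := by
        rintro rfl
        rw [zero_smul] at hl
        refine hv0 ?_
        have := congrArg ((z : SpecialLinearGroup (Fin 3) F)⁻¹.1 *ᵥ ·) hl.symm
        rwa [Matrix.mulVec_mulVec, ← Matrix.SpecialLinearGroup.coe_mul, inv_mul_cancel,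
          Matrix.SpecialLinearGroup.coe_one, Matrix.one_mulVec, Matrix.mulVec_zero] at this
      constructor
      · intro hu
        obtain ⟨c, rfl⟩ := Submodule.mem_span_singleton.1 hu
        show (z : SpecialLinearGroup (Fin 3) F).1 *ᵥ (c • v) ∈ W
        rw [Matrix.mulVec_smul]
        exact W.smul_mem c hz
      · intro hu
        obtain ⟨c, hc⟩ := Submodule.mem_span_singleton.1 (show (z : SpecialLinearGroup (Fin 3) F).1 *ᵥ u ∈ W from hu)
        refine Submodule.mem_span_singleton.2 ⟨c * l⁻¹, ?_⟩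
        have e : (z : SpecialLinearGroup (Fin 3) F).1 *ᵥ ((c * l⁻¹) • v) = (z : SpecialLinearGroup (Fin 3) F).1 *ᵥ u := by
          rw [Matrix.mulVec_smul, ← hl, smul_smul, mul_assoc, inv_mul_cancel₀ hl0, mul_one, hc]
        have := congrArg ((z : SpecialLinearGroup (Fin 3) F)⁻¹.1 *ᵥ ·) e
        simpa only [Matrix.mulVec_mulVec, ← Matrix.SpecialLinearGroup.coe_mul, inv_mul_cancel,
          Matrix.SpecialLinearGroup.coe_one, Matrix.one_mulVec] using this
    have hTv : ∀ u : Fin 3 → F, toM w mT *ᵥ u - u ∈ W := fun u => by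
      refine Submodule.mem_span_singleton.2 ⟨u 1 - u 0, ?_⟩
      funext i
      fin_cases i <;> simp [toM, mT, toF, v, dotProduct, Fin.sum_univ_three]
      all_goals rw [CharTwo.sub_eq_add, CharTwo.sub_eq_add, add_comm]
    have hC_St : Subgroup.centralizer ({t} : Set (Cfsg.SU 3 F 4)) ≤ St := by
      intro z hz
      refine hmemSt z ?_
      have e := congrArg (fun k : Cfsg.SU 3 F 4 => ((k : SpecialLinearGroup (Fin 3) F) : Matrix (Fin 3) (Fin 3) F))
        (Subgroup.mem_centralizer_singleton_iff.1 hz)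
      change (z : SpecialLinearGroup (Fin 3) F).1 * (t : SpecialLinearGroup (Fin 3) F).1 =
        (t : SpecialLinearGroup (Fin 3) F).1 * (z : SpecialLinearGroup (Fin 3) F).1 at e
      rw [show (t : SpecialLinearGroup (Fin 3) F).1 = toM w mT from hT] at e
      -- `v = (t - 1) e₁`
      have hv : v = toM w mT *ᵥ ![0, 1, 0] - ![0, 1, 0] := by
        funext i
        fin_cases i <;> simp [toM, mT, toF, v, CharTwo.neg_eq]
      rw [hv, Matrix.mulVec_sub, Matrix.mulVec_mulVec, e, ← Matrix.mulVec_mulVec]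
      exact hTv _
    have hgSt : g ∈ St := by
      refine hmemSt g ?_
      rw [show (g : SpecialLinearGroup (Fin 3) F).1 = toM w mG from hG]
      refine Submodule.mem_span_singleton.2 ⟨w + w ^ 2, ?_⟩
      funext i
      fin_cases i <;> simp [toM, mG, toF, v, Matrix.mulVec, dotProduct, Fin.sum_univ_three]
      · linear_combination (-1 : F) * (CharP.cast_eq_zero F 2 : ((2 : ℕ) : F) = 0)
    set C := Subgroup.centralizer ({t} : Set (Cfsg.SU 3 F 4))
    have hg1 : g ∉ C := fun h => Rep.ne hw (hT.mul hw hG) (hG.mul hw hT) he3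
      (Subgroup.mem_centralizer_singleton_iff.1 h).symm
    have hg2 : g * g ∉ C := fun h => Rep.ne hw (hT.mul hw (hG.mul hw hG)) ((hG.mul hw hG).mul hw hT) he4
      (Subgroup.mem_centralizer_singleton_iff.1 h).symm
    let f : Fin 3 × C → St := fun q =>
      ⟨g ^ (q.1 : ℕ) * q.2, mul_mem (pow_mem hgSt _) (hC_St q.2.2)⟩
    have hf : Function.Injective f := by
      rintro ⟨i, c⟩ ⟨j, d⟩ h
      have h' : g ^ (i : ℕ) * (c : Cfsg.SU 3 F 4) = g ^ (j : ℕ) * d := congrArg Subtype.val h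
      have key : ∀ (n m : ℕ) (c d : C), n ≤ m → m < 3 →
          g ^ n * (c : Cfsg.SU 3 F 4) = g ^ m * d → n = m := by
        intro n m c d hnm hm h'
        obtain ⟨k, rfl⟩ := Nat.exists_eq_add_of_le hnm
        rw [pow_add, mul_assoc] at h'
        have hk : g ^ k ∈ C := by
          have := mul_mem c.2 (inv_mem d.2)
          rwa [mul_left_cancel h', mul_inv_cancel_right] at this
        rcases k with _ | _ | k
        · rfl
        · exact absurd (by simpa using hk) hg1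
        · obtain rfl : k = 0 := by omega
          exact absurd (by simpa [pow_two] using hk) hg2
      obtain rfl : i = j := by
        refine Fin.ext ?_
        rcases Nat.le_total i j with hle | hle
        · exact key _ _ c d hle j.2 h'
        · exact (key _ _ d c hle i.2 h'.symm).symm
      exact Prod.ext rfl (Subtype.ext (mul_left_cancel h'))
    have := Nat.card_le_card_of_injective f hf
    rw [Nat.card_prod, Nat.card_fin, hSt] at this
    omega

end CfsgLib.Techniques.PSU34Involution
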