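import Cfsg.Prelude.Def_Local
import Cfsg.Prelude.Def_TwoFusion
import Cfsg.Agent.Lib.Techniques.Path
import Cfsg.Agent.Lib.Core.Cores
import Cfsg.Agent.Lib.Transfer.PResidual
import Cfsg.Agent.Lib.OddLocal.Basic
import Mathlib.GroupTheory.Transfer

/-!
Goldschmidt's reduction: at a fully normalized subgroup either the centralizer is small, or every
element of the normalizer is a centralizing element times an element normalizing a larger subgroup.
-/

namespace CfsgLib.Techniques

open Subgroup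

variable {G : Type*} [Group G] [Finite G] {p : ℕ} [Fact p.Prime]

theorem commute_of_inf_eq_bot {H K : Subgroup G} (hK : K ≤ Subgroup.normalizer (H : Set G))
    (hH : H ≤ Subgroup.normalizer (K : Set G)) (h : H ⊓ K = ⊥) {a b : G} (ha : a ∈ H) (hb : b ∈ K) :
    a * b = b * a := by
  have h1 : a * b * a⁻¹ * b⁻¹ ∈ H ⊓ K := by
    refine Subgroup.mem_inf.mpr ⟨?_, mul_mem ((mem_normalizer_iff.mp (hH ha) b).mp hb) (inv_mem hb)⟩
    have := mul_mem ha ((mem_normalizer_iff.mp (hK hb) a⁻¹).mp (inv_mem ha))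
    simpa [mul_assoc] using this
  rw [h, mem_bot, mul_inv_eq_one, mul_inv_eq_iff_eq_mul] at h1
  exact h1

theorem map_subtype_pPrimeCore_normalizer_le (N : Subgroup G) (K : Subgroup N) [K.Normal] :
    N ≤ Subgroup.normalizer ((K.map N.subtype : Subgroup G) : Set G) := by
  intro x hx
  refine mem_normalizer_of_map_conj_eq (Subgroup.eq_of_le_of_card_ge ?_ (by rw [card_map_conj]))
  rintro _ ⟨_, ⟨y, hy, rfl⟩, rfl⟩
  exact ⟨⟨x, hx⟩ * y * ⟨x, hx⟩⁻¹, Subgroup.Normal.conj_mem ‹_› y hy _, by simp [MulAut.conj_apply]⟩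

theorem goldschmidt_dichotomy (P : Sylow p G) {U : Subgroup G} (hU : U ≤ (P : Subgroup G))
    (hfull : IsFullyNormalized p (P : Subgroup G) U) :
    (U ≤ (P : Subgroup G) ∧ IsFullyNormalized p (P : Subgroup G) U ∧
      Subgroup.centralizer ((U : Subgroup G) : Set G) ≤
        (Cfsg.pPrimePCore p ↥(Subgroup.normalizer ((U : Subgroup G) : Set G))).map
          (Subgroup.normalizer ((U : Subgroup G) : Set G)).subtype ∧
      Cfsg.IsInternalDirectProduct
        ((Cfsg.pPrimeCore p ↥(Subgroup.normalizer ((U : Subgroup G) : Set G))).map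
          (Subgroup.normalizer ((U : Subgroup G) : Set G)).subtype)
        U
        ((Cfsg.pPrimePCore p ↥(Subgroup.normalizer ((U : Subgroup G) : Set G))).map
          (Subgroup.normalizer ((U : Subgroup G) : Set G)).subtype)) ∨
    ∃ R : Subgroup G, U < R ∧ R ≤ (P : Subgroup G) ∧
      ∀ x ∈ Subgroup.normalizer (U : Set G), ∃ c ∈ Subgroup.centralizer (U : Set G),
        c⁻¹ * x ∈ Subgroup.normalizer (R : Set G) := by
  set N := Subgroup.normalizer (U : Set G) with hN
  set C := Subgroup.centralizer (U : Set G) with hC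
  set O₀ := Cfsg.pPrimeCore p N with hO₀
  set O := O₀.map N.subtype with hO
  set L₀ := Cfsg.pPrimePCore p N with hL₀
  set L := L₀.map N.subtype with hL
  haveI : O₀.Normal := by rw [hO₀]; infer_instance
  haveI : L₀.Normal := by rw [hL₀]; unfold Cfsg.pPrimePCore; infer_instance
  have hUN : U ≤ N := Subgroup.le_normalizer
  have hON : N ≤ Subgroup.normalizer (O : Set G) := map_subtype_pPrimeCore_normalizer_le N O₀
  have hLN : N ≤ Subgroup.normalizer (L : Set G) := map_subtype_pPrimeCore_normalizer_le N L₀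
  have hOle : O ≤ N := Subgroup.map_subtype_le _
  have hLle : L ≤ N := Subgroup.map_subtype_le _
  have hOL : O ≤ L := Subgroup.map_mono (by
    intro y hy
    show (QuotientGroup.mk' O₀ y) ∈ Cfsg.pCore p (N ⧸ O₀)
    rw [QuotientGroup.mk'_apply, (QuotientGroup.eq_one_iff y).mpr hy]
    exact one_mem _)
  have hUO : U ⊓ O = ⊥ := by
    obtain ⟨k, hk⟩ := IsPGroup.iff_card.mp (P.2.to_le hU)
    refine (disjoint_of_coprime_natCard ?_).eq_bot
    rw [hk, hO, Subgroup.card_map_of_injective N.subtype_injective]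
    exact ((CfsgLib.Core.coprime_card_pPrimeCore (p := p) (G := N)).symm.pow_left k)
  have hUNn : N ≤ Subgroup.normalizer (U : Set G) := le_rfl
  have hOC : O ≤ C := by
    intro o ho
    rw [hC, mem_centralizer_iff]
    intro u hu
    exact commute_of_inf_eq_bot (hOle.trans hUNn) ((hUN).trans hON) hUO hu ho
  have hCN : C ≤ N := by
    intro c hc
    refine mem_normalizer_of_map_conj_eq ?_
    ext x
    rw [mem_map_conj_iff]
    constructor
    · intro hx
      have e := mem_centralizer_iff.mp hc _ hx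
      have : c⁻¹ * x * c = x := by
        calc c⁻¹ * x * c = c * (c⁻¹ * x * c) * c⁻¹ := by
              rw [show c * (c⁻¹ * x * c) = c⁻¹ * x * c * c from e.symm, mul_inv_cancel_right]
          _ = x := by group
      rwa [this] at hx
    · intro hx
      rw [mul_assoc, mem_centralizer_iff.mp hc x hx, inv_mul_cancel_left]
      exact hx
  have hCNn : N ≤ Subgroup.normalizer (C : Set G) :=
    CfsgLib.Transfer.normalizer_le_normalizer_centralizer U
  set T₀ := (P : Subgroup G) ⊓ N with hT₀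
  have hTs : IsSylowSub p T₀ N := hfull.isSylowSub P.2
  have hUT : U ≤ T₀ := le_inf hU hUN
  -- the two candidate Sylow subgroups
  have hR₁ := hTs.inf_normal hLle hLN
  set K := C ⊔ U with hK
  have hKle : K ≤ N := sup_le hCN hUN
  have hKN : N ≤ Subgroup.normalizer (K : Set G) := fun x hx =>
    mem_normalizer_of_map_conj_eq (by
      rw [hK, Subgroup.map_sup, map_conj_of_mem_normalizer (hCNn hx),
        map_conj_of_mem_normalizer hx])
  have hR₂ := hTs.inf_normal hKle hKN
  -- `L = O (T₀ ⊓ L)`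
  have hLfac : L ≤ O ⊔ (T₀ ⊓ L) := by
    rintro _ ⟨y, hy, rfl⟩
    obtain ⟨T, hT⟩ : ∃ T : Sylow p N, (T : Subgroup N) = T₀.subgroupOf N :=
      ⟨IsPGroup.toSylow (hTs.2.1.comap_subtype (K := N)) hTs.2.2, rfl⟩
    have hs := QuotientGroup.mk'_surjective O₀
    have hmem : QuotientGroup.mk' O₀ y ∈
        ((T.mapSurjective hs : Sylow p (N ⧸ O₀)) : Subgroup (N ⧸ O₀)) :=
      CfsgLib.Core.pCore_le_sylow _ hy
    rw [Sylow.coe_mapSurjective] at hmem
    obtain ⟨t, ht, hty⟩ := hmem
    rw [QuotientGroup.mk'_apply, QuotientGroup.mk'_apply, QuotientGroup.eq] at hty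
    rw [SetLike.mem_coe, hT, mem_subgroupOf] at ht
    have ho : ((t⁻¹ * y : N) : G) ∈ O := ⟨_, hty, rfl⟩
    have e : (y : G) = (t : G) * ((t⁻¹ * y : N) : G) := by push_cast; group
    have htL : (t : G) ∈ L := by
      have : (t : G) = (y : G) * ((t⁻¹ * y : N) : G)⁻¹ := by push_cast; group
      rw [this]
      exact mul_mem ⟨y, hy, rfl⟩ (inv_mem (hOL ho))
    show (y : G) ∈ O ⊔ (T₀ ⊓ L)
    rw [e]
    exact mul_mem (mem_sup_right ⟨ht, htL⟩) (mem_sup_left ho)
  -- `U ≤ L`
  have hUL : U ≤ L := by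
    intro u hu
    refine ⟨⟨u, hUN hu⟩, ?_, rfl⟩
    show QuotientGroup.mk' O₀ ⟨u, hUN hu⟩ ∈ Cfsg.pCore p (N ⧸ O₀)
    haveI : (U.subgroupOf N).Normal := Subgroup.normal_subgroupOf_of_le_normalizer le_rfl
    have hle : (U.subgroupOf N).map (QuotientGroup.mk' O₀) ≤ Cfsg.pCore p (N ⧸ O₀) :=
      haveI := Subgroup.Normal.map (f := QuotientGroup.mk' O₀)
        (inferInstance : (U.subgroupOf N).Normal) (QuotientGroup.mk'_surjective O₀)
      CfsgLib.Core.le_pCore (((P.2.to_le hU).comap_subtype (K := N)).map _)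
    exact hle ⟨⟨u, hUN hu⟩, hu, rfl⟩
  by_cases h1 : U < T₀ ⊓ L
  · refine Or.inr ⟨T₀ ⊓ L, h1, inf_le_left.trans inf_le_left, fun x hx => ?_⟩
    obtain ⟨y, hy, n, hn, hnR, rfl⟩ := exists_mul_normalizer hR₁ hx hLN hLle
    obtain ⟨o, ho, r, hr, rfl⟩ :=
      (CfsgLib.OddLocal.mem_sup_of_le_normalizer (inf_le_right.trans (hLle.trans hON))).mp (hLfac hy)
    refine ⟨o, hOC ho, ?_⟩
    have e : o⁻¹ * (o * r * n) = r * n := by group
    rw [e]
    exact mul_mem (Subgroup.le_normalizer hr) hnR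
  by_cases h2 : U < T₀ ⊓ K
  · refine Or.inr ⟨T₀ ⊓ K, h2, inf_le_left.trans inf_le_left, fun x hx => ?_⟩
    obtain ⟨y, hy, n, hn, hnR, rfl⟩ := exists_mul_normalizer hR₂ hx hKN hKle
    obtain ⟨c, hc, u, hu, rfl⟩ :=
      (CfsgLib.OddLocal.mem_sup_of_le_normalizer (hUN.trans hCNn)).mp hy
    refine ⟨c, hc, ?_⟩
    have e : c⁻¹ * (c * u * n) = u * n := by group
    rw [e]
    exact mul_mem (Subgroup.le_normalizer (h2.le hu)) hnR
  refine Or.inl ⟨hU, hfull, ?_, ?_⟩
  · have hT₂ : T₀ ⊓ K = U := (le_inf hUT le_sup_right).eq_of_not_lt h2 |>.symm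
    have hT₁ : T₀ ⊓ L = U := (le_inf hUT hUL).eq_of_not_lt h1 |>.symm
    -- `C` has a central Sylow subgroup, hence a normal `p`-complement
    have hR₃ := hTs.inf_normal hCN hCNn
    have hsub : T₀ ⊓ C ≤ U := le_of_le_of_eq (inf_le_inf le_rfl le_sup_left) hT₂
    obtain ⟨Q, hQ⟩ : ∃ Q : Sylow p C, (Q : Subgroup C) = (T₀ ⊓ C).subgroupOf C :=
      ⟨IsPGroup.toSylow (hR₃.2.1.comap_subtype (K := C)) hR₃.2.2, rfl⟩
    have hcen : Subgroup.normalizer ((Q : Subgroup C) : Set C) ≤
        Subgroup.centralizer ((Q : Subgroup C) : Set C) := by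
      intro g _
      rw [mem_centralizer_iff]
      intro q hq
      rw [SetLike.mem_coe, hQ, mem_subgroupOf] at hq
      exact Subtype.ext (mem_centralizer_iff.mp g.2 (q : G) (hsub hq))
    have hcop := CfsgLib.Transfer.hasNormalPComplement_iff_coprime.mp
      ⟨Q, _, inferInstance, MonoidHom.ker_transferSylow_isComplement' Q hcen⟩
    have hresle : (Cfsg.pResidual p C).map C.subtype ≤ O := by
      set K₀ := ((Cfsg.pResidual p C).map C.subtype).subgroupOf N
      have hle : (Cfsg.pResidual p C).map C.subtype ≤ N := (Subgroup.map_subtype_le _).trans hCN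
      haveI : K₀.Normal := by
        refine Subgroup.normal_subgroupOf_of_le_normalizer fun x hx => ?_
        refine mem_normalizer_of_map_conj_eq (Subgroup.eq_of_le_of_card_ge ?_ (by rw [card_map_conj]))
        rintro _ ⟨_, ⟨y, hy, rfl⟩, rfl⟩
        have hmem : ∀ z : C, x * (z : G) * x⁻¹ ∈ C := fun z =>
          (mem_normalizer_iff.mp (hCNn hx) _).mp z.2
        let f : C →* C :=
          { toFun := fun z => ⟨x * (z : G) * x⁻¹, hmem z⟩
            map_one' := Subtype.ext (by simp)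
            map_mul' := fun a b => Subtype.ext (by push_cast; group) }
        exact ⟨f y, CfsgLib.Transfer.map_pResidual_le f ⟨y, hy, rfl⟩, rfl⟩
      have hle' : K₀ ≤ O₀ := CfsgLib.Core.le_pPrimeCore (by
        rw [Nat.card_congr (Subgroup.subgroupOfEquivOfLe hle).toEquiv,
          Subgroup.card_map_of_injective C.subtype_injective]
        exact hcop)
      intro y hy
      exact ⟨⟨y, hle hy⟩, hle' (mem_subgroupOf.mpr hy), rfl⟩
    intro c hc
    obtain ⟨q, hq, k, hk, he⟩ := CfsgLib.Transfer.exists_mul_mem_pResidual Q ⟨c, hc⟩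
    rw [hQ, mem_subgroupOf] at hq
    have e : c = (q : G) * (k : G) := congrArg Subtype.val he
    rw [e]
    exact mul_mem (hUL (hsub hq)) (hOL (hresle ⟨k, hk, rfl⟩))
  · have hT₁ : T₀ ⊓ L = U := (le_inf hUT hUL).eq_of_not_lt h1 |>.symm
    refine ⟨hOL, hUL, fun a ha b hb => (mem_centralizer_iff.mp (hOC ha) b hb).symm,
      by rw [inf_comm]; exact hUO, le_antisymm (sup_le hOL hUL) ?_⟩
    exact hT₁ ▸ hLfac

end CfsgLib.Techniques
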