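import Mathlib.FieldTheory.Finite.Basic
import Mathlib.LinearAlgebra.Eigenspace.Basic
import Mathlib.RingTheory.IntegralDomain
import Mathlib.Algebra.CharP.Two
import Mathlib.Algebra.Algebra.ZMod
import Mathlib.Algebra.Ring.GeomSum

/-!
Finite semifields of characteristic two in which the left and the right multiplications by nonzero
elements are closed under inversion are fields.
-/

set_option autoImplicit false

namespace CfsgLib.Techniques.AlternativeSemifield

open Polynomial Finset

variable {V : Type*} [AddCommGroup V]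

/-- A semifield with both inverse properties. -/
structure IsInverseClosed (mul : V →+ AddMonoid.End V) (e : V) : Prop where
  self_add : ∀ v : V, v + v = 0
  one_mul : ∀ x, mul e x = x
  mul_one : ∀ x, mul x e = x
  ne : e ≠ 0
  inj : ∀ a b, a ≠ 0 → mul a b = 0 → b = 0
  left : ∀ a c, c ≠ 0 → ∃ w, ∀ u v, mul c v = mul a u → mul w u = mul a v
  right : ∀ a c, c ≠ 0 → ∃ w, ∀ u v, mul v c = mul u a → mul u w = mul v a

/-- Opposite multiplication. -/
def op (mul : V →+ AddMonoid.End V) : V →+ AddMonoid.End V :=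
  AddMonoidHom.flip (mul : V →+ V →+ V)

theorem op_apply (mul : V →+ AddMonoid.End V) (x y : V) : op mul x y = mul y x := rfl

/-- Powers. -/
def pw (mul : V →+ AddMonoid.End V) (e a : V) (n : ℕ) : V := ((mul a) ^ n) e

theorem exists_root_of_aeval_prod {K M : Type*} [Field K] [AddCommGroup M] [Module K M] (f : Module.End K M)
    (s : Finset K) : ∀ v : M, v ≠ 0 → aeval f (∏ μ ∈ s, (X - C μ)) v = 0 → ∃ μ ∈ s, ∃ w : M, w ≠ 0 ∧ f w = μ • w := by
  classical
  induction s using Finset.induction with
  | empty => intro v hv h; exact absurd (by simpa using h) hv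
  | insert a s ha ih =>
    intro v hv h
    rw [Finset.prod_insert ha, map_mul, Module.End.mul_apply] at h
    by_cases h0 : aeval f (∏ μ ∈ s, (X - C μ)) v = 0
    · obtain ⟨μ, hμ, w, hw⟩ := ih v hv h0
      exact ⟨μ, Finset.mem_insert_of_mem hμ, w, hw⟩
    · refine ⟨a, Finset.mem_insert_self _ _, _, h0, ?_⟩
      rw [map_sub, aeval_X, aeval_C, LinearMap.sub_apply, Module.algebraMap_end_apply, sub_eq_zero] at h
      exact h

theorem end_add_apply (f g : AddMonoid.End V) (x : V) : (f + g) x = f x + g x := rfl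

theorem end_neg_apply (f : AddMonoid.End V) (x : V) : (-f) x = -f x := rfl

namespace IsInverseClosed

variable {mul : V →+ AddMonoid.End V} {e : V}

theorem flip (h : IsInverseClosed mul e) : IsInverseClosed (op mul) e where
  self_add := h.self_add
  one_mul := h.mul_one
  mul_one := h.one_mul
  ne := h.ne
  inj a b ha hb := by
    by_contra hb0
    exact ha (h.inj b a hb0 hb)
  left := h.right
  right := h.left

theorem eq_of_add (h : IsInverseClosed mul e) {x y : V} (hxy : x + y = 0) : x = y := by
  calc x = x + (y + y) := by rw [h.self_add, add_zero]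
    _ = y := by rw [← add_assoc, hxy, zero_add]

theorem moufang [Finite V] (h : IsInverseClosed mul e) (a b u : V) :
    mul (mul a (mul b a)) u = mul a (mul b (mul a u)) := by
  rcases eq_or_ne b 0 with rfl | hb
  · simp
  have hbij : Function.Bijective (mul b) :=
    Finite.injective_iff_bijective.1 ((injective_iff_map_eq_zero _).2 fun x hx => h.inj b x hb hx)
  obtain ⟨c, hc⟩ := h.left e b hb
  have hcb : ∀ v, mul c (mul b v) = v := fun v => by
    have := hc (mul b v) v (by rw [h.one_mul])
    rwa [h.one_mul] at this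
  have hc0 : c ≠ 0 := by
    rintro rfl
    exact h.ne (by simpa using (hcb e).symm)
  obtain ⟨w, hw⟩ := h.left a c hc0
  have key : ∀ u, mul w u = mul a (mul b (mul a u)) := fun u => hw u _ (hcb _)
  have hwe := key e
  rw [h.mul_one, h.mul_one] at hwe
  rw [← hwe, key]

theorem sq [Finite V] (h : IsInverseClosed mul e) (a u : V) : mul (mul a a) u = mul a (mul a u) := by
  have := h.moufang a e u
  rwa [h.one_mul, h.one_mul] at this

theorem lin [Finite V] (h : IsInverseClosed mul e) (a c x : V) :
    mul a (mul c x) + mul c (mul a x) = mul (mul a c) x + mul (mul c a) x := by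
  have := h.sq (a + c) x
  simp only [map_add, end_add_apply] at this
  rw [h.sq, h.sq] at this
  linear_combination (norm := abel) -this

theorem pw_zero (mul : V →+ AddMonoid.End V) (e a : V) : pw mul e a 0 = e := rfl

theorem pw_succ (mul : V →+ AddMonoid.End V) (e a : V) (n : ℕ) : pw mul e a (n + 1) = mul a (pw mul e a n) := by
  rw [pw, pw, pow_succ']; rfl

theorem pw_one (h : IsInverseClosed mul e) (a : V) : pw mul e a 1 = a := by
  rw [pw_succ, pw_zero, h.mul_one]

theorem mul_pw [Finite V] (h : IsInverseClosed mul e) (a : V) : ∀ n, mul (pw mul e a n) = mul a ^ n := by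
  intro n
  induction n using Nat.twoStepInduction with
  | zero => ext x; rw [pw_zero, h.one_mul]; rfl
  | one => rw [h.pw_one, pow_one]
  | more n ih _ =>
    ext u
    have hna : mul (pw mul e a n) a = pw mul e a (n + 1) := by
      rw [ih, pw, pow_succ]
      show _ = (mul a ^ n) (mul a e)
      rw [h.mul_one]
    rw [pw_succ, ← hna, h.moufang, ih, pow_succ', pow_succ]
    rfl

theorem pw_mul_self [Finite V] (h : IsInverseClosed mul e) (a : V) (n : ℕ) :
    mul (pw mul e a n) a = pw mul e a (n + 1) := by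
  rw [h.mul_pw, pw, pow_succ]
  show _ = (mul a ^ n) (mul a e)
  rw [h.mul_one]

theorem pw_op [Finite V] (h : IsInverseClosed mul e) (a : V) : ∀ n, pw (op mul) e a n = pw mul e a n := by
  intro n
  induction n with
  | zero => rfl
  | succ n ih => rw [pw_succ, ih, op_apply, h.pw_mul_self]

theorem mul_apply_pw [Finite V] (h : IsInverseClosed mul e) (x a : V) (n : ℕ) :
    mul x (pw mul e a n) = (op mul a ^ n) x := by
  rw [← h.flip.mul_pw, h.pw_op]; rfl

theorem mul_pw_mul [Finite V] (h : IsInverseClosed mul e) (a x : V) (n : ℕ) :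
    mul (mul x (pw mul e a n)) a = mul x (pw mul e a (n + 1)) := by
  rw [h.mul_apply_pw, h.mul_apply_pw, pow_succ']; rfl

/-- A commutative ring of left multiplications. -/
def Good (mul : V →+ AddMonoid.End V) (e : V) (S : Subring (AddMonoid.End V)) : Prop :=
  (∀ s ∈ S, ∀ t ∈ S, s * t = t * s) ∧ ∀ s ∈ S, mul (s e) = s

theorem good_insert [Finite V] (h : IsInverseClosed mul e) {S : Subring (AddMonoid.End V)} (hS : Good mul e S)
    {b : V} (hb : ∀ s ∈ S, s * mul b = mul b * s) : Good mul e (Subring.closure (insert (mul b) (S : Set _))) := by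
  set T := insert (mul b) (S : Set (AddMonoid.End V))
  have hT : ∀ s ∈ T, ∀ t ∈ T, s * t = t * s := by
    rintro s (rfl | hs) t (rfl | ht)
    · rfl
    · exact (hb t ht).symm
    · exact hb s hs
    · exact hS.1 s hs t ht
  have h1 : Subring.closure T ≤ Subring.centralizer T :=
    Subring.closure_le.2 fun s hs => Subring.mem_centralizer_iff.2 fun t ht => hT t ht s hs
  have h2 : Subring.closure T ≤ Subring.centralizer (Subring.closure T : Set (AddMonoid.End V)) :=
    Subring.closure_le.2 fun s hs => Subring.mem_centralizer_iff.2 fun t ht =>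
      (Subring.mem_centralizer_iff.1 (h1 ht) s hs).symm
  refine ⟨fun s hs t ht => Subring.mem_centralizer_iff.1 (h2 ht) s hs, ?_⟩
  haveI : Finite (AddMonoid.End V) := Finite.of_injective _ DFunLike.coe_injective
  have hsqs : ∀ s ∈ S, ∃ t ∈ S, t * t = s := by
    intro s hs
    let q : S → S := fun t => t * t
    have hq : Function.Injective q := by
      intro s t hst
      have e1 : (s : AddMonoid.End V) * s = (t : AddMonoid.End V) * t := congrArg Subtype.val hst
      set x := ((s : AddMonoid.End V) + t) e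
      have hx : mul x = s + t := hS.2 _ (add_mem s.2 t.2)
      have h0 : mul x x = 0 := by
        have hz : ((s : AddMonoid.End V) + t) * (s + t) = (s * s + t * t) + (s * t + s * t) := by
          rw [add_mul, mul_add, mul_add, hS.1 _ t.2 _ s.2]; abel
        rw [hx]
        show (((s : AddMonoid.End V) + t) * (s + t)) e = 0
        rw [hz, e1]
        exact (congrArg₂ (· + ·) (h.self_add _) (h.self_add _)).trans (add_zero _)
      have hx0 : x = 0 := by
        by_contra hx0
        exact hx0 (h.inj x x hx0 h0)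
      rw [hx0, map_zero] at hx
      refine Subtype.ext (AddMonoidHom.ext fun y => h.eq_of_add ?_)
      exact (DFunLike.congr_fun hx y).symm
    obtain ⟨t, ht⟩ := Finite.injective_iff_surjective.1 hq ⟨s, hs⟩
    exact ⟨t, t.2, congrArg Subtype.val ht⟩
  intro x hx
  rw [Subring.mem_closure_iff] at hx
  induction hx using AddSubgroup.closure_induction with
  | zero => simp
  | add x y _ _ hx hy => rw [end_add_apply, map_add, hx, hy]
  | neg x _ hx => rw [end_neg_apply, map_neg, hx]
  | mem x hx =>
    obtain ⟨s, hs, j, rfl⟩ : ∃ s ∈ S, ∃ j, s * mul b ^ j = x := by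
      induction hx using Submonoid.closure_induction with
      | one => exact ⟨1, one_mem _, 0, by simp⟩
      | mem y hy =>
        rcases hy with rfl | hy
        · exact ⟨1, one_mem _, 1, by simp⟩
        · exact ⟨y, hy, 0, by simp⟩
      | mul y z _ _ hy hz =>
        obtain ⟨s, hs, j, rfl⟩ := hy
        obtain ⟨t, ht, k, rfl⟩ := hz
        refine ⟨s * t, mul_mem hs ht, j + k, ?_⟩
        have hc : Commute (mul b ^ j) t := Commute.pow_left (hb t ht).symm j
        rw [pow_add, mul_assoc, mul_assoc, ← mul_assoc t, ← hc.eq, mul_assoc]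
    obtain ⟨t, ht, rfl⟩ := hsqs s hs
    have hy : mul (mul (t e) (mul (pw mul e b j) (t e))) = t * t * mul b ^ j := by
      have hc : Commute t (mul b ^ j) := Commute.pow_right (hb t ht) j
      rw [mul_assoc t t, hc.eq]
      ext u
      rw [h.moufang, hS.2 t ht, h.mul_pw]
      rfl
    rw [← hy, h.mul_one]

theorem main [Finite V] (h : IsInverseClosed mul e) :
    (∀ x y, mul x y = mul y x) ∧ ∀ x y z, mul (mul x y) z = mul x (mul y z) := by
  classical
  haveI : Finite (AddMonoid.End V) := Finite.of_injective _ DFunLike.coe_injective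
  haveI : Finite (Subring (AddMonoid.End V)) := Finite.of_injective _ SetLike.coe_injective
  have hbot : Good mul e ⊥ := by
    constructor
    · intro s hs t ht
      obtain ⟨n, rfl⟩ := Subring.mem_bot.1 hs
      exact Int.cast_comm n t
    · intro s hs
      obtain ⟨n, rfl⟩ := Subring.mem_bot.1 hs
      ext x
      rw [AddMonoid.End.intCast_apply, map_zsmul, AddMonoid.End.intCast_apply]
      show n • mul e x = n • x
      rw [h.one_mul]
  obtain ⟨S, hS, hmax⟩ := Set.Finite.exists_maximal (Set.toFinite {S | Good mul e S}) ⟨⊥, hbot⟩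
  have hmem : ∀ b, (∀ s ∈ S, s * mul b = mul b * s) → mul b ∈ S := fun b hb =>
    hmax (h.good_insert hS hb) (fun s hs => Subring.subset_closure (Set.mem_insert_of_mem _ hs))
      (Subring.subset_closure (Set.mem_insert _ _))
  letI : CommRing S := { (inferInstance : Ring S) with mul_comm := fun s t => Subtype.ext (hS.1 _ s.2 _ t.2) }
  haveI : Nontrivial S := ⟨0, 1, fun hh => h.ne (DFunLike.congr_fun (congrArg Subtype.val hh) e).symm⟩
  haveI : NoZeroDivisors S := ⟨fun {s t} hst => by
    by_contra hne
    push Not at hne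
    refine hne.2 (Subtype.ext ?_)
    have hs : ((s : AddMonoid.End V) e) ≠ 0 := fun h0 => hne.1 (Subtype.ext (by rw [← hS.2 _ s.2, h0, map_zero]; rfl))
    rw [← hS.2 _ t.2, h.inj _ ((t : AddMonoid.End V) e) hs (by
      rw [hS.2 _ s.2]; exact DFunLike.congr_fun (congrArg Subtype.val hst) e), map_zero]
    rfl⟩
  haveI : IsDomain S := NoZeroDivisors.to_isDomain _
  letI : Field S := (Finite.isField_of_domain S).toField
  letI : Fintype S := Fintype.ofFinite S
  have hsmul : ∀ (s : S) (x : V), s • x = mul ((s : AddMonoid.End V) e) x := fun s x => by rw [hS.2 _ s.2]; rfl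
  obtain ⟨g, hg⟩ := IsCyclic.exists_generator (α := Sˣ)
  set z : S := (g : S)
  have hzpow : ∀ s : S, s = 0 ∨ ∃ n : ℕ, z ^ n = s := fun s => by
    rcases eq_or_ne s 0 with h0 | h0
    · exact .inl h0
    · obtain ⟨n, hn⟩ := mem_powers_iff_mem_zpowers.2 (hg (Units.mk0 s h0))
      exact .inr ⟨n, by simpa using congrArg Units.val hn⟩
  set a : V := (z : AddMonoid.End V) e
  have hza : mul a = (z : AddMonoid.End V) := hS.2 _ z.2
  have hpwa : ∀ n : ℕ, ((z ^ n : S) : AddMonoid.End V) e = pw mul e a n := fun n => by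
    rw [pw, hza, SubmonoidClass.coe_pow]
  have hcomm : ∀ b, mul b a = mul a b → mul b ∈ S := by
    intro b hb
    refine hmem b fun s hs => ?_
    have hz : Commute (z : AddMonoid.End V) (mul b) := by
      rw [← hza]
      refine AddMonoidHom.ext fun x => h.eq_of_add ?_
      show mul a (mul b x) + mul b (mul a x) = 0
      rw [h.lin, hb, h.self_add]
    rcases hzpow ⟨s, hs⟩ with h0 | ⟨n, hn⟩
    · obtain rfl : s = 0 := congrArg Subtype.val h0
      simp
    · obtain rfl : (z : AddMonoid.End V) ^ n = s := by simpa using congrArg Subtype.val hn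
      exact (hz.pow_left n).eq
  suffices hall : ∀ b, mul b a = mul a b by
    have hmemS : ∀ b, mul b ∈ S := fun b => hcomm b (hall b)
    have hc : ∀ x y, mul x y = mul y x := fun x y => by
      have := DFunLike.congr_fun (hS.1 _ (hmemS x) _ (hmemS y)) e
      simpa [h.mul_one] using this
    refine ⟨hc, fun x y w => ?_⟩
    have := hS.2 _ (mul_mem (hmemS x) (hmemS y))
    rw [show ((mul x * mul y) e) = mul x y by simp [h.mul_one]] at this
    exact DFunLike.congr_fun this w
  -- right multiplication by `a` is linear over `S`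
  let T : Module.End S V :=
    { toFun := fun x => mul x a
      map_add' := fun x y => by rw [map_add, end_add_apply]
      map_smul' := fun s x => by
        show mul (s • x) a = s • mul x a
        rcases hzpow s with rfl | ⟨n, rfl⟩
        · simp
        rw [hsmul, hsmul, hpwa]
        have h1 : mul (mul x (pw mul e a n)) a = mul x (mul (pw mul e a n) a) := by
          rw [h.mul_pw_mul, h.pw_mul_self]
        have h2 := h.lin (pw mul e a n) x a
        rw [h1] at h2
        exact (add_right_cancel h2).symm }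
  have hTpow : ∀ (n : ℕ) (x : V), (T ^ n) x = mul x (pw mul e a n) := by
    intro n x
    induction n with
    | zero => rw [pw_zero, h.mul_one]; rfl
    | succ n ih => rw [pow_succ', Module.End.mul_apply, ih]; exact h.mul_pw_mul a x n
  by_contra hall
  push Not at hall
  obtain ⟨x₀, hx₀⟩ := hall
  -- an eigenvector
  obtain ⟨μ, hμ, b, hb0, hbμ⟩ : ∃ μ ∈ Finset.univ.erase z, ∃ w : V, w ≠ 0 ∧ T w = μ • w := by
    refine exists_root_of_aeval_prod T _ ((T - algebraMap S (Module.End S V) z) x₀) ?_ ?_
    · rw [LinearMap.sub_apply, Module.algebraMap_end_apply, sub_ne_zero]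
      show mul x₀ a ≠ z • x₀
      rw [hsmul]
      exact hx₀
    · rw [show T - algebraMap S (Module.End S V) z = aeval T (X - C z) by simp, ← Module.End.mul_apply, ← map_mul,
        Finset.prod_erase_mul _ _ (Finset.mem_univ z)]
      have hprod : ∏ μ : S, (X - C μ) = X ^ Fintype.card S - X := by
        have hm : (X ^ Fintype.card S - X : S[X]).Monic := monic_X_pow_sub (by
          rw [degree_X]; exact_mod_cast Fintype.one_lt_card)
        rw [← prod_multiset_X_sub_C_of_monic_of_roots_card_eq hm (by
          rw [FiniteField.roots_X_pow_card_sub_X, FiniteField.X_pow_card_sub_X_natDegree_eq _ Fintype.one_lt_card]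
          simp), FiniteField.roots_X_pow_card_sub_X]
        rfl
      rw [hprod, map_sub, map_pow, aeval_X, LinearMap.sub_apply, hTpow, sub_eq_zero]
      show mul x₀ _ = mul x₀ a
      rw [← hpwa, FiniteField.pow_card]
  -- the automorphism attached to it
  have hex : ∀ s : S, ∃ t : S, mul b ((s : AddMonoid.End V) e) = t • b := by
    intro s
    rcases hzpow s with rfl | ⟨n, rfl⟩
    · exact ⟨0, by simp⟩
    refine ⟨μ ^ n, ?_⟩
    rw [hpwa, ← hTpow]
    induction n with
    | zero => simp
    | succ n ih => rw [pow_succ', Module.End.mul_apply, ih, map_smul, hbμ, smul_smul, pow_succ]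
  choose f hf using hex
  have huniq : ∀ {s t : S}, mul b ((s : AddMonoid.End V) e) = t • b → f s = t := fun {s t} h' =>
    smul_left_injective S hb0 (show f s • b = t • b from (hf s).symm.trans h')
  have hfp : ∀ n : ℕ, f (z ^ n) = μ ^ n := fun n => by
    refine huniq ?_
    rw [hpwa, ← hTpow]
    induction n with
    | zero => simp
    | succ n ih => rw [pow_succ', Module.End.mul_apply, ih, map_smul, hbμ, smul_smul, pow_succ]
  have hf0 : f 0 = 0 := huniq (by simp)
  let σ : S →+* S :=
    { toFun := f
      map_one' := by have := hfp 0; rwa [pow_zero, pow_zero] at this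
      map_mul' := fun s t => by
        rcases hzpow s with rfl | ⟨n, rfl⟩
        · rw [zero_mul, hf0, zero_mul]
        rcases hzpow t with rfl | ⟨m, rfl⟩
        · rw [mul_zero, hf0, mul_zero]
        rw [← pow_add, hfp, hfp, hfp, pow_add]
      map_zero' := hf0
      map_add' := fun s t => huniq (by
        rw [show (((s + t : S) : AddMonoid.End V) e) = (s : AddMonoid.End V) e + (t : AddMonoid.End V) e from rfl,
          map_add, hf, hf, add_smul]) }

  haveI : CharP S 2 := CharTwo.of_one_ne_zero_of_two_eq_zero one_ne_zero (Subtype.ext (AddMonoidHom.ext fun x => by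
    rw [← one_add_one_eq_two]; exact h.self_add x))
  letI : Algebra (ZMod 2) S := _root_.ZMod.algebra S 2
  haveI : Fact (Nat.Prime 2) := ⟨Nat.prime_two⟩
  set d := Module.finrank (ZMod 2) S
  have hcard : Fintype.card S = 2 ^ d := by rw [Module.card_eq_pow_finrank (K := ZMod 2), ZMod.card]
  obtain ⟨⟨i₀, hi₀⟩, hσ⟩ := (FiniteField.bijective_frobeniusAlgHom_pow (ZMod 2) S).2
    { σ with commutes' := fun r => RingHom.congr_fun (Subsingleton.elim (σ.comp (algebraMap (ZMod 2) S)) (algebraMap (ZMod 2) S)) r }
  have hσ' : ∀ s : S, f s = s ^ 2 ^ i₀ := fun s => by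
    have := DFunLike.congr_fun hσ s
    simp only [AlgHom.coe_pow, FiniteField.coe_frobeniusAlgHom, pow_iterate, ZMod.card] at this
    exact this.symm
  have hI : ∃ i, 0 < i ∧ i < d ∧ ∃ b : V, b ≠ 0 ∧
      ∀ s : S, mul b ((s : AddMonoid.End V) e) = (s ^ 2 ^ i) • b := by
    refine ⟨i₀, Nat.pos_of_ne_zero ?_, hi₀, b, hb0, fun s => by rw [hf, hσ']⟩
    rintro rfl
    refine (Finset.mem_erase.1 hμ).1 ?_
    simpa [hσ'] using (hfp 1).symm
  obtain ⟨hi, hid, b, hb0, hb⟩ := Nat.find_spec hI
  set i := Nat.find hI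
  -- powers of `b`
  have hstep : ∀ (j : ℕ) (ρ : S), mul b (ρ • pw mul e b j) = (ρ ^ 2 ^ i) • pw mul e b (j + 1) := by
    intro j ρ
    set r := (ρ : AddMonoid.End V) e
    set κ : S := ρ ^ 2 ^ i + ρ
    have h1 := h.lin b r (pw mul e b j)
    rw [← pw_succ, ← end_add_apply, ← map_add, hb, show mul r b = ρ • b from (hsmul ρ b).symm,
      ← add_smul] at h1
    rw [hsmul, hsmul]
    have h2 : mul (κ • b) (pw mul e b j) = κ • pw mul e b (j + 1) := by
      rw [hsmul, hsmul]
      calc mul (mul ((κ : AddMonoid.End V) e) b) (pw mul e b j)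
          = (op mul b ^ j) (mul ((κ : AddMonoid.End V) e) b) := h.mul_apply_pw _ _ _
        _ = mul ((κ : AddMonoid.End V) e) (pw mul e b (j + 1)) := by
          rw [h.mul_apply_pw, pow_succ]; rfl
    rw [h2, show mul r (pw mul e b (j + 1)) = ρ • pw mul e b (j + 1) from (hsmul ρ _).symm, add_smul] at h1
    rw [← hsmul (ρ ^ 2 ^ i)]
    exact add_right_cancel h1
  have hiter : ∀ (j : ℕ) (ρ : S), mul (pw mul e b j) ((ρ : AddMonoid.End V) e) = (ρ ^ 2 ^ (i * j)) • pw mul e b j := by
    intro j
    induction j with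
    | zero => intro ρ; rw [pw_zero, h.one_mul, mul_zero, pow_zero, pow_one]; exact rfl
    | succ j ih =>
      intro ρ
      rw [h.mul_pw, pow_succ', ← h.mul_pw]
      show mul b (mul (pw mul e b j) _) = _
      rw [ih, hstep, ← pow_mul, ← pow_add, Nat.mul_succ]
  have hpne : ∀ j, pw mul e b j ≠ 0 := by
    intro j
    induction j with
    | zero => exact h.ne
    | succ j ih => rw [pw_succ]; exact fun h0 => ih (h.inj b _ hb0 h0)
  have hqd : ∀ s : S, s ^ 2 ^ d = s := fun s => by rw [← hcard]; exact FiniteField.pow_card s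
  have hdvd : i ∣ d := by
    rw [Nat.dvd_iff_mod_eq_zero]
    by_contra hm
    have hlt := Nat.mod_lt d hi
    have hdm := Nat.mod_add_div d i
    have hj : i * (d / i + 1) = d + (i - d % i) := by rw [Nat.mul_succ]; omega
    refine Nat.find_min hI (m := i - d % i) (by omega) ⟨by omega, by omega, _, hpne (d / i + 1), fun s => ?_⟩
    rw [hiter, hj, pow_add, pow_mul, hqd]
  obtain ⟨r, hr⟩ := hdvd
  have hr1 : 1 < r := by
    by_contra hr1
    have : r = 0 ∨ r = 1 := by omega
    rcases this with rfl | rfl <;> omega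
  obtain ⟨μ', hμ'⟩ : ∃ μ' : S, (μ' : AddMonoid.End V) = mul (pw mul e b r) := by
    refine ⟨⟨_, hcomm _ ?_⟩, rfl⟩
    rw [hiter, ← hr, hqd, hsmul]
  have hμe : (μ' : AddMonoid.End V) e = pw mul e b r := by rw [hμ', h.mul_one]
  have hfix : μ' ^ 2 ^ i = μ' := by
    refine smul_left_injective S hb0 (show _ • b = _ • b from ?_)
    rw [← hb, hμe, ← pw_succ]
    calc pw mul e b (r + 1) = mul (pw mul e b r) b := (h.pw_mul_self b r).symm
      _ = μ' • b := by rw [← hμ']; rfl
  have hμ0 : μ' ≠ 0 := fun h0 => hpne r (by rw [← hμe, h0]; rfl)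
  -- it is a norm
  set M := ∑ k ∈ range r, (2 ^ i) ^ k
  have hM : M * (2 ^ i - 1) + 1 = 2 ^ d := by
    have := geom_sum_mul_add (2 ^ i - 1) r
    rw [Nat.sub_add_cancel Nat.one_le_two_pow, ← pow_mul, ← hr] at this
    exact this
  obtain ⟨t, ht⟩ := mem_powers_iff_mem_zpowers.2 (hg (Units.mk0 μ' hμ0))
  have hord : orderOf g = 2 ^ d - 1 := by
    rw [orderOf_eq_card_of_forall_mem_zpowers hg, Nat.card_units, Nat.card_eq_fintype_card, hcard]
  have hMt : M ∣ t := by
    have h2i : 1 < 2 ^ i := Nat.one_lt_two_pow (by omega)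
    have : g ^ (t * (2 ^ i - 1)) = 1 := by
      have e1 : (g ^ t) ^ (2 ^ i - 1) * g ^ t = g ^ t := by
        rw [← pow_succ, Nat.sub_add_cancel h2i.le]
        have ht' : g ^ t = Units.mk0 μ' hμ0 := ht
        rw [ht']
        exact Units.ext (by simpa using hfix)
      rw [pow_mul]
      exact mul_eq_right.1 e1
    have hd1 := orderOf_dvd_of_pow_eq_one this
    rw [hord, show 2 ^ d - 1 = M * (2 ^ i - 1) by omega] at hd1
    exact Nat.dvd_of_mul_dvd_mul_right (by omega) hd1
  obtain ⟨k, hk⟩ := hMt
  set l : S := z ^ k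
  have hl0 : l ≠ 0 := pow_ne_zero _ g.ne_zero
  have hnorm : l ^ M = μ' := by
    rw [← pow_mul, mul_comm, ← hk]
    simpa [z] using congrArg Units.val ht
  -- a singular left multiplication
  let c : ℕ → S := fun j => Nat.rec 1 (fun _ cj => l⁻¹ * cj ^ 2 ^ i) j
  have hc0 : c 0 = 1 := rfl
  have hcs : ∀ j, c (j + 1) = l⁻¹ * c j ^ 2 ^ i := fun j => rfl
  have hcM : ∀ j, c j * l ^ (∑ k ∈ range j, (2 ^ i) ^ k) = 1 := by
    intro j
    induction j with
    | zero => simp [hc0]
    | succ j ih =>
      rw [geom_sum_succ, hcs, pow_add, pow_one, mul_comm (2 ^ i) (∑ k ∈ range j, (2 ^ i) ^ k), pow_mul,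
        show l⁻¹ * c j ^ 2 ^ i * ((l ^ ∑ k ∈ range j, (2 ^ i) ^ k) ^ 2 ^ i * l) =
          (c j * l ^ ∑ k ∈ range j, (2 ^ i) ^ k) ^ 2 ^ i * (l⁻¹ * l) by rw [mul_pow]; ring, ih, one_pow,
        inv_mul_cancel₀ hl0, _root_.one_mul]
  set v := ∑ j ∈ range r, c j • pw mul e b j
  have hbv : mul b v = l • v := by
    have hwrap : (l * c r) • pw mul e b r = (l * c 0) • pw mul e b 0 := by
      rw [← hμe, show (l * c r) • ((μ' : AddMonoid.End V) e) = (((l * c r * μ' : S)) : AddMonoid.End V) e from rfl,
        mul_assoc, ← hnorm, hcM, hc0]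
      rfl
    rw [map_sum, Finset.smul_sum]
    calc ∑ j ∈ range r, mul b (c j • pw mul e b j) = ∑ j ∈ range r, (l * c (j + 1)) • pw mul e b (j + 1) :=
          Finset.sum_congr rfl fun j _ => by rw [hstep, hcs, ← mul_assoc, mul_inv_cancel₀ hl0, _root_.one_mul]
      _ = ∑ j ∈ range r, (l * c j) • pw mul e b j := by
          have e1 := Finset.sum_range_succ' (fun j => (l * c j) • pw mul e b j) r
          rw [Finset.sum_range_succ, hwrap] at e1
          exact (add_right_cancel e1).symm
      _ = ∑ j ∈ range r, l • c j • pw mul e b j := Finset.sum_congr rfl fun j _ => by rw [smul_smul]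
  have hbl : b ≠ (l : AddMonoid.End V) e := by
    intro hbl
    have h1 : mul b a = (z ^ 2 ^ i) • b := hb z
    have h2 : mul b a = z • b := by
      rw [hsmul, hbl, hS.2 _ l.2, hS.2 _ z.2]
      exact DFunLike.congr_fun (hS.1 _ l.2 _ z.2) e
    have h3 : z ^ 2 ^ i = z := smul_left_injective S hb0 (h1.symm.trans h2)
    have h4 : g ^ 2 ^ i = g := Units.ext (by simpa [z] using h3)
    have h5 : (2 ^ i - 1) = 0 := by
      by_contra hne
      have e1 : g ^ (2 ^ i - 1) * g = g := by rw [← pow_succ, Nat.sub_add_cancel Nat.one_le_two_pow, h4]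
      have := Nat.le_of_dvd (Nat.pos_of_ne_zero hne) (orderOf_dvd_of_pow_eq_one (mul_eq_right.1 e1))
      have := Nat.pow_lt_pow_right (a := 2) one_lt_two hid
      omega
    have := Nat.one_lt_two_pow (n := i) (by omega)
    omega
  have hv : v = 0 := by
    refine h.inj (b + (l : AddMonoid.End V) e) v (fun h0 => hbl (h.eq_of_add h0)) ?_
    rw [map_add, end_add_apply, hbv, hsmul, h.self_add]
  have hli : LinearIndependent S (fun j : Fin r => pw mul e b j) := by
    refine Module.End.eigenvectors_linearIndependent' T (fun j : Fin r => z ^ 2 ^ (i * (j : ℕ))) ?_ _ fun j => ?_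
    · intro j k hjk
      have hlt : ∀ j : Fin r, 2 ^ (i * (j : ℕ)) < orderOf g := fun j => by
        rw [hord]
        have h1 : i * (j : ℕ) ≤ d - i := by
          rw [hr, ← Nat.mul_sub_one]; exact Nat.mul_le_mul_left _ (by omega)
        have h2 := Nat.pow_le_pow_right two_pos h1
        have h3 : 2 * 2 ^ (d - i) ≤ 2 ^ d := by
          rw [← pow_succ']; exact Nat.pow_le_pow_right two_pos (by omega)
        have h4 : 2 ≤ 2 ^ (d - i) := Nat.le_self_pow (by omega) 2
        omega
      have h1 : g ^ 2 ^ (i * (j : ℕ)) = g ^ 2 ^ (i * (k : ℕ)) := Units.ext (by simpa [z] using hjk)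
      have h2 := Nat.pow_right_injective le_rfl (pow_injOn_Iio_orderOf (hlt j) (hlt k) h1)
      exact Fin.ext (Nat.eq_of_mul_eq_mul_left hi h2)
    · refine ⟨Module.End.mem_eigenspace_iff.2 ?_, hpne _⟩
      exact hiter j z
  have hc := Fintype.linearIndependent_iff.1 hli (fun j => c j) (by
    rw [Fin.sum_univ_eq_sum_range (fun j => c j • pw mul e b j) r]; exact hv) ⟨0, by omega⟩
  exact one_ne_zero (hc0.symm.trans hc)

end IsInverseClosed

end CfsgLib.Techniques.AlternativeSemifield
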