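import Mathlib.GroupTheory.Transfer
import Mathlib.GroupTheory.Sylow
import Mathlib.GroupTheory.Abelianization.Defs

/-!
A central involution of a Sylow 2-subgroup fixed by the normalizer lies in the derived group when
there is no subgroup of index 2.
-/

set_option autoImplicit false

namespace CfsgLib.Techniques.CentralTransfer

open Subgroup

/-- An invariant function of exponent `p` on a set acted on by a `p`-group: the product is the
fixed value raised to the size of the set. -/
theorem prod_eq_pow_card {P : Type*} [Group P] {p : ℕ} [Fact p.Prime] (hP : IsPGroup p P) {Ω A : Type*}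
    [Fintype Ω] [MulAction P Ω] [CommMonoid A] (f : Ω → A) (hf : ∀ (x : P) ω, f (x • ω) = f ω)
    (hp : ∀ ω, f ω ^ p = 1) {a : A} (ha : a ^ p = 1) (hfix : ∀ ω, (∀ x : P, x • ω = ω) → f ω = a) :
    ∏ ω, f ω = a ^ Fintype.card Ω := by
  classical
  rw [← Finset.card_univ, ← Finset.prod_const]
  rw [← Finset.prod_fiberwise Finset.univ (Quotient.mk (MulAction.orbitRel P Ω)),
    ← Finset.prod_fiberwise Finset.univ (Quotient.mk (MulAction.orbitRel P Ω)) (fun _ => a)]
  refine Finset.prod_congr rfl fun o _ => ?_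
  induction o using Quotient.ind with
  | _ ω₀ =>
  set S := Finset.univ.filter fun ω => Quotient.mk (MulAction.orbitRel P Ω) ω = ⟦ω₀⟧
  have hS : ∀ ω, ω ∈ S ↔ ω ∈ MulAction.orbit P ω₀ := fun ω => by
    simp only [S, Finset.mem_filter, Finset.mem_univ, true_and, Quotient.eq]
    exact MulAction.orbitRel_apply
  have hconst : ∀ ω ∈ S, f ω = f ω₀ := fun ω hω => by
    obtain ⟨x, rfl⟩ := (hS ω).1 hω
    exact hf x ω₀
  rw [Finset.prod_congr rfl hconst, Finset.prod_const, Finset.prod_const]
  by_cases hω : ∀ x : P, x • ω₀ = ω₀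
  · rw [hfix _ hω]
  have hfin : Finite (MulAction.orbit P ω₀) := inferInstance
  obtain ⟨n, hn⟩ := hP.card_orbit ω₀
  have hcard : S.card = p ^ n := by
    rw [← hn, ← Nat.card_eq_finsetCard]
    exact Nat.card_congr (Equiv.subtypeEquivRight hS)
  have hn0 : n ≠ 0 := by
    rintro rfl
    refine hω fun x => ?_
    rw [pow_zero] at hn
    have := (Nat.card_eq_one_iff_unique.1 hn).1
    exact congrArg Subtype.val (this.elim ⟨x • ω₀, MulAction.mem_orbit _ x⟩ ⟨ω₀, MulAction.mem_orbit_self _⟩)
  obtain ⟨m, rfl⟩ := Nat.exists_eq_succ_of_ne_zero hn0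
  rw [hcard, pow_succ', pow_mul, pow_mul, hp, ha]

variable {G : Type*} [Group G] [Finite G]

theorem mem_commutator_of_normalizer_fixed (P : Sylow 2 G) (hG : ∀ H : Subgroup G, H.index ≠ 2) {u : G}
    (huP : u ∈ (P : Subgroup G)) (hu2 : u * u = 1) (huc : ∀ x ∈ (P : Subgroup G), x * u = u * x)
    (hun : ∀ n ∈ normalizer ((P : Subgroup G) : Set G), n⁻¹ * u * n = u) :
    (⟨u, huP⟩ : ↥(P : Subgroup G)) ∈ commutator ↥(P : Subgroup G) := by
  classical
  set H := (P : Subgroup G)
  set φ : H →* Abelianization H := Abelianization.of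
  haveI : Finite (Abelianization H) := Finite.of_surjective φ Quotient.mk''_surjective
  have hA : IsPGroup 2 (Abelianization H) := P.2.of_surjective φ Quotient.mk''_surjective
  set V := MonoidHom.transfer φ
  have hV : V u = 1 := by
    have hb : V.range = ⊥ := by
      by_contra hne
      obtain ⟨n, hn⟩ := (hA.to_subgroup V.range).exists_card_eq
      have hn0 : n ≠ 0 := fun h0 => hne (card_eq_one.mp (by rw [hn, h0, pow_zero]))
      obtain ⟨m, rfl⟩ := Nat.exists_eq_succ_of_ne_zero hn0
      haveI : Fact (Nat.Prime 2) := ⟨Nat.prime_two⟩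
      obtain ⟨K, hK⟩ := Sylow.exists_subgroup_card_pow_prime (G := V.range) 2 (n := m)
        (by rw [hn]; exact pow_dvd_pow 2 (Nat.le_succ m))
      refine hG (K.comap V.rangeRestrict) ?_
      rw [index_comap_of_surjective _ V.rangeRestrict_surjective]
      have := K.card_mul_index
      rw [hK, hn, pow_succ] at this
      exact Nat.eq_of_mul_eq_mul_left (by positivity) this
    have : V u ∈ V.range := ⟨u, rfl⟩
    rw [hb] at this
    exact mem_bot.mp this
  haveI := Fintype.ofFinite (G ⧸ H)
  haveI : Fintype (Quotient (MulAction.orbitRel (zpowers u) (G ⧸ H))) := Fintype.ofFinite _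
  -- the function on cosets
  let F : G ⧸ H → Abelianization H := fun c =>
    if h : c.out⁻¹ * u * c.out ∈ H then φ ⟨_, h⟩ else 1
  have hFrep : ∀ g : G, F (g : G ⧸ H) = if h : g⁻¹ * u * g ∈ H then φ ⟨_, h⟩ else 1 := by
    intro g
    obtain ⟨k, hk⟩ := QuotientGroup.mk_out_eq_mul H g
    have hiff : (g : G ⧸ H).out⁻¹ * u * (g : G ⧸ H).out ∈ H ↔ g⁻¹ * u * g ∈ H := by
      rw [hk, show (g * (k : G))⁻¹ * u * (g * k) = (k : G)⁻¹ * (g⁻¹ * u * g) * k by group]
      rw [H.mul_mem_cancel_right k.2, H.mul_mem_cancel_left (inv_mem k.2)]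
    by_cases h : g⁻¹ * u * g ∈ H
    · simp only [F, dif_pos (hiff.2 h), dif_pos h]
      rw [show (⟨_, hiff.2 h⟩ : H) = k⁻¹ * ⟨_, h⟩ * k from Subtype.ext (by
        show (g : G ⧸ H).out⁻¹ * u * (g : G ⧸ H).out = (k : G)⁻¹ * (g⁻¹ * u * g) * k
        rw [hk]; group)]
      rw [map_mul, map_mul, map_inv, mul_comm (φ k)⁻¹, inv_mul_cancel_right]
    · simp only [F, dif_neg (mt hiff.1 h), dif_neg h]
  -- `u` fixed cosets
  have hfixiff : ∀ g : G, g⁻¹ * u * g ∈ H ↔ u • (g : G ⧸ H) = g := fun g => by
    rw [MulAction.Quotient.smul_coe, smul_eq_mul, QuotientGroup.eq, ← inv_mem_iff (H := H)]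
    simp [mul_assoc]
  have hT : V u = ∏ c : G ⧸ H, F c := by
    rw [show V u = _ from MonoidHom.transfer_eq_prod_quotient_orbitRel_zpowers_quot φ u]
    refine Finset.prod_of_injOn (fun q => q.out) Quotient.out_injective.injOn (by simp) ?_ ?_
    · intro c _ hc
      induction c using QuotientGroup.induction_on with
      | _ g =>
      rw [hFrep, dif_neg]
      intro hg
      refine hc ⟨Quotient.mk'' (g : G ⧸ H), by simp, ?_⟩
      obtain ⟨⟨_, j, rfl⟩, hj⟩ :=
        (Quotient.mk_out (s := MulAction.orbitRel (zpowers u) (G ⧸ H)) (g : G ⧸ H) :)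
      refine hj.symm.trans ?_
      exact MulAction.mem_stabilizer_iff.mp
        (zpow_mem (MulAction.mem_stabilizer_iff.mpr ((hfixiff g).1 hg)) j)
    · intro q _
      set g := q.out.out with hg
      have hq : (g : G ⧸ H) = q.out := QuotientGroup.out_eq' _
      have hdvd : Function.minimalPeriod (u • ·) q.out ∣ 2 := by
        refine Function.IsPeriodicPt.minimalPeriod_dvd ?_
        show u • u • q.out = q.out
        rw [smul_smul, hu2, one_smul]
      rw [show F q.out = F (g : G ⧸ H) by rw [hq], hFrep]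
      rcases (Nat.dvd_prime Nat.prime_two).mp hdvd with h | h
      · rw [dif_pos ((hfixiff g).2 (by rw [hq]; exact Function.minimalPeriod_eq_one_iff_isFixedPt.mp h))]
        exact congrArg φ (Subtype.ext (by simp [h, g]))
      · rw [dif_neg fun hg' => ?_]
        · rw [← map_one φ]
          exact congrArg φ (Subtype.ext (by simp [h, pow_two, hu2, g]))
        · have := Function.minimalPeriod_eq_one_iff_isFixedPt.mpr
            (show Function.IsFixedPt (u • ·) q.out by rw [← hq]; exact (hfixiff g).1 hg')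
          omega
  have hu' : φ ⟨u, huP⟩ ^ 2 = 1 := by
    rw [← map_pow, show (⟨u, huP⟩ : H) ^ 2 = 1 from Subtype.ext (by rw [SubgroupClass.coe_pow, pow_two, hu2]; rfl),
      map_one]
  have key : ∏ c : G ⧸ H, F c = φ ⟨u, huP⟩ ^ Fintype.card (G ⧸ H) := by
    refine prod_eq_pow_card (P := H) P.2 F ?_ ?_ hu' ?_
    · intro x c
      induction c using QuotientGroup.induction_on with
      | _ g =>
      have he : ((x : G) * g)⁻¹ * u * ((x : G) * g) = g⁻¹ * u * g := by
        rw [mul_inv_rev, show g⁻¹ * (x : G)⁻¹ * u * ((x : G) * g) = g⁻¹ * ((x : G)⁻¹ * (u * x)) * g by group,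
          ← huc x x.2, inv_mul_cancel_left]
      rw [show (x • (g : G ⧸ H)) = (((x : G) * g : G) : G ⧸ H) from rfl, hFrep, hFrep]
      simp only [he]
    · intro c
      induction c using QuotientGroup.induction_on with
      | _ g =>
      rw [hFrep]
      split_ifs with h
      · rw [← map_pow, show (⟨_, h⟩ : H) ^ 2 = 1 from Subtype.ext (by
          show (g⁻¹ * u * g) ^ 2 = 1
          rw [pow_two, show g⁻¹ * u * g * (g⁻¹ * u * g) = g⁻¹ * (u * u) * g by group, hu2]; group), map_one]
      · exact one_pow 2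
    · intro c hc
      induction c using QuotientGroup.induction_on with
      | _ g =>
      have hgN : g ∈ normalizer (H : Set G) := by
        have hle : ∀ x ∈ H, g⁻¹ * x * g ∈ H := fun x hx => by
          have := QuotientGroup.eq.1 (hc ⟨x, hx⟩)
          simpa [mul_assoc] using inv_mem this
        rw [← inv_mem_iff, mem_normalizer_iff]
        intro x
        refine ⟨fun hx => by simpa using hle x hx, fun hx => ?_⟩
        have hmap : H.map (MulAut.conj g⁻¹).toMonoidHom = H := by
          refine eq_of_le_of_card_ge (by rintro _ ⟨y, hy, rfl⟩; simpa using hle y hy) ?_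
          rw [card_map_of_injective (MulEquiv.injective _)]
        obtain ⟨y, hy, hyx⟩ := hmap.ge hx
        simp only [MulEquiv.coe_toMonoidHom, MulAut.conj_apply, inv_inv, mul_left_inj, mul_right_inj] at hyx
        exact hyx ▸ hy
      rw [hFrep, dif_pos (by rw [hun g hgN]; exact huP)]
      exact congrArg φ (Subtype.ext (hun g hgN))
  have hodd : Odd (Fintype.card (G ⧸ H)) := by
    rw [← Nat.card_eq_fintype_card, ← index_eq_card, ← Nat.not_even_iff_odd, even_iff_two_dvd]
    haveI : Fact (Nat.Prime 2) := ⟨Nat.prime_two⟩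
    exact P.not_dvd_index
  obtain ⟨j, hj⟩ := hodd
  rw [hV, key, hj, pow_succ, pow_mul, hu', one_pow, one_mul] at hT
  exact (QuotientGroup.eq_one_iff _).1 hT.symm

end CfsgLib.Techniques.CentralTransfer
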