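import Cfsg.Prelude.Def_ConjugacyFunctors
import Cfsg.Agent.Lib.Transfer.Conj
import Cfsg.Agent.Lib.Techniques.Basic

/-!
Conjugacy functors: Sylow subgroups of subgroups, fully normalized subgroups, the tower of a
functor and well placed subgroups.
-/

namespace CfsgLib.Techniques

open Subgroup

variable {G : Type*} [Group G] {p : ℕ}

theorem map_conj_inv_conj (H : Subgroup G) (g : G) :
    (H.map (MulAut.conj g).toMonoidHom).map (MulAut.conj g⁻¹).toMonoidHom = H := by
  rw [map_conj_conj, inv_mul_cancel, map_conj_one]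

theorem map_conj_conj_inv (H : Subgroup G) (g : G) :
    (H.map (MulAut.conj g⁻¹).toMonoidHom).map (MulAut.conj g).toMonoidHom = H := by
  rw [map_conj_conj, mul_inv_cancel, map_conj_one]

theorem map_conj_of_mem_normalizer {H : Subgroup G} {g : G}
    (hg : g ∈ Subgroup.normalizer (H : Set G)) : H.map (MulAut.conj g).toMonoidHom = H := by
  ext x
  rw [mem_map_conj_iff]
  exact ((Subgroup.mem_normalizer_iff''.mp hg) x).symm

theorem mem_normalizer_of_map_conj_eq {H : Subgroup G} {g : G}
    (h : H.map (MulAut.conj g).toMonoidHom = H) : g ∈ Subgroup.normalizer (H : Set G) := by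
  rw [Subgroup.mem_normalizer_iff'']
  intro x
  have := SetLike.ext_iff.mp h x
  rw [mem_map_conj_iff] at this
  exact this.symm

theorem normalizer_map_conj' (g : G) (H : Subgroup G) :
    Subgroup.normalizer ((H.map (MulAut.conj g).toMonoidHom : Subgroup G) : Set G) =
      (Subgroup.normalizer (H : Set G)).map (MulAut.conj g).toMonoidHom :=
  CfsgLib.Transfer.normalizer_map_conj g H

/-! ### Sylow subgroups of subgroups -/

/-- `T` is a Sylow `p`-subgroup of the subgroup `H`. -/
def IsSylowSub (p : ℕ) (T H : Subgroup G) : Prop :=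
  T ≤ H ∧ IsPGroup p T ∧ ¬ p ∣ T.relIndex H

theorem isSylowSub_sylow [Finite G] [Fact p.Prime] (S : Sylow p G) :
    IsSylowSub p (S : Subgroup G) ⊤ := by
  refine ⟨le_top, S.2, ?_⟩
  rw [Subgroup.relIndex_top_right]
  exact S.not_dvd_index

theorem IsSylowSub.map_conj {T H : Subgroup G} (h : IsSylowSub p T H) (g : G) :
    IsSylowSub p (T.map (MulAut.conj g).toMonoidHom) (H.map (MulAut.conj g).toMonoidHom) := by
  refine ⟨Subgroup.map_mono h.1, isPGroup_map_conj h.2.1 g, ?_⟩
  rw [Subgroup.relIndex_map_map_of_injective _ _ (MulAut.conj g).injective]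
  exact h.2.2

theorem IsSylowSub.exists_conj_le [Finite G] [Fact p.Prime] {T H Q : Subgroup G}
    (h : IsSylowSub p T H) (hQH : Q ≤ H) (hQ : IsPGroup p Q) :
    ∃ n ∈ H, Q.map (MulAut.conj n).toMonoidHom ≤ T := by
  obtain ⟨n, hn, hs⟩ := CfsgLib.Transfer.exists_conj_le h.2.1 h.2.2 hQH hQ
  refine ⟨n⁻¹, inv_mem hn, ?_⟩
  rintro _ ⟨q, hq, rfl⟩
  simpa [MulAut.conj_apply] using hs q hq

theorem IsSylowSub.card_le [Finite G] [Fact p.Prime] {T H Q : Subgroup G}
    (h : IsSylowSub p T H) (hQH : Q ≤ H) (hQ : IsPGroup p Q) : Nat.card Q ≤ Nat.card T := by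
  obtain ⟨n, _, hle⟩ := h.exists_conj_le hQH hQ
  rw [← card_map_conj Q n]
  exact Subgroup.card_le_of_le hle

theorem IsSylowSub.eq_of_le [Finite G] [Fact p.Prime] {T H Q : Subgroup G}
    (h : IsSylowSub p T H) (hTQ : T ≤ Q) (hQH : Q ≤ H) (hQ : IsPGroup p Q) : T = Q :=
  Subgroup.eq_of_le_of_card_ge hTQ (h.card_le hQH hQ)

theorem IsSylowSub.of_card_le [Finite G] [Fact p.Prime] {T H Q : Subgroup G}
    (h : IsSylowSub p T H) (hQH : Q ≤ H) (hQ : IsPGroup p Q) (hc : Nat.card T ≤ Nat.card Q) :
    IsSylowSub p Q H := by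
  obtain ⟨Q', hQQ', hQ'H, hQ'p, hQ'i⟩ := CfsgLib.Transfer.exists_sylow_of_le hQH hQ
  have : Q = Q' := Subgroup.eq_of_le_of_card_ge hQQ' ((h.card_le hQ'H hQ'p).trans hc)
  exact ⟨hQH, hQ, this ▸ hQ'i⟩

/-- Two Sylow subgroups of `H` are conjugate in `H`. -/
theorem IsSylowSub.exists_conj_eq [Finite G] [Fact p.Prime] {T T' H : Subgroup G}
    (h : IsSylowSub p T H) (h' : IsSylowSub p T' H) :
    ∃ n ∈ H, T'.map (MulAut.conj n).toMonoidHom = T := by
  obtain ⟨n, hn, hle⟩ := h.exists_conj_le h'.1 h'.2.1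
  refine ⟨n, hn, Subgroup.eq_of_le_of_card_ge hle ?_⟩
  rw [card_map_conj]
  exact h'.card_le h.1 h.2.1

theorem exists_isSylowSub [Finite G] [Fact p.Prime] {Q H : Subgroup G} (hQH : Q ≤ H)
    (hQ : IsPGroup p Q) : ∃ T, Q ≤ T ∧ IsSylowSub p T H := by
  obtain ⟨T, h1, h2, h3, h4⟩ := CfsgLib.Transfer.exists_sylow_of_le hQH hQ
  exact ⟨T, h1, h2, h3, h4⟩

/-! ### Fully normalized subgroups -/

/-- `N_S(U)` is a Sylow subgroup of `N_G(U)`. -/
def IsFullyNormalized (p : ℕ) (S U : Subgroup G) : Prop :=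
  ¬ p ∣ (S ⊓ Subgroup.normalizer (U : Set G)).relIndex (Subgroup.normalizer (U : Set G))

theorem IsFullyNormalized.isSylowSub {S U : Subgroup G} (h : IsFullyNormalized p S U)
    (hS : IsPGroup p S) :
    IsSylowSub p (S ⊓ Subgroup.normalizer (U : Set G)) (Subgroup.normalizer (U : Set G)) :=
  ⟨inf_le_right, hS.to_le inf_le_left, h⟩

theorem isFullyNormalized_self [Finite G] [Fact p.Prime] (S : Sylow p G) :
    IsFullyNormalized p (S : Subgroup G) (S : Subgroup G) := by
  unfold IsFullyNormalized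
  rw [inf_eq_left.mpr Subgroup.le_normalizer]
  exact fun hd => S.not_dvd_index (hd.trans (relIndex_dvd_index_of_le le_normalizer))

/-- Every conjugating element onto a fully normalized subgroup can be corrected to carry
`N_S(D)` into `N_S(U)`. -/
theorem IsFullyNormalized.exists_correct [Finite G] [Fact p.Prime] {S U D : Subgroup G}
    (hU : IsFullyNormalized p S U) (hS : IsPGroup p S) {a : G}
    (ha : D.map (MulAut.conj a).toMonoidHom = U) :
    ∃ m ∈ Subgroup.normalizer (U : Set G),
      D.map (MulAut.conj (m * a)).toMonoidHom = U ∧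
      (S ⊓ Subgroup.normalizer (D : Set G)).map (MulAut.conj (m * a)).toMonoidHom ≤
        S ⊓ Subgroup.normalizer (U : Set G) := by
  have hle : (S ⊓ Subgroup.normalizer (D : Set G)).map (MulAut.conj a).toMonoidHom ≤
      Subgroup.normalizer (U : Set G) := by
    rw [← ha, normalizer_map_conj']
    exact Subgroup.map_mono inf_le_right
  obtain ⟨m, hm, hmle⟩ :=
    (hU.isSylowSub hS).exists_conj_le hle (isPGroup_map_conj (hS.to_le inf_le_left) a)
  refine ⟨m, hm, ?_, ?_⟩
  · rw [← map_conj_conj, ha, map_conj_of_mem_normalizer hm]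
  · rw [← map_conj_conj]; exact hmle

/-- Every subgroup of `S` has a fully normalized conjugate. -/
theorem exists_fullyNormalized_conj [Finite G] [Fact p.Prime] (S : Sylow p G) {D : Subgroup G}
    (hD : D ≤ (S : Subgroup G)) :
    ∃ a : G, D.map (MulAut.conj a).toMonoidHom ≤ (S : Subgroup G) ∧
      IsFullyNormalized p (S : Subgroup G) (D.map (MulAut.conj a).toMonoidHom) ∧
      ((S : Subgroup G) ⊓ Subgroup.normalizer (D : Set G)).map (MulAut.conj a).toMonoidHom ≤
        (S : Subgroup G) ⊓
          Subgroup.normalizer ((D.map (MulAut.conj a).toMonoidHom : Subgroup G) : Set G) := by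
  obtain ⟨Q, hQ, hQs⟩ := exists_isSylowSub (p := p)
    (inf_le_right : (S : Subgroup G) ⊓ Subgroup.normalizer (D : Set G) ≤ _) (S.2.to_le inf_le_left)
  obtain ⟨a, ha⟩ := exists_conj_le_sylow S hQs.2.1
  have hsub : ((S : Subgroup G) ⊓ Subgroup.normalizer (D : Set G)).map (MulAut.conj a).toMonoidHom ≤
      (S : Subgroup G) ⊓
        Subgroup.normalizer ((D.map (MulAut.conj a).toMonoidHom : Subgroup G) : Set G) := by
    refine le_inf ((Subgroup.map_mono hQ).trans ha) ?_
    rw [normalizer_map_conj']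
    exact Subgroup.map_mono inf_le_right
  refine ⟨a, ?_, ?_, hsub⟩
  · exact (Subgroup.map_mono ((le_inf hD le_normalizer).trans hQ)).trans ha
  · have h1 := hQs.map_conj a
    rw [← normalizer_map_conj'] at h1
    have h2 := h1.eq_of_le (le_inf ha h1.1) inf_le_right (S.2.to_le inf_le_left)
    unfold IsFullyNormalized
    rw [← h2]
    exact h1.2.2

/-! ### Conjugacy functors -/

variable {W : Subgroup G → Subgroup G}

theorem functor_le (hW : Cfsg.IsConjugacyFunctor p W) {P : Subgroup G} (hP : IsPGroup p P) :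
    W P ≤ P := (hW P hP).1

theorem functor_ne_bot (hW : Cfsg.IsConjugacyFunctor p W) {P : Subgroup G} (hP : IsPGroup p P)
    (hne : P ≠ ⊥) : W P ≠ ⊥ := (hW P hP).2.1 hne

theorem functor_map (hW : Cfsg.IsConjugacyFunctor p W) {P : Subgroup G} (hP : IsPGroup p P)
    (g : G) : W (P.map (MulAut.conj g).toMonoidHom) = (W P).map (MulAut.conj g).toMonoidHom :=
  (hW P hP).2.2 g

theorem normalizer_le_normalizer_functor (hW : Cfsg.IsConjugacyFunctor p W) {P : Subgroup G}
    (hP : IsPGroup p P) :
    Subgroup.normalizer (P : Set G) ≤ Subgroup.normalizer (W P : Set G) := fun g hg =>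
  mem_normalizer_of_map_conj_eq (by rw [← functor_map hW hP, map_conj_of_mem_normalizer hg])

theorem le_normalizer_functor (hW : Cfsg.IsConjugacyFunctor p W) {P : Subgroup G}
    (hP : IsPGroup p P) : P ≤ Subgroup.normalizer (W P : Set G) :=
  Subgroup.le_normalizer.trans (normalizer_le_normalizer_functor hW hP)

/-- `N_S(W P)` is strictly larger than a proper subgroup `P` of `S`. -/
theorem lt_inf_normalizer_functor [Finite G] [Fact p.Prime] (hW : Cfsg.IsConjugacyFunctor p W)
    {S P : Subgroup G} (hS : IsPGroup p S) (hPS : P < S) :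
    P < S ⊓ Subgroup.normalizer (W P : Set G) :=
  lt_of_lt_of_le (CfsgLib.Transfer.lt_inf_normalizer hS hPS)
    (inf_le_inf_left _ (normalizer_le_normalizer_functor hW (hS.to_le hPS.le)))

/-! ### Towers -/

theorem tower_zero (W : Subgroup G → Subgroup G) (S T : Subgroup G) :
    Cfsg.functorTower W S T 0 = T := rfl

theorem tower_succ (W : Subgroup G → Subgroup G) (S T : Subgroup G) (i : ℕ) :
    Cfsg.functorTower W S T (i + 1) =
      W (S ⊓ Subgroup.normalizer (Cfsg.functorTower W S T i : Set G)) := rfl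

theorem tower_tail (W : Subgroup G → Subgroup G) (S T : Subgroup G) (k i : ℕ) :
    Cfsg.functorTower W S (Cfsg.functorTower W S T k) i = Cfsg.functorTower W S T (k + i) := by
  induction i with
  | zero => rfl
  | succ i ih => rw [tower_succ, ih]; rfl

theorem tower_le (hW : Cfsg.IsConjugacyFunctor p W) {S T : Subgroup G} (hS : IsPGroup p S)
    (hT : T ≤ S) : ∀ i, Cfsg.functorTower W S T i ≤ S
  | 0 => hT
  | i + 1 => (functor_le hW (hS.to_le inf_le_left)).trans inf_le_left

theorem tower_le_inf (hW : Cfsg.IsConjugacyFunctor p W) {S T : Subgroup G} (hS : IsPGroup p S)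
    (hT : T ≤ S) (i : ℕ) :
    Cfsg.functorTower W S T i ≤ S ⊓ Subgroup.normalizer (Cfsg.functorTower W S T i : Set G) :=
  le_inf (tower_le hW hS hT i) Subgroup.le_normalizer

theorem tower_ne_bot (hW : Cfsg.IsConjugacyFunctor p W) {S T : Subgroup G} (hS : IsPGroup p S)
    (hT : T ≤ S) (hne : T ≠ ⊥) : ∀ i, Cfsg.functorTower W S T i ≠ ⊥
  | 0 => hne
  | i + 1 => functor_ne_bot hW (hS.to_le inf_le_left) fun h =>
      tower_ne_bot hW hS hT hne i (le_bot_iff.mp (h ▸ tower_le_inf hW hS hT i))

theorem tower_normalizer_mono (hW : Cfsg.IsConjugacyFunctor p W) {S T : Subgroup G}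
    (hS : IsPGroup p S) :
    Monotone fun i => S ⊓ Subgroup.normalizer (Cfsg.functorTower W S T i : Set G) :=
  monotone_nat_of_le_succ fun _ =>
    le_inf inf_le_left (le_normalizer_functor hW (hS.to_le inf_le_left))

theorem wellPlaced_tail (hW : Cfsg.IsConjugacyFunctor p W) {S T : Subgroup G} (hS : IsPGroup p S)
    (h : Cfsg.IsWellPlaced p W S T) (k : ℕ) :
    Cfsg.IsWellPlaced p W S (Cfsg.functorTower W S T k) := by
  refine ⟨tower_le hW hS h.1 k, fun i => ?_⟩
  rw [tower_tail]
  exact h.2 (k + i)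

theorem wellPlaced_succ (hW : Cfsg.IsConjugacyFunctor p W) {S T : Subgroup G} (hS : IsPGroup p S)
    (h : Cfsg.IsWellPlaced p W S T) :
    Cfsg.IsWellPlaced p W S (W (S ⊓ Subgroup.normalizer (T : Set G))) :=
  wellPlaced_tail hW hS h 1

theorem tower_stable (hW : Cfsg.IsConjugacyFunctor p W) [Finite G] {S T : Subgroup G}
    (hS : IsPGroup p S) :
    ∃ i ≤ Nat.card G, ∀ j, i < j →
      Cfsg.functorTower W S T j = Cfsg.functorTower W S T (i + 1) := by
  set P := fun i => S ⊓ Subgroup.normalizer (Cfsg.functorTower W S T i : Set G) with hP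
  have key : ∃ i ≤ Nat.card G, P (i + 1) = P i := by
    by_contra hcon
    push Not at hcon
    have hgrow : ∀ i ≤ Nat.card G + 1, i < Nat.card (P i) := by
      intro i hi
      induction i with
      | zero => exact Nat.card_pos
      | succ i ih =>
        have hlt : P i < P (i + 1) := lt_of_le_of_ne
          (tower_normalizer_mono hW hS (Nat.le_succ i)) (Ne.symm (hcon i (by omega)))
        have := CfsgLib.Transfer.card_lt_of_lt hlt
        have := ih (by omega)
        omega
    have h1 := hgrow (Nat.card G) (by omega)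
    have h2 := Subgroup.card_le_card_group (P (Nat.card G))
    omega
  obtain ⟨i, hi, he⟩ := key
  refine ⟨i, hi, fun j hj => ?_⟩
  induction j with
  | zero => omega
  | succ j ih =>
    rcases eq_or_lt_of_le (Nat.lt_succ_iff.mp hj) with rfl | hlt
    · rfl
    · rw [tower_succ, ih hlt]
      exact congrArg W he

/-- Some conjugate of a subgroup of `S` is well placed. -/
theorem exists_wellPlaced [Finite G] [Fact p.Prime] (S : Sylow p G)
    (hW : Cfsg.IsConjugacyFunctor p W) {T : Subgroup G} (hT : T ≤ (S : Subgroup G)) :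
    ∃ g : G, Cfsg.IsWellPlaced p W (S : Subgroup G) (T.map (MulAut.conj g).toMonoidHom) := by
  suffices H : ∀ k, ∃ g : G, T.map (MulAut.conj g).toMonoidHom ≤ (S : Subgroup G) ∧ ∀ i < k,
      IsFullyNormalized p (S : Subgroup G)
        (Cfsg.functorTower W S (T.map (MulAut.conj g).toMonoidHom) i) by
    obtain ⟨g, hg, hfull⟩ := H (Nat.card G + 2)
    refine ⟨g, hg, fun j => ?_⟩
    obtain ⟨i, hi, hst⟩ :=
      tower_stable hW (T := T.map (MulAut.conj g).toMonoidHom) S.2 (S := (S : Subgroup G))
    rcases Nat.lt_or_ge i j with hlt | hge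
    · rw [hst j hlt]; exact hfull (i + 1) (by omega)
    · exact hfull j (by omega)
  intro k
  induction k with
  | zero => exact ⟨1, by rwa [map_conj_one], fun i hi => absurd hi (Nat.not_lt_zero i)⟩
  | succ k ih =>
    obtain ⟨g, hg, hfull⟩ := ih
    set T' := T.map (MulAut.conj g).toMonoidHom with hT'
    set P := fun i => (S : Subgroup G) ⊓ Subgroup.normalizer (Cfsg.functorTower W S T' i : Set G)
    have hPp : ∀ i, IsPGroup p (P i) := fun i => S.2.to_le inf_le_left
    obtain ⟨Q, hPQ, hQ⟩ := exists_isSylowSub (p := p)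
      (inf_le_right : P k ≤ Subgroup.normalizer (Cfsg.functorTower W S T' k : Set G)) (hPp k)
    obtain ⟨x, hx⟩ := exists_conj_le_sylow S hQ.2.1
    have hle : ∀ i ≤ k, (P i).map (MulAut.conj x).toMonoidHom ≤ (S : Subgroup G) := fun i hi =>
      (Subgroup.map_mono ((tower_normalizer_mono hW S.2 hi).trans hPQ)).trans hx
    have hT'' : T'.map (MulAut.conj x).toMonoidHom = T.map (MulAut.conj (x * g)).toMonoidHom := by
      rw [hT', map_conj_conj]
    have hT''S : T'.map (MulAut.conj x).toMonoidHom ≤ (S : Subgroup G) :=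
      (Subgroup.map_mono (tower_le_inf hW S.2 hg 0)).trans (hle 0 (Nat.zero_le _))
    set T'' := T'.map (MulAut.conj x).toMonoidHom
    have hsame : ∀ i < k, Cfsg.functorTower W S T'' i =
          (Cfsg.functorTower W S T' i).map (MulAut.conj x).toMonoidHom →
        (S : Subgroup G) ⊓ Subgroup.normalizer (Cfsg.functorTower W S T'' i : Set G) =
          (P i).map (MulAut.conj x).toMonoidHom := by
      intro i hi he
      have h1 := (IsFullyNormalized.isSylowSub (hfull i hi) S.2).map_conj x
      rw [← normalizer_map_conj', ← he] at h1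
      exact (h1.eq_of_le (le_inf (hle i hi.le) h1.1) inf_le_right (S.2.to_le inf_le_left)).symm
    have htow : ∀ i ≤ k, Cfsg.functorTower W S T'' i =
        (Cfsg.functorTower W S T' i).map (MulAut.conj x).toMonoidHom := by
      intro i hi
      induction i with
      | zero => rfl
      | succ i ih =>
        rw [tower_succ, hsame i hi (ih (by omega)), functor_map hW (hPp i)]
        rfl
    refine ⟨x * g, hT'' ▸ hT''S, fun i hi => ?_⟩
    rw [← hT'']
    rcases eq_or_lt_of_le (Nat.lt_succ_iff.mp hi) with rfl | hlt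
    · have h1 := hQ.map_conj x
      rw [← normalizer_map_conj', ← htow i le_rfl] at h1
      have h2 := h1.eq_of_le (le_inf hx h1.1) inf_le_right (S.2.to_le inf_le_left)
      unfold IsFullyNormalized
      rw [← h2]
      exact h1.2.2
    · have h1 := (IsFullyNormalized.isSylowSub (hfull i hlt) S.2).map_conj x
      rw [← normalizer_map_conj', ← htow i hlt.le] at h1
      have h2 := hsame i hlt (htow i hlt.le)
      unfold IsFullyNormalized
      rw [h2]
      exact h1.2.2

theorem wellPlaced_fullyNormalized {S T : Subgroup G} (h : Cfsg.IsWellPlaced p W S T) :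
    IsFullyNormalized p S T := h.2 0

end CfsgLib.Techniques
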