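import Cfsg.Prelude.Def_TwoFusion
import Cfsg.Agent.Lib.Techniques.Functor
import Cfsg.Agent.Lib.Core.Cores
import Cfsg.Agent.Lib.OddLocal.Basic
import Cfsg.Agent.Lib.Transfer.PResidual
import Mathlib.GroupTheory.Transfer

/-!
Centralizers whose Sylow subgroup is central.
-/

namespace CfsgLib.Techniques

open Subgroup

variable {G : Type*} [Group G] [Finite G] {p : ℕ} [Fact p.Prime]

/-- If a Sylow subgroup of `C_G(Q)` lies in `Q`, then `C_G(Q) = Z(Q) × O_{p'}(C_G(Q))`. -/
theorem centralizer_eq_of_sylow_le {Q T : Subgroup G} (hQp : IsPGroup p Q)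
    (hT : IsSylowSub p T (Subgroup.centralizer (Q : Set G))) (hTQ : T ≤ Q) :
    Cfsg.IsInternalDirectProduct (Q ⊓ Subgroup.centralizer (Q : Set G))
      ((Cfsg.pPrimeCore p ↥(Subgroup.centralizer (Q : Set G))).map
        (Subgroup.centralizer (Q : Set G)).subtype) (Subgroup.centralizer (Q : Set G)) ∧
      T = Q ⊓ Subgroup.centralizer (Q : Set G) := by
  set C := Subgroup.centralizer (Q : Set G) with hC
  have hTZ : T = Q ⊓ C := hT.eq_of_le (le_inf hTQ hT.1) inf_le_right (hQp.to_le inf_le_left)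
  refine ⟨⟨inf_le_right, Subgroup.map_subtype_le _, fun a ha b hb => ?_, ?_, ?_⟩, hTZ⟩
  · exact mem_centralizer_iff.mp (Subgroup.map_subtype_le _ hb) a ha.1
  · obtain ⟨k, hk⟩ := IsPGroup.iff_card.mp (hQp.to_le (inf_le_left : Q ⊓ C ≤ Q))
    refine (disjoint_of_coprime_natCard ?_).eq_bot
    rw [hk, Subgroup.card_map_of_injective C.subtype_injective]
    exact (CfsgLib.Core.coprime_card_pPrimeCore (p := p) (G := C)).symm.pow_left k
  · refine le_antisymm (sup_le inf_le_right (Subgroup.map_subtype_le _)) fun c hc => ?_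
    obtain ⟨R, hR⟩ : ∃ R : Sylow p C, (R : Subgroup C) = T.subgroupOf C :=
      ⟨IsPGroup.toSylow (hT.2.1.comap_subtype (K := C)) hT.2.2, rfl⟩
    have hcen : Subgroup.normalizer ((R : Subgroup C) : Set C) ≤
        Subgroup.centralizer ((R : Subgroup C) : Set C) := by
      intro g _
      rw [mem_centralizer_iff]
      intro q hq
      rw [SetLike.mem_coe, hR, mem_subgroupOf] at hq
      exact Subtype.ext (mem_centralizer_iff.mp g.2 (q : G) (hTQ hq))
    have hcop := CfsgLib.Transfer.hasNormalPComplement_iff_coprime.mp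
      ⟨R, _, inferInstance, MonoidHom.ker_transferSylow_isComplement' R hcen⟩
    obtain ⟨q, hq, k, hk, he⟩ := CfsgLib.Transfer.exists_mul_mem_pResidual R ⟨c, hc⟩
    rw [hR, mem_subgroupOf] at hq
    have e : c = (q : G) * (k : G) := congrArg Subtype.val he
    rw [e]
    refine mul_mem (mem_sup_left ⟨hTQ hq, q.2⟩) (mem_sup_right ⟨k, ?_, rfl⟩)
    exact CfsgLib.Core.le_pPrimeCore hcop hk

end CfsgLib.Techniques
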