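import Cfsg.Agent.Lib.Core.Cores
import Cfsg.Prelude.Def_LocalEven
import Mathlib.GroupTheory.IsSubnormal

/-!
Actions on chief factors: complements for subnormal subgroups, stabilisers of series.
-/

set_option autoImplicit false
set_option linter.all false

namespace CfsgLib.Techniques

open Subgroup Cfsg
open scoped commutatorElement

universe u

variable {G : Type u} [Group G] [Finite G]

/-- Subgroups between `V` and `U` invariant under `H`. -/
def InvBetween (H U V M : Subgroup G) : Prop :=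
  V ≤ M ∧ M ≤ U ∧ H ≤ Subgroup.normalizer (M : Set G)

theorem invBetween_sup {H U V M L : Subgroup G} (hM : InvBetween H U V M)
    (hL : InvBetween H U V L) : InvBetween H U V (M ⊔ L) :=
  ⟨hM.1.trans le_sup_left, sup_le hM.2.1 hL.2.1,
    (le_inf hM.2.2 hL.2.2).trans (normalizer_inf_normalizer_le_normalizer_sup _ _)⟩

theorem invBetween_inf {H U V M L : Subgroup G} (hM : InvBetween H U V M)
    (hL : InvBetween H U V L) : InvBetween H U V (M ⊓ L) :=
  ⟨le_inf hM.1 hL.1, inf_le_left.trans hM.2.1,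
    (le_inf hM.2.2 hL.2.2).trans inf_normalizer_le_normalizer_inf⟩

/-- The factor `U / V` is semisimple for `H`. -/
def IsSemisimpleFor (H U V : Subgroup G) : Prop :=
  ∀ M, InvBetween H U V M → ∃ L, InvBetween H U V L ∧ M ⊔ L = U ∧ M ⊓ L = V

theorem le_normalizer_between {U V M : Subgroup G} (hUU : ⁅U, U⁆ ≤ V) (hVM : V ≤ M) (hMU : M ≤ U) :
    U ≤ Subgroup.normalizer (M : Set G) :=
  le_normalizer_iff_commutator_le_left.mpr
    (((commutator_mono hMU le_rfl).trans hUU).trans hVM)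

theorem semisimple_top {U V : Subgroup G} (hUV : IsChiefFactor U V) :
    IsSemisimpleFor (⊤ : Subgroup G) U V := by
  intro M hM
  haveI : M.Normal := normalizer_eq_top_iff.mp (top_le_iff.mp hM.2.2)
  have hnU : (⊤ : Subgroup G) ≤ Subgroup.normalizer (U : Set G) :=
    haveI := hUV.2.1; (normalizer_eq_top (H := U)).ge
  have hnV : (⊤ : Subgroup G) ≤ Subgroup.normalizer (V : Set G) :=
    haveI := hUV.2.2.1; (normalizer_eq_top (H := V)).ge
  rcases hUV.2.2.2 M inferInstance hM.1 hM.2.1 with h | h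
  · exact ⟨U, ⟨hUV.1.le, le_rfl, hnU⟩, by rw [h, sup_eq_right.mpr hUV.1.le],
      by rw [h, inf_eq_left.mpr hUV.1.le]⟩
  · exact ⟨V, ⟨le_rfl, hUV.1.le, hnV⟩, by rw [h, sup_eq_left.mpr hUV.1.le],
      by rw [h, inf_eq_right.mpr hUV.1.le]⟩

/-- Clifford: semisimplicity passes to normal subgroups. -/
theorem semisimple_of_normal {U V H K : Subgroup G} [U.Normal] [V.Normal] (hUU : ⁅U, U⁆ ≤ V)
    (hVU : V ≤ U) (hHK : H ≤ K) (hn : (H.subgroupOf K).Normal) (hK : IsSemisimpleFor K U V) :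
    IsSemisimpleFor H U V := by
  have hnorm : ∀ k ∈ K, ∀ h ∈ H, k * h * k⁻¹ ∈ H := fun k hk h hh => by
    simpa using mem_subgroupOf.mp
      (hn.conj_mem ⟨h, hHK hh⟩ (mem_subgroupOf.mpr hh) ⟨k, hk⟩)
  have hVtriv : InvBetween H U V V := ⟨le_rfl, hVU, by rw [normalizer_eq_top]; exact le_top⟩
  set 𝓢 := {X : Subgroup G | InvBetween H U V X ∧ X ≠ V ∧
    ∀ Y, InvBetween H U V Y → Y ≤ X → Y = V ∨ Y = X} with h𝓢
  have hatom : ∀ X, InvBetween H U V X → X ≠ V → ∃ Y ∈ 𝓢, Y ≤ X := by
    intro X hX hne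
    obtain ⟨Y, hY, hmin⟩ := Set.Finite.exists_minimal
      (s := {Y : Subgroup G | InvBetween H U V Y ∧ Y ≠ V ∧ Y ≤ X}) (Set.toFinite _)
      ⟨X, hX, hne, le_rfl⟩
    refine ⟨Y, ⟨hY.1, hY.2.1, fun Z hZ hZY => or_iff_not_imp_left.mpr fun hZne => ?_⟩, hY.2.2⟩
    exact le_antisymm hZY (hmin ⟨hZ, hZne, hZY.trans hY.2.2⟩ hZY)
  set S := V ⊔ sSup 𝓢 with hS
  have hSU : S ≤ U := sup_le hVU (sSup_le fun X hX => hX.1.2.1)
  have hKS : K ≤ Subgroup.normalizer (S : Set G) := by
    refine le_normalizer_iff.mpr fun k hk s hs => ?_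
    have : S.map (MulAut.conj k).toMonoidHom ≤ S := by
      rw [hS, Subgroup.map_sup]
      refine sup_le ?_ ?_
      · rintro _ ⟨v, hv, rfl⟩
        exact mem_sup_left ((inferInstance : V.Normal).conj_mem v hv k)
      · rw [map_le_iff_le_comap]
        refine sSup_le fun X hX => ?_
        rw [← map_le_iff_le_comap]
        have key : ∀ k ∈ K, ∀ X, InvBetween H U V X →
            InvBetween H U V (X.map (MulAut.conj k).toMonoidHom) := by
          intro k hk X hX
          refine ⟨fun v hv => mem_map.mpr ⟨k⁻¹ * v * k, hX.1 (by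
            simpa using (inferInstance : V.Normal).conj_mem v hv k⁻¹), by simp [mul_assoc]⟩, ?_, ?_⟩
          · rintro _ ⟨x, hx, rfl⟩
            exact (inferInstance : U.Normal).conj_mem x (hX.2.1 hx) k
          · refine le_normalizer_iff.mpr fun h hh y hy => ?_
            obtain ⟨x, hx, rfl⟩ := hy
            have h' := hnorm k⁻¹ (inv_mem hk) h hh
            exact ⟨_, le_normalizer_iff.mp hX.2.2 _ h' x hx, by simp [mul_assoc]⟩
        refine le_trans (le_sSup (show X.map (MulAut.conj k).toMonoidHom ∈ 𝓢 from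
          ⟨key k hk X hX.1, fun e => hX.2.1 ?_, fun Y hY hYX => ?_⟩)) le_sup_right
        · refine le_antisymm (fun x hx => ?_) hX.1.1
          have : k * x * k⁻¹ ∈ V := e.le ⟨x, hx, rfl⟩
          simpa [mul_assoc] using (inferInstance : V.Normal).conj_mem _ this k⁻¹
        · have hY' := key k⁻¹ (inv_mem hk) Y hY
          have hle : Y.map (MulAut.conj k⁻¹).toMonoidHom ≤ X := by
            rintro _ ⟨y, hy, rfl⟩
            obtain ⟨x, hx, rfl⟩ := hYX hy
            simpa [mul_assoc] using hx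
          rcases hX.2.2 _ hY' hle with h | h
          · refine Or.inl (le_antisymm (fun y hy => ?_) hY.1)
            have : k⁻¹ * y * k ∈ V := h.le ⟨y, hy, by simp⟩
            simpa [mul_assoc] using (inferInstance : V.Normal).conj_mem _ this k
          · refine Or.inr (le_antisymm hYX ?_)
            rintro _ ⟨x, hx, rfl⟩
            obtain ⟨y, hy, hyx⟩ := h.ge hx
            rw [← hyx]
            simpa [mul_assoc] using hy
    exact this ⟨s, hs, rfl⟩
  have hStop : S = U := by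
    obtain ⟨L, hL, hsup, hinf⟩ := hK S ⟨le_sup_left, hSU, hKS⟩
    by_contra hne
    have hLne : L ≠ V := by
      rintro rfl
      exact hne (by rw [← hsup, sup_eq_left.mpr le_sup_left])
    obtain ⟨Y, hY, hYL⟩ := hatom L ⟨hL.1, hL.2.1, hHK.trans hL.2.2⟩ hLne
    exact hY.2.1 (le_antisymm (hinf ▸ le_inf ((le_sSup hY).trans le_sup_right) hYL) hY.1.1)
  intro M hM
  obtain ⟨L, hL, hmax⟩ := Set.Finite.exists_maximal
    (s := {L : Subgroup G | InvBetween H U V L ∧ M ⊓ L = V}) (Set.toFinite _)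
    ⟨V, hVtriv, inf_eq_right.mpr hM.1⟩
  refine ⟨L, hL.1, ?_, hL.2⟩
  refine le_antisymm (sup_le hM.2.1 hL.1.2.1) (hStop.ge.trans (sup_le (hM.1.trans le_sup_left)
    (sSup_le fun X hX => ?_)))
  rcases hX.2.2 _ (invBetween_inf hX.1 (invBetween_sup hM hL.1)) inf_le_left with h | h
  · exfalso
    have hmem : M ⊓ (L ⊔ X) = V := by
      refine le_antisymm (fun m hm => ?_) (le_inf hM.1 (hL.1.1.trans le_sup_left))
      obtain ⟨hmM, hmLX⟩ := mem_inf.mp hm
      have hXL : X ≤ Subgroup.normalizer (L : Set G) :=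
        hX.1.2.1.trans (le_normalizer_between hUU hL.1.1 hL.1.2.1)
      obtain ⟨l, hl, x, hx, rfl⟩ : ∃ l ∈ L, ∃ x ∈ X, m = l * x := by
        rw [← SetLike.mem_coe, coe_mul_of_right_le_normalizer_left L X hXL] at hmLX
        obtain ⟨l, hl, x, hx, e⟩ := Set.mem_mul.mp hmLX
        exact ⟨l, hl, x, hx, e.symm⟩
      have hxML : x ∈ M ⊔ L := by
        simpa using mul_mem (mem_sup_right (inv_mem hl) : l⁻¹ ∈ M ⊔ L) (mem_sup_left hmM)
      have hxV : x ∈ V := h.le (mem_inf.mpr ⟨hx, hxML⟩)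
      exact hL.2.le (mem_inf.mpr ⟨hmM, mul_mem hl (hL.1.1 hxV)⟩)
    have := hmax ⟨invBetween_sup hL.1 hX.1, hmem⟩ le_sup_left
    exact hX.2.1 (le_antisymm (h ▸ le_inf le_rfl ((le_sup_right.trans this).trans le_sup_right))
      hX.1.1)
  · exact inf_eq_left.mp h

/-- A chief factor is semisimple for every subnormal subgroup. -/
theorem semisimple_of_subnormal {U V H : Subgroup G} (hUV : IsChiefFactor U V) (hUU : ⁅U, U⁆ ≤ V)
    (hH : H.IsSubnormal) : IsSemisimpleFor H U V := by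
  haveI := hUV.2.1
  haveI := hUV.2.2.1
  induction hH with
  | top => exact semisimple_top hUV
  | step H K hle _ hn ih => exact semisimple_of_normal hUU hUV.1.le hle hn ih

/-! ### The stabiliser of a factor -/

/-- Elements acting trivially on `U / V`. -/
def factorStab (U V : Subgroup G) [V.Normal] : Subgroup G :=
  (Subgroup.centralizer ((U.map (QuotientGroup.mk' V) : Subgroup (G ⧸ V)) : Set (G ⧸ V))).comap
    (QuotientGroup.mk' V)

theorem mem_factorStab {U V : Subgroup G} [U.Normal] [V.Normal] {x : G} :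
    x ∈ factorStab U V ↔ ⁅U, Subgroup.zpowers x⁆ ≤ V := by
  rw [factorStab, mem_comap, ← zpowers_le, ← MonoidHom.map_zpowers,
    ← commutator_eq_bot_iff_le_centralizer, ← map_commutator, Subgroup.map_eq_bot_iff,
    QuotientGroup.ker_mk', commutator_comm]

instance factorStab_normal {U V : Subgroup G} [U.Normal] [V.Normal] : (factorStab U V).Normal := by
  haveI : (U.map (QuotientGroup.mk' V)).Normal :=
    ‹U.Normal›.map _ (QuotientGroup.mk'_surjective V)
  unfold factorStab
  infer_instance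

theorem commutes_of_factor {p : ℕ} {U V : Subgroup G} [U.Normal] [V.Normal] (hV : IsPGroup p V)
    {x : G} (hx : (orderOf x).Coprime p) (hfix : ∀ v ∈ V, x * v = v * x)
    (hst : x ∈ factorStab U V) {u : G} (hu : u ∈ U) : x * u = u * x := by
  have hc := mem_factorStab.mp hst (commutator_mem_commutator hu (mem_zpowers x))
  set v := ⁅u, x⁆ with hv
  have e : x * u * x⁻¹ = v⁻¹ * u := by rw [hv, commutatorElement_def]; group
  have hcv : Commute x v⁻¹ := (show Commute x v from hfix v hc).inv_right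
  have hn : ∀ n : ℕ, x ^ n * u * (x ^ n)⁻¹ = v⁻¹ ^ n * u := by
    intro n
    induction n with
    | zero => simp
    | succ n ih =>
      have hcm : x ^ n * v⁻¹ * (x ^ n)⁻¹ = v⁻¹ := by rw [(hcv.pow_left n).eq, mul_inv_cancel_right]
      calc x ^ (n + 1) * u * (x ^ (n + 1))⁻¹ = x ^ n * (x * u * x⁻¹) * (x ^ n)⁻¹ := by
            rw [pow_succ]; group
        _ = (x ^ n * v⁻¹ * (x ^ n)⁻¹) * (x ^ n * u * (x ^ n)⁻¹) := by rw [e]; group
        _ = v⁻¹ ^ (n + 1) * u := by rw [hcm, ih, pow_succ', mul_assoc]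
  have h1 := hn (orderOf x)
  rw [pow_orderOf_eq_one, one_mul, inv_one, mul_one, right_eq_mul, inv_pow, inv_eq_one] at h1
  obtain ⟨k, hk⟩ := hV ⟨v, hc⟩
  have hk' : v ^ p ^ k = 1 := congrArg Subtype.val hk
  have hv1 : v = 1 := by
    have := pow_gcd_eq_one.mpr ⟨h1, hk'⟩
    rwa [Nat.Coprime.gcd_eq_one (hx.pow_right k), pow_one] at this
  rw [hv, commutatorElement_eq_one_iff_mul_comm] at hv1
  exact hv1.symm

/-- An element of order prime to `p` acting trivially on the chief factors of a series through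
`Z` centralizes a normal `p`-subgroup. -/
theorem coprime_centralizes {p : ℕ} {A Z : Subgroup G} [A.Normal] [Z.Normal] (hA : IsPGroup p A)
    (hZA : Z ≤ A) {x : G} (hx : (orderOf x).Coprime p)
    (hst : ∀ U V : Subgroup G, IsChiefFactor U V → U ≤ A → U ≤ Z ∨ Z ≤ V →
      ⁅U, Subgroup.zpowers x⁆ ≤ V) :
    ∀ a ∈ A, x * a = a * x := by
  suffices ∀ M : Subgroup G, M.Normal → M ≤ A → M ≤ Z ∨ Z ≤ M → ∀ m ∈ M, x * m = m * x from
    this A inferInstance le_rfl (Or.inr hZA)
  intro M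
  induction hn : Nat.card M using Nat.strong_induction_on generalizing M with
  | _ n ih =>
    intro hMn hMA hZM m hm
    by_cases hbot : M = ⊥
    · rw [hbot, mem_bot] at hm; simp [hm]
    have hex : ∃ V : Subgroup G, IsChiefFactor M V ∧ (M ≤ Z ∨ Z ≤ V) := by
      by_cases hZlt : M ≤ Z
      · obtain ⟨V, hV, hmax⟩ := Set.Finite.exists_maximal
          (s := {V : Subgroup G | V.Normal ∧ V < M}) (Set.toFinite _)
          ⟨⊥, inferInstance, bot_lt_iff_ne_bot.mpr hbot⟩
        exact ⟨V, ⟨hV.2, hMn, hV.1, fun N hN hVN hNM => (eq_or_lt_of_le hNM).elim Or.inr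
          fun hlt => Or.inl (le_antisymm (hmax ⟨hN, hlt⟩ hVN) hVN)⟩, Or.inl hZlt⟩
      · have hZM' := hZM.resolve_left hZlt
        obtain ⟨V, hV, hmax⟩ := Set.Finite.exists_maximal
          (s := {V : Subgroup G | V.Normal ∧ Z ≤ V ∧ V < M}) (Set.toFinite _)
          ⟨Z, inferInstance, le_rfl, lt_of_le_of_ne hZM' fun e => hZlt e.ge⟩
        exact ⟨V, ⟨hV.2.2, hMn, hV.1, fun N hN hVN hNM => (eq_or_lt_of_le hNM).elim Or.inr
          fun hlt => Or.inl (le_antisymm (hmax ⟨hN, hV.2.1.trans hVN, hlt⟩ hVN) hVN)⟩, Or.inr hV.2.1⟩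
    obtain ⟨V, hV, hside⟩ := hex
    haveI := hV.2.2.1
    haveI := hV.2.1
    have hlt : Nat.card V < n := hn ▸ (Set.ncard_lt_ncard (SetLike.coe_ssubset_coe.mpr hV.1))
    exact commutes_of_factor (hA.to_le (hV.1.le.trans hMA)) hx
      (ih _ hlt V rfl inferInstance (hV.1.le.trans hMA)
        (hside.imp (fun h => hV.1.le.trans h) id))
      (mem_factorStab.mpr (hst M V hV hMA hside)) hm

omit [Finite G] in
/-- A section above or below `Z`. -/
theorem chief_inter {U V Z : Subgroup G} [Z.Normal] (hUV : IsChiefFactor U V) :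
    U ≤ V ⊔ Z ∨ U ⊓ Z ≤ V := by
  haveI := hUV.2.1
  haveI := hUV.2.2.1
  rcases hUV.2.2.2 ((U ⊓ Z) ⊔ V) inferInstance le_sup_right (sup_le inf_le_left hUV.1.le) with h | h
  · exact Or.inr (h ▸ le_sup_left)
  · exact Or.inl (h ▸ sup_le (inf_le_right.trans le_sup_right) le_sup_left)

end CfsgLib.Techniques
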