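import Cfsg.Agent.Lib.Techniques.Functor
import Cfsg.Agent.Lib.PLocal.PSolvable
import Cfsg.Agent.Lib.OddLocal.Coprime
import Cfsg.Agent.Lib.Core.Cores

/-!
In a `p`-solvable group a `p'`-subgroup normalizing a Sylow `p`-subgroup is centralized by the
`p`-elements normalizing it.
-/

namespace CfsgLib.Techniques

open Subgroup

universe u

theorem centralizes_of_normalizes_sylow {p : ℕ} [hp : Fact p.Prime] (n : ℕ) :
    ∀ (G : Type u) [Group G] [Finite G], Nat.card G = n → Cfsg.IsPSolvable p G →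
      ∀ (Q : Subgroup G), ¬ p ∣ Nat.card Q → ∀ P : Sylow p G,
        Q ≤ Subgroup.normalizer ((P : Subgroup G) : Set G) →
        ∀ x ∈ Subgroup.normalizer (Q : Set G), (∃ k, orderOf x = p ^ k) →
          x ∈ Subgroup.centralizer (Q : Set G) := by
  induction n using Nat.strong_induction_on with
  | _ n ih => ?_
  intro G _ _ hn hsol Q hQ P hQP x hx hxp
  subst hn
  obtain ⟨k, hk⟩ := hxp
  have hQc : (Nat.card Q).Coprime p := (hp.out.coprime_iff_not_dvd.mpr hQ).symm
  by_cases htriv : Subsingleton G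
  · rw [mem_centralizer_iff]
    intro q _
    exact Subsingleton.elim _ _
  rw [not_subsingleton_iff_nontrivial] at htriv
  -- a nontrivial normal `p`- or `p'`-subgroup
  obtain ⟨N, hNn, hNne, hNtype⟩ : ∃ N : Subgroup G, N.Normal ∧ N ≠ ⊥ ∧
      (IsPGroup p N ∨ (Nat.card N).Coprime p) := by
    by_cases h : Cfsg.pPrimeCore p G = ⊥
    · refine ⟨Cfsg.pCore p G, inferInstance, fun h0 => ?_,
        Or.inl (CfsgLib.Core.isPGroup_pCore p G)⟩
      have := CfsgLib.PLocal.centralizer_pCore_le hsol h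
      rw [h0] at this
      obtain ⟨y, hy⟩ := exists_ne (1 : G)
      refine hy (mem_bot.mp (this (mem_centralizer_iff.mpr fun z hz => ?_)))
      rw [coe_bot, Set.mem_singleton_iff] at hz
      simp [hz]
    · exact ⟨_, inferInstance, h, Or.inr (CfsgLib.Core.coprime_card_pPrimeCore p G)⟩
  haveI := hNn
  set π := QuotientGroup.mk' N
  have hcard : Nat.card (G ⧸ N) < Nat.card G := CfsgLib.Core.card_quotient_lt N hNne
  have hsub : ∀ q ∈ Q, x * q * x⁻¹ * q⁻¹ ∈ Q ⊓ N := by
    intro q hq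
    refine mem_inf.mpr ⟨mul_mem ((mem_normalizer_iff.mp hx q).mp hq) (inv_mem hq), ?_⟩
    have h1 := ih _ hcard (G ⧸ N) rfl (CfsgLib.PLocal.isPSolvable_quotient hsol N) (Q.map π)
      (fun hd => hQ (hd.trans (Subgroup.card_map_dvd _ _)))
      (P.mapSurjective (QuotientGroup.mk'_surjective N))
      (by
        rw [Sylow.coe_mapSurjective]
        exact (map_mono hQP).trans (le_normalizer_map π))
      (π x) (le_normalizer_map π ⟨x, hx, rfl⟩)
      (by
        obtain ⟨j, -, hj⟩ := (Nat.dvd_prime_pow hp.out).mp (hk ▸ orderOf_map_dvd π x)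
        exact ⟨j, hj⟩)
    rw [← QuotientGroup.eq_one_iff]
    have h2 := mem_centralizer_iff.mp h1 (π q) ⟨q, hq, rfl⟩
    show π (x * q * x⁻¹ * q⁻¹) = 1
    rw [map_mul, map_mul, map_mul, map_inv, map_inv, ← h2]
    group
  set Q₀ := Q ⊓ N with hQ₀
  have hfix : ∀ q ∈ Q₀, x * q * x⁻¹ = q := by
    rcases hNtype with hNp | hNp
    · intro q hq
      have : Q₀ = ⊥ := by
        obtain ⟨j, hj⟩ := IsPGroup.iff_card.mp hNp
        refine (disjoint_of_coprime_natCard ?_).eq_bot
        rw [hj]; exact hQc.pow_right j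
      rw [this, mem_bot] at hq
      simp [hq]
    · -- `P` centralizes `Q₀`
      have hPC : (P : Subgroup G) ≤ Subgroup.centralizer (Q₀ : Set G) := by
        intro y hy
        rw [mem_centralizer_iff]
        intro q hq
        obtain ⟨hqQ, hqN⟩ := mem_inf.mp hq
        have h1 : q * y * q⁻¹ * y⁻¹ ∈ (P : Subgroup G) ⊓ N := by
          refine mem_inf.mpr ⟨mul_mem ((mem_normalizer_iff.mp (hQP hqQ) y).mp hy) (inv_mem hy), ?_⟩
          have := mul_mem hqN (hNn.conj_mem _ (inv_mem hqN) y)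
          simpa [mul_assoc] using this
        have hPN : (P : Subgroup G) ⊓ N = ⊥ := by
          obtain ⟨j, hj⟩ := IsPGroup.iff_card.mp P.2
          refine (disjoint_of_coprime_natCard ?_).eq_bot
          rw [hj]; exact hNp.symm.pow_left j
        rw [hPN, mem_bot, mul_inv_eq_one, mul_inv_eq_iff_eq_mul] at h1
        exact h1
      set N₀ := Subgroup.normalizer (Q₀ : Set G)
      have hxN₀ : x ∈ N₀ := by
        refine mem_normalizer_of_map_conj_eq (eq_of_le_of_card_ge ?_ (by rw [card_map_conj]))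
        rintro _ ⟨q, hq, rfl⟩
        exact mem_inf.mpr ⟨(mem_normalizer_iff.mp hx q).mp hq.1, hNn.conj_mem q hq.2 x⟩
      have hPs : IsSylowSub p (P : Subgroup G) N₀ :=
        ⟨hPC.trans (centralizer_le_normalizer _), P.2, fun hd =>
          P.not_dvd_index (hd.trans (relIndex_dvd_index_of_le (hPC.trans (centralizer_le_normalizer _))))⟩
      obtain ⟨m, hm, hle⟩ := hPs.exists_conj_le (zpowers_le.mpr hxN₀)
        (IsPGroup.of_card (n := k) (by rw [Nat.card_zpowers, hk]))
      have hmx : m * x * m⁻¹ ∈ Subgroup.centralizer (Q₀ : Set G) :=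
        hPC (hle ⟨x, mem_zpowers x, rfl⟩)
      intro q hq
      have hq' : m * q * m⁻¹ ∈ Q₀ := (mem_normalizer_iff.mp hm q).mp hq
      have h3 := mem_centralizer_iff.mp hmx _ hq'
      calc x * q * x⁻¹ = m⁻¹ * ((m * x * m⁻¹) * (m * q * m⁻¹)) * m * x⁻¹ := by group
        _ = m⁻¹ * ((m * q * m⁻¹) * (m * x * m⁻¹)) * m * x⁻¹ := by rw [h3]
        _ = q := by group
  refine CfsgLib.OddLocal.centralizes_of_stabilizes_series (k := 2) (pow_orderOf_eq_one x)
    (hk ▸ hQc.symm.pow_left k) ![Q, Q₀, ⊥] rfl rfl ?_ ?_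
  · intro i; fin_cases i
    · exact le_rfl
    · exact inf_le_left
    · exact bot_le
  · intro i; fin_cases i
    · intro q hq
      show q⁻¹ * (x * q * x⁻¹) ∈ Q₀
      obtain ⟨h1, h2⟩ := mem_inf.mp (hsub q hq)
      refine mem_inf.mpr ⟨mul_mem (inv_mem hq) ((mem_normalizer_iff.mp hx q).mp hq), ?_⟩
      simpa [mul_assoc] using hNn.conj_mem _ h2 q⁻¹
    · intro q hq
      show q⁻¹ * (x * q * x⁻¹) ∈ (⊥ : Subgroup G)
      rw [hfix q hq, inv_mul_cancel]
      exact one_mem _

end CfsgLib.Techniques
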