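import Cfsg.Agent.Lib.Techniques.SectionTransfer
import Cfsg.Agent.Lib.PLocal.PSolvable
import Cfsg.Agent.Lib.PLocal.ComplementReduction

/-!
Normal `p`-complement criteria by a section functor: the structure of a minimal failure.
-/

namespace CfsgLib.Techniques

open Subgroup Cfsg

universe u

/-- A section together with a Sylow subgroup, as a quotient `K / R` with a Sylow subgroup. -/
theorem IsSec.exists_sylow_iso {G H : Type u} [Group G] [Group H] [Finite G] [Finite H] {p : ℕ}
    [Fact p.Prime] (h : IsSec G H) (S : Sylow p H) :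
    ∃ (K R : Subgroup G) (_ : (R.subgroupOf K).Normal) (e : ↥K ⧸ R.subgroupOf K ≃* H)
      (T : Sylow p (↥K ⧸ R.subgroupOf K)),
      (T : Subgroup (↥K ⧸ R.subgroupOf K)).map e.toMonoidHom = (S : Subgroup H) := by
  obtain ⟨K, R, hn, ⟨e⟩⟩ := h.exists_quotient
  let T := S.mapSurjective (f := e.symm.toMonoidHom) e.symm.surjective
  refine ⟨K, R, hn, e, T, ?_⟩
  show ((S : Subgroup H).map e.symm.toMonoidHom).map e.toMonoidHom = (S : Subgroup H)
  rw [Subgroup.map_map, show e.toMonoidHom.comp e.symm.toMonoidHom = MonoidHom.id H from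
    MonoidHom.ext fun x => e.apply_symm_apply x, Subgroup.map_id]

variable {p : ℕ} [Fact p.Prime] {W : ∀ (Q : Type u) [Group Q], Subgroup Q}
  (hW : Cfsg.IsCharPFunctor.{u} p W)

/-- The data left over by a minimal failure of a normal `p`-complement criterion. -/
structure CriterionFailure (W : ∀ (Q : Type u) [Group Q], Subgroup Q) {H : Type u} [Group H]
    (S : Sylow p H) : Prop where
  charP : Subgroup.centralizer ((Cfsg.pCore p H : Subgroup H) : Set H) ≤ Cfsg.pCore p H
  quotient : Cfsg.HasNormalPComplement p (H ⧸ Cfsg.pCore p H)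
  coatom : IsCoatom (S : Subgroup H)
  lt : Cfsg.pCore p H < (S : Subgroup H)
  not_normal : ¬ (Cfsg.inducedFunctor (G := H) W (S : Subgroup H)).Normal
  npc_local : ∀ U : Subgroup H, U ≠ ⊤ → (S : Subgroup H) ≤ U → Cfsg.HasNormalPComplement p U
  no : ¬ Cfsg.HasNormalPComplement p H

include hW in
/-- A criterion only has to exclude minimal failures. -/
theorem complement_criterion {G : Type u} [Group G] [Finite G]
    (hyp : ∀ (H : Type u) [Group H] [Finite H], IsSec G H → ∀ S : Sylow p H,
      CriterionFailure W S → False) :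
    ∀ (H : Type u) [Group H] [Finite H], IsSec G H → ∀ S : Sylow p H,
      Cfsg.HasNormalPComplement p
        (Subgroup.normalizer ((Cfsg.inducedFunctor (G := H) W (S : Subgroup H) : Subgroup H) :
          Set H)) → Cfsg.HasNormalPComplement p H := by
  intro H _ _ hsec
  induction hn : Nat.card H using Nat.strong_induction_on generalizing H with
  | _ n ih => ?_
  subst hn
  intro S hN
  by_contra hno
  have hV := inducedFunctor_isConjugacyFunctor hW H
  set V := Cfsg.inducedFunctor (G := H) W with hVdef
  -- the criterion inside a proper subgroup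
  have sub : ∀ U T : Subgroup H, U ≠ ⊤ → IsSylowSub p T U →
      Cfsg.HasNormalPComplement p (Subgroup.normalizer ((V T : Subgroup H) : Set H)) →
      Cfsg.HasNormalPComplement p U := by
    intro U T hU hT h
    have hsubT : (T.subgroupOf U).map U.subtype = T := Subgroup.map_subgroupOf_eq_of_le hT.1
    refine ih _ (CfsgLib.Core.card_subgroup_lt U hU) U (hsec.subgroup U) rfl
      ((hT.2.1.comap_subtype (K := U)).toSylow hT.2.2) ?_
    refine CfsgLib.PLocal.npc_of_map_subtype (CfsgLib.PLocal.npc_of_le ?_ h)
    refine (Subgroup.le_normalizer_map U.subtype).trans (le_of_eq ?_)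
    have h1 := inducedFunctor_map hW (hT.2.1.comap_subtype (K := U)) U.subtype
      U.subtype_injective.injOn
    refine Eq.trans ?_ (congrArg (fun X : Subgroup H =>
      Subgroup.normalizer ((V X : Subgroup H) : Set H)) hsubT)
    exact congrArg (fun Y : Subgroup H => Subgroup.normalizer (Y : Set H)) h1.symm
  have npcU : ∀ U : Subgroup H, U ≠ ⊤ → (S : Subgroup H) ≤ U →
      Cfsg.HasNormalPComplement p U :=
    fun U hU hSU => sub U _ hU ((isSylowSub_sylow S).of_le hSU le_top) hN
  have hNtop : Subgroup.normalizer ((V (S : Subgroup H) : Subgroup H) : Set H) ≠ ⊤ :=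
    fun h => hno (CfsgLib.PLocal.npc_of_top h hN)
  -- no normal p'-subgroup
  haveI : (Cfsg.pPrimeCore p H).Normal := CfsgLib.Core.normal_pPrimeCore p H
  haveI : (Cfsg.pCore p H).Normal := CfsgLib.Core.normal_pCore p H
  have hO : Cfsg.pPrimeCore p H = ⊥ := by
    by_contra hne
    have hc := CfsgLib.Core.coprime_card_pPrimeCore p H
    refine hno (CfsgLib.PLocal.npc_of_quotient _ hc (ih _ (CfsgLib.Core.card_quotient_lt _ hne)
      _ (hsec.quotient _) rfl (S.mapSurjective (QuotientGroup.mk'_surjective _)) ?_))
    have h := CfsgLib.PLocal.npc_map (QuotientGroup.mk' (Cfsg.pPrimeCore p H)) hN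
    rw [CfsgLib.PLocal.map_normalizer_eq _ hc (S.2.to_le (functor_le hV S.2)),
      ← inducedFunctor_map hW S.2 _ (injOn_mk' (inf_eq_bot_of_coprime S.2 hc))] at h
    rw [Sylow.coe_mapSurjective]
    exact h
  -- a normal p-subgroup
  have hQ : Cfsg.pCore p H ≠ ⊥ := by
    intro hQ
    apply hno
    have hloc : ∀ X : Subgroup H, X ≤ (S : Subgroup H) → X ≠ ⊥ →
        IsFullyNormalized p (S : Subgroup H) X →
        Cfsg.HasNormalPComplement p (Subgroup.normalizer (X : Set H)) := by
      intro X
      induction hk : Nat.card (S : Subgroup H) -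
          Nat.card ((S : Subgroup H) ⊓ Subgroup.normalizer (X : Set H) : Subgroup H)
        using Nat.strong_induction_on generalizing X with
      | _ k ihk => ?_
      subst hk
      intro hX hne hfull
      have hNX := normalizer_ne_top_of_pCore_bot hQ (S.2.to_le hX) hne
      refine sub _ _ hNX (hfull.isSylowSub S.2) ?_
      set P₀ := (S : Subgroup H) ⊓ Subgroup.normalizer (X : Set H) with hP₀
      rcases eq_or_lt_of_le (inf_le_left : P₀ ≤ (S : Subgroup H)) with he | hlt
      · rw [show V P₀ = V (S : Subgroup H) from congrArg V he]; exact hN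
      have hgrow := CfsgLib.Transfer.card_lt_of_lt (lt_inf_normalizer_functor hV S.2 hlt)
      have hP₀p : IsPGroup p P₀ := S.2.to_le inf_le_left
      have h1S : V P₀ ≤ (S : Subgroup H) := (functor_le hV hP₀p).trans inf_le_left
      have h1ne : V P₀ ≠ ⊥ := functor_ne_bot hV hP₀p fun h =>
        hne (le_bot_iff.mp (h ▸ le_inf hX Subgroup.le_normalizer))
      obtain ⟨a, haS, hafull, haN⟩ := exists_fullyNormalized_conj S h1S
      set X₁ := (V P₀).map (MulAut.conj a).toMonoidHom with hX₁
      have hbig := Subgroup.card_le_of_le haN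
      rw [card_map_conj] at hbig
      have hle : Nat.card ((S : Subgroup H) ⊓ Subgroup.normalizer (X₁ : Set H) : Subgroup H) ≤
          Nat.card (S : Subgroup H) := Subgroup.card_le_of_le inf_le_left
      have h2 := ihk _ (by simp only [hP₀] at *; omega) X₁ rfl haS (fun h => h1ne (by
        rw [← map_conj_inv_conj (V P₀) a, ← hX₁, h, Subgroup.map_bot])) hafull
      have h3 := CfsgLib.PLocal.npc_map (MulAut.conj a⁻¹).toMonoidHom h2
      rwa [← normalizer_map_conj', hX₁, map_conj_inv_conj] at h3
    refine CfsgLib.Transfer.hasNormalPComplement_of_centralizes S fun X hX g hg hgc => ?_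
    by_cases hne : X = ⊥
    · subst hne
      exact Subgroup.mem_centralizer_iff.mpr fun x hx => by
        rw [show x = 1 from hx, one_mul, mul_one]
    obtain ⟨a, haS, hafull, -⟩ := exists_fullyNormalized_conj S hX
    have hne' : X.map (MulAut.conj a).toMonoidHom ≠ ⊥ := fun h => hne (by
      rw [← map_conj_inv_conj X a, h, Subgroup.map_bot])
    have h := CfsgLib.PLocal.npc_map (MulAut.conj a⁻¹).toMonoidHom (hloc _ haS hne' hafull)
    rw [← normalizer_map_conj', map_conj_inv_conj] at h
    have h2 := CfsgLib.Transfer.mem_centralizer_of_hasNormalPComplement h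
      (Q := X.subgroupOf (Subgroup.normalizer (X : Set H)))
      ((S.2.to_le hX).comap_subtype) (g := ⟨g, hg⟩)
      (by
        haveI : (X.subgroupOf (Subgroup.normalizer (X : Set H))).Normal :=
          Subgroup.normal_in_normalizer
        exact (Subgroup.normalizer_eq_top
          (X.subgroupOf (Subgroup.normalizer (X : Set H)))).ge (Subgroup.mem_top _))
      (by rwa [Subgroup.orderOf_mk])
    rw [Subgroup.mem_centralizer_iff] at h2 ⊢
    intro x hx
    exact congrArg Subtype.val (h2 ⟨x, Subgroup.le_normalizer hx⟩ hx)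
  have hlt : Cfsg.pCore p H < (S : Subgroup H) := by
    refine lt_of_le_of_ne (CfsgLib.Core.pCore_le_sylow S) fun he => hNtop ?_
    rw [eq_top_iff]
    refine le_trans ?_ (normalizer_le_normalizer_functor hV S.2)
    rw [← he, Subgroup.normalizer_eq_top]
  -- the quotient has a complement
  have hquot : Cfsg.HasNormalPComplement p (H ⧸ Cfsg.pCore p H) := by
    set π := QuotientGroup.mk' (Cfsg.pCore p H) with hπ
    have hne : (S : Subgroup H).map π ≠ ⊥ := by
      rw [Ne, Subgroup.map_eq_bot_iff, hπ, QuotientGroup.ker_mk']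
      exact hlt.not_ge
    have hV' := inducedFunctor_isConjugacyFunctor hW (H ⧸ Cfsg.pCore p H)
    refine ih _ (CfsgLib.Core.card_quotient_lt _ hQ) _ (hsec.quotient _) rfl
      (S.mapSurjective (QuotientGroup.mk'_surjective _)) ?_
    rw [Sylow.coe_mapSurjective]
    set L := (Subgroup.normalizer ((Cfsg.inducedFunctor W ((S : Subgroup H).map π) :
      Subgroup (H ⧸ Cfsg.pCore p H)) : Set (H ⧸ Cfsg.pCore p H))).comap π with hL
    have hLne : L ≠ ⊤ := fun ht => normalizer_ne_top_of_pCore_bot
      (CfsgLib.Core.pCore_quotient_pCore p H)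
      ((S.2.map π).to_le (functor_le hV' (S.2.map π)))
      (functor_ne_bot hV' (S.2.map π) hne) (by
        rw [eq_top_iff, ← Subgroup.map_top_of_surjective π (QuotientGroup.mk'_surjective _), ← ht]
        exact Subgroup.map_comap_le _ _)
    have hSL : (S : Subgroup H) ≤ L := fun s hs =>
      le_normalizer_functor hV' (S.2.map π) ⟨s, hs, rfl⟩
    have h := CfsgLib.PLocal.npc_map π (npcU L hLne hSL)
    rwa [hL, Subgroup.map_comap_eq_self_of_surjective (QuotientGroup.mk'_surjective _)] at h
  -- `p`-solvable, hence `C(Q) ≤ Q`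
  have hsol : Cfsg.IsPSolvable p H := by
    obtain ⟨N, hN', hNc, hNp⟩ := CfsgLib.Transfer.hasNormalPComplement_iff_exists.mp hquot
    set M := N.comap (QuotientGroup.mk' (Cfsg.pCore p H)) with hM
    refine ⟨3, ![⊥, Cfsg.pCore p H, M, ⊤], rfl, rfl, ?_, ?_, ?_⟩
    · refine Fin.monotone_iff_le_succ.mpr fun i => ?_
      fin_cases i
      · exact bot_le
      · show Cfsg.pCore p H ≤ M
        intro x hx
        rw [hM, Subgroup.mem_comap, show QuotientGroup.mk' (Cfsg.pCore p H) x = 1 from
          (QuotientGroup.eq_one_iff x).mpr hx]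
        exact one_mem _
      · exact le_top
    · intro i; fin_cases i
      · show (⊥ : Subgroup H).Normal; infer_instance
      · show (Cfsg.pCore p H).Normal; infer_instance
      · show M.Normal; exact hN'.comap _
      · show (⊤ : Subgroup H).Normal; infer_instance
    · intro i; fin_cases i
      · left
        obtain ⟨k, hk⟩ := IsPGroup.iff_card.mp (CfsgLib.Core.isPGroup_pCore p H)
        exact ⟨k, by show (⊥ : Subgroup H).relIndex _ = _; rw [Subgroup.relIndex_bot_left]; exact hk⟩
      · right
        show ((Cfsg.pCore p H).relIndex M).Coprime p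
        have h := Subgroup.relIndex_ker (K := M) (QuotientGroup.mk' (Cfsg.pCore p H))
        rw [QuotientGroup.ker_mk', hM,
          Subgroup.map_comap_eq_self_of_surjective (QuotientGroup.mk'_surjective _)] at h
        rw [hM, h]
        exact hNc
      · left
        obtain ⟨k, hk⟩ := IsPGroup.iff_card.mp hNp
        refine ⟨k, ?_⟩
        show M.relIndex ⊤ = _
        rw [Subgroup.relIndex_top_right, hM,
          Subgroup.index_comap_of_surjective _ (QuotientGroup.mk'_surjective _),
          Subgroup.index_eq_card, hk]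
  have hC := CfsgLib.PLocal.centralizer_pCore_le hsol hO
  refine hyp H hsec S ⟨hC, hquot, ⟨fun h => hno ?_, fun U hSU => ?_⟩, hlt,
    fun h => hNtop (Subgroup.normalizer_eq_top_iff.mpr h), npcU, hno⟩
  · refine CfsgLib.Transfer.hasNormalPComplement_of_isPGroup (IsPGroup.of_equiv S.2 ?_)
    exact (MulEquiv.subgroupCongr h).trans Subgroup.topEquiv
  · by_contra hU
    have hnpc := npcU U hU hSU.le
    have hco := CfsgLib.Transfer.hasNormalPComplement_iff_coprime.mp hnpc
    set N := (Cfsg.pResidual p U).map U.subtype with hN'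
    have hQU : Cfsg.pCore p H ≤ U := hlt.le.trans hSU.le
    have hNC : N ≤ Subgroup.centralizer ((Cfsg.pCore p H : Subgroup H) : Set H) := by
      rintro _ ⟨x, hx, rfl⟩
      rw [Subgroup.mem_centralizer_iff]
      intro q hq
      have hd : Disjoint ((Cfsg.pCore p H).subgroupOf U) (Cfsg.pResidual p U) := by
        refine disjoint_iff.mpr (inf_eq_bot_of_coprime ?_ hco)
        exact (CfsgLib.Core.isPGroup_pCore p H).comap_subtype
      exact congrArg Subtype.val (Subgroup.commute_of_normal_of_disjoint _ _ inferInstance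
        inferInstance hd ⟨q, hQU hq⟩ x hq hx).eq
    have hbot : Cfsg.pResidual p U = ⊥ := by
      rw [eq_bot_iff]
      intro x hx
      have hxQ := hC (hNC ⟨x, hx, rfl⟩)
      have h1 : x ∈ ((Cfsg.pCore p H).subgroupOf U) ⊓ Cfsg.pResidual p U :=
        Subgroup.mem_inf.mpr ⟨hxQ, hx⟩
      exact (inf_eq_bot_of_coprime (S := (Cfsg.pCore p H).subgroupOf U)
        ((CfsgLib.Core.isPGroup_pCore p H).comap_subtype) hco).le h1
    have hUp : IsPGroup p U := by
      have h := CfsgLib.Transfer.isPGroup_quotient_pResidual (p := p) (G := U)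
      exact h.of_equiv ((QuotientGroup.quotientMulEquivOfEq hbot).trans QuotientGroup.quotientBot)
    exact hSU.ne (S.3 hUp hSU.le).symm

end CfsgLib.Techniques
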