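import Cfsg.Agent.Lib.Techniques.CriterionStructure
import Cfsg.Agent.Lib.Techniques.Engel

/-!
An element acting with degree `p - 1` on a chief factor of a minimal failure of a complement
criterion acts trivially on it.
-/

namespace CfsgLib.Techniques

open Subgroup Cfsg
open scoped commutatorElement fwdDiff

universe u

variable {p : ℕ} [hp : Fact p.Prime]

theorem pow_eq_one_of_geom_sum {R : Type*} [Ring R] {x : R}
    (h : ∑ i ∈ Finset.range p, x ^ i = 0) : x ^ p = 1 := by
  have h1 := mul_geom_sum x p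
  rw [h, mul_zero] at h1
  exact (sub_eq_zero.mp h1.symm)

open scoped IsMulCommutative in
/-- The abelian `p'`-group argument: `T` acts trivially when all `t * g` have vanishing sum of
`p` consecutive powers. -/
theorem hom_eq_one_of_degree {Y R : Type*} [Group Y] [Finite Y] [Ring R] (ρ : Y →* R)
    (T : Subgroup Y) [hTc : IsMulCommutative T] (hcop : (Nat.card T).Coprime p)
    (hchar : (p : R) = 0) (g : Y) (hg : g ∈ Subgroup.normalizer (T : Set Y))
    (hfix : ∀ i : ℕ, 0 < i → i < p → ∀ t ∈ T, g ^ i * t * (g ^ i)⁻¹ = t → t = 1)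
    (hsum : ∑ i ∈ Finset.range p, ρ g ^ i = 0) {t : Y} (ht : t ∈ T) : ρ t = 1 := by
  classical
  have := Fintype.ofFinite T
  have hconj : ∀ (i : ℕ) (u : T), g ^ i * (u : Y) * (g ^ i)⁻¹ ∈ T := fun i u =>
    (Subgroup.mem_normalizer_iff.mp (pow_mem hg i) u).mp u.2
  -- every `u * g` is a conjugate of `g`
  have hall : ∀ u : T, ∑ i ∈ Finset.range p, ρ ((u : Y) * g) ^ i = 0 := by
    let d : T → T := fun w => w * ⟨g * (w : Y)⁻¹ * g⁻¹, by
      simpa using hconj 1 w⁻¹⟩
    have hd : Function.Injective d := by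
      intro w w' hww
      have h1 : (w : Y) * (g * (w : Y)⁻¹ * g⁻¹) = (w' : Y) * (g * (w' : Y)⁻¹ * g⁻¹) :=
        congrArg Subtype.val hww
      have h2 : g ^ 1 * ((w'⁻¹ * w : T) : Y) * (g ^ 1)⁻¹ = ((w'⁻¹ * w : T) : Y) := by
        have e1 : (w' : Y)⁻¹ * w * g * (w : Y)⁻¹ * (w' : Y) * g⁻¹ = 1 := by
          calc (w' : Y)⁻¹ * w * g * (w : Y)⁻¹ * (w' : Y) * g⁻¹
              = (w' : Y)⁻¹ * ((w : Y) * (g * (w : Y)⁻¹ * g⁻¹)) * (g * (w' : Y) * g⁻¹) := by group
            _ = 1 := by rw [h1]; group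
        rw [mul_inv_eq_one] at e1
        rw [pow_one, Subgroup.coe_mul, Subgroup.coe_inv]
        calc g * ((w' : Y)⁻¹ * w) * g⁻¹
            = ((w' : Y)⁻¹ * w * g * (w : Y)⁻¹ * (w' : Y)) * ((w' : Y)⁻¹ * w) * g⁻¹ := by
              rw [e1]
          _ = (w' : Y)⁻¹ * w := by group
      have h3 := hfix 1 one_pos hp.out.one_lt _ (w'⁻¹ * w).2 h2
      exact (inv_mul_eq_one.mp (Subtype.ext h3 : w'⁻¹ * w = 1)).symm
    intro u
    obtain ⟨w, rfl⟩ := (Finite.injective_iff_surjective.mp hd) u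
    have e : ((d w : T) : Y) * g = (w : Y) * g * (w : Y)⁻¹ := by
      show (w : Y) * (g * (w : Y)⁻¹ * g⁻¹) * g = _
      group
    rw [e]
    have e2 : ∀ i : ℕ, ρ ((w : Y) * g * (w : Y)⁻¹) ^ i = ρ (w : Y) * ρ g ^ i * ρ (w : Y)⁻¹ := by
      intro i
      rw [← map_pow, conj_pow, map_mul, map_mul, map_pow]
    simp only [e2, ← Finset.sum_mul, ← Finset.mul_sum, hsum, mul_zero, zero_mul]
  -- `(u g)^i = c i u * g^i` with `c i` bijective on `T`
  let c : ℕ → T →* T := fun i => Nat.rec 1 (fun j cj =>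
    { toFun := fun u => cj u * ⟨g ^ j * u * (g ^ j)⁻¹, hconj j u⟩
      map_one' := by rw [map_one, one_mul]; exact Subtype.ext (by simp)
      map_mul' := fun a b => by
        rw [map_mul]
        have : (⟨g ^ j * ((a * b : T) : Y) * (g ^ j)⁻¹, hconj j (a * b)⟩ : T) =
            ⟨g ^ j * a * (g ^ j)⁻¹, hconj j a⟩ * ⟨g ^ j * b * (g ^ j)⁻¹, hconj j b⟩ :=
          Subtype.ext (by simp [mul_assoc])
        rw [this]
        exact mul_mul_mul_comm _ _ _ _ }) i
  have hcpow : ∀ (i : ℕ) (u : T), ((u : Y) * g) ^ i = (c i u : Y) * g ^ i := by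
    intro i u
    induction i with
    | zero => simp [c]
    | succ j ih =>
      rw [pow_succ, ih, pow_succ]
      show _ = ((c j u * ⟨g ^ j * u * (g ^ j)⁻¹, hconj j u⟩ : T) : Y) * (g ^ j * g)
      rw [Subgroup.coe_mul]
      group
  have hcbij : ∀ i, 0 < i → i < p → Function.Bijective (c i) := by
    intro i hi hip
    refine Finite.injective_iff_bijective.mp ((injective_iff_map_eq_one _).mpr fun u hu => ?_)
    have h1 : ((u : Y) * g) ^ i = g ^ i := by rw [hcpow, hu, Subgroup.coe_one, one_mul]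
    have h2 : Commute ((u : Y) * g) (g ^ i) := h1 ▸ (Commute.self_pow _ i)
    have h3 : g ^ i * (u : Y) * (g ^ i)⁻¹ = u := by
      have h4 : (u : Y) * g * g ^ i = g ^ i * ((u : Y) * g) := h2
      calc g ^ i * (u : Y) * (g ^ i)⁻¹ = g ^ i * ((u : Y) * g) * g⁻¹ * (g ^ i)⁻¹ := by group
        _ = (u : Y) * g * g ^ i * g⁻¹ * (g ^ i)⁻¹ := by rw [h4]
        _ = u := by group
    exact Subtype.ext (hfix i hi hip u u.2 h3)
  set E := ∑ u : T, ρ (u : Y) with hE
  set n := Fintype.card T with hn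
  have hEt : ∀ u : T, ρ (u : Y) * E = E := fun u => by
    rw [hE, Finset.mul_sum]
    exact Fintype.sum_equiv (Equiv.mulLeft u) _ _ fun w => by
      rw [← map_mul]; rfl
  have hEE : E * E = (n : R) * E := by
    conv_lhs => rw [hE, Finset.sum_mul]
    rw [show (∑ u : T, ρ (u : Y) * ∑ u : T, ρ (u : Y)) = ∑ _u : T, E from
      Finset.sum_congr rfl fun u _ => hEt u, Finset.sum_const, Finset.card_univ, nsmul_eq_mul]
  set S' := ∑ i ∈ Finset.Ico 1 p, ρ g ^ i with hS'
  have key : (n : R) + E * S' = 0 := by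
    have h0 : ∑ u : T, ∑ i ∈ Finset.range p, ρ ((u : Y) * g) ^ i = 0 :=
      Finset.sum_eq_zero fun u _ => hall u
    rw [Finset.sum_comm, Finset.range_eq_Ico, Finset.sum_eq_sum_Ico_succ_bot hp.out.pos] at h0
    rw [hS', Finset.mul_sum]
    refine Eq.trans ?_ h0
    congr 1
    · simp [hn]
    · refine Finset.sum_congr rfl fun i hi => ?_
      obtain ⟨hi1, hi2⟩ := Finset.mem_Ico.mp hi
      rw [hE, Finset.sum_mul]
      symm
      exact Fintype.sum_bijective (c i) (hcbij i hi1 hi2) _ _ fun u => by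
        rw [← map_pow, hcpow, map_mul, map_pow]
  -- `n` is invertible
  have hnc : Nat.Coprime n p := by rwa [hn, ← Nat.card_eq_fintype_card]
  obtain ⟨m, hm⟩ := Nat.exists_mul_mod_eq_one_of_coprime hnc hp.out.one_lt
  have hinv : (m : R) * (n : R) = 1 := by
    rw [← Nat.cast_mul, mul_comm m n]
    conv_lhs => rw [← Nat.div_add_mod (n * m) p, Nat.cast_add, Nat.cast_mul, hchar, zero_mul,
      zero_add, hm.2, Nat.cast_one]
  have hES : E + E * S' = 0 := by
    have h1 : (n : R) * (E + E * S') = 0 := by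
      have h2 : E * ((n : R) + E * S') = 0 := by rw [key, mul_zero]
      rwa [mul_add, ← mul_assoc, hEE, (Nat.cast_commute n E).eq.symm, mul_assoc, ← mul_add] at h2
    have := congrArg ((m : R) * ·) h1
    simp only [← mul_assoc, hinv, one_mul, mul_zero] at this
    exact this
  have hEn : E = (n : R) := by
    rw [eq_neg_of_add_eq_zero_left hES, eq_neg_of_add_eq_zero_left key]
  have h := hEt ⟨t, ht⟩
  rw [hEn] at h
  calc ρ t = ρ t * ((n : R) * (m : R)) := by
        rw [(Nat.cast_commute n (m : R)).eq, hinv, mul_one]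
    _ = 1 := by rw [← mul_assoc, h, (Nat.cast_commute n (m : R)).eq, hinv]

/-- A `p`-group of automorphisms normalized by an irreducible group is trivial. -/
theorem eq_bot_of_irreducible {M : Type*} [Group M] [Finite M] [Nontrivial M] (hM : IsPGroup p M)
    {N : Subgroup (MulAut M)} (hN : IsPGroup p N) (Γ : Set (MulAut M))
    (hΓ : ∀ γ ∈ Γ, γ ∈ Subgroup.normalizer (N : Set (MulAut M)))
    (hirr : ∀ F : Subgroup M, (∀ γ ∈ Γ, ∀ m ∈ F, γ m ∈ F) → F = ⊥ ∨ F = ⊤) : N = ⊥ := by
  let F : Subgroup M :=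
    { carrier := {m | ∀ a ∈ N, a m = m}
      one_mem' := fun a _ => map_one a
      mul_mem' := fun {a b} ha hb c hc => by rw [map_mul, ha c hc, hb c hc]
      inv_mem' := fun {a} ha c hc => by rw [map_inv, ha c hc] }
  have hFinv : ∀ γ ∈ Γ, ∀ m ∈ F, γ m ∈ F := by
    intro γ hγ m hm a ha
    have h1 : γ⁻¹ * a * γ ∈ N := (Subgroup.mem_normalizer_iff''.mp (hΓ γ hγ) a).mp ha
    have h2 := hm _ h1
    rw [MulAut.mul_apply, MulAut.mul_apply] at h2
    have h3 := congrArg γ h2
    rwa [MulAut.apply_inv_self] at h3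
  rcases hirr F hFinv with h | h
  · exfalso
    have hdvd : p ∣ Nat.card M := by
      obtain ⟨k, hk⟩ := IsPGroup.iff_card.mp hM
      rcases k with _ | k
      · exact absurd hk (by simpa using (Finite.one_lt_card (α := M)).ne')
      · exact hk ▸ dvd_pow_self p (Nat.succ_ne_zero k)
    obtain ⟨b, hb, hb1⟩ := hN.exists_fixed_point_of_prime_dvd_card_of_fixed_point M hdvd
      (a := (1 : M)) (fun a => map_one (a : MulAut M))
    refine hb1 ?_
    have : b ∈ F := fun a ha => hb ⟨a, ha⟩
    rw [h, Subgroup.mem_bot] at this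
    exact this.symm
  · rw [eq_bot_iff]
    intro a ha
    rw [Subgroup.mem_bot]
    refine MulEquiv.ext fun m => ?_
    exact (h ▸ Subgroup.mem_top m : m ∈ F) a ha

/-- The chief factor argument. -/
theorem commutator_le_of_degree {W : ∀ (Q : Type u) [Group Q], Subgroup Q} {H : Type u} [Group H]
    [Finite H] {S : Sylow p H} (hf : CriterionFailure W S) {g : H} (hgS : g ∈ (S : Subgroup H))
    {U V : Subgroup H} (hUV : Cfsg.IsChiefFactor U V) (hU : U ≤ Cfsg.pCore p H)
    (hdeg : Cfsg.iterCommutator U (Subgroup.zpowers g) (p - 1) ≤ V) :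
    ⁅U, Subgroup.zpowers g⁆ ≤ V := by
  classical
  obtain ⟨hVU, hUn, hVn, hmin⟩ := hUV
  haveI := hUn
  haveI := hVn
  set π := QuotientGroup.mk' V with hπ
  set M := U.map π with hMdef
  haveI : M.Normal := hUn.map π (QuotientGroup.mk'_surjective V)
  let φ : H →* MulAut M := (MulAut.conjNormal (H := M)).comp π
  have hφ : ∀ (h : H) (m : M), ((φ h m : M) : H ⧸ V) = π h * m * (π h)⁻¹ := fun h m => rfl
  have hMne : M ≠ ⊥ := by
    rw [hMdef, Ne, Subgroup.map_eq_bot_iff, hπ, QuotientGroup.ker_mk']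
    exact hVU.not_ge
  haveI : Nontrivial M := (Subgroup.nontrivial_iff_ne_bot M).mpr hMne
  have hMp : IsPGroup p M := ((CfsgLib.Core.isPGroup_pCore p H).to_le hU).map π
  have hirr : ∀ F : Subgroup M, (∀ γ ∈ Set.range φ, ∀ m ∈ F, γ m ∈ F) → F = ⊥ ∨ F = ⊤ := by
    intro F hF
    set N := (F.map M.subtype).comap π with hN
    have hNn : N.Normal := by
      refine ⟨fun n hn h => ?_⟩
      obtain ⟨m, hm, hme⟩ := hn
      refine ⟨φ h m, hF _ ⟨h, rfl⟩ m hm, ?_⟩
      rw [map_mul, map_mul, map_inv]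
      exact (hφ h m).trans (by rw [← hme]; rfl)
    have hVN : V ≤ N := fun v hv => by
      show π v ∈ F.map M.subtype
      rw [show π v = 1 from (QuotientGroup.eq_one_iff v).mpr hv]
      exact one_mem _
    have hNU : N ≤ U := by
      refine (Subgroup.comap_mono (Subgroup.map_subtype_le F)).trans (le_of_eq ?_)
      rw [hMdef, Subgroup.comap_map_eq, hπ, QuotientGroup.ker_mk', sup_eq_left.mpr hVU.le]
    have hmap : N.map π = F.map M.subtype :=
      Subgroup.map_comap_eq_self_of_surjective (QuotientGroup.mk'_surjective V) _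
    rcases hmin N hNn hVN hNU with h | h
    · left
      rw [h, hπ, QuotientGroup.map_mk'_self, eq_comm,
        Subgroup.map_eq_bot_iff_of_injective _ M.subtype_injective] at hmap
      exact hmap
    · right
      rw [h, ← hMdef] at hmap
      refine Subgroup.map_injective M.subtype_injective ?_
      rw [← hmap, ← MonoidHom.range_eq_map, Subgroup.range_subtype]
  have hΓ : ∀ (N : Subgroup (MulAut M)), (∃ K : Subgroup H, K.Normal ∧ K.map φ = N) →
      ∀ γ ∈ Set.range φ, γ ∈ Subgroup.normalizer (N : Set (MulAut M)) := by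
    rintro N ⟨K, hK, rfl⟩ _ ⟨h, rfl⟩
    haveI := hK
    exact Subgroup.le_normalizer_map φ ⟨h, (Subgroup.normalizer_eq_top K).ge (Subgroup.mem_top h), rfl⟩
  set Q := Cfsg.pCore p H with hQdef
  have hQ1 : Q.map φ = ⊥ :=
    eq_bot_of_irreducible hMp ((CfsgLib.Core.isPGroup_pCore p H).map φ) _
      (hΓ _ ⟨Q, inferInstance, rfl⟩) hirr
  -- `M` is elementary abelian
  haveI hMc : IsMulCommutative M := by
    refine ⟨⟨fun a b => ?_⟩⟩
    obtain ⟨x, hx, hxa⟩ := a.2
    have h1 : φ x = 1 := by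
      rw [← Subgroup.mem_bot, ← hQ1]
      exact ⟨x, hU hx, rfl⟩
    have h2 := congrArg Subtype.val (show φ x b = b by rw [h1]; rfl)
    rw [hφ, hxa, mul_inv_eq_iff_eq_mul] at h2
    exact Subtype.ext h2
  open scoped IsMulCommutative in
  have hexp : ∀ m : M, m ^ p = 1 := by
    let F : Subgroup M := (powMonoidHom p : M →* M).ker
    rcases hirr F (fun γ _ m hm => by
      rw [MonoidHom.mem_ker, powMonoidHom_apply] at hm ⊢
      rw [← map_pow, hm, map_one]) with h | h
    · exfalso
      have hdvd : p ∣ Nat.card M := by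
        obtain ⟨k, hk⟩ := IsPGroup.iff_card.mp hMp
        rcases k with _ | k
        · exact absurd hk (by simpa using (Finite.one_lt_card (α := M)).ne')
        · exact hk ▸ dvd_pow_self p (Nat.succ_ne_zero k)
      obtain ⟨x, hx⟩ := exists_prime_orderOf_dvd_card' p hdvd
      have : x ∈ F := by rw [MonoidHom.mem_ker, powMonoidHom_apply, ← hx, pow_orderOf_eq_one]
      rw [h, Subgroup.mem_bot] at this
      rw [this, orderOf_one] at hx
      exact hp.out.ne_one hx.symm
    · intro m
      exact MonoidHom.mem_ker.mp (h ▸ Subgroup.mem_top m : m ∈ F)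
  open scoped IsMulCommutative in
  let ρ : MulAut M →* AddMonoid.End (Additive M) :=
    { toFun := fun a => MonoidHom.toAdditive a.toMonoidHom
      map_one' := rfl
      map_mul' := fun a b => rfl }
  have hρ : Function.Injective ρ := fun a b hab => MulEquiv.ext fun m =>
    congrArg Additive.toMul (DFunLike.congr_fun hab (Additive.ofMul m))
  open scoped IsMulCommutative in
  have hchar : (p : AddMonoid.End (Additive M)) = 0 := by
    refine AddMonoidHom.ext fun v => ?_
    show p • v = 0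
    exact congrArg Additive.ofMul (hexp (Additive.toMul v))
  open scoped IsMulCommutative in
  have hsum : ∑ i ∈ Finset.range p, ρ (φ g) ^ i = 0 := by
    refine AddMonoidHom.ext fun v => ?_
    obtain ⟨m, rfl⟩ : ∃ m : M, Additive.ofMul m = v := ⟨Additive.toMul v, rfl⟩
    obtain ⟨x, hx, hxm⟩ := m.2
    have happ : ∀ (s : Finset ℕ) (X : ℕ → AddMonoid.End (Additive M)) (v : Additive M),
        (∑ i ∈ s, X i) v = ∑ i ∈ s, X i v := by
      intro s X v
      induction s using Finset.induction_on with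
      | empty => rfl
      | insert a s ha ih =>
        rw [Finset.sum_insert ha, Finset.sum_insert ha, ← ih]
        rfl
    refine Eq.trans (happ _ _ _) ?_
    show _ = (0 : Additive M)
    have hpow : ∀ i : ℕ, (ρ (φ g) ^ i) (Additive.ofMul m) = Additive.ofMul (φ (g ^ i) m) := by
      intro i; rw [← map_pow, ← map_pow]; rfl
    simp only [hpow]
    let D : M → M := fun y => y⁻¹ * φ g y
    have hstep : ∀ n i : ℕ, (Δ_[1])^[n] (fun i => Additive.ofMul (φ (g ^ i) m)) i =
        Additive.ofMul (φ (g ^ i) (D^[n] m)) := by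
      intro n
      induction n with
      | zero => intro i; rfl
      | succ n ih =>
        intro i
        rw [Function.iterate_succ', Function.comp_apply, fwdDiff, ih, ih, Function.iterate_succ',
          Function.comp_apply, ← ofMul_div]
        congr 1
        rw [div_eq_iff_eq_mul', show D (D^[n] m) = (D^[n] m)⁻¹ * φ g (D^[n] m) from rfl, map_mul,
          map_inv, mul_inv_cancel_left, pow_succ, map_mul, MulAut.mul_apply]
    have hD : ∀ n, ((D^[n] m : M) : H ⧸ V) ∈
        (Cfsg.iterCommutator U (Subgroup.zpowers g) n).map π := by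
      intro n
      induction n with
      | zero => exact ⟨x, hx, hxm⟩
      | succ n ih =>
        obtain ⟨y, hy, hye⟩ := ih
        rw [Function.iterate_succ', Function.comp_apply]
        have hgen : Subgroup.zpowers g = Subgroup.zpowers g⁻¹ := Subgroup.zpowers_inv.symm
        rw [hgen] at hy ⊢
        refine ⟨y⁻¹ * ((g⁻¹)⁻¹ * y * g⁻¹), mem_iterCommutator_comm U g⁻¹ y n hy, ?_⟩
        show π _ = ((D^[n] m : M) : H ⧸ V)⁻¹ * ((φ g (D^[n] m) : M) : H ⧸ V)
        rw [hφ, ← hye]
        simp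
    rw [sum_range_eq_fwdDiff (p := p) _ (fun i => congrArg Additive.ofMul (hexp _)), hstep]
    have hone : D^[p - 1] m = 1 := by
      refine Subtype.ext ?_
      have h1 := Subgroup.map_mono (f := π) hdeg (hD (p - 1))
      rw [hπ, QuotientGroup.map_mk'_self, Subgroup.mem_bot] at h1
      exact h1
    rw [hone, map_one]
    rfl
  -- the abelian complement
  obtain ⟨hKc, -⟩ := hf.isMulCommutative
  set πQ := QuotientGroup.mk' Q with hπQ
  set B := (Cfsg.pResidual p (H ⧸ Q)).comap πQ with hB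
  haveI : B.Normal := inferInstance
  set T := B.map φ with hT
  haveI hTc : IsMulCommutative T := by
    refine ⟨⟨?_⟩⟩
    rintro ⟨_, a, ha, rfl⟩ ⟨_, b, hb, rfl⟩
    apply Subtype.ext
    show φ a * φ b = φ b * φ a
    rw [← map_mul, ← map_mul, ← mul_inv_eq_one, ← map_inv, ← map_mul, ← Subgroup.mem_bot, ← hQ1]
    refine ⟨_, ?_, rfl⟩
    rw [SetLike.mem_coe, ← QuotientGroup.eq_one_iff]
    show πQ (a * b * (b * a)⁻¹) = 1
    have := congrArg Subtype.val (mul_comm' (⟨πQ a, ha⟩ : Cfsg.pResidual p (H ⧸ Q)) ⟨πQ b, hb⟩)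
    rw [map_mul, map_inv, map_mul, map_mul, mul_inv_eq_one]
    exact this
  have hTcop : (Nat.card T).Coprime p := by
    have hKcop := CfsgLib.Transfer.hasNormalPComplement_iff_coprime.mp hf.quotient
    obtain ⟨k, hk⟩ := IsPGroup.iff_card.mp (CfsgLib.Core.isPGroup_pCore p H)
    have h1 : Nat.card T ∣ Nat.card (Cfsg.pResidual p (H ⧸ Q)) := by
      have h2 : Q ≤ (φ.domRestrict B).ker.map B.subtype := by
        intro q hq
        have hqB : q ∈ B := by
          refine Subgroup.mem_comap.mpr ?_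
          rw [show πQ q = 1 from (QuotientGroup.eq_one_iff q).mpr hq]
          exact one_mem _
        refine ⟨⟨q, hqB⟩, ?_, rfl⟩
        show φ q = 1
        rw [← Subgroup.mem_bot, ← hQ1]
        exact ⟨q, hq, rfl⟩
      have h3 := Subgroup.relIndex_dvd_of_le_left B h2
      rw [show ((φ.domRestrict B).ker.map B.subtype).relIndex B = (φ.domRestrict B).ker.index by
        rw [Subgroup.relIndex, Subgroup.subgroupOf,
          Subgroup.comap_map_eq_self_of_injective B.subtype_injective], Subgroup.index_ker] at h3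
      have h4 := Subgroup.relIndex_ker (K := B) πQ
      rw [hπQ, QuotientGroup.ker_mk', hB, Subgroup.map_comap_eq_self_of_surjective
        (QuotientGroup.mk'_surjective Q)] at h4
      rw [hB, h4] at h3
      have h5 : (φ.domRestrict B).range = T := by
        rw [hT, MonoidHom.range_eq_map]
        ext y
        simp [MonoidHom.domRestrict_apply]
      rw [h5] at h3
      exact h3
    exact hKcop.coprime_dvd_left h1
  set gb := φ g with hgb
  have hgbp : gb ^ p = 1 := hρ (by rw [map_pow, map_one]; exact pow_eq_one_of_geom_sum hsum)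
  have hgbT : gb ∈ Subgroup.normalizer (T : Set (MulAut M)) :=
    Subgroup.le_normalizer_map φ ⟨g, (Subgroup.normalizer_eq_top B).ge (Subgroup.mem_top g), rfl⟩
  have hzT : Subgroup.zpowers gb ≤ Subgroup.normalizer (T : Set (MulAut M)) :=
    Subgroup.zpowers_le.mpr hgbT
  have hzc : (Nat.card (Subgroup.zpowers gb)).Coprime (Nat.card T) := by
    rw [Nat.card_zpowers]
    exact hTcop.symm.coprime_dvd_left (orderOf_dvd_of_pow_eq_one hgbp)
  set T₀ := ⁅T, Subgroup.zpowers gb⁆ with hT₀
  have hT₀T : T₀ ≤ T := Subgroup.le_normalizer_iff_commutator_le_left.mp hzT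
  haveI : IsMulCommutative T₀ := ⟨⟨fun a b => Subtype.ext
    (show (a : MulAut M) * b = b * a from
      congrArg Subtype.val (mul_comm' (⟨a.1, hT₀T a.2⟩ : T) ⟨b.1, hT₀T b.2⟩))⟩⟩
  have hT₀1 : ∀ t ∈ T₀, t = 1 := by
    intro t ht
    refine hρ ?_
    rw [map_one]
    refine hom_eq_one_of_degree ρ T₀ (hTcop.coprime_dvd_left (Subgroup.card_dvd_of_le hT₀T))
      hchar gb ?_ ?_ hsum ht
    · exact CfsgLib.Core.le_normalizer_commutator_self (Subgroup.zpowers gb) T
        (Subgroup.mem_sup_right (Subgroup.mem_zpowers gb))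
    intro i hi hip s hs hfix
    refine Subgroup.mem_bot.mp ((CfsgLib.Core.abelian_inf_eq_bot hzT hzc).le
      (Subgroup.mem_inf.mpr ⟨Subgroup.mem_inf.mpr ⟨hT₀T hs, ?_⟩, hs⟩))
    rw [Subgroup.mem_centralizer_iff]
    have hc : Commute (gb ^ i) s := mul_inv_eq_iff_eq_mul.mp hfix
    have hcop : i.Coprime (orderOf gb) :=
      (((Nat.Prime.coprime_iff_not_dvd hp.out).mpr fun h => absurd (Nat.le_of_dvd hi h)
        (not_le.mpr hip)).symm).coprime_dvd_right (orderOf_dvd_of_pow_eq_one hgbp)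
    obtain ⟨l, hl⟩ := exists_pow_eq_self_of_coprime hcop
    have hc' : Commute gb s := hl ▸ hc.pow_left l
    rintro _ ⟨j, rfl⟩
    exact (hc'.zpow_left j).eq
  have hTg : ∀ t ∈ T, t * gb = gb * t := fun t ht => commutatorElement_eq_one_iff_mul_comm.mp
    (hT₀1 _ (Subgroup.commutator_mem_commutator ht (Subgroup.mem_zpowers gb)))
  -- the conjugates of `gb` form a `p`-group
  set N := Subgroup.normalClosure {g} with hN
  have hNS : N.map φ ≤ (S : Subgroup H).map φ := by
    rw [hN, Subgroup.normalClosure, MonoidHom.map_closure, Subgroup.closure_le]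
    rintro _ ⟨x, hx, rfl⟩
    obtain ⟨y, hy, hc⟩ := Group.mem_conjugatesOfSet_iff.mp hx
    rw [Set.mem_singleton_iff] at hy
    rw [hy] at hc
    obtain ⟨c, rfl⟩ := isConj_iff.mp hc
    -- `c ∈ S B`
    have hc : πQ c ∈ (S : Subgroup H).map πQ ⊔ Cfsg.pResidual p (H ⧸ Q) := by
      have h := CfsgLib.Transfer.pResidual_sup_sylow
        (S.mapSurjective (QuotientGroup.mk'_surjective Q))
      rw [Sylow.coe_mapSurjective, sup_comm] at h
      rw [h]
      trivial
    obtain ⟨_, ⟨s, hs, rfl⟩, k, hk, hsk⟩ := Subgroup.mem_sup_of_normal_right.mp hc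
    have hbB : s⁻¹ * c ∈ B := by
      refine Subgroup.mem_comap.mpr ?_
      rw [map_mul, map_inv, ← hsk, inv_mul_cancel_left]
      exact hk
    have hcomm := hTg _ ⟨_, hbB, rfl⟩
    refine ⟨s * g * s⁻¹, mul_mem (mul_mem hs hgS) (inv_mem hs), ?_⟩
    have e : c * g * c⁻¹ = s * ((s⁻¹ * c) * g * (s⁻¹ * c)⁻¹) * s⁻¹ := by group
    rw [e, map_mul, map_mul, map_mul, map_mul, map_mul, map_mul φ (s⁻¹ * c) g,
      map_inv φ (s⁻¹ * c), hcomm, mul_inv_cancel_right]
  have hN1 : N.map φ = ⊥ := eq_bot_of_irreducible hMp ((S.2.map φ).to_le hNS) _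
    (hΓ _ ⟨N, inferInstance, rfl⟩) hirr
  have hg1 : φ g = 1 := by
    rw [← Subgroup.mem_bot, ← hN1]
    exact ⟨g, Subgroup.subset_normalClosure rfl, rfl⟩
  rw [← QuotientGroup.ker_mk' V, ← hπ, ← Subgroup.map_eq_bot_iff, Subgroup.map_commutator,
    MonoidHom.map_zpowers, Subgroup.commutator_eq_bot_iff_le_centralizer, ← hMdef]
  intro m hm
  rw [Subgroup.mem_centralizer_iff]
  rintro _ ⟨j, rfl⟩
  have h1 : Commute (π g) m := by
    have h2 := congrArg Subtype.val (show φ g ⟨m, hm⟩ = ⟨m, hm⟩ by rw [hg1]; rfl)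
    rw [hφ, mul_inv_eq_iff_eq_mul] at h2
    exact h2
  exact (h1.zpow_left j).eq

end CfsgLib.Techniques
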