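import Cfsg.Agent.Lib.PGroups.Extraspecial

/-!
An involutory automorphism of an extraspecial 2-group.
-/

set_option autoImplicit false

namespace CfsgLib.Techniques

open Subgroup
open scoped commutatorElement

variable {E : Type*} [Group E] [Finite E] (hE : Cfsg.IsExtraspecial 2 E) (a : MulAut E)

include hE

theorem extraspecial_involution_commutators (ha : a * a = 1) (ha1 : a ≠ 1) (x : E) :
    x ∈ closure (Set.range fun q : E => a q * q⁻¹) ↔
      (a x * x⁻¹ ∈ center E) ∧ ∀ r : E, a r * r⁻¹ ∈ center E → r * x = x * r := by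
  haveI : Fact (Nat.Prime 2) := ⟨Nat.prime_two⟩
  set T := closure (Set.range fun q : E => a q * q⁻¹) with hT
  have haa : ∀ u, a (a u) = u := fun u => by
    rw [← MulAut.mul_apply, ha, MulAut.one_apply]
  have hcen : ∀ u v : E, ⁅u, v⁆ ∈ center E := CfsgLib.PGroups.IsExtraspecial.comm_mem hE
  have hafix : ∀ w ∈ center E, a w = w := by
    intro w hw
    have hc := CfsgLib.PGroups.IsExtraspecial.card_center hE
    by_cases hw1 : w = 1
    · rw [hw1, map_one]
    · have hne : a w ≠ 1 := fun h => hw1 (a.injective (h.trans (map_one a).symm))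
      have hmem : a w ∈ center E := (characteristic_iff_le_comap.1 inferInstance a) hw
      obtain ⟨i, hi⟩ := mem_zpowers_iff.1 ((zpowers_eq_top_of_prime_card hc
        (g := (⟨w, hw⟩ : center E)) (fun h => hw1 (congrArg Subtype.val h))).symm ▸
          mem_top (⟨a w, hmem⟩ : center E))
      have hi' : w ^ i = a w := congrArg Subtype.val hi
      have h2 : w ^ 2 = 1 := CfsgLib.PGroups.IsExtraspecial.center_pow hE hw
      rcases Int.even_or_odd' i with ⟨j, rfl | rfl⟩
      · refine absurd ?_ hne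
        rw [← hi', zpow_mul, show w ^ (2 : ℤ) = 1 by exact_mod_cast h2, one_zpow]
      · rw [← hi', zpow_add, zpow_mul, show w ^ (2 : ℤ) = 1 by exact_mod_cast h2, one_zpow, one_mul,
          zpow_one]
  have hnorm : ∀ q : E, ∀ t ∈ T, q * t * q⁻¹ ∈ T := by
    intro q t ht
    induction ht using closure_induction with
    | mem u hu =>
      obtain ⟨r, rfl⟩ := hu
      have e' : q * (a r * r⁻¹) * q⁻¹ =
          (a (a q * r) * (a q * r)⁻¹) * (a (a q) * (a q)⁻¹)⁻¹ := by
        rw [map_mul, haa]; group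
      rw [e']
      exact mul_mem (subset_closure ⟨_, rfl⟩) (inv_mem (subset_closure ⟨_, rfl⟩))
    | one => simp
    | mul u v _ _ hu hv =>
      rw [show q * (u * v) * q⁻¹ = (q * u * q⁻¹) * (q * v * q⁻¹) by group]
      exact mul_mem hu hv
    | inv u _ hu =>
      rw [show q * u⁻¹ * q⁻¹ = (q * u * q⁻¹)⁻¹ by group]
      exact inv_mem hu
  haveI hTn : T.Normal := ⟨fun t ht q => hnorm q t ht⟩
  have hZT : center E ≤ T := by
    refine CfsgLib.PGroups.IsExtraspecial.center_le_of_normal hE fun h => ha1 (MulEquiv.ext fun q => ?_)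
    have h1 : a q * q⁻¹ ∈ T := subset_closure ⟨q, rfl⟩
    rw [h, mem_bot] at h1
    exact mul_inv_eq_one.1 h1
  -- the commutator pairing
  have hpair : ∀ u v, ⁅a u, a v⁆ = ⁅u, v⁆ := fun u v => by
    rw [← map_commutatorElement, hafix _ (hcen u v)]
  have hleft : ∀ u v w : E, ⁅u * v, w⁆ = ⁅u, w⁆ * ⁅v, w⁆ := fun u v w =>
    CfsgLib.PGroups.comm_mul_left_of_central (hcen v w)
  have hright : ∀ u v w : E, ⁅u, v * w⁆ = ⁅u, v⁆ * ⁅u, w⁆ := fun u v w =>
    CfsgLib.PGroups.comm_mul_right_of_central (hcen u w)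
  have hone : ∀ u : E, ∀ w ∈ center E, ⁅u, w⁆ = 1 := fun u w hw =>
    commutatorElement_eq_one_iff_mul_comm.2 (mem_center_iff.1 hw u)
  have hdual : ∀ q r : E, ⁅a q * q⁻¹, r⁆ = 1 ↔ ⁅q, a r * r⁻¹⁆ = 1 := by
    intro q r
    have h1 : ⁅a q * q⁻¹, r⁆ = ⁅a q, r⁆ * ⁅q, r⁆⁻¹ := by
      rw [hleft, CfsgLib.PGroups.comm_inv_left_of_central (hcen q r)]
    have h2 : ⁅q, a r * r⁻¹⁆ = ⁅q, a r⁆ * ⁅q, r⁆⁻¹ := by
      rw [hright, CfsgLib.PGroups.comm_inv_right_of_central (hcen q r)]
    rw [h1, h2, show ⁅a q, r⁆ = ⁅q, a r⁆ by rw [← hpair q (a r), haa]]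
  have hQ0 : ∀ r : E, r ∈ centralizer (T : Set E) ↔ a r * r⁻¹ ∈ center E := by
    intro r
    rw [mem_center_iff, show centralizer (T : Set E) = centralizer (Set.range fun q : E => a q * q⁻¹)
      from centralizer_closure _, mem_centralizer_iff]
    constructor
    · intro h q
      have := h _ ⟨q, rfl⟩
      exact commutatorElement_eq_one_iff_mul_comm.1
        ((hdual q r).1 (commutatorElement_eq_one_iff_mul_comm.2 this))
    · rintro h _ ⟨q, rfl⟩
      exact commutatorElement_eq_one_iff_mul_comm.1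
        ((hdual q r).2 (commutatorElement_eq_one_iff_mul_comm.2 (h q)))
  have hcc : centralizer (centralizer (T : Set E) : Set E) = T :=
    CfsgLib.PGroups.IsExtraspecial.centralizer_centralizer hE hZT
  constructor
  · intro hx
    refine ⟨?_, fun r hr => (mem_centralizer_iff.1 ((hQ0 r).2 hr) x hx).symm⟩
    rw [← hQ0]
    clear hcc hQ0
    rw [show centralizer (T : Set E) = centralizer (Set.range fun q : E => a q * q⁻¹)
      from centralizer_closure _, mem_centralizer_iff]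
    rintro _ ⟨q, rfl⟩
    refine commutatorElement_eq_one_iff_mul_comm.1 ((hdual q x).2 ?_)
    induction hx using closure_induction with
    | mem u hu =>
      obtain ⟨r, rfl⟩ := hu
      refine hone _ _ ?_
      have e : a (a r * r⁻¹) * (a r * r⁻¹)⁻¹ = (r * (a r)⁻¹) * (r * (a r)⁻¹) := by
        rw [map_mul, haa, map_inv]; group
      rw [e, ← sq]
      exact CfsgLib.PGroups.IsExtraspecial.pow_mem_center hE _
    | one => exact hone _ _ (by simp)
    | mul u v _ _ hu hv =>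
      have e : a (u * v) * (u * v)⁻¹ = (a u * (a v * v⁻¹) * (a u)⁻¹) * (a u * u⁻¹) := by
        rw [map_mul]; group
      have hcj : ⁅q, a u * (a v * v⁻¹) * (a u)⁻¹⁆ = ⁅q, a v * v⁻¹⁆ := by
        rw [show a u * (a v * v⁻¹) * (a u)⁻¹ = ⁅a u, a v * v⁻¹⁆ * (a v * v⁻¹) by
          rw [commutatorElement_def]; group, hright, hone _ _ (hcen _ _), one_mul]
      rw [e, hright, hcj, hv, hu, mul_one]
    | inv u _ hu =>
      have e : a u⁻¹ * u⁻¹⁻¹ = u⁻¹ * (u * (a u)⁻¹) * u⁻¹⁻¹ := by rw [map_inv]; group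
      have e2 : u * (a u)⁻¹ = (a u * u⁻¹)⁻¹ := by group
      have hcj : ⁅q, u⁻¹ * (u * (a u)⁻¹) * u⁻¹⁻¹⁆ = ⁅q, u * (a u)⁻¹⁆ := by
        rw [show u⁻¹ * (u * (a u)⁻¹) * u⁻¹⁻¹ = ⁅u⁻¹, u * (a u)⁻¹⁆ * (u * (a u)⁻¹) by
          rw [commutatorElement_def]; group, hright, hone _ _ (hcen _ _), one_mul]
      rw [e, hcj, e2, CfsgLib.PGroups.comm_inv_right_of_central (hcen _ _), hu, inv_one]
  · rintro ⟨-, h⟩
    rw [← hcc, mem_centralizer_iff]
    exact fun r hr => h r ((hQ0 r).1 hr)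

end CfsgLib.Techniques
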