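import Cfsg.Agent.Lib.Techniques.Functor

/-!
Conjugation families: a family meeting every conjugacy class of subgroups of `S` in a fully
normalized member is a conjugation family.
-/

namespace CfsgLib.Techniques

open Subgroup

variable {G : Type*} [Group G] {p : ℕ}

/-- The conjugation `a ↦ g⁻¹ a g` of `A` is a composite of conjugations by elements normalizing
members of `𝓕` containing the current image of `A`. -/
inductive ConjPath (𝓕 : Set (Subgroup G)) : Set G → G → Prop
  | one (A : Set G) : ConjPath 𝓕 A 1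
  | step (A : Set G) (T : Subgroup G) (x g : G) (hT : T ∈ 𝓕)
      (hx : x ∈ Subgroup.normalizer (T : Set G)) (hA : A ⊆ (T : Set G))
      (hg : ConjPath 𝓕 ((fun a => x⁻¹ * a * x) '' A) g) : ConjPath 𝓕 A (x * g)

theorem ConjPath.mono {𝓕 : Set (Subgroup G)} {A : Set G} {g : G} (h : ConjPath 𝓕 A g) :
    ∀ B ⊆ A, ConjPath 𝓕 B g := by
  induction h with
  | one A => exact fun B _ => .one B
  | step A T x g hT hx hA _ ih =>
      exact fun B hB => .step B T x g hT hx (hB.trans hA) (ih _ (Set.image_mono hB))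

theorem ConjPath.trans {𝓕 : Set (Subgroup G)} {A : Set G} {g : G} (h : ConjPath 𝓕 A g) :
    ∀ {k : G}, ConjPath 𝓕 ((fun a => g⁻¹ * a * g) '' A) k → ConjPath 𝓕 A (g * k) := by
  induction h with
  | one A =>
      intro k hk
      rw [one_mul]
      exact hk.mono _ (fun a ha => ⟨a, ha, by simp⟩)
  | step A T x g hT hx hA _ ih =>
      intro k hk
      rw [mul_assoc]
      refine .step A T x (g * k) hT hx hA (ih ?_)
      rw [Set.image_image]
      simpa [mul_assoc] using hk

theorem ConjPath.single {𝓕 : Set (Subgroup G)} {A : Set G} {T : Subgroup G} {x : G} (hT : T ∈ 𝓕)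
    (hx : x ∈ Subgroup.normalizer (T : Set G)) (hA : A ⊆ (T : Set G)) : ConjPath 𝓕 A x := by
  have h := ConjPath.step A T x 1 hT hx hA (.one _)
  rwa [mul_one] at h

/-- The list form of a path. -/
theorem ConjPath.exists_fin {𝓕 : Set (Subgroup G)} {A : Set G} {g : G} (h : ConjPath 𝓕 A g) :
    ∃ (n : ℕ) (T : Fin n → Subgroup G) (x : Fin n → G), (List.ofFn x).prod = g ∧
      (∀ i, T i ∈ 𝓕) ∧ (∀ i, x i ∈ Subgroup.normalizer ((T i : Subgroup G) : Set G)) ∧
      ∀ i : Fin n, (fun a => (((List.ofFn x).take i.val).prod)⁻¹ * a *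
        ((List.ofFn x).take i.val).prod) '' A ⊆ (T i : Set G) := by
  induction h with
  | one A => exact ⟨0, Fin.elim0, Fin.elim0, by simp, fun i => i.elim0, fun i => i.elim0,
      fun i => i.elim0⟩
  | step A T₀ x₀ g hT hx hA _ ih =>
      obtain ⟨n, T, x, h1, h2, h3, h4⟩ := ih
      refine ⟨n + 1, Fin.cons T₀ T, Fin.cons x₀ x, ?_, ?_, ?_, ?_⟩
      · simp [List.ofFn_succ, h1]
      · intro i; induction i using Fin.cases with
        | zero => simpa using hT
        | succ j => simpa using h2 j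
      · intro i; induction i using Fin.cases with
        | zero => simpa using hx
        | succ j => simpa using h3 j
      · intro i; induction i using Fin.cases with
        | zero => simpa using hA
        | succ j =>
          have := h4 j
          rw [Set.image_image] at this
          simpa [List.ofFn_succ, mul_assoc] using this

theorem ConjPath.of_fin {𝓕 : Set (Subgroup G)} :
    ∀ (n : ℕ) (A : Set G) (T : Fin n → Subgroup G) (x : Fin n → G), (∀ i, T i ∈ 𝓕) →
      (∀ i, x i ∈ Subgroup.normalizer ((T i : Subgroup G) : Set G)) →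
      (∀ h : 0 < n, A ⊆ T ⟨0, h⟩) →
      (∀ (i : Fin n) (h : i.val + 1 < n),
        (fun a => (((List.ofFn x).take (i.val + 1)).prod)⁻¹ * a *
          ((List.ofFn x).take (i.val + 1)).prod) '' A ⊆ T ⟨i.val + 1, h⟩) →
      ConjPath 𝓕 A (List.ofFn x).prod := by
  intro n
  induction n with
  | zero => intro A T x _ _ _ _; simpa using ConjPath.one (𝓕 := 𝓕) A
  | succ n ih =>
      intro A T x hT hx h0 hstep
      rw [List.ofFn_succ, List.prod_cons]
      refine .step A (T 0) (x 0) _ (hT 0) (hx 0) (h0 (Nat.succ_pos _))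
        (ih _ (fun i => T i.succ) (fun i => x i.succ) (fun i => hT _) (fun i => hx _) ?_ ?_)
      · intro h
        have := hstep 0 (by simpa using h)
        simpa [List.ofFn_succ] using this
      · intro i h
        have := hstep i.succ (by simpa using h)
        rw [Set.image_image]
        simpa [List.ofFn_succ, mul_assoc] using this

theorem isConjugationFamily_iff {𝓕 : Set (Subgroup G)} {S : Subgroup G} :
    Cfsg.IsConjugationFamily 𝓕 S ↔ (∀ T ∈ 𝓕, T ≤ S) ∧
      ∀ (A : Set G) (g : G), A.Nonempty → A ⊆ S → (fun a => g⁻¹ * a * g) '' A ⊆ S →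
        ConjPath 𝓕 A g := by
  constructor
  · rintro ⟨h1, h2⟩
    refine ⟨h1, fun A g hne hA hAg => ?_⟩
    obtain ⟨n, T, x, hprod, hT, hx, h0, hs⟩ := h2 A g hne hA hAg
    rw [← hprod]
    exact ConjPath.of_fin n A T x hT hx h0 hs
  · rintro ⟨h1, h2⟩
    refine ⟨h1, fun A g hne hA hAg => ?_⟩
    obtain ⟨n, T, x, hprod, hT, hx, h4⟩ := (h2 A g hne hA hAg).exists_fin
    refine ⟨n, T, x, hprod, hT, hx, fun h => ?_, fun i h => h4 ⟨i.val + 1, h⟩⟩
    simpa using h4 ⟨0, h⟩

variable [Finite G] [Fact p.Prime]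

/-- A family meeting every class in a fully normalized member gives all fusion in `S`. -/
theorem conjPath_of_fullyNormalized (S : Sylow p G) {𝓕 : Set (Subgroup G)}
    (h𝓕 : ∀ U ∈ 𝓕, U ≤ (S : Subgroup G))
    (h : ∀ T : Subgroup G, T ≤ (S : Subgroup G) → ∃ U ∈ 𝓕,
      (∃ g : G, T.map (MulAut.conj g).toMonoidHom = U) ∧ IsFullyNormalized p (S : Subgroup G) U) :
    ∀ (D : Subgroup G), D ≤ (S : Subgroup G) → ∀ g : G,
      D.map (MulAut.conj g⁻¹).toMonoidHom ≤ (S : Subgroup G) → ConjPath 𝓕 (D : Set G) g := by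
  intro D
  induction hn : Nat.card (S : Subgroup G) - Nat.card D using Nat.strong_induction_on
    generalizing D with
  | _ n ih => ?_
  subst hn
  intro hD g hg
  have IH : ∀ D' : Subgroup G, Nat.card D < Nat.card D' → D' ≤ (S : Subgroup G) → ∀ g : G,
      D'.map (MulAut.conj g⁻¹).toMonoidHom ≤ (S : Subgroup G) → ConjPath 𝓕 (D' : Set G) g :=
    fun D' hlt hD' => ih _ (by have := Subgroup.card_le_of_le hD'; omega) D' rfl hD'
  obtain ⟨U, hU, ⟨a₀, ha₀⟩, hfull⟩ := h D hD
  rcases eq_or_lt_of_le hD with rfl | hlt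
  · have hUS : U = (S : Subgroup G) :=
      Subgroup.eq_of_le_of_card_ge (h𝓕 U hU) (by rw [← ha₀, card_map_conj])
    subst hUS
    refine ConjPath.single hU (inv_inv g ▸ inv_mem (mem_normalizer_of_map_conj_eq ?_)) le_rfl
    exact Subgroup.eq_of_le_of_card_ge hg (by rw [card_map_conj])
  set E := D.map (MulAut.conj g⁻¹).toMonoidHom with hE
  have hb₀ : E.map (MulAut.conj (a₀ * g)).toMonoidHom = U := by
    rw [hE, map_conj_conj, mul_inv_cancel_right, ha₀]
  obtain ⟨m, -, haU, haN⟩ := hfull.exists_correct S.2 ha₀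
  obtain ⟨m', -, hbU, hbN⟩ := hfull.exists_correct S.2 hb₀
  set a := m * a₀
  set b := m' * (a₀ * g)
  set n := a * g * b⁻¹ with hn
  have hnU : n ∈ Subgroup.normalizer (U : Set G) := by
    refine inv_inv n ▸ inv_mem (mem_normalizer_of_map_conj_eq ?_)
    have e : n⁻¹ = b * g⁻¹ * a⁻¹ := by rw [hn]; group
    rw [e, ← map_conj_conj, ← haU, map_conj_inv_conj, ← map_conj_conj, ← hE, hbU, haU]
  have hElt : E < (S : Subgroup G) := lt_of_le_of_ne hg fun he => by
    have := card_map_conj D g⁻¹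
    rw [← hE, he] at this
    exact hlt.ne (Subgroup.eq_of_le_of_card_ge hlt.le this.le)
  -- first leg
  have p1 : ConjPath 𝓕 (D : Set G) a⁻¹ := by
    refine (IH _ (CfsgLib.Transfer.card_lt_of_lt (CfsgLib.Transfer.lt_inf_normalizer S.2 hlt))
      inf_le_left a⁻¹ ?_).mono _ (SetLike.coe_subset_coe.mpr (le_inf hD le_normalizer))
    rw [inv_inv]
    exact haN.trans inf_le_left
  -- middle step
  have p2 : ConjPath 𝓕 (D : Set G) (a⁻¹ * n) := by
    refine p1.trans (ConjPath.single hU hnU ?_)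
    rintro _ ⟨d, hd, rfl⟩
    rw [← haU]
    exact ⟨d, hd, by simp [MulAut.conj_apply]⟩
  -- last leg
  have hbig : Nat.card D <
      Nat.card (((S : Subgroup G) ⊓ Subgroup.normalizer (E : Set G)).map
        (MulAut.conj b).toMonoidHom : Subgroup G) := by
    rw [card_map_conj, ← card_map_conj D g⁻¹]
    exact CfsgLib.Transfer.card_lt_of_lt (CfsgLib.Transfer.lt_inf_normalizer S.2 hElt)
  have p3 := IH _ hbig (hbN.trans inf_le_left) b (by rw [map_conj_inv_conj]; exact inf_le_left)
  have e : g = a⁻¹ * n * b := by rw [hn]; group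
  rw [e]
  refine p2.trans (p3.mono _ ?_)
  rintro _ ⟨d, hd, rfl⟩
  refine ⟨g⁻¹ * d * g, le_inf hg le_normalizer ⟨d, hd, by simp [MulAut.conj_apply]⟩, ?_⟩
  simp [MulAut.conj_apply, hn, mul_assoc]

theorem isConjugationFamily_of_fullyNormalized (S : Sylow p G) {𝓕 : Set (Subgroup G)}
    (h𝓕 : ∀ U ∈ 𝓕, U ≤ (S : Subgroup G))
    (h : ∀ T : Subgroup G, T ≤ (S : Subgroup G) → ∃ U ∈ 𝓕,
      (∃ g : G, T.map (MulAut.conj g).toMonoidHom = U) ∧ IsFullyNormalized p (S : Subgroup G) U) :
    Cfsg.IsConjugationFamily 𝓕 (S : Subgroup G) := by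
  rw [isConjugationFamily_iff]
  refine ⟨h𝓕, fun A g _ hA hAg => ?_⟩
  refine (conjPath_of_fullyNormalized S h𝓕 h (Subgroup.closure A)
    ((Subgroup.closure_le _).mpr hA) g ?_).mono _ Subgroup.subset_closure
  rw [Subgroup.map_le_iff_le_comap, Subgroup.closure_le]
  intro a ha
  simpa [MulAut.conj_apply] using hAg ⟨a, ha, rfl⟩

theorem isConjugationFamily_wellPlaced (S : Sylow p G) {W : Subgroup G → Subgroup G}
    (hW : Cfsg.IsConjugacyFunctor p W) :
    Cfsg.IsConjugationFamily {T : Subgroup G | Cfsg.IsWellPlaced p W (S : Subgroup G) T}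
      (S : Subgroup G) :=
  isConjugationFamily_of_fullyNormalized S (fun _ hU => hU.1) fun _ hT => by
    obtain ⟨g, hg⟩ := exists_wellPlaced S hW hT
    exact ⟨_, hg, ⟨g, rfl⟩, hg.2 0⟩

end CfsgLib.Techniques
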