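import Cfsg.Agent.Lib.PGroups.Basic
import Cfsg.Agent.Lib.LocalEvenB.RankOne
import Cfsg.Agent.Lib.Signalizer.OrderFormula

/-!
A normal subgroup of a `2`-group containing no four-subgroup normal in the whole group has a cyclic
subgroup which is the centralizer of one of its elements of order four.
-/

set_option autoImplicit false

namespace CfsgLib.Techniques

open Subgroup

variable {P : Type*} [Group P]

theorem eq_or_eq_inv_of_order_four [Finite P] {a a0 y : P} (h0 : a0 ∈ zpowers a) (hy : y ∈ zpowers a)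
    (ho : orderOf a0 = 4) (ho' : orderOf y = 4) : y = a0 ∨ y = a0⁻¹ := by
  have hz : zpowers y = zpowers a0 := by
    classical
    haveI := Fintype.ofFinite (zpowers a)
    refine eq_of_le_of_card_ge (zpowers_le.2 ?_) (by rw [Nat.card_zpowers, Nat.card_zpowers, ho, ho'])
    have hsub : Finset.univ.filter (fun r => r ∈ zpowers (⟨a0, h0⟩ : zpowers a)) ⊆
        Finset.univ.filter (fun r : zpowers a => r ^ 4 = 1) := by
      intro r hr
      simp only [Finset.mem_filter, Finset.mem_univ, true_and] at hr ⊢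
      obtain ⟨k, rfl⟩ := mem_zpowers_iff.1 hr
      rw [← zpow_natCast, ← zpow_mul, mul_comm, zpow_mul, zpow_natCast]
      rw [show (⟨a0, h0⟩ : zpowers a) ^ 4 = 1 from Subtype.ext (by
        rw [coe_pow, coe_one]; exact ho ▸ pow_orderOf_eq_one a0), one_zpow]
    have heq := Finset.eq_of_subset_of_card_le hsub ((IsCyclic.card_pow_eq_one_le (by norm_num)).trans (by
      rw [← Fintype.card_subtype, ← Nat.card_eq_fintype_card]
      exact le_of_eq (by rw [Nat.card_zpowers, Subgroup.orderOf_mk, ho])))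
    have hmem : (⟨y, hy⟩ : zpowers a) ∈ Finset.univ.filter (fun r : zpowers a => r ^ 4 = 1) := by
      simp only [Finset.mem_filter, Finset.mem_univ, true_and]
      exact Subtype.ext (by rw [coe_pow, coe_one]; exact ho' ▸ pow_orderOf_eq_one y)
    rw [← heq] at hmem
    simp only [Finset.mem_filter, Finset.mem_univ, true_and] at hmem
    obtain ⟨k, hk⟩ := mem_zpowers_iff.1 hmem
    exact mem_zpowers_iff.2 ⟨k, congrArg Subtype.val hk⟩
  classical
  obtain ⟨i, hi, hiy⟩ := Finset.mem_image.1 ((mem_zpowers_iff_mem_range_orderOf (x := a0)).1 (hz ▸ mem_zpowers y))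
  rw [Finset.mem_range, ho] at hi
  interval_cases i
  · simp only [pow_zero] at hiy
    rw [← hiy, orderOf_one] at ho'; omega
  · exact Or.inl (by rw [← hiy, pow_one])
  · exfalso
    have : y ^ 2 = 1 := by rw [← hiy, ← pow_mul, show 2 * 2 = 4 by rfl, ← ho, pow_orderOf_eq_one]
    have := orderOf_dvd_of_pow_eq_one this
    rw [ho'] at this
    norm_num at this
  · exact Or.inr (by
      rw [← hiy, eq_inv_iff_mul_eq_one, ← pow_succ, show 3 + 1 = orderOf a0 from ho.symm, pow_orderOf_eq_one])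

/-- In a `2`-element of order at least four, the subgroup of order four. -/
theorem exists_order_four [Finite P] (hP : IsPGroup 2 P) {y : P} (hy : y * y ≠ 1) :
    ∃ b ∈ zpowers y, orderOf b = 4 := by
  haveI : Fact (Nat.Prime 2) := ⟨Nat.prime_two⟩
  obtain ⟨m, hm⟩ := IsPGroup.iff_orderOf.1 hP y
  have hm2 : 2 ≤ m := by
    by_contra h
    refine hy ?_
    rw [← sq]
    exact orderOf_dvd_iff_pow_eq_one.1 (hm ▸ pow_dvd_pow 2 (show m ≤ 1 by omega))
  refine ⟨y ^ 2 ^ (m - 2), npow_mem_zpowers y _, ?_⟩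
  rw [orderOf_pow_of_dvd (by positivity) (hm ▸ pow_dvd_pow 2 (by omega)), hm,
    Nat.pow_div (by omega) (by norm_num), show m - (m - 2) = 2 by omega]
  

theorem exists_four_element [Finite P] (hP : IsPGroup 2 P) (S : Subgroup P) [S.Normal]
    (hno : ∀ z ∈ S, ∀ t ∈ S, z * z = 1 → t * t = 1 → z ≠ 1 → t ≠ 1 → t ≠ z → z ∈ center P →
      (∀ p : P, p * t * p⁻¹ = t ∨ p * t * p⁻¹ = t * z) → False)
    (hrk : ∃ s ∈ S, ∃ t ∈ S, s * s = 1 ∧ t * t = 1 ∧ s ≠ 1 ∧ t ≠ 1 ∧ s ≠ t) :
    ∃ a ∈ S, ∃ a0 ∈ zpowers a, orderOf a0 = 4 ∧ (∀ p : P, p * a0 * p⁻¹ = a0 ∨ p * a0 * p⁻¹ = a0⁻¹) ∧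
      ∀ x ∈ S, x * a0 = a0 * x → x ∈ zpowers a := by
  classical
  haveI : Fact (Nat.Prime 2) := ⟨Nat.prime_two⟩
  haveI : Nonempty {B : Subgroup P // B ≤ S ∧ B.Normal ∧ IsMulCommutative B} :=
    ⟨⟨⊥, bot_le, inferInstance, inferInstance⟩⟩
  obtain ⟨⟨A, hAS, hAn, hAc⟩, hmax⟩ := Finite.exists_max
    fun B : {B : Subgroup P // B ≤ S ∧ B.Normal ∧ IsMulCommutative B} => Nat.card B.1
  haveI := hAn; haveI := hAc
  have hAA : A ≤ centralizer (A : Set P) := le_centralizer_iff_isMulCommutative.2 hAc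
  -- `A` is self-centralizing in `S`
  have hCA : S ⊓ centralizer (A : Set P) ≤ A := by
    by_contra hle
    let π := QuotientGroup.mk' A
    set C := S ⊓ centralizer (A : Set P)
    haveI : (C.map π).Normal := Subgroup.Normal.map inferInstance π (QuotientGroup.mk'_surjective A)
    have hb : C.map π ≠ ⊥ := by rwa [Ne, Subgroup.map_eq_bot_iff, QuotientGroup.ker_mk']
    have h1 := CfsgLib.PGroups.inf_center_ne_bot (hP.to_quotient A) hb
    rw [Ne, eq_bot_iff_forall] at h1
    push Not at h1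
    obtain ⟨x, ⟨⟨c, ⟨hcS, hcA⟩, rfl⟩, hz⟩, hx⟩ := h1
    have hn : ((zpowers (π c)).comap π).Normal :=
      Subgroup.Normal.comap ⟨fun y hy g => by
        rwa [mem_center_iff.mp ((zpowers_le.mpr hz) hy) g, mul_inv_cancel_right]⟩ π
    have heq : (zpowers (π c)).comap π = A ⊔ zpowers c := by
      rw [← MonoidHom.map_zpowers, comap_map_eq, QuotientGroup.ker_mk', sup_comm]
    have hab : IsMulCommutative ↥(A ⊔ zpowers c) := by
      rw [← le_centralizer_iff_isMulCommutative]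
      refine sup_le (le_centralizer_iff.1 (sup_le hAA (zpowers_le.2 hcA))) (le_centralizer_iff.1
        (sup_le (le_centralizer_iff.1 (zpowers_le.2 hcA)) (le_centralizer_iff_isMulCommutative.2 inferInstance)))
    have hle' := hmax ⟨A ⊔ zpowers c, sup_le hAS (zpowers_le.2 hcS), heq ▸ hn, hab⟩
    have hcA' : c ∈ A := by
      have h := eq_of_le_of_card_ge (le_sup_left : A ≤ A ⊔ zpowers c) hle'
      exact h.ge (mem_sup_right (mem_zpowers c))
    exact hx ((QuotientGroup.eq_one_iff c).2 hcA')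
  have hcl : ∀ x ∈ A, ∀ y ∈ A, x * y = y * x := fun x hx y hy => mem_centralizer_iff.1 (hAA hy) x hx
  -- `A` is cyclic
  have hAcyc : IsCyclic A := by
    letI : CommGroup A := { (inferInstance : Group A) with mul_comm := fun x y => Subtype.ext (hcl _ x.2 _ y.2) }
    refine CfsgLib.LocalEvenB.isCyclic_of_commGroup_rank_one (p := 2) (hP.to_subgroup A) fun E _ hE2 => ?_
    by_contra hE
    rw [pow_one, not_le] at hE
    let Ω : Subgroup P :=
      { carrier := {x | x ∈ A ∧ x * x = 1}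
        one_mem' := ⟨one_mem A, one_mul 1⟩
        mul_mem' := fun {x y} hx hy => ⟨mul_mem hx.1 hy.1, by
          rw [mul_assoc, ← mul_assoc y, hcl _ hy.1 _ hx.1, mul_assoc x y y, hy.2, mul_one, hx.2]⟩
        inv_mem' := fun {x} hx => ⟨inv_mem hx.1, by rw [← mul_inv_rev, hx.2, inv_one]⟩ }
    haveI : Ω.Normal := ⟨fun x hx g => ⟨hAn.conj_mem x hx.1 g, by
      rw [show g * x * g⁻¹ * (g * x * g⁻¹) = g * (x * x) * g⁻¹ by group, hx.2, mul_one, mul_inv_cancel]⟩⟩
    have hcard : 2 < Nat.card Ω := hE.trans_le (Nat.card_le_card_of_injective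
      (fun e : E => (⟨((e : A) : P), (e : A).2, by rw [← sq]; exact congrArg Subtype.val (hE2 _ e.2)⟩ : Ω))
      fun e e' h => Subtype.ext (Subtype.ext (congrArg (fun v : Ω => (v : P)) h)))
    have hne : Ω ≠ ⊥ := fun h => by rw [h, Subgroup.card_bot] at hcard; omega
    have h1 := CfsgLib.PGroups.inf_center_ne_bot hP hne
    rw [Ne, eq_bot_iff_forall] at h1
    push Not at h1
    obtain ⟨z, ⟨hzΩ, hzc⟩, hz1⟩ := h1
    haveI : (zpowers z).Normal := ⟨fun y hy g => by
      rwa [mem_center_iff.1 ((zpowers_le.2 hzc) hy) g, mul_inv_cancel_right]⟩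
    let π := QuotientGroup.mk' (zpowers z)
    haveI : (Ω.map π).Normal := Subgroup.Normal.map inferInstance π (QuotientGroup.mk'_surjective _)
    have hzo : orderOf z = 2 := orderOf_eq_prime (by rw [sq]; exact hzΩ.2) hz1
    have hb : Ω.map π ≠ ⊥ := by
      rw [Ne, Subgroup.map_eq_bot_iff, QuotientGroup.ker_mk']
      intro h
      have := Subgroup.card_le_of_le h
      rw [Nat.card_zpowers, hzo] at this
      omega
    have h2 := CfsgLib.PGroups.inf_center_ne_bot (hP.to_quotient (zpowers z)) hb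
    rw [Ne, eq_bot_iff_forall] at h2
    push Not at h2
    obtain ⟨x, ⟨⟨t, htΩ, rfl⟩, hxc⟩, hx1⟩ := h2
    have hzz : zpowers z ≤ Ω := zpowers_le.2 hzΩ
    refine hno z (hAS hzΩ.1) t (hAS htΩ.1) hzΩ.2 htΩ.2 hz1
      (fun h => hx1 (by rw [h, map_one])) (fun h => hx1 ((QuotientGroup.eq_one_iff t).2 (h ▸ mem_zpowers z)))
      hzc fun p => ?_
    have h3 : π (p * t * p⁻¹) = π t := by
      rw [map_mul, map_mul, map_inv, mem_center_iff.1 hxc (π p), mul_inv_cancel_right]
    obtain ⟨i, hi, hie⟩ := Finset.mem_image.1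
      ((mem_zpowers_iff_mem_range_orderOf (x := z)).1 ((QuotientGroup.eq (s := zpowers z)).1 h3.symm))
    rw [Finset.mem_range, hzo] at hi
    interval_cases i
    · rw [pow_zero, eq_comm, inv_mul_eq_one] at hie; exact Or.inl hie.symm
    · rw [pow_one, eq_inv_mul_iff_mul_eq] at hie; exact Or.inr hie.symm
  obtain ⟨⟨a, haA⟩, hgen⟩ := hAcyc.exists_generator
  have hAeq : A = zpowers a := le_antisymm (fun x hx => by
    obtain ⟨i, hi⟩ := mem_zpowers_iff.1 (hgen ⟨x, hx⟩)
    exact mem_zpowers_iff.2 ⟨i, congrArg Subtype.val hi⟩) (zpowers_le.2 haA)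
  -- `|A| ≥ 4`
  have haa : a * a ≠ 1 := by
    intro haa
    have hAc : A ≤ center P := by
      by_cases ha1 : a = 1
      · rw [hAeq, ha1, zpowers_one_eq_bot]; exact bot_le
      · have hne : A ≠ ⊥ := fun h => ha1 (by rw [← mem_bot, ← h]; exact haA)
        have h1 := CfsgLib.PGroups.inf_center_ne_bot hP hne
        rw [Ne, eq_bot_iff_forall] at h1
        push Not at h1
        obtain ⟨y, ⟨hyA, hyc⟩, hy1⟩ := h1
        rw [hAeq] at hyA ⊢
        obtain ⟨i, hi, rfl⟩ := Finset.mem_image.1 ((mem_zpowers_iff_mem_range_orderOf (x := a)).1 hyA)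
        rw [Finset.mem_range, orderOf_eq_prime (by rwa [sq]) ha1] at hi
        interval_cases i
        · exact absurd (pow_zero a) hy1
        · rw [pow_one] at hyc; exact zpowers_le.2 hyc
    have hS : S ≤ A := fun x hx => hCA ⟨hx, mem_centralizer_iff.2 fun y hy => (mem_center_iff.1 (hAc hy) x).symm⟩
    obtain ⟨s, hs, t, ht, hss, htt, hs1, ht1, hst⟩ := hrk
    have key : ∀ y ∈ S, y ≠ 1 → y = a := by
      intro y hy hy1
      have hy' := hS hy
      rw [hAeq] at hy'
      obtain ⟨i, hi, rfl⟩ := Finset.mem_image.1 ((mem_zpowers_iff_mem_range_orderOf (x := a)).1 hy')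
      by_cases ha1 : a = 1
      · exact absurd (by rw [ha1, one_pow]) hy1
      · rw [Finset.mem_range, orderOf_eq_prime (by rwa [sq]) ha1] at hi
        interval_cases i
        · exact absurd (pow_zero a) hy1
        · exact pow_one a
    exact hst ((key s hs hs1).trans (key t ht ht1).symm)
  obtain ⟨a0, ha0, ho⟩ := exists_order_four hP haa
  have hpa : ∀ p : P, ∀ y ∈ zpowers a, p * y * p⁻¹ ∈ zpowers a := fun p y hy => by
    rw [← hAeq] at hy ⊢; exact hAn.conj_mem y hy p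
  have ha0p : ∀ p : P, p * a0 * p⁻¹ = a0 ∨ p * a0 * p⁻¹ = a0⁻¹ := fun p =>
    eq_or_eq_inv_of_order_four ha0 (hpa p a0 ha0) ho (by
      rw [show p * a0 * p⁻¹ = MulAut.conj p a0 from rfl]
      exact ((MulAut.conj p).orderOf_eq a0).trans ho)
  refine ⟨a, hAS haA, a0, ha0, ho, ha0p, ?_⟩
  set z := a0 * a0 with hz
  have hzz : z * z = 1 := by
    rw [hz, show a0 * a0 * (a0 * a0) = a0 ^ 4 by rw [← sq, ← sq, ← pow_mul], ← ho, pow_orderOf_eq_one]
  have hz1 : z ≠ 1 := fun h => by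
    have := orderOf_dvd_of_pow_eq_one ((sq a0).trans h)
    rw [ho] at this
    norm_num at this
  have hzA : z ∈ A := by rw [hAeq]; exact mul_mem ha0 ha0
  have hzc : z ∈ center P := mem_center_iff.2 fun p => by
    rw [← mul_inv_eq_iff_eq_mul, hz, show p * (a0 * a0) * p⁻¹ = (p * a0 * p⁻¹) * (p * a0 * p⁻¹) by group]
    rcases ha0p p with h | h <;> rw [h]
    rw [← mul_inv_rev]; exact inv_eq_of_mul_eq_one_right hzz
  have huniq : ∀ c ∈ A, c * c = 1 → c ≠ 1 → c = z := fun c hc hcc hc1 => by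
    rw [hAeq] at hc hzA
    exact CfsgLib.Signalizer.unique_involution_in_zpowers hc hzA (orderOf_eq_prime (by rwa [sq]) hc1)
      (orderOf_eq_prime (by rwa [sq]) hz1)
  -- an element fixing `a0` and inverting an element of `A` of order at least four
  have hinv : ∀ b c : P, b * a0 = a0 * b → c ∈ A → b * c * b⁻¹ = c⁻¹ → c * c = 1 := by
    intro b c hb hc hbc
    by_contra hcc
    obtain ⟨d, hd, hdo⟩ := exists_order_four hP hcc
    obtain ⟨i, rfl⟩ := mem_zpowers_iff.1 hd
    have hd' : c ^ i ∈ zpowers a := hAeq ▸ A.zpow_mem hc i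
    have h2 : b * c ^ i * b⁻¹ = (c ^ i)⁻¹ := by rw [← conj_zpow, hbc, inv_zpow]
    have h3 : b * a0 * b⁻¹ = a0 := by rw [hb, mul_inv_cancel_right]
    refine hz1 ?_
    rcases eq_or_eq_inv_of_order_four ha0 hd' ho hdo with e | e <;> rw [e] at h2
    · rw [h3] at h2; rw [hz]; exact mul_eq_one_iff_eq_inv.2 h2
    · rw [inv_inv, ← conj_inv, h3] at h2; rw [hz]; exact mul_eq_one_iff_eq_inv.2 h2.symm
  intro x hx hxa0
  rw [← hAeq]
  by_contra hxA
  have hex : ∃ i, x ^ 2 ^ i ∈ A := by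
    obtain ⟨i, hi⟩ := hP x; exact ⟨i, hi ▸ one_mem A⟩
  obtain ⟨i, hi⟩ : ∃ i, Nat.find hex = i + 1 := ⟨Nat.find hex - 1, by
    have : Nat.find hex ≠ 0 := fun h => hxA (by simpa [h] using Nat.find_spec hex)
    omega⟩
  set b := x ^ 2 ^ i with hb
  have hbA : b ∉ A := Nat.find_min hex (by omega)
  have hbS : b ∈ S := pow_mem hx _
  have hbb : b * b ∈ A := by
    have := Nat.find_spec hex
    rw [hi, pow_succ, pow_mul, sq] at this
    exact this
  have hba0 : b * a0 = a0 * b := (((show Commute x a0 from hxa0)).pow_left _).eq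
  set c := a⁻¹ * (b * a * b⁻¹) with hc
  have hcA : c ∈ A := mul_mem (inv_mem haA) (hAn.conj_mem a haA b)
  have hac : b * a * b⁻¹ = a * c := by rw [hc, mul_inv_cancel_left]
  have hbc : b * c * b⁻¹ = c⁻¹ := by
    have h2 : b * b * a * (b * b)⁻¹ = a := by rw [hcl _ hbb _ haA, mul_inv_cancel_right]
    rw [show b * b * a * (b * b)⁻¹ = b * (b * a * b⁻¹) * b⁻¹ by group, hac,
      show b * (a * c) * b⁻¹ = (b * a * b⁻¹) * (b * c * b⁻¹) by group, hac, mul_assoc] at h2
    exact eq_inv_of_mul_eq_one_right (mul_eq_left.1 h2)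
  have hcz : c = z := by
    refine huniq c hcA (hinv b c hba0 hcA hbc) fun h => hbA (hCA ⟨hbS, mem_centralizer_iff.2 fun y hy => ?_⟩)
    rw [SetLike.mem_coe, hAeq] at hy
    obtain ⟨j, rfl⟩ := mem_zpowers_iff.1 hy
    rw [h, mul_one] at hac
    exact ((show Commute b a from mul_inv_eq_iff_eq_mul.1 hac).zpow_right j).eq.symm
  rw [hcz] at hac
  have hconj : ∀ m : ℤ, b * a ^ m * b⁻¹ = a ^ m * z ^ m := fun m => by
    rw [← conj_zpow, hac]
    exact (show Commute a z from hcl _ haA _ hzA).mul_zpow m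
  -- an involution in `bA`
  obtain ⟨t, htA, htt, hta⟩ : ∃ t, b⁻¹ * t ∈ A ∧ t * t = 1 ∧ t * a * t⁻¹ = a * z := by
    obtain ⟨l, hl⟩ := mem_zpowers_iff.1 (show b * b ∈ zpowers a from hAeq ▸ hbb)
    have hev : z ^ l = 1 := by
      have h := hconj l
      rw [hl, show b * (b * b) * b⁻¹ = b * b by group] at h
      exact mul_eq_left.1 h.symm
    have hle : Even l := by
      rcases Int.even_or_odd l with he | ⟨m, hm⟩
      · exact he
      · rw [hm, zpow_add, zpow_mul, show z ^ (2 : ℤ) = 1 by rw [zpow_two, hzz], one_zpow, one_mul, zpow_one] at hev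
        exact absurd hev hz1
    obtain ⟨m, rfl⟩ := hle
    have hAconj : ∀ d ∈ A, b * d * a * (b * d)⁻¹ = a * z := fun d hd => by
      rw [show b * d * a * (b * d)⁻¹ = b * (d * a * d⁻¹) * b⁻¹ by group, hcl _ hd _ haA, mul_inv_cancel_right, hac]
    have ht1 : b * a ^ (-m) * (b * a ^ (-m)) = z ^ (-m) := by
      calc b * a ^ (-m) * (b * a ^ (-m)) = (b * a ^ (-m) * b⁻¹) * (b * b) * a ^ (-m) := by group
        _ = a ^ (-m) * z ^ (-m) * a ^ (m + m) * a ^ (-m) := by rw [hconj, hl]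
        _ = z ^ (-m) * (a ^ (-m) * a ^ (m + m) * a ^ (-m)) := by
            rw [hcl _ (A.zpow_mem haA (-m)) _ (A.zpow_mem hzA (-m))]; group
        _ = z ^ (-m) := by rw [← zpow_add, ← zpow_add]; simp
    rcases Int.even_or_odd (-m) with ⟨q, hq⟩ | ⟨q, hq⟩
    · refine ⟨b * a ^ (-m), by rw [inv_mul_cancel_left]; exact A.zpow_mem haA _, ?_, hAconj _ (A.zpow_mem haA _)⟩
      rw [ht1, hq, ← two_mul, zpow_mul, zpow_two, hzz, one_zpow]
    · have hd : a ^ (-m) * a0 ∈ A := mul_mem (A.zpow_mem haA _) (hAeq ▸ ha0)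
      refine ⟨b * (a ^ (-m) * a0), by rw [inv_mul_cancel_left]; exact hd, ?_, hAconj _ hd⟩
      have hcm : Commute a0 (b * a ^ (-m)) := (show Commute a0 b from hba0.symm).mul_right
        (hcl _ (hAeq ▸ ha0) _ (A.zpow_mem haA (-m)))
      rw [← mul_assoc b (a ^ (-m)) a0, show b * a ^ (-m) * a0 * (b * a ^ (-m) * a0) =
        b * a ^ (-m) * (a0 * (b * a ^ (-m))) * a0 by group, hcm.eq,
        show b * a ^ (-m) * (b * a ^ (-m) * a0) * a0 = b * a ^ (-m) * (b * a ^ (-m)) * (a0 * a0) by group,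
        ht1, hq, ← hz, zpow_add, zpow_mul, zpow_two, hzz, one_zpow, one_mul, zpow_one, hzz]
  have htS : t ∈ S := by
    have h := mul_mem hbS (hAS htA)
    rwa [mul_inv_cancel_left] at h
  have htnA : t ∉ A := fun h => hbA (by
    have := mul_mem h (inv_mem htA)
    rwa [mul_inv_rev, inv_inv, mul_inv_cancel_left] at this)
  refine hno z (hAS hzA) t htS hzz htt hz1 (fun h => htnA (h ▸ one_mem A)) (fun h => htnA (h ▸ hzA)) hzc fun p => ?_
  set t' := p * t * p⁻¹ with ht'
  set a' := p * a * p⁻¹ with ha'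
  have hgen' : a ∈ zpowers a' := by
    have ho' : orderOf a' = orderOf a := (MulAut.conj p).orderOf_eq a
    have : zpowers a' = zpowers a := eq_of_le_of_card_ge (zpowers_le.2 (hpa p a (mem_zpowers a))) (by
      rw [Nat.card_zpowers, Nat.card_zpowers, ho'])
    rw [this]; exact mem_zpowers a
  have ht'a' : t' * a' * t'⁻¹ = a' * z := by
    rw [ht', ha', show p * t * p⁻¹ * (p * a * p⁻¹) * (p * t * p⁻¹)⁻¹ = p * (t * a * t⁻¹) * p⁻¹ by group, hta,
      show p * (a * z) * p⁻¹ = p * a * p⁻¹ * (p * z * p⁻¹) by group, mem_center_iff.1 hzc p, mul_inv_cancel_right]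
  have htinv : t⁻¹ = t := inv_eq_of_mul_eq_one_right htt
  have hta' : t' * a * t'⁻¹ = a * z := by
    obtain ⟨l, hl⟩ := mem_zpowers_iff.1 hgen'
    have h : t' * a * t'⁻¹ = a * z ^ l := by
      rw [← hl, ← conj_zpow, ht'a', (show Commute a' z from (mem_center_iff.1 hzc a')).mul_zpow l]
    rcases Int.even_or_odd l with ⟨q, hq⟩ | ⟨q, hq⟩
    · exfalso
      rw [hq, ← two_mul, zpow_mul, zpow_two, hzz, one_zpow, mul_one] at h
      refine htnA ?_
      have ht'A : t' ∈ A := hCA ⟨‹S.Normal›.conj_mem t htS p, mem_centralizer_iff.2 fun y hy => by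
        rw [SetLike.mem_coe, hAeq] at hy
        obtain ⟨j, rfl⟩ := mem_zpowers_iff.1 hy
        exact ((show Commute t' a from mul_inv_eq_iff_eq_mul.1 h).zpow_right j).eq.symm⟩
      have := hAn.conj_mem t' ht'A p⁻¹
      rwa [ht', show p⁻¹ * (p * t * p⁻¹) * p⁻¹⁻¹ = t by group] at this
    · rw [h, hq, zpow_add, zpow_mul, zpow_two, hzz, one_zpow, one_mul, zpow_one]
  have he : t * t' ∈ A := hCA ⟨mul_mem htS (‹S.Normal›.conj_mem t htS p), mem_centralizer_iff.2 fun y hy => by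
    rw [SetLike.mem_coe, hAeq] at hy
    obtain ⟨j, rfl⟩ := mem_zpowers_iff.1 hy
    have h1 : t * t' * a * (t * t')⁻¹ = a := by
      rw [show t * t' * a * (t * t')⁻¹ = t * (t' * a * t'⁻¹) * t⁻¹ by group, hta',
        show t * (a * z) * t⁻¹ = t * a * t⁻¹ * (t * z * t⁻¹) by group, hta, mem_center_iff.1 hzc t,
        mul_inv_cancel_right, mul_assoc, hzz, mul_one]
    exact ((show Commute (t * t') a from mul_inv_eq_iff_eq_mul.1 h1).zpow_right j).eq.symm⟩
  set e := t * t' with he'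
  have hte : t' = t * e := by rw [he', ← mul_assoc, htt, one_mul]
  have htet : t * e * t⁻¹ = e⁻¹ := by
    have ht't' : t' * t' = 1 := by
      rw [ht', show p * t * p⁻¹ * (p * t * p⁻¹) = p * (t * t) * p⁻¹ by group, htt, mul_one, mul_inv_cancel]
    rw [hte] at ht't'
    rw [htinv]
    exact eq_inv_of_mul_eq_one_left (by rw [mul_assoc (t * e) t e]; exact ht't')
  have hta0 : t * a0 = a0 * t := by
    have h : b⁻¹ * t * a0 = a0 * (b⁻¹ * t) := hcl _ htA _ (hAeq ▸ ha0)
    calc t * a0 = b * (b⁻¹ * t * a0) := by group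
      _ = b * (a0 * (b⁻¹ * t)) := by rw [h]
      _ = (b * a0) * b⁻¹ * t := by group
      _ = _ := by rw [hba0, mul_inv_cancel_right]
  by_cases he1 : e = 1
  · exact Or.inl (by rw [hte, he1, mul_one])
  · exact Or.inr (by rw [hte, huniq e he (hinv t e hta0 he htet) he1])

end CfsgLib.Techniques
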