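import Cfsg.Prelude.Def_CaseTheorems
import Cfsg.Agent.Lib.Techniques.NoNormalFour
import Cfsg.Agent.Lib.Techniques.Basic
import Cfsg.Agent.Lib.LocalEvenB.SubnormalSylow
import Cfsg.Agent.Lib.Transfer.ThompsonTransfer

/-!
A perfect group acted on by a four-group all of whose involutions have centralizers of `2`-rank one
has `2`-rank one.
-/

set_option autoImplicit false

namespace CfsgLib.Techniques

open Subgroup

theorem exists_two_of_lt_card {X : Type*} [Group X] [Finite X] (E : Subgroup X) (h : 2 < Nat.card E) :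
    ∃ x ∈ E, ∃ y ∈ E, x ≠ 1 ∧ y ≠ 1 ∧ x ≠ y := by
  classical
  haveI := Fintype.ofFinite E
  rw [Nat.card_eq_fintype_card] at h
  obtain ⟨a, b, hab, ha, hb⟩ : ∃ a b : E, a ≠ b ∧ a ≠ 1 ∧ b ≠ 1 := by
    have h1 : 1 < ((Finset.univ : Finset E).erase 1).card := by
      rw [Finset.card_erase_of_mem (Finset.mem_univ _), Finset.card_univ]; omega
    obtain ⟨a, ha, b, hb, hab⟩ := Finset.one_lt_card.1 h1
    exact ⟨a, b, hab, (Finset.mem_erase.1 ha).1, (Finset.mem_erase.1 hb).1⟩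
  exact ⟨a, a.2, b, b.2, fun e => ha (Subtype.ext e), fun e => hb (Subtype.ext e), fun e => hab (Subtype.ext e)⟩

theorem commutatorElement_mem_of_index_two {X : Type*} [Group X] {M : Subgroup X} (hM : M.index = 2) :
    commutator X ≤ M := by
  rw [_root_.commutator_def, Subgroup.commutator_le]
  intro x _ y _
  rw [commutatorElement_def, mul_mem_iff_of_index_two hM, inv_mem_iff, mul_mem_iff_of_index_two hM,
    inv_mem_iff, mul_mem_iff_of_index_two hM]
  tauto

/-- A four-group `U` acts on the perfect normal subgroup `A`. -/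
theorem rank_le_one_of_four_group_top {G : Type*} [Group G] [Finite G] (A U : Subgroup G) [A.Normal]
    (hperf : ⁅A, A⁆ = A) (hU : IsKleinFour U) (hgen : A ⊔ U = ⊤)
    (hrk : ∀ u ∈ U, u ≠ 1 → ∀ x ∈ A, ∀ y ∈ A, x * x = 1 → y * y = 1 → x ≠ 1 → y ≠ 1 → x ≠ y →
      x * y = y * x → u * x = x * u → u * y = y * u → False) :
    Cfsg.PRankLE 2 1 A := by
  classical
  haveI : Fact (Nat.Prime 2) := ⟨Nat.prime_two⟩
  intro E₀ hEc hE2
  by_contra hE
  rw [pow_one, not_le] at hE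
  haveI := hU
  have hU2 : IsPGroup 2 U := IsPGroup.of_card (n := 2) hU.card_four
  have hUuu : ∀ u ∈ U, u * u = 1 := fun u hu => congrArg Subtype.val (IsKleinFour.mul_self (⟨u, hu⟩ : U))
  have hUcomm : ∀ u ∈ U, ∀ v ∈ U, u * v = v * u := fun u hu v hv => by
    have h := hUuu _ (mul_mem hu hv)
    calc u * v = (u * v)⁻¹ := (inv_eq_of_mul_eq_one_right h).symm
      _ = v⁻¹ * u⁻¹ := mul_inv_rev _ _
      _ = v * u := by rw [inv_eq_of_mul_eq_one_right (hUuu v hv), inv_eq_of_mul_eq_one_right (hUuu u hu)]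
  obtain ⟨P, hUP⟩ := hU2.exists_le_sylow
  set S' : Subgroup ↥(P : Subgroup G) := A.subgroupOf (P : Subgroup G) with hS'
  -- two involutions in `S'`
  have hrkS : ∃ s ∈ S', ∃ t ∈ S', s * s = 1 ∧ t * t = 1 ∧ s ≠ 1 ∧ t ≠ 1 ∧ s ≠ t ∧ s * t = t * s := by
    have hE₀p : IsPGroup 2 E₀ := fun e => ⟨1, by rw [pow_one]; exact Subtype.ext (hE2 e e.2)⟩
    obtain ⟨g, hg⟩ := exists_conj_mem_sylow P (hE₀p.map A.subtype)
    obtain ⟨x, hx, y, hy, hx1, hy1, hxy⟩ := exists_two_of_lt_card E₀ hE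
    have hin : ∀ e ∈ E₀, g * (e : G) * g⁻¹ ∈ (P : Subgroup G) := fun e he => hg _ (mem_map_of_mem _ he)
    refine ⟨⟨_, hin x hx⟩, ‹A.Normal›.conj_mem _ x.2 g, ⟨_, hin y hy⟩, ‹A.Normal›.conj_mem _ y.2 g,
      ?_, ?_, ?_, ?_, ?_, ?_⟩
    · refine Subtype.ext ?_
      show g * (x : G) * g⁻¹ * (g * x * g⁻¹) = 1
      rw [show g * (x : G) * g⁻¹ * (g * x * g⁻¹) = g * ((x : G) * x) * g⁻¹ by group, ← sq, ← coe_pow, hE2 x hx]
      simp
    · refine Subtype.ext ?_
      show g * (y : G) * g⁻¹ * (g * y * g⁻¹) = 1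
      rw [show g * (y : G) * g⁻¹ * (g * y * g⁻¹) = g * ((y : G) * y) * g⁻¹ by group, ← sq, ← coe_pow, hE2 y hy]
      simp
    · exact fun e => hx1 (Subtype.ext (conj_eq_one_iff.1 (congrArg Subtype.val e)))
    · exact fun e => hy1 (Subtype.ext (conj_eq_one_iff.1 (congrArg Subtype.val e)))
    · exact fun e => hxy (Subtype.ext (mul_left_cancel (mul_right_cancel (congrArg Subtype.val e))))
    · refine Subtype.ext ?_
      show g * (x : G) * g⁻¹ * (g * y * g⁻¹) = g * y * g⁻¹ * (g * x * g⁻¹)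
      have hc : (x : G) * y = y * x :=
        congrArg (fun v : E₀ => ((v : A) : G)) (hEc.is_comm.comm ⟨x, hx⟩ ⟨y, hy⟩)
      rw [show g * (x : G) * g⁻¹ * (g * y * g⁻¹) = g * ((x : G) * y) * g⁻¹ by group, hc]
      group
  obtain ⟨s₀, hs₀, t₀, ht₀, hs₀2, ht₀2, hs₀1, ht₀1, hst₀, hstc₀⟩ := hrkS
  -- some nontrivial element of `U` lies in any subgroup of index two
  have hUdic : ∀ Q : G → Prop, (∀ u ∈ U, ∀ v ∈ U, ¬ Q u → ¬ Q v → Q (u * v)) →
      ∃ u ∈ U, u ≠ 1 ∧ Q u := by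
    intro Q hQ
    by_contra h
    push Not at h
    obtain ⟨u, hu, v, hv, hu1, hv1, huv⟩ := exists_two_of_lt_card U (by rw [hU.card_four]; norm_num)
    refine h _ (mul_mem hu hv) (fun e => huv ?_) (hQ u hu v hv (h u hu hu1) (h v hv hv1))
    rw [mul_eq_one_iff_eq_inv.1 e, inv_eq_of_mul_eq_one_right (hUuu v hv)]
  obtain ⟨a, haS, a0, ha0, ho, ha0p, hCa0⟩ := exists_four_element P.2 S' (fun z hz t ht hzz htt hz1 ht1 htz hzc htp => by
    obtain ⟨u, hu, hu1, hut⟩ := hUdic (fun u => u * (t : G) = t * u) fun u hu v hv hnu hnv => by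
      have key : ∀ w ∈ U, w * (t : G) ≠ t * w → w * (t : G) * w⁻¹ = t * z := fun w hw hne => by
        rcases htp ⟨w, hUP hw⟩ with h | h
        · exact absurd (mul_inv_eq_iff_eq_mul.1 (congrArg Subtype.val h)) hne
        · exact congrArg Subtype.val h
      have hz' : u * (z : G) * u⁻¹ = z := by
        have h : u * (z : G) = z * u := congrArg Subtype.val (mem_center_iff.1 hzc ⟨u, hUP hu⟩)
        rw [h, mul_inv_cancel_right]
      have h2 : u * v * (t : G) * (u * v)⁻¹ = t := by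
        rw [show u * v * (t : G) * (u * v)⁻¹ = u * (v * t * v⁻¹) * u⁻¹ by group, key v hv hnv,
          show u * ((t : G) * z) * u⁻¹ = u * t * u⁻¹ * (u * z * u⁻¹) by group, key u hu hnu, hz', mul_assoc,
          show (z : G) * z = 1 from congrArg Subtype.val hzz, mul_one]
      exact mul_inv_eq_iff_eq_mul.1 h2
    refine hrk u hu hu1 z hz t ht (congrArg Subtype.val hzz) (congrArg Subtype.val htt)
      (fun e => hz1 (Subtype.ext e)) (fun e => ht1 (Subtype.ext e)) (fun e => htz (Subtype.ext e.symm))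
      (congrArg Subtype.val (mem_center_iff.1 hzc t)).symm
      (congrArg Subtype.val (mem_center_iff.1 hzc ⟨u, hUP hu⟩)) hut)
    ⟨s₀, hs₀, t₀, ht₀, hs₀2, ht₀2, hs₀1, ht₀1, hst₀⟩
  set z := a0 * a0 with hz
  have hzz : z * z = 1 := by
    rw [hz, show a0 * a0 * (a0 * a0) = a0 ^ 4 by rw [← sq, ← sq, ← pow_mul], ← ho, pow_orderOf_eq_one]
  have hz1 : z ≠ 1 := fun h => by
    have := orderOf_dvd_of_pow_eq_one ((sq a0).trans h)
    rw [ho] at this
    norm_num at this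
  have haS' : zpowers a ≤ S' := zpowers_le.2 haS
  have ha0S : a0 ∈ S' := haS' ha0
  have hzS : z ∈ S' := mul_mem ha0S ha0S
  have hzc : ∀ p : ↥(P : Subgroup G), p * z = z * p := fun p => by
    rw [← mul_inv_eq_iff_eq_mul, hz, show p * (a0 * a0) * p⁻¹ = (p * a0 * p⁻¹) * (p * a0 * p⁻¹) by group]
    rcases ha0p p with h | h <;> rw [h]
    rw [← mul_inv_rev]; exact inv_eq_of_mul_eq_one_right hzz
  have huniq : ∀ c ∈ zpowers a, c * c = 1 → c ≠ 1 → c = z := fun c hc hcc hc1 =>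
    CfsgLib.Signalizer.unique_involution_in_zpowers hc (mul_mem ha0 ha0) (orderOf_eq_prime (by rwa [sq]) hc1)
      (orderOf_eq_prime (by rwa [sq]) hz1)
  -- elements fixing `a0` invert nothing of order at least four
  have hinv : ∀ b c : ↥(P : Subgroup G), b * a0 = a0 * b → c ∈ zpowers a → b * c * b⁻¹ = c⁻¹ → c * c = 1 := by
    intro b c hb hc hbc
    by_contra hcc
    obtain ⟨d, hd, hdo⟩ := exists_order_four P.2 hcc
    obtain ⟨i, rfl⟩ := mem_zpowers_iff.1 hd
    have h2 : b * c ^ i * b⁻¹ = (c ^ i)⁻¹ := by rw [← conj_zpow, hbc, inv_zpow]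
    have h3 : b * a0 * b⁻¹ = a0 := by rw [hb, mul_inv_cancel_right]
    refine hz1 ?_
    rcases eq_or_eq_inv_of_order_four ha0 ((zpowers a).zpow_mem hc i) ho hdo with e | e <;> rw [e] at h2
    · rw [h3] at h2; rw [hz]; exact mul_eq_one_iff_eq_inv.2 h2
    · rw [inv_inv, ← conj_inv, h3] at h2; rw [hz]; exact mul_eq_one_iff_eq_inv.2 h2.symm
  -- involutions of `S'` other than `z` invert `a0`
  have hnc : ∀ r ∈ S', r * r = 1 → r ≠ 1 → r ≠ z → r * a0 * r⁻¹ = a0⁻¹ := fun r hr hrr hr1 hrz => by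
    rcases ha0p r with h | h
    · exact absurd (huniq r (hCa0 r hr (mul_inv_eq_iff_eq_mul.1 h)) hrr hr1) hrz
    · exact h
  obtain ⟨s, hs, hss, hs1, hsz⟩ : ∃ s ∈ S', s * s = 1 ∧ s ≠ 1 ∧ s ≠ z := by
    by_cases h : s₀ = z
    · exact ⟨t₀, ht₀, ht₀2, ht₀1, fun e => hst₀ (h.trans e.symm)⟩
    · exact ⟨s₀, hs₀, hs₀2, hs₀1, h⟩
  -- choose `u`
  obtain ⟨u, hu, hu1, huP, hua0⟩ : ∃ u ∈ U, u ≠ 1 ∧ ∃ h : u ∈ (P : Subgroup G),
      (⟨u, h⟩ : ↥(P : Subgroup G)) * a0 = a0 * ⟨u, h⟩ :=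
    hUdic (fun u => ∃ h : u ∈ (P : Subgroup G), (⟨u, h⟩ : ↥(P : Subgroup G)) * a0 = a0 * ⟨u, h⟩)
      fun u hu v hv hnu hnv => ⟨hUP (mul_mem hu hv), by
        have key : ∀ w (hw : w ∈ U), ¬ (∃ h : w ∈ (P : Subgroup G),
            (⟨w, h⟩ : ↥(P : Subgroup G)) * a0 = a0 * ⟨w, h⟩) →
            (⟨w, hUP hw⟩ : ↥(P : Subgroup G)) * a0 * (⟨w, hUP hw⟩)⁻¹ = a0⁻¹ := fun w hw hne =>
          (ha0p _).resolve_left fun h => hne ⟨hUP hw, mul_inv_eq_iff_eq_mul.1 h⟩
        refine mul_inv_eq_iff_eq_mul.1 ?_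
        rw [show (⟨u * v, hUP (mul_mem hu hv)⟩ : ↥(P : Subgroup G)) = ⟨u, hUP hu⟩ * ⟨v, hUP hv⟩ from rfl,
          show ∀ p q : ↥(P : Subgroup G), p * q * a0 * (p * q)⁻¹ = p * (q * a0 * q⁻¹) * p⁻¹ from fun p q => by group,
          key v hv hnv, ← conj_inv, key u hu hnu, inv_inv]⟩
  set u' : ↥(P : Subgroup G) := ⟨u, huP⟩
  have hu'2 : u' * u' = 1 := Subtype.ext (hUuu u hu)
  have hu'A : u' ∉ S' := fun h => by
    have e := huniq u' (hCa0 u' h hua0) hu'2 (fun e => hu1 (congrArg Subtype.val e))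
    refine hrk u hu hu1 s₀ hs₀ t₀ ht₀ (congrArg Subtype.val hs₀2) (congrArg Subtype.val ht₀2)
      (fun e => hs₀1 (Subtype.ext e)) (fun e => ht₀1 (Subtype.ext e)) (fun e => hst₀ (Subtype.ext e))
      (congrArg Subtype.val hstc₀) ?_ ?_
    · exact (congrArg Subtype.val (show u' * s₀ = s₀ * u' by rw [e]; exact (hzc s₀).symm))
    · exact (congrArg Subtype.val (show u' * t₀ = t₀ * u' by rw [e]; exact (hzc t₀).symm))
  have hS'n : ∀ p : ↥(P : Subgroup G), ∀ r ∈ S', p * r * p⁻¹ ∈ S' := fun p r hr =>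
    (inferInstance : (A.subgroupOf (P : Subgroup G)).Normal).conj_mem r hr p
  have hu'i : u'⁻¹ = u' := inv_eq_of_mul_eq_one_right hu'2
  -- `u` moves every involution `r ≠ z` of `S'` to `r z`
  have hur : ∀ r ∈ S', r * r = 1 → r ≠ 1 → r ≠ z → u' * r * u'⁻¹ = r * z := by
    intro r hr hrr hr1 hrz
    set r' := u' * r * u'⁻¹ with hr'
    have hr'S : r' ∈ S' := hS'n u' r hr
    have hinvr' : r' * a0 * r'⁻¹ = a0⁻¹ := by
      have e : u'⁻¹ * a0 * u'⁻¹⁻¹ = a0 := by rw [inv_inv, mul_assoc, ← hua0, inv_mul_cancel_left]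
      rw [hr', show u' * r * u'⁻¹ * a0 * (u' * r * u'⁻¹)⁻¹ = u' * (r * (u'⁻¹ * a0 * u'⁻¹⁻¹) * r⁻¹) * u'⁻¹ by group,
        e, hnc r hr hrr hr1 hrz, ← conj_inv, hua0, mul_inv_cancel_right]
    set q := r * r' with hq
    have hqA : q ∈ zpowers a := hCa0 q (mul_mem hr hr'S) (mul_inv_eq_iff_eq_mul.1 (by
      rw [hq, show r * r' * a0 * (r * r')⁻¹ = r * (r' * a0 * r'⁻¹) * r⁻¹ by group, hinvr', ← conj_inv,
        hnc r hr hrr hr1 hrz, inv_inv]))
    have hqu : u' * q * u'⁻¹ = q⁻¹ := by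
      rw [hq, hr', mul_inv_rev, mul_inv_rev, mul_inv_rev, inv_inv, inv_eq_of_mul_eq_one_right hrr, hu'i]
      simp only [mul_assoc]
      rw [hu'2, mul_one]
    have hq2 := hinv u' q hua0 hqA hqu
    have hr'q : r' = r * q := by rw [hq, ← mul_assoc, hrr, one_mul]
    by_cases hq1 : q = 1
    · exfalso
      have h : u' * r = r * u' := mul_inv_eq_iff_eq_mul.1 (by rw [← hr', hr'q, hq1, mul_one])
      exact hrk u hu hu1 z hzS r hr (congrArg Subtype.val hzz) (congrArg Subtype.val hrr)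
        (fun e => hz1 (Subtype.ext e)) (fun e => hr1 (Subtype.ext e)) (fun e => hrz (Subtype.ext e.symm))
        (congrArg Subtype.val (hzc r).symm) (congrArg Subtype.val (hzc u')) (congrArg Subtype.val h)
    · rw [hr'q, huniq q hqA hq2 hq1]
  have ha0r : ∀ r ∈ S', r * r = 1 → r ≠ 1 → r ≠ z → a0 * r * a0⁻¹ = r * z := fun r hr hrr hr1 hrz => by
    have h := hnc r hr hrr hr1 hrz
    rw [inv_eq_of_mul_eq_one_right hrr] at h
    calc a0 * r * a0⁻¹ = a0 * r * (r * a0 * r) := by rw [h]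
      _ = a0 * (r * r) * a0 * r := by group
      _ = z * r := by rw [hrr, mul_one, ← hz]
      _ = r * z := (hzc r).symm
  set w := u' * a0 with hw
  have hwr : ∀ r ∈ S', r * r = 1 → r ≠ 1 → r ≠ z → w * r = r * w := fun r hr hrr hr1 hrz => by
    refine mul_inv_eq_iff_eq_mul.1 ?_
    rw [hw, show u' * a0 * r * (u' * a0)⁻¹ = u' * (a0 * r * a0⁻¹) * u'⁻¹ by group, ha0r r hr hrr hr1 hrz,
      show u' * (r * z) * u'⁻¹ = u' * r * u'⁻¹ * (u' * z * u'⁻¹) by group, hur r hr hrr hr1 hrz,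
      hzc u', mul_inv_cancel_right, mul_assoc, hzz, mul_one]
  have hw2 : w * w = z := by
    rw [hw, show u' * a0 * (u' * a0) = u' * (a0 * u') * a0 by group, ← hua0,
      show u' * (u' * a0) * a0 = u' * u' * (a0 * a0) by group, hu'2, one_mul]
  -- centralizer of `r` in `S'`
  have hCr : ∀ r ∈ S', r * r = 1 → r ≠ 1 → r ≠ z → ∀ x ∈ S', x * r = r * x →
      (x = 1 ∨ x = z ∨ x = r ∨ x = z * r) := by
    intro r hr hrr hr1 hrz x hx hxr
    have hri := hnc r hr hrr hr1 hrz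
    have hsmall : ∀ q ∈ zpowers a, q * r = r * q → q = 1 ∨ q = z := by
      intro q hq hqr
      by_cases hq1 : q = 1
      · exact Or.inl hq1
      refine Or.inr (huniq q hq ?_ hq1)
      by_contra hqq
      obtain ⟨d, hd, hdo⟩ := exists_order_four P.2 hqq
      obtain ⟨i, rfl⟩ := mem_zpowers_iff.1 hd
      have h2 : r * q ^ i * r⁻¹ = q ^ i := by
        rw [← ((show Commute q r from hqr).zpow_left i).eq, mul_inv_cancel_right]
      refine hz1 ?_
      rcases eq_or_eq_inv_of_order_four ha0 ((zpowers a).zpow_mem hq i) ho hdo with e | e <;> rw [e] at h2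
      · rw [hri] at h2; rw [hz]; exact mul_eq_one_iff_eq_inv.2 h2.symm
      · rw [← conj_inv, hri, inv_inv] at h2; rw [hz]; exact mul_eq_one_iff_eq_inv.2 h2
    rcases ha0p x with h | h
    · rcases hsmall x (hCa0 x hx (mul_inv_eq_iff_eq_mul.1 h)) hxr with e | e
      · exact Or.inl e
      · exact Or.inr (Or.inl e)
    · have hxr' : x * r ∈ zpowers a := hCa0 _ (mul_mem hx hr) (mul_inv_eq_iff_eq_mul.1 (by
        rw [show x * r * a0 * (x * r)⁻¹ = x * (r * a0 * r⁻¹) * x⁻¹ by group, hri, ← conj_inv, h, inv_inv]))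
      have e : x = x * r * r := by rw [mul_assoc, hrr, mul_one]
      rcases hsmall (x * r) hxr' (by rw [← mul_assoc r x r, ← hxr]) with e' | e' <;> rw [e'] at e
      · exact Or.inr (Or.inr (Or.inl (e.trans (one_mul r))))
      · exact Or.inr (Or.inr (Or.inr e))
  -- every outer element commuting with `r` squares to `z`
  have hsq : ∀ r ∈ S', r * r = 1 → r ≠ 1 → r ≠ z → ∀ v : ↥(P : Subgroup G), u' * v ∈ S' →
      v * r = r * v → v * v = z := by
    intro r hr hrr hr1 hrz v hv hvr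
    have hwv : w⁻¹ * v ∈ S' := by
      rw [hw, mul_inv_rev, hu'i, mul_assoc]
      exact mul_mem (inv_mem ha0S) hv
    have hwr' := hwr r hr hrr hr1 hrz
    have hc : w⁻¹ * v * r = r * (w⁻¹ * v) :=
      ((show Commute w r from hwr').inv_left.mul_left (show Commute v r from hvr)).eq
    set e := w⁻¹ * v with he
    have hve : v = w * e := by rw [he, mul_inv_cancel_left]
    have hwz : w * z = z * w := hzc w
    have hwe : w * e = e * w ∧ e * e = 1 := by
      rcases hCr r hr hrr hr1 hrz e hwv hc with h | h | h | h <;> rw [h]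
      · exact ⟨by rw [mul_one, one_mul], one_mul 1⟩
      · exact ⟨hwz, hzz⟩
      · exact ⟨hwr', hrr⟩
      · exact ⟨((show Commute w z from hwz).mul_right hwr').eq, by
          rw [mul_assoc z r, ← mul_assoc r z r, hzc r, mul_assoc z r r, hrr, mul_one, hzz]⟩
    rw [hve, mul_assoc, ← mul_assoc e, ← hwe.1, mul_assoc w e e, hwe.2, mul_one, hw2]
  -- fusion in `A`
  have hPA : ¬ 2 ∣ ((P : Subgroup G) ⊓ A).relIndex A :=
    CfsgLib.LocalEvenB.not_dvd_relIndex_inf_of_subnormal P (Subgroup.Normal.isSubnormal ‹_›)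
  let T : Sylow 2 A := ((P.2.to_le (inf_le_left (b := A))).comap_subtype (K := A)).toSylow hPA
  have hTdef : (T : Subgroup A) = ((P : Subgroup G) ⊓ A).subgroupOf A := rfl
  set M : Subgroup A := (((zpowers a).map (P : Subgroup G).subtype)).subgroupOf A with hM
  have hMi : M.relIndex (T : Subgroup A) = 2 := by
    rw [Subgroup.relIndex, index_eq_two_iff]
    have hsT : (⟨(s : G), hs⟩ : A) ∈ (T : Subgroup A) := by rw [hTdef, mem_subgroupOf]; exact ⟨s.2, hs⟩
    refine ⟨⟨⟨(s : G), hs⟩, hsT⟩, fun x => ?_⟩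
    have hxP : ((x : A) : G) ∈ (P : Subgroup G) := by
      have h : (x : A) ∈ ((P : Subgroup G) ⊓ A).subgroupOf A := x.2
      exact (mem_subgroupOf.1 h).1
    set x' : ↥(P : Subgroup G) := ⟨_, hxP⟩
    have hx' : x' ∈ S' := (x : A).2
    have hmem : ∀ y : ↥(P : Subgroup G), (y : G) ∈ (zpowers a).map (P : Subgroup G).subtype ↔ y ∈ zpowers a :=
      fun y => mem_map_iff_mem (P : Subgroup G).subtype_injective
    have hsi := hnc s hs hss hs1 hsz
    have e1 : (zpowers a).map (P : Subgroup G).subtype = _ := rfl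
    simp only [hM, mem_subgroupOf]
    show Xor _ _
    have k1 : (((x * ⟨⟨(s : G), hs⟩, hsT⟩ : ↥(T : Subgroup A)) : A) : G) = ((x' * s : ↥(P : Subgroup G)) : G) := rfl
    rw [k1, hmem (x' * s), show ((x : A) : G) = (x' : G) from rfl, hmem x']
    rcases ha0p x' with h | h
    · refine Or.inr ⟨hCa0 x' hx' (mul_inv_eq_iff_eq_mul.1 h), fun hc => ?_⟩
      have hsa : s ∈ zpowers a := by
        have := mul_mem (inv_mem (hCa0 x' hx' (mul_inv_eq_iff_eq_mul.1 h))) hc
        rwa [inv_mul_cancel_left] at this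
      exact hsz (huniq s hsa hss hs1)
    · refine Or.inl ⟨hCa0 _ (mul_mem hx' hs) (mul_inv_eq_iff_eq_mul.1 (by
        rw [show x' * s * a0 * (x' * s)⁻¹ = x' * (s * a0 * s⁻¹) * x'⁻¹ by group, hsi, ← conj_inv, h, inv_inv])),
        fun hc => ?_⟩
      obtain ⟨i, hi⟩ := mem_zpowers_iff.1 hc
      obtain ⟨j, hj⟩ := mem_zpowers_iff.1 ha0
      rw [← hi, ← hj, ← zpow_add, ← zpow_sub, show i + j - i = j by ring, hj] at h
      exact hz1 (by rw [hz]; exact mul_eq_one_iff_eq_inv.2 h)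
  rcases CfsgLib.Transfer.thompson_transfer T M hMi (u := (⟨(s : G), hs⟩ : A))
      (orderOf_eq_prime (Subtype.ext (by
        rw [coe_pow, sq, coe_one]; exact congrArg Subtype.val hss))
        (fun e => hs1 (Subtype.ext (congrArg (fun v : A => (v : G)) e)))) with ⟨N, hNn, hNi, hsN⟩ | ⟨g, hg⟩
  · refine hsN ?_
    have h1 : commutator A = ⊤ := map_injective A.subtype_injective (by
      rw [map_subtype_commutator, hperf, ← MonoidHom.range_eq_map, range_subtype])
    exact (h1 ▸ commutatorElement_mem_of_index_two hNi) (mem_top _)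
  rw [hM, mem_subgroupOf] at hg
  obtain ⟨c, hc, hce⟩ := hg
  have hce' : (c : G) = g * s * (g : G)⁻¹ := hce
  have hcz : c = z := by
    refine huniq c hc (Subtype.ext ?_) fun e => hs1 (Subtype.ext ?_)
    · show (c : G) * c = 1
      rw [hce', show (g : G) * s * (g : G)⁻¹ * (g * s * (g : G)⁻¹) = g * ((s : G) * s) * (g : G)⁻¹ by group,
        show (s : G) * s = 1 from congrArg Subtype.val hss, mul_one, mul_inv_cancel]
    · rw [e] at hce'
      exact conj_eq_one_iff.1 hce'.symm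
  rw [hcz] at hce'
  -- move the conjugates back into `P`
  set h : G := (g : G) with hh
  let X := (zpowers z ⊔ zpowers w).map ((MulAut.conj h).toMonoidHom.comp (P : Subgroup G).subtype)
  set C := centralizer ({(z : G)} : Set G) with hCdef
  have hPC : (P : Subgroup G) ≤ C := fun p hp => mem_centralizer_singleton_iff.2 (congrArg Subtype.val (hzc ⟨p, hp⟩))
  have hXC : X ≤ C := by
    have hcs : zpowers z ⊔ zpowers w ≤ centralizer ({s} : Set ↥(P : Subgroup G)) :=
      sup_le (zpowers_le.2 (mem_centralizer_singleton_iff.2 (hzc s).symm))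
        (zpowers_le.2 (mem_centralizer_singleton_iff.2 (hwr s hs hss hs1 hsz)))
    rintro _ ⟨x, hx, rfl⟩
    rw [hCdef, mem_centralizer_singleton_iff, hce']
    show h * (x : G) * h⁻¹ * (h * s * h⁻¹) = h * s * h⁻¹ * (h * x * h⁻¹)
    rw [show h * (x : G) * h⁻¹ * (h * s * h⁻¹) = h * ((x : G) * s) * h⁻¹ by group,
      show (x : G) * s = s * x from congrArg Subtype.val (mem_centralizer_singleton_iff.1 (hcs hx))]
    group
  obtain ⟨n, hn, hnX⟩ := CfsgLib.Transfer.exists_conj_le P.2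
    (fun hd => P.not_dvd_index (hd.trans (relIndex_dvd_index_of_le hPC))) hXC
    ((P.2.to_subgroup _).map _)
  have hzX := hnX _ ⟨z, mem_sup_left (mem_zpowers z), rfl⟩
  have hwX := hnX _ ⟨w, mem_sup_right (mem_zpowers w), rfl⟩
  set r : ↥(P : Subgroup G) := ⟨_, hzX⟩ with hrdef
  set v : ↥(P : Subgroup G) := ⟨_, hwX⟩ with hvdef
  have hrG : (r : G) = (n⁻¹ * h) * z * (n⁻¹ * h)⁻¹ := by
    show n⁻¹ * (h * (z : G) * h⁻¹) * n = _; group
  have hvG : (v : G) = (n⁻¹ * h) * w * (n⁻¹ * h)⁻¹ := by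
    show n⁻¹ * (h * (w : G) * h⁻¹) * n = _; group
  have hinj : ∀ x y : ↥(P : Subgroup G),
      (n⁻¹ * h) * (x : G) * (n⁻¹ * h)⁻¹ = (n⁻¹ * h) * y * (n⁻¹ * h)⁻¹ → x = y := fun x y e =>
    Subtype.ext (mul_left_cancel (mul_right_cancel e))
  have hzn : n⁻¹ * (z : G) * n = z := by
    rw [hCdef, mem_centralizer_singleton_iff] at hn
    rw [mul_assoc, ← hn, inv_mul_cancel_left]
  have hrS : r ∈ S' := show (r : G) ∈ A by rw [hrG]; exact ‹A.Normal›.conj_mem _ hzS _
  have hrr : r * r = 1 := Subtype.ext (by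
    rw [coe_mul, hrG, conj_mul, show (z : G) * z = 1 from congrArg Subtype.val hzz]; simp)
  have hr1 : r ≠ 1 := fun e => hz1 (Subtype.ext (conj_eq_one_iff.1 (hrG.symm.trans (congrArg Subtype.val e))))
  have hrz : r ≠ z := fun e => hsz (hinj s z (by
    rw [← hrG, e, show n⁻¹ * h * (s : G) * (n⁻¹ * h)⁻¹ = n⁻¹ * (h * s * h⁻¹) * n by group, ← hce', hzn]))
  have hvr : v * r = r * v := Subtype.ext (by
    rw [coe_mul, coe_mul, hrG, hvG, conj_mul, conj_mul, show (w : G) * z = z * w from congrArg Subtype.val (hzc w)])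
  have hvS : u' * v ∈ S' := by
    show u * (v : G) ∈ A
    have habel : ∀ x y : G ⧸ A, x * y = y * x := by
      intro x y
      have hU' : ∀ x : G ⧸ A, ∃ k ∈ U, (k : G ⧸ A) = x := fun x => by
        obtain ⟨p, rfl⟩ := QuotientGroup.mk_surjective x
        obtain ⟨b, hb, k, hk, rfl⟩ := mem_sup_of_normal_left.1 (hgen ▸ mem_top p : p ∈ A ⊔ U)
        exact ⟨k, hk, by rw [QuotientGroup.mk_mul, (QuotientGroup.eq_one_iff b).2 hb, one_mul]⟩
      obtain ⟨k, hk, rfl⟩ := hU' x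
      obtain ⟨l, hl, rfl⟩ := hU' y
      rw [← QuotientGroup.mk_mul, ← QuotientGroup.mk_mul, hUcomm k hk l hl]
    have hm : ((v : G) : G ⧸ A) = (u : G ⧸ A) := by
      rw [hvG, QuotientGroup.mk_mul, QuotientGroup.mk_mul, habel ((n⁻¹ * h : G) : G ⧸ A), mul_assoc,
        ← QuotientGroup.mk_mul (N := A) (n⁻¹ * h), mul_inv_cancel, QuotientGroup.mk_one, mul_one]
      show (((u * (a0 : G)) : G) : G ⧸ A) = _
      rw [QuotientGroup.mk_mul, (QuotientGroup.eq_one_iff (a0 : G)).2 ha0S, mul_one]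
    rw [← QuotientGroup.eq_one_iff, QuotientGroup.mk_mul, hm, ← QuotientGroup.mk_mul, hUuu u hu, QuotientGroup.mk_one]
  have hvv := hsq r hrS hrr hr1 hrz v hvS hvr
  refine hrz (Subtype.ext ?_)
  calc (r : G) = (n⁻¹ * h) * z * (n⁻¹ * h)⁻¹ := hrG
    _ = (n⁻¹ * h) * ((w : G) * w) * (n⁻¹ * h)⁻¹ := by rw [show (w : G) * w = z from congrArg Subtype.val hw2]
    _ = (v : G) * v := by rw [← conj_mul, hvG]
    _ = z := congrArg Subtype.val hvv

/-- A perfect subgroup normalized by a four-group all of whose involutions have centralizers of rank one. -/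
theorem rank_le_one_of_four_group {G : Type*} [Group G] [Finite G] (A U : Subgroup G)
    (hUA : U ≤ normalizer (A : Set G)) (hperf : ⁅A, A⁆ = A) (hU : IsKleinFour U)
    (hrk : ∀ u ∈ U, u ≠ 1 → ∀ x ∈ A, ∀ y ∈ A, x * x = 1 → y * y = 1 → x ≠ 1 → y ≠ 1 → x ≠ y →
      x * y = y * x → u * x = x * u → u * y = y * u → False) :
    Cfsg.PRankLE 2 1 A := by
  set H := A ⊔ U
  haveI : (A.subgroupOf H).Normal := normal_subgroupOf_iff_le_normalizer le_sup_left |>.2
    (sup_le le_normalizer hUA)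
  have hmap : ∀ K ≤ H, (K.subgroupOf H).map H.subtype = K := fun K hK => by
    rw [subgroupOf_map_subtype, inf_eq_left.2 hK]
  have h := rank_le_one_of_four_group_top (A.subgroupOf H) (U.subgroupOf H)
    (map_injective H.subtype_injective (by rw [map_commutator, hmap A le_sup_left, hperf]))
    ⟨(Nat.card_congr (subgroupOfEquivOfLe (le_sup_right : U ≤ H)).toEquiv).trans hU.card_four,
      (Monoid.exponent_eq_of_mulEquiv (subgroupOfEquivOfLe (le_sup_right : U ≤ H))).trans hU.exponent_two⟩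
    (by rw [← subgroupOf_sup le_sup_left le_sup_right, subgroupOf_self])
    (fun u hu hu1 x hx y hy hxx hyy hx1 hy1 hxy hc hux huy => hrk u hu (fun e => hu1 (Subtype.ext e)) x hx y hy
      (congrArg Subtype.val hxx) (congrArg Subtype.val hyy) (fun e => hx1 (Subtype.ext e))
      (fun e => hy1 (Subtype.ext e)) (fun e => hxy (Subtype.ext e)) (congrArg Subtype.val hc)
      (congrArg Subtype.val hux) (congrArg Subtype.val huy))
  exact CfsgLib.PGroups.prankLE_of_injective h (f := (subgroupOfEquivOfLe (le_sup_left : A ≤ H)).symm.toMonoidHom)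
    (subgroupOfEquivOfLe (le_sup_left : A ≤ H)).symm.injective

end CfsgLib.Techniques
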