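import Cfsg.Prelude.Def_EvenTechniques
import Cfsg.Prelude.Def_Balance
import Cfsg.Agent.Lib.Components.LocalBalance
import Cfsg.Agent.Lib.Components.FStar
import Cfsg.Agent.Lib.PLocal.PConstrained
import Cfsg.Agent.Lib.Signalizer.Basic

/-!
Local balance of the components gives `k`-balance.
-/

set_option autoImplicit false

namespace CfsgLib.Techniques

open Subgroup Cfsg CfsgLib.Components
open scoped commutatorElement

variable {Q : Type*} [Group Q] [Finite Q] {p : ℕ} [hp : Fact p.Prime]

theorem mem_delta_iff {H : Type*} [Group H] {q : ℕ} {A : Subgroup H} {y : H} :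
    y ∈ signalizerDelta q A ↔ ∀ a ∈ A, a ≠ 1 → y ∈ centralizerPPrimeCore q a := by
  simp only [signalizerDelta, mem_iInf, Subtype.forall, and_imp]

omit [Finite Q] hp in
theorem core_le_centralizer (x : Q) : centralizerPPrimeCore p x ≤ centralizer ({x} : Set Q) :=
  map_subtype_le _

/-- `O_{p'}(C(x)) ≤ O_{p'}(N(⟨x⟩))`. -/
theorem core_centralizer_le_core_normalizer (x : Q) :
    centralizerPPrimeCore p x ≤ (pPrimeCore p (normalizer (zpowers x : Set Q))).map
      (normalizer (zpowers x : Set Q)).subtype := by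
  have hCN : centralizer ({x} : Set Q) ≤ normalizer (zpowers x : Set Q) := by
    rw [← centralizer_closure, ← zpowers_eq_closure]
    exact centralizer_le_normalizer _
  have hn : ((centralizer ({x} : Set Q)).subgroupOf (normalizer (zpowers x : Set Q))).Normal := by
    refine (normal_subgroupOf_iff_le_normalizer hCN).mpr ?_
    rw [← centralizer_closure, ← zpowers_eq_closure]
    exact normalizer_le_normalizer_centralizer' _
  exact (map_pPrimeCore_of_subnormal_le hCN hn.isSubnormal).le.trans inf_le_left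

omit hp in
theorem commutes_core_component [Fact p.Prime] (hO : pPrimeCore p Q = ⊥) {x : Q} (hx : orderOf x = p)
    {L : Subgroup Q} (hL : IsComponent L) (hne : ⁅L, zpowers x⁆ ≠ L) {y : Q}
    (hy : y ∈ centralizerPPrimeCore p x) : y ∈ centralizer (L : Set Q) := by
  have h := component_commutes_core_centralizer hO hx hL hne
  rw [commutator_comm, commutator_eq_bot_iff_le_centralizer] at h
  exact h hy

/-- The action on a component normalized by `A`: the image of `Δ(B)` lies in `Δ` of the automorphism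
group, so local balance makes it trivial, and weak local balance makes it commute with `A`. -/
theorem component_delta (hO : pPrimeCore p Q = ⊥) {k : ℕ} {A B : Subgroup Q}
    (hA : IsElementaryAbelian p A) (hBA : B ≤ A) (hBk : p ^ k ≤ Nat.card B) {L : Subgroup Q}
    (hL : IsComponent L) (hAN : A ≤ normalizer (L : Set Q))
    (hex : ∀ b ∈ B, b ≠ 1 → ⁅L, zpowers b⁆ = L) {Y : Subgroup Q}
    (hYN : Y ≤ normalizer (L : Set Q)) (hAY : A ≤ normalizer (Y : Set Q))
    (hY : ∀ y ∈ Y, ∀ b ∈ B, b ≠ 1 → y ∈ centralizerPPrimeCore p b)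
    (hYR : Y ≤ centralizer (pCore p Q : Set Q)) :
    (IsLocallyKBalanced p k L → Y ≤ centralizer (L : Set Q)) ∧
      (IsWeaklyLocallyKBalanced p k L → ∀ y ∈ Y, ∀ x ∈ A, ⁅x, y⁆ ∈ centralizer (L : Set Q)) := by
  classical
  have hB : IsElementaryAbelian p B := Signalizer.elementary_of_le hA hBA
  set N := normalizer (L : Set Q) with hN
  have hBN : B ≤ N := hBA.trans hAN
  have hLN : L ≤ N := le_normalizer
  set U : Subgroup Q := L ⊔ Y ⊔ A with hU
  have hUN : U ≤ N := sup_le (sup_le hLN hYN) hAN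
  let ρ : U →* MulAut L := (normalizerMonoidHom L).comp (Subgroup.inclusion hUN)
  have hρ : ∀ (u : U) (l : L), ((ρ u l : L) : Q) = (u : Q) * l * (u : Q)⁻¹ := fun _ _ => rfl
  set H := ρ.range with hH
  have hinn : (MulAut.conj : L →* MulAut L).range ≤ H := by
    rintro _ ⟨l, rfl⟩
    refine ⟨⟨l, mem_sup_left (mem_sup_left l.2)⟩, MulEquiv.ext fun m => Subtype.ext ?_⟩
    rw [hρ]; rfl
  let ρ' : U →* H := ρ.rangeRestrict
  have hρ's : Function.Surjective ρ' := ρ.rangeRestrict_surjective
  set Bu : Subgroup U := B.subgroupOf U with hBu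
  set Bb : Subgroup H := Bu.map ρ' with hBb
  have hinj : ∀ u ∈ Bu, ρ' u = 1 → u = 1 := by
    intro u hu h1
    by_contra hne
    have hu1 : (u : Q) ≠ 1 := fun e => hne (Subtype.ext e)
    refine IsComponent.ne_bot hL ((hex u hu hu1).symm.trans ?_)
    rw [commutator_eq_bot_iff_le_centralizer]
    intro l hl
    rw [zpowers_eq_closure, centralizer_closure, mem_centralizer_singleton_iff]
    have h2 := hρ u ⟨l, hl⟩
    have h1' : ρ u = 1 := congrArg Subtype.val h1
    rw [h1'] at h2
    exact eq_mul_inv_iff_mul_eq.1 h2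
  have hcardB : Nat.card B ≤ Nat.card Bb := by
    refine Nat.card_le_card_of_injective
      (fun b : B => (⟨ρ' ⟨b, mem_sup_right (hBA b.2)⟩, mem_map_of_mem _ b.2⟩ : Bb)) ?_
    intro b c h
    have hbc : (⟨b, mem_sup_right (hBA b.2)⟩ : U)⁻¹ * ⟨c, mem_sup_right (hBA c.2)⟩ = 1 := by
      refine hinj _ (mul_mem (inv_mem b.2) c.2) ?_
      rw [map_mul, map_inv, show ρ' ⟨b, _⟩ = ρ' ⟨c, mem_sup_right (hBA c.2)⟩ from congrArg Subtype.val h,
        inv_mul_cancel]
    exact Subtype.ext (inv_mul_eq_one.1 (congrArg Subtype.val hbc))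
  have hBbel : IsElementaryAbelian p Bb := by
    haveI := hB.1
    haveI : IsMulCommutative Bu := ⟨⟨fun a b => Subtype.ext (Subtype.ext
      (Signalizer.elementary_comm hB a.2 b.2))⟩⟩
    refine ⟨⟨⟨?_⟩⟩, ?_⟩
    · rintro ⟨_, a, ha, rfl⟩ ⟨_, b, hb, rfl⟩
      refine Subtype.ext ?_
      show ρ' a * ρ' b = ρ' b * ρ' a
      rw [← map_mul, ← map_mul]
      exact congrArg ρ' (congrArg Subtype.val ((inferInstance : IsMulCommutative Bu).is_comm.comm
        ⟨a, ha⟩ ⟨b, hb⟩))
    · rintro _ ⟨a, ha, rfl⟩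
      rw [← map_pow, show a ^ p = 1 from Subtype.ext (by
        rw [SubgroupClass.coe_pow, OneMemClass.coe_one]; exact hB.2 _ ha), map_one]
  obtain ⟨A₀, hA₀le, hA₀c⟩ : ∃ A₀ : Subgroup H, A₀ ≤ Bb ∧ Nat.card A₀ = p ^ k := by
    obtain ⟨m, hm⟩ := IsPGroup.iff_card.1 (Signalizer.elementary_isPGroup hBbel)
    have hkm : k ≤ m :=
      (Nat.pow_le_pow_iff_right hp.out.one_lt).1 (hm ▸ hBk.trans hcardB)
    obtain ⟨D, hD⟩ := Sylow.exists_subgroup_card_pow_prime (G := ↥Bb) p (hm ▸ pow_dvd_pow p hkm)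
    exact ⟨D.map Bb.subtype, map_subtype_le _, by
      rw [card_map_of_injective Bb.subtype_injective]; exact hD⟩
  -- the image of `Y` lies in `Δ_H(A₀)`
  have hΔ : ∀ (y : Q) (hyY : y ∈ Y), ρ' ⟨y, mem_sup_left (mem_sup_right hyY)⟩ ∈ signalizerDelta p A₀ := by
    intro y hyY
    rw [mem_delta_iff]
    intro a ha ha1
    obtain ⟨⟨b, hbU⟩, hb, rfl⟩ := hA₀le ha
    have hb' : b ∈ B := hb
    have hb1 : b ≠ 1 := fun e => ha1 (by rw [show (⟨b, hbU⟩ : U) = 1 from Subtype.ext e, map_one])
    set K₁ := (L ⊔ Y) ⊓ centralizer ({b} : Set Q) with hK₁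
    set M := ((centralizer ({ρ' ⟨b, hbU⟩} : Set H)).comap ρ').map U.subtype with hM
    have hK₁U : K₁ ≤ U := inf_le_left.trans le_sup_left
    have hK₁M : K₁ ≤ M := fun c hc => ⟨⟨c, hK₁U hc⟩, by
      rw [SetLike.mem_coe, mem_comap, mem_centralizer_singleton_iff, ← map_mul, ← map_mul]
      exact congrArg ρ' (Subtype.ext (mem_centralizer_singleton_iff.1 hc.2)), rfl⟩
    -- the centre of `L` lies in `O_p`
    have hZR : ∀ z ∈ L, (∀ l ∈ L, z * l = l * z) → z ∈ pCore p Q := by
      intro z hz hzl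
      rw [← fitting_eq_pCore_of_core_bot hO]
      haveI := layer_normal (G := Q)
      set T := layer Q ⊓ centralizer (layer Q : Set Q) with hT
      haveI : T.Normal := inferInstance
      haveI : IsMulCommutative T := le_centralizer_iff_isMulCommutative.1
        (inf_le_right.trans (centralizer_le (SetLike.coe_subset_coe.2 inf_le_left)))
      haveI : Group.IsNilpotent T := by
        letI : CommGroup T :=
          { (inferInstance : Group T) with mul_comm := fun a b => mul_comm' a b }
        exact CommGroup.isNilpotent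
      refine CfsgLib.Core.le_fittingSubgroup (N := T) inferInstance ⟨le_layer hL hz, ?_⟩
      show z ∈ centralizer (layer Q : Set Q)
      have : layer Q ≤ centralizer ({z} : Set Q) := layer_le_iff.2 fun K hK => by
        rcases components_eq_or_commute hK hL with rfl | h
        · exact fun l hl => mem_centralizer_singleton_iff.2 (hzl l hl).symm
        · exact fun l hl => mem_centralizer_singleton_iff.2 (mem_centralizer_iff.1
            (commutator_eq_bot_iff_le_centralizer.1 h hl) z hz).symm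
      exact mem_centralizer_iff.2 fun e he => mem_centralizer_singleton_iff.1 (this he)
    have hLyN : Y ≤ normalizer (L : Set Q) := hYN
    have hB2 : A ≤ normalizer ((L ⊔ Y : Subgroup Q) : Set Q) := by
      intro c hc
      refine mem_normalizer_of_smul_eq_self ?_
      rw [Subgroup.smul_sup, smul_eq_self_of_mem_normalizer (hAN hc),
        smul_eq_self_of_mem_normalizer (hAY hc)]
    have hconjK : ∀ m ∈ M, ∀ c ∈ K₁, m * c * m⁻¹ ∈ K₁ := by
      rintro _ ⟨⟨m, hmU⟩, hm, rfl⟩ c hc
      rw [SetLike.mem_coe, mem_comap, mem_centralizer_singleton_iff, ← map_mul, ← map_mul] at hm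
      have hm' : ∀ l ∈ L, (m * b) * l * (m * b)⁻¹ = (b * m) * l * (b * m)⁻¹ := fun l hl => by
        have := congrArg (fun f : H => (((f : MulAut L) ⟨l, hl⟩ : L) : Q)) hm
        exact this
      obtain ⟨u, hu, x, hx, hmx⟩ : ∃ u ∈ L ⊔ Y, ∃ x ∈ A, u * x = m := by
        have h0 : m ∈ ((L ⊔ Y ⊔ A : Subgroup Q) : Set Q) := hmU
        rw [coe_mul_of_right_le_normalizer_left _ _ hB2] at h0
        obtain ⟨u, hu, x, hx, h⟩ := h0
        exact ⟨u, hu, x, hx, h⟩
      have hbx : x * b = b * x := Signalizer.elementary_comm hA hx (hBA hb')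
      -- the commutator of `u` with `b` is central in `L`
      obtain ⟨l₁, hl₁, w, hw, hlw⟩ : ∃ l₁ ∈ L, ∃ w ∈ Y, l₁ * w = u := by
        have h0 : u ∈ ((L ⊔ Y : Subgroup Q) : Set Q) := hu
        rw [coe_mul_of_right_le_normalizer_left _ _ hLyN] at h0
        obtain ⟨u, hu, x, hx, h⟩ := h0
        exact ⟨u, hu, x, hx, h⟩
      have hwb : w * b = b * w :=
        mem_centralizer_singleton_iff.1 (core_le_centralizer b (hY w hw b hb' hb1))
      set z := b⁻¹ * u⁻¹ * b * u with hz
      have hz' : z = b⁻¹ * w⁻¹ * b * (b⁻¹ * l₁⁻¹ * b * l₁) * w := by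
        rw [hz, ← hlw]; group
      have hzL0 : b⁻¹ * l₁⁻¹ * b * l₁ ∈ L := by
        refine mul_mem ?_ hl₁
        have := (mem_normalizer_iff.1 (inv_mem (hBN hb')) l₁⁻¹).1 (inv_mem hl₁)
        rwa [inv_inv] at this
      have hzw : z = w⁻¹ * (b⁻¹ * l₁⁻¹ * b * l₁) * w := by
        rw [hz']
        congr 2
        calc b⁻¹ * w⁻¹ * b = b⁻¹ * (w⁻¹ * (b * w) * w⁻¹) := by group
          _ = b⁻¹ * (w⁻¹ * (w * b) * w⁻¹) := by rw [hwb]
          _ = w⁻¹ := by group
      have hzL : z ∈ L := by
        rw [hzw]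
        have := (mem_normalizer_iff.1 (inv_mem (hLyN hw)) _).1 hzL0
        rwa [inv_inv] at this
      have hzc : ∀ l ∈ L, z * l = l * z := by
        intro l hl
        -- `m b` and `b m` induce the same map on `L`
        set v := (b * m)⁻¹ * (m * b) with hv
        have h1 : v * l * v⁻¹ = l := by
          have := hm' l hl
          calc v * l * v⁻¹ = (b * m)⁻¹ * ((m * b) * l * (m * b)⁻¹) * (b * m) := by rw [hv]; group
            _ = (b * m)⁻¹ * ((b * m) * l * (b * m)⁻¹) * (b * m) := by rw [this]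
            _ = l := by group
        have e : v = x⁻¹ * (u⁻¹ * b⁻¹ * u * b) * x := by
          rw [hv, ← hmx]
          calc (b * (u * x))⁻¹ * (u * x * b) = x⁻¹ * u⁻¹ * b⁻¹ * (u * (x * b)) := by group
            _ = x⁻¹ * u⁻¹ * b⁻¹ * (u * (b * x)) := by rw [hbx]
            _ = x⁻¹ * (u⁻¹ * b⁻¹ * u * b) * x := by group
        have e2 : u⁻¹ * b⁻¹ * u * b = b⁻¹ * (b * u⁻¹ * b⁻¹ * u) * b := by group
        have h2 : ∀ l ∈ L, (u⁻¹ * b⁻¹ * u * b) * l = l * (u⁻¹ * b⁻¹ * u * b) := by
          intro l hl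
          have hl' : x⁻¹ * l * x ∈ L := by
            have := (mem_normalizer_iff.1 (inv_mem (hAN hx)) l).1 hl
            rwa [inv_inv] at this
          have h3 := hm' _ hl'
          set d := u⁻¹ * b⁻¹ * u * b
          have h4 : v * (x⁻¹ * l * x) * v⁻¹ = x⁻¹ * l * x := by
            calc v * (x⁻¹ * l * x) * v⁻¹
                = (b * m)⁻¹ * ((m * b) * (x⁻¹ * l * x) * (m * b)⁻¹) * (b * m) := by rw [hv]; group
              _ = (b * m)⁻¹ * ((b * m) * (x⁻¹ * l * x) * (b * m)⁻¹) * (b * m) := by rw [h3]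
              _ = _ := by group
          rw [e] at h4
          calc d * l = x * (x⁻¹ * d * x * (x⁻¹ * l * x) * (x⁻¹ * d * x)⁻¹) * x⁻¹ * d := by group
            _ = x * (x⁻¹ * l * x) * x⁻¹ * d := by rw [h4]
            _ = l * d := by group
        rw [show z = (u⁻¹ * b⁻¹ * u * b)⁻¹ by rw [hz]; group]
        exact ((show Commute _ l from h2 l hl).inv_left).eq
      have hzR := hZR z hzL hzc
      -- `c` fixes `z`
      have hcz : c * z = z * c := by
        have h1 : L ⊔ Y ≤ centralizer ({z} : Set Q) := sup_le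
          (fun l hl => mem_centralizer_singleton_iff.2 (hzc l hl).symm)
          (fun w hw => mem_centralizer_singleton_iff.2 (mem_centralizer_iff.1 (hYR hw) z hzR).symm)
        exact mem_centralizer_singleton_iff.1 (h1 hc.1)
      have hmN : m ∈ normalizer ((L ⊔ Y : Subgroup Q) : Set Q) :=
        hmx ▸ mul_mem (le_normalizer hu) (hB2 hx)
      refine Subgroup.mem_inf.2 ⟨(mem_normalizer_iff.1 hmN c).1 hc.1, ?_⟩
      show m * c * m⁻¹ ∈ centralizer ({b} : Set Q)
      rw [mem_centralizer_singleton_iff]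
      have hc2 := mem_centralizer_singleton_iff.1 hc.2
      -- `m⁻¹ b m = x⁻¹ (b z) x`
      have hxc : x * c * x⁻¹ ∈ K₁ := by
        refine Subgroup.mem_inf.2 ⟨(mem_normalizer_iff.1 (hB2 hx) c).1 hc.1, ?_⟩
        show x * c * x⁻¹ ∈ centralizer ({b} : Set Q)
        rw [mem_centralizer_singleton_iff]
        exact ((show Commute x b from hbx).mul_left (show Commute c b from hc2)).mul_left
          (show Commute x b from hbx).inv_left
      set c' := x * c * x⁻¹
      have hc'b := mem_centralizer_singleton_iff.1 hxc.2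
      have hc'z : c' * z = z * c' := by
        have h1 : L ⊔ Y ≤ centralizer ({z} : Set Q) := sup_le
          (fun l hl => mem_centralizer_singleton_iff.2 (hzc l hl).symm)
          (fun w hw => mem_centralizer_singleton_iff.2 (mem_centralizer_iff.1 (hYR hw) z hzR).symm)
        exact mem_centralizer_singleton_iff.1 (h1 hxc.1)
      rw [← hmx, show u * x * c * (u * x)⁻¹ = u * c' * u⁻¹ by simp only [c']; group]
      calc u * c' * u⁻¹ * b = u * (c' * (b * z)) * u⁻¹ := by rw [hz]; group
        _ = u * (b * z * c') * u⁻¹ := by rw [← mul_assoc c', hc'b, mul_assoc b c', hc'z, ← mul_assoc b z]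
        _ = b * (u * c' * u⁻¹) := by rw [hz]; group
    have hK₁n : (K₁.subgroupOf M).Normal :=
      ⟨fun c hc g => hconjK g g.2 c hc⟩
    -- `y` lies in the `p'`-core of `M`
    have hyC : y ∈ centralizer ({b} : Set Q) := core_le_centralizer b (hY y hyY b hb' hb1)
    have hyK₁ : y ∈ K₁ := ⟨mem_sup_right hyY, hyC⟩
    have hyV : y ∈ (pPrimeCore p K₁).map K₁.subtype := by
      set W := centralizerPPrimeCore p b with hW
      have hWn : centralizer ({b} : Set Q) ≤ normalizer (W : Set Q) := by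
        intro c hc
        refine mem_normalizer_iff.2 fun w => ?_
        have key : ∀ c ∈ centralizer ({b} : Set Q), ∀ w ∈ W, c * w * c⁻¹ ∈ W := by
          rintro c hc _ ⟨w, hw, rfl⟩
          exact ⟨⟨c, hc⟩ * w * ⟨c, hc⟩⁻¹,
            (CfsgLib.Core.normal_pPrimeCore p _).conj_mem w hw _, rfl⟩
        refine ⟨key c hc w, fun h => ?_⟩
        have := key c⁻¹ (inv_mem hc) _ h
        rwa [show c⁻¹ * (c * w * c⁻¹) * c⁻¹⁻¹ = w by group] at this
      haveI : (W.subgroupOf K₁).Normal :=
        (inf_le_right.trans hWn : K₁ ≤ normalizer (W : Set Q)) |> normal_subgroupOf_of_le_normalizer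
      refine ⟨⟨y, hyK₁⟩, CfsgLib.Core.le_pPrimeCore (N := W.subgroupOf K₁) ?_ (hY y hyY b hb' hb1), rfl⟩
      have h1 : Nat.card (W.subgroupOf K₁) ∣ Nat.card W := card_comap_dvd_of_injective _ _
        K₁.subtype_injective
      refine Nat.Coprime.coprime_dvd_left h1 ?_
      rw [hW, centralizerPPrimeCore, card_map_of_injective (subtype_injective _)]
      exact CfsgLib.Core.coprime_card_pPrimeCore p _
    rw [map_pPrimeCore_of_subnormal_le hK₁M hK₁n.isSubnormal] at hyV
    obtain ⟨⟨_, ⟨u, hu, rfl⟩⟩, huc, (huy : (u : Q) = y)⟩ := hyV.1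
    let g : M →* centralizer ({ρ' ⟨b, hbU⟩} : Set H) :=
      (ρ'.subgroupComap _).comp (equivMapOfInjective
        ((centralizer ({ρ' ⟨b, hbU⟩} : Set H)).comap ρ') U.subtype U.subtype_injective).symm.toMonoidHom
    have hgs : Function.Surjective g := by
      rintro ⟨h, hh⟩
      obtain ⟨v, rfl⟩ := hρ's h
      refine ⟨equivMapOfInjective ((centralizer ({ρ' ⟨b, hbU⟩} : Set H)).comap ρ') U.subtype
        U.subtype_injective ⟨v, hh⟩, ?_⟩
      simp [g]
      rfl
    have hgu := CfsgLib.Core.map_pPrimeCore_le g hgs (mem_map_of_mem g huc)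
    refine ⟨_, hgu, ?_⟩
    show ρ' ((equivMapOfInjective ((centralizer ({ρ' ⟨b, hbU⟩} : Set H)).comap ρ') U.subtype
      U.subtype_injective).symm ⟨(u : Q), ⟨u, hu, rfl⟩⟩ : U) = ρ' ⟨y, mem_sup_left (mem_sup_right hyY)⟩
    congr 1
    apply Subtype.ext
    refine Eq.trans ?_ huy
    exact (congrArg Subtype.val ((equivMapOfInjective ((centralizer ({ρ' ⟨b, hbU⟩} : Set H)).comap ρ')
      U.subtype U.subtype_injective).apply_symm_apply ⟨(u : Q), ⟨u, hu, rfl⟩⟩) :)
  have hker : ∀ u : U, ρ u = 1 → (u : Q) ∈ centralizer (L : Set Q) := by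
    intro u h1
    rw [mem_centralizer_iff]
    intro l hl
    have h2 := hρ u ⟨l, hl⟩
    rw [h1] at h2
    exact eq_mul_inv_iff_mul_eq.1 h2
  have hA₀el := Signalizer.elementary_of_le hBbel hA₀le
  constructor
  · intro hloc y hy
    have h := hΔ y hy
    rw [hloc H hinn A₀ hA₀el hA₀c, mem_bot] at h
    exact hker ⟨y, _⟩ (congrArg Subtype.val h)
  · intro hweak y hy x hx
    set xU : U := ⟨x, mem_sup_right hx⟩
    set yU : U := ⟨y, mem_sup_left (mem_sup_right hy)⟩
    have hcomm : ρ' xU * ρ' yU = ρ' yU * ρ' xU := by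
      rcases eq_or_ne (ρ' xU) 1 with h1 | h1
      · rw [h1, one_mul, mul_one]
      · have hxp : ρ' xU ^ p = 1 := by
          rw [← map_pow, show xU ^ p = 1 from Subtype.ext (by
            rw [SubgroupClass.coe_pow, OneMemClass.coe_one]; exact hA.2 x hx), map_one]
        refine (mem_centralizer_singleton_iff.1 (hweak H hinn A₀ hA₀el hA₀c (ρ' xU)
          (orderOf_eq_prime hxp h1) ?_ (hΔ y hy))).symm
        rw [mem_centralizer_iff]
        intro a ha
        obtain ⟨b, hb, rfl⟩ := hA₀le ha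
        rw [← map_mul, ← map_mul]
        exact congrArg ρ' (Subtype.ext (Signalizer.elementary_comm hA (hBA hb) hx))
    have h1 : ρ' ⁅xU, yU⁆ = 1 := by
      rw [map_commutatorElement, commutatorElement_eq_one_iff_mul_comm]
      exact hcomm
    exact hker ⁅xU, yU⁆ (congrArg Subtype.val h1)

/-- `A` normalizes `Δ(B)` when it centralizes `B`. -/
theorem le_normalizer_delta {A B : Subgroup Q} (hAB : A ≤ centralizer (B : Set Q)) :
    A ≤ normalizer (signalizerDelta p B : Set Q) := by
  rw [le_normalizer_iff]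
  intro g hg y hy
  rw [mem_delta_iff] at hy ⊢
  intro b hb hb1
  obtain ⟨z, hz, hzy⟩ := hy b hb hb1
  have hgc : g ∈ centralizer ({b} : Set Q) :=
    mem_centralizer_singleton_iff.2 (mem_centralizer_iff.1 (hAB hg) b hb).symm
  rw [← hzy]
  exact ⟨⟨g, hgc⟩ * z * ⟨g, hgc⟩⁻¹, (CfsgLib.Core.normal_pPrimeCore p _).conj_mem z hz _, rfl⟩

/-- Elements of `Δ(B)` commute with `O_p` and normalize the components. -/
theorem delta_props (hO : pPrimeCore p Q = ⊥) {k : ℕ} (hk : 1 ≤ k) {B : Subgroup Q}
    (hB : IsElementaryAbelian p B) (hBk : p ^ k ≤ Nat.card B) {y : Q}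
    (hy : y ∈ signalizerDelta p B) :
    (orderOf y).Coprime p ∧ y ∈ centralizer (pCore p Q : Set Q) ∧
      ∀ L : Subgroup Q, IsComponent L → y ∈ normalizer (L : Set Q) := by
  rw [mem_delta_iff] at hy
  obtain ⟨⟨b₀, hb₀⟩, hb₀1⟩ := B.ne_bot_iff_exists_ne_one.mp (fun e => by
    rw [e, card_bot] at hBk
    exact (Nat.one_lt_pow (by omega) hp.out.one_lt).not_ge hBk)
  have hb₀' : b₀ ≠ 1 := fun e => hb₀1 (Subtype.ext e)
  have hord : orderOf b₀ = p := Signalizer.elementary_orderOf hB hb₀ hb₀'
  have hy₀ := hy b₀ hb₀ hb₀'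
  have hP : IsPGroup p (zpowers b₀) := IsPGroup.of_card (n := 1) (by rw [Nat.card_zpowers, hord, pow_one])
  have hyord : (orderOf y).Coprime p := by
    refine Nat.Coprime.coprime_dvd_left ((centralizerPPrimeCore p b₀).orderOf_dvd_natCard hy₀) ?_
    rw [centralizerPPrimeCore, card_map_of_injective (subtype_injective _)]
    exact CfsgLib.Core.coprime_card_pPrimeCore p _
  refine ⟨hyord, centralizes_pCore_of_local hP hyord ?_, fun L hL => ?_⟩
  · obtain ⟨z, hz, hzy⟩ := core_centralizer_le_core_normalizer b₀ hy₀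
    rw [mem_centralizer_iff]
    rintro _ ⟨u, hu, rfl⟩
    have := mem_centralizer_iff.1
      (commutator_eq_bot_iff_le_centralizer.1 pPrimeCore_commutes_pCore hz) u hu
    rw [← hzy]
    exact congrArg Subtype.val this
  · obtain ⟨z, hz, hzy⟩ := core_centralizer_le_core_normalizer b₀ hy₀
    exact hzy ▸ local_normalizes_component hO hP hL ⟨z, mem_sup_right hz, rfl⟩

/-- An element of `Δ(B)` centralizing all components is trivial. -/
theorem eq_one_of_centralizes_components (hO : pPrimeCore p Q = ⊥) {k : ℕ} (hk : 1 ≤ k)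
    {B : Subgroup Q} (hB : IsElementaryAbelian p B) (hBk : p ^ k ≤ Nat.card B) {y : Q}
    (hy : y ∈ signalizerDelta p B)
    (hyL : ∀ L : Subgroup Q, IsComponent L → y ∈ centralizer (L : Set Q)) : y = 1 := by
  obtain ⟨hyord, hyR, -⟩ := delta_props hO hk hB hBk hy
  have hyF : y ∈ centralizer (fittingSubgroup Q : Set Q) := by
    rwa [fitting_eq_pCore_of_core_bot hO]
  have hyE : y ∈ centralizer (layer Q : Set Q) := by
    have : layer Q ≤ centralizer ({y} : Set Q) := layer_le_iff.2 fun L hL l hl =>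
      mem_centralizer_singleton_iff.2 (mem_centralizer_iff.1 (hyL L hL) l hl)
    exact mem_centralizer_iff.2 fun l hl => mem_centralizer_singleton_iff.1 (this hl)
  haveI := gFitting_normal (G := Q)
  set F := generalizedFittingSubgroup Q with hF
  have hyCF : y ∈ centralizer (F : Set Q) := by
    rw [hF, centralizer_gFitting]
    exact ⟨hyE, hyF⟩
  set T := F ⊓ centralizer (F : Set Q)
  haveI : T.Normal := inferInstance
  haveI : IsMulCommutative T := le_centralizer_iff_isMulCommutative.1
    (inf_le_right.trans (centralizer_le (SetLike.coe_subset_coe.2 inf_le_left)))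
  haveI : Group.IsNilpotent T := by
    letI : CommGroup T := { (inferInstance : Group T) with mul_comm := fun a b => mul_comm' a b }
    exact CommGroup.isNilpotent
  have hyp : y ∈ pCore p Q := by
    rw [← fitting_eq_pCore_of_core_bot hO]
    exact CfsgLib.Core.le_fittingSubgroup (N := T) inferInstance ⟨centralizer_gFitting_le hyCF, hyCF⟩
  obtain ⟨j, hj⟩ := IsPGroup.iff_orderOf.1 (CfsgLib.Core.isPGroup_pCore p Q) ⟨y, hyp⟩
  rw [Subgroup.orderOf_mk] at hj
  exact orderOf_eq_one_iff.1 (Nat.eq_one_of_dvd_coprimes (hyord.pow_right j) dvd_rfl hj.dvd)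

/-- Case split on a component: either `Δ(B)` centralizes it, or every element of `B` moves it. -/
theorem delta_centralizes_or (hO : pPrimeCore p Q = ⊥) {B : Subgroup Q}
    (hB : IsElementaryAbelian p B) {L : Subgroup Q} (hL : IsComponent L) :
    signalizerDelta p B ≤ centralizer (L : Set Q) ∨ ∀ b ∈ B, b ≠ 1 → ⁅L, zpowers b⁆ = L := by
  by_cases hex : ∃ b ∈ B, b ≠ 1 ∧ ⁅L, zpowers b⁆ ≠ L
  · obtain ⟨b, hb, hb1, hne⟩ := hex
    exact Or.inl fun y hy => commutes_core_component hO (Signalizer.elementary_orderOf hB hb hb1) hL hne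
      (mem_delta_iff.1 hy b hb hb1)
  · push Not at hex
    exact Or.inr hex

/-- Locally `k`-balanced components: `Δ(B)` acts trivially. -/
theorem eq_one_of_locallyKBalanced (hO : pPrimeCore p Q = ⊥) {k : ℕ} (hk : 1 ≤ k) {B : Subgroup Q}
    (hB : IsElementaryAbelian p B) (hBk : p ^ k ≤ Nat.card B)
    (hloc : ∀ K : Subgroup Q, IsComponent K → IsLocallyKBalanced p k K) {y : Q}
    (hy : y ∈ signalizerDelta p B) : y = 1 := by
  refine eq_one_of_centralizes_components hO hk hB hBk hy fun L hL => ?_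
  rcases delta_centralizes_or hO hB hL with h | hex
  · exact h hy
  have hBN : B ≤ normalizer (L : Set Q) := fun b hb => by
    rcases eq_or_ne b 1 with rfl | h1
    · exact one_mem _
    · exact (le_normalizer_iff_commutator_le_left.mpr (hex b hb h1).le) (mem_zpowers b)
  exact (component_delta hO hB le_rfl hBk hL hBN hex
    (fun z hz => (delta_props hO hk hB hBk hz).2.2 L hL)
    (le_normalizer_delta fun b hb => mem_centralizer_iff.2 fun c hc => Signalizer.elementary_comm hB hc hb)
    (fun z hz => mem_delta_iff.1 hz) (fun z hz => (delta_props hO hk hB hBk hz).2.1)).1 (hloc L hL) hy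

/-- Weakly locally `k`-balanced components normalized by `A`: `A` centralizes `Δ(B)`. -/
theorem commute_of_weaklyLocallyKBalanced (hO : pPrimeCore p Q = ⊥) {k : ℕ} (hk : 1 ≤ k)
    {A B : Subgroup Q} (hA : IsElementaryAbelian p A) (hBA : B ≤ A) (hBk : p ^ k ≤ Nat.card B)
    (hloc : ∀ K : Subgroup Q, IsComponent K → IsWeaklyLocallyKBalanced p k K)
    (hinv : ∀ K : Subgroup Q, IsComponent K → A ≤ normalizer (K : Set Q)) {x y : Q} (hx : x ∈ A)
    (hy : y ∈ signalizerDelta p B) : x * y = y * x := by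
  have hB := Signalizer.elementary_of_le hA hBA
  have hAc : A ≤ centralizer (B : Set Q) := fun a ha => mem_centralizer_iff.2 fun b hb =>
    Signalizer.elementary_comm hA (hBA hb) ha
  have hAY := le_normalizer_delta (p := p) hAc
  have hc : ⁅x, y⁆ ∈ signalizerDelta p B := by
    rw [commutatorElement_def]
    exact mul_mem ((mem_normalizer_iff.1 (hAY hx) y).1 hy) (inv_mem hy)
  rw [← commutatorElement_eq_one_iff_mul_comm]
  refine eq_one_of_centralizes_components hO hk hB hBk hc fun L hL => ?_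
  rcases delta_centralizes_or hO hB hL with h | hex
  · exact h hc
  exact (component_delta hO hA hBA hBk hL (hinv L hL) hex
    (fun z hz => (delta_props hO hk hB hBk hz).2.2 L hL) hAY
    (fun z hz => mem_delta_iff.1 hz) (fun z hz => (delta_props hO hk hB hBk hz).2.1)).2 (hloc L hL) y hy x hx

end CfsgLib.Techniques
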