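import Cfsg.Agent.Lib.Techniques.KBalanceLocal

/-!
`Δ(B)` in a centralizer modulo its `p'`-core.
-/

set_option autoImplicit false

namespace CfsgLib.Techniques

variable {G : Type*} [Group G] [Finite G] {p : ℕ} [Fact p.Prime]

/-- The image of `Δ(B) ∩ C` in `C/O_{p'}(C)` lies in `Δ` of the image of `B`. -/
theorem delta_image {B : Subgroup G} (hB : Cfsg.IsElementaryAbelian p B) {k : ℕ}
    (hBk : p ^ k ≤ Nat.card B) (C : Subgroup G) (hBC : B ≤ C) :
    Cfsg.IsElementaryAbelian p ((B.subgroupOf C).map (QuotientGroup.mk' (Cfsg.pPrimeCore p C))) ∧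
    p ^ k ≤ Nat.card ((B.subgroupOf C).map (QuotientGroup.mk' (Cfsg.pPrimeCore p C))) ∧
    ∀ (y : G) (hya : y ∈ C), y ∈ Cfsg.signalizerDelta p B →
      QuotientGroup.mk' (Cfsg.pPrimeCore p C) ⟨y, hya⟩ ∈
        Cfsg.signalizerDelta p ((B.subgroupOf C).map (QuotientGroup.mk' (Cfsg.pPrimeCore p C))) := by
  set O := Cfsg.pPrimeCore p ↥C with hO
  haveI : O.Normal := CfsgLib.Core.normal_pPrimeCore p _
  have hOc : (Nat.card O).Coprime p := CfsgLib.Core.coprime_card_pPrimeCore p _
  set f := QuotientGroup.mk' O with hf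
  have hfs : Function.Surjective f := QuotientGroup.mk'_surjective _
  set Bc := B.subgroupOf C with hBc
  have hcard : Nat.card Bc = Nat.card B :=
    Nat.card_congr (Subgroup.subgroupOfEquivOfLe hBC).toEquiv
  have hBcp : IsPGroup p Bc :=
    (CfsgLib.Signalizer.elementary_isPGroup hB).comap_of_injective C.subtype C.subtype_injective
  have hinj : Function.Injective (f.subgroupMap Bc) := by
    refine (injective_iff_map_eq_one _).2 fun x hx => ?_
    have hx' : (x : ↥C) ∈ O := (QuotientGroup.eq_one_iff _).1 (congrArg Subtype.val hx)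
    obtain ⟨j, hj⟩ := IsPGroup.iff_orderOf.1 hBcp x
    refine orderOf_eq_one_iff.1 (Nat.eq_one_of_dvd_coprimes
      ((hOc.coprime_dvd_left (O.orderOf_dvd_natCard hx')).pow_right j) (Subgroup.orderOf_coe x ▸ dvd_rfl) hj.dvd)
  set B' := Bc.map f with hB'
  have hB'el : Cfsg.IsElementaryAbelian p B' := by
    refine ⟨⟨⟨?_⟩⟩, ?_⟩
    · rintro ⟨_, u, hu, rfl⟩ ⟨_, v, hv, rfl⟩
      refine Subtype.ext ?_
      show f u * f v = f v * f u
      rw [← map_mul, ← map_mul]
      exact congrArg f (Subtype.ext (CfsgLib.Signalizer.elementary_comm hB hu hv))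
    · rintro _ ⟨u, hu, rfl⟩
      rw [← map_pow, show u ^ p = 1 from Subtype.ext (by
        rw [SubgroupClass.coe_pow, OneMemClass.coe_one]; exact hB.2 _ hu), map_one]
  have hB'k : p ^ k ≤ Nat.card B' := by
    rw [← hcard] at hBk
    exact hBk.trans (Nat.card_le_card_of_injective _ hinj)
  refine ⟨hB'el, hB'k, fun y hya hyB => ?_⟩
  rw [CfsgLib.Techniques.mem_delta_iff] at hyB
  rw [CfsgLib.Techniques.mem_delta_iff]
  rintro _ ⟨b, hb, rfl⟩ hb1
  have hb' : (b : G) ≠ 1 := fun e => hb1 (by rw [show b = 1 from Subtype.ext e, map_one])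
  have hbp : IsPGroup p (Subgroup.zpowers b) := hBcp.to_le (Subgroup.zpowers_le.2 hb)
  have hmap : (Subgroup.centralizer ({b} : Set ↥C)).map f
      = Subgroup.centralizer ({f b} : Set (↥C ⧸ O)) := by
    have h := CfsgLib.PLocal.map_centralizer_eq O hOc hbp
    rw [MonoidHom.map_zpowers] at h
    rwa [Subgroup.zpowers_eq_closure, Subgroup.zpowers_eq_closure, Subgroup.centralizer_closure,
      Subgroup.centralizer_closure] at h
  set D := Subgroup.centralizer ({b} : Set ↥C) with hD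
  set Cb := Subgroup.centralizer ({(b : G)} : Set G) with hCb
  have hDb : ∀ d : D, C.subtype (D.subtype d) ∈ Cb := fun d =>
    Subgroup.mem_centralizer_singleton_iff.2
      (congrArg Subtype.val (Subgroup.mem_centralizer_singleton_iff.1 d.2))
  set W := (Cfsg.pPrimeCore p ↥Cb).comap
    ((C.subtype.comp D.subtype).codRestrict Cb hDb) with hW
  haveI : (Cfsg.pPrimeCore p ↥Cb).Normal := CfsgLib.Core.normal_pPrimeCore p _
  have hWn : W.Normal := inferInstance
  have hyD : (⟨y, hya⟩ : ↥C) ∈ D := by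
    rw [hD, Subgroup.mem_centralizer_singleton_iff]
    exact Subtype.ext (Subgroup.mem_centralizer_singleton_iff.1
      (CfsgLib.Techniques.core_le_centralizer _ (hyB b hb hb')))
  have hyW : (⟨⟨y, hya⟩, hyD⟩ : D) ∈ W := by
    obtain ⟨z, hz, hzy⟩ := hyB b hb hb'
    rw [hW, Subgroup.mem_comap]
    rwa [show ((C.subtype.comp D.subtype).codRestrict Cb hDb) ⟨⟨y, hya⟩, hyD⟩ = z from
      Subtype.ext hzy.symm]
  have hWc : (Nat.card W).Coprime p := by
    refine (CfsgLib.Core.coprime_card_pPrimeCore p ↥Cb).coprime_dvd_left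
      (Subgroup.card_comap_dvd_of_injective _ _ fun u v h => ?_)
    exact D.subtype_injective (C.subtype_injective (congrArg Cb.subtype h))
  have hyc := CfsgLib.Core.le_pPrimeCore (N := W) hWc hyW
  let g : D →* Subgroup.centralizer ({f b} : Set (↥C ⧸ O)) :=
    (f.comp D.subtype).codRestrict _ fun d => hmap ▸ Subgroup.mem_map_of_mem f d.2
  have hgs : Function.Surjective g := by
    rintro ⟨q, hq⟩
    obtain ⟨d, hd, hdq⟩ := hmap.symm ▸ hq
    exact ⟨⟨d, hd⟩, Subtype.ext hdq⟩
  exact ⟨_, CfsgLib.Core.map_pPrimeCore_le g hgs (Subgroup.mem_map_of_mem g hyc), rfl⟩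

end CfsgLib.Techniques
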