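import Cfsg.Agent.Lib.Techniques.KInfty

/-!
Isomorphisms carry the K-infinity subgroups to each other.
-/

set_option autoImplicit false
set_option linter.all false

namespace CfsgLib.Techniques

open Subgroup Cfsg

universe u

variable {P Q : Type*} [Group P] [Group Q] (e : P ≃* Q)

theorem map_centralizer_equiv (B : Subgroup P) :
    (Subgroup.centralizer (B : Set P)).map e.toMonoidHom =
      Subgroup.centralizer ((B.map e.toMonoidHom : Subgroup Q) : Set Q) := by
  ext y
  constructor
  · rintro ⟨x, hx, rfl⟩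
    rw [mem_centralizer_iff]
    rintro _ ⟨b, hb, rfl⟩
    rw [← map_mul, ← map_mul, mem_centralizer_iff.mp hx b hb]
  · intro hy
    refine ⟨e.symm y, mem_centralizer_iff.mpr fun b hb => ?_, e.apply_symm_apply y⟩
    apply e.injective
    have := mem_centralizer_iff.mp hy (e b) ⟨b, hb, rfl⟩
    simpa using this

theorem map_inf_centralizer_equiv (B : Subgroup P) :
    (B ⊓ Subgroup.centralizer (B : Set P)).map e.toMonoidHom =
      B.map e.toMonoidHom ⊓ Subgroup.centralizer ((B.map e.toMonoidHom : Subgroup Q) : Set Q) := by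
  rw [Subgroup.map_inf_eq _ _ _ e.injective, map_centralizer_equiv]

theorem map_le_normalizer_equiv (A B : Subgroup P) :
    A.map e.toMonoidHom ≤ Subgroup.normalizer ((B.map e.toMonoidHom : Subgroup Q) : Set Q) ↔
      A ≤ Subgroup.normalizer (B : Set P) := by
  rw [le_normalizer_iff_commutator_le_right, le_normalizer_iff_commutator_le_right,
    ← map_commutator, map_le_map_iff_of_injective e.injective]

theorem mem_classTwo_map_equiv (B : Subgroup P) :
    B.map e.toMonoidHom ∈ classTwoSubgroups Q ↔ B ∈ classTwoSubgroups P := by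
  show ⁅B.map e.toMonoidHom, B.map e.toMonoidHom⁆ ≤
      Subgroup.centralizer ((B.map e.toMonoidHom : Subgroup Q) : Set Q) ↔
    ⁅B, B⁆ ≤ Subgroup.centralizer (B : Set P)
  rw [← map_commutator, ← map_centralizer_equiv, map_le_map_iff_of_injective e.injective]

theorem mem_upper_map_equiv (B R : Subgroup P) :
    B.map e.toMonoidHom ∈ kUpperStarFamily (R.map e.toMonoidHom) ↔ B ∈ kUpperStarFamily R := by
  show _ ∧ _ ↔ _ ∧ _
  rw [mem_classTwo_map_equiv, ← map_commutator, ← map_inf_centralizer_equiv,
    map_le_map_iff_of_injective e.injective]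

theorem mem_lower_map_equiv_of (B R : Subgroup P) (h : B ∈ kLowerStarFamily R) :
    B.map e.toMonoidHom ∈ kLowerStarFamily (R.map e.toMonoidHom) := by
  refine ⟨(mem_classTwo_map_equiv e B).mpr h.1, (map_le_normalizer_equiv e R B).mpr h.2.1,
    fun A hA hAR hn h1 h3 => ?_⟩
  obtain ⟨A', rfl⟩ : ∃ A' : Subgroup P, A'.map e.toMonoidHom = A :=
    ⟨A.comap e.toMonoidHom, map_comap_eq_self_of_surjective e.surjective A⟩
  rw [← map_commutator, ← map_inf_centralizer_equiv, map_le_map_iff_of_injective e.injective]
  refine h.2.2 A' ((mem_classTwo_map_equiv e A').mp hA)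
    ((map_le_map_iff_of_injective e.injective).mp hAR) ((map_le_normalizer_equiv e B A').mp hn)
    ?_ ?_
  · rwa [← map_commutator, ← map_commutator, map_eq_bot_iff_of_injective _ e.injective] at h1
  · rwa [← map_inf_centralizer_equiv, ← map_commutator, ← map_commutator,
      map_eq_bot_iff_of_injective _ e.injective] at h3

theorem map_comp_symm_self (e : P ≃* Q) (C : Subgroup Q) :
    (C.map e.symm.toMonoidHom).map e.toMonoidHom = C := by
  rw [Subgroup.map_map]
  convert Subgroup.map_id C
  ext x; simp

theorem map_sSup_lower (R : Subgroup P) :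
    (sSup (kLowerStarFamily R)).map e.toMonoidHom = sSup (kLowerStarFamily (R.map e.toMonoidHom)) := by
  refine le_antisymm ?_ (sSup_le fun C hC => ?_)
  · rw [map_le_iff_le_comap]
    exact sSup_le fun B hB => map_le_iff_le_comap.mp (le_sSup (mem_lower_map_equiv_of e B R hB))
  · have := mem_lower_map_equiv_of e.symm C _ hC
    rw [show (R.map e.toMonoidHom).map e.symm.toMonoidHom = R from map_comp_symm_self e.symm R]
      at this
    rw [← map_comp_symm_self e C]
    exact map_mono (le_sSup this)

theorem map_sSup_upper (R : Subgroup P) :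
    (sSup (kUpperStarFamily R)).map e.toMonoidHom = sSup (kUpperStarFamily (R.map e.toMonoidHom)) := by
  refine le_antisymm ?_ (sSup_le fun C hC => ?_)
  · rw [map_le_iff_le_comap]
    exact sSup_le fun B hB => map_le_iff_le_comap.mp (le_sSup ((mem_upper_map_equiv e B R).mpr hB))
  · rw [← map_comp_symm_self e C] at hC ⊢
    exact map_mono (le_sSup ((mem_upper_map_equiv e _ R).mp hC))

theorem map_kSeqOdd (n : ℕ) : (kSeqOdd P n).map e.toMonoidHom = kSeqOdd Q n := by
  induction n with
  | zero => exact map_top_of_surjective _ e.surjective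
  | succ n ih =>
    show (sSup (kUpperStarFamily (sSup (kLowerStarFamily (kSeqOdd P n))))).map e.toMonoidHom = _
    rw [map_sSup_upper, map_sSup_lower, ih]
    rfl

theorem map_kSeqEven (n : ℕ) : (kSeqEven P n).map e.toMonoidHom = kSeqEven Q n := by
  show (sSup (kLowerStarFamily (kSeqOdd P n))).map e.toMonoidHom = _
  rw [map_sSup_lower, map_kSeqOdd]
  rfl

theorem map_kInfLower_equiv {P Q : Type u} [Group P] [Group Q] (e : P ≃* Q) :
    (kInfLower P).map e.toMonoidHom = kInfLower Q := by
  simp only [kInfLower, Subgroup.map_iSup, map_kSeqEven]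

theorem map_kInfUpper_equiv {P Q : Type u} [Group P] [Group Q] (e : P ≃* Q) :
    (kInfUpper P).map e.toMonoidHom = kInfUpper Q := by
  rw [kInfUpper, Subgroup.map_iInf (e.toMonoidHom) e.injective]
  simp only [map_kSeqOdd, kInfUpper]

theorem kInf_isCharPFunctor {p : ℕ} [Fact p.Prime] :
    IsCharPFunctor.{u} p kInfLower.{u} ∧ IsCharPFunctor.{u} p kInfUpper.{u} := by
  refine ⟨⟨fun Q _ _ hQ _ h => ?_, fun Q R _ _ _ _ e => map_kInfLower_equiv e⟩,
    ⟨fun Q _ _ hQ _ h => ?_, fun Q R _ _ _ _ e => map_kInfUpper_equiv e⟩⟩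
  · have := (centralizer_kInf_le hQ).1
    rw [h, coe_bot] at this
    obtain ⟨x, hx⟩ := exists_ne (1 : Q)
    exact hx (mem_bot.mp (this (by simp [mem_centralizer_iff])))
  · have := (centralizer_kInf_le hQ).2
    rw [h, coe_bot] at this
    obtain ⟨x, hx⟩ := exists_ne (1 : Q)
    exact hx (mem_bot.mp (this (by simp [mem_centralizer_iff])))

end CfsgLib.Techniques
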