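import Cfsg.Agent.Lib.Techniques.ChiefAction
import Cfsg.Agent.Lib.Techniques.KInfIso
import Cfsg.Agent.Lib.Core.Nilpotent
import Cfsg.Agent.Lib.Signalizer.PComponents
import Cfsg.Prelude.Def_PLocal

/-!
K-infinity subgroups and a critical subgroup of `O_p(G)`.
-/

set_option autoImplicit false
set_option linter.all false

namespace CfsgLib.Techniques

open Subgroup Cfsg
open scoped commutatorElement

universe u

variable {G : Type u} [Group G] [Finite G] {p : ℕ} [hp : Fact p.Prime]

/-! ### Stabilisers of sets of chief factors -/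

/-- Elements trivial on every chief factor satisfying `C`. -/
def seriesStab (C : Subgroup G → Subgroup G → Prop) : Subgroup G :=
  ⨅ F : {F : Subgroup G × Subgroup G // IsChiefFactor F.1 F.2 ∧ C F.1 F.2},
    haveI : F.1.2.Normal := F.2.1.2.2.1
    factorStab F.1.1 F.1.2

omit hp in
theorem mem_seriesStab {C : Subgroup G → Subgroup G → Prop} {x : G} :
    x ∈ seriesStab C ↔
      ∀ U V, IsChiefFactor U V → C U V → ⁅U, Subgroup.zpowers x⁆ ≤ V := by
  rw [seriesStab, mem_iInf]
  constructor
  · intro h U V hUV hC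
    haveI := hUV.2.1
    haveI := hUV.2.2.1
    exact mem_factorStab.mp (h ⟨(U, V), hUV, hC⟩)
  · rintro h ⟨⟨U, V⟩, hUV, hC⟩
    haveI := hUV.2.1
    haveI := hUV.2.2.1
    exact mem_factorStab.mpr (h U V hUV hC)

omit hp in
theorem seriesStab_normal (C : Subgroup G → Subgroup G → Prop) : (seriesStab C).Normal := by
  refine ⟨fun x hx g => ?_⟩
  rw [seriesStab, mem_iInf] at hx ⊢
  rintro ⟨⟨U, V⟩, hUV, hC⟩
  haveI := hUV.2.1
  haveI := hUV.2.2.1
  exact (factorStab_normal (U := U) (V := V)).conj_mem x (hx ⟨(U, V), hUV, hC⟩) g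

omit [Finite G] hp in
theorem quadratic_sup {W X Y : Subgroup G} (hW : ∀ a ∈ W, ∀ b ∈ W, a * b = b * a)
    (hWn : W.Normal) (hX : X ≤ W) (hY : Y ≤ W) {g : G}
    (h1 : ⁅⁅X, Subgroup.zpowers g⁆, Subgroup.zpowers g⁆ = ⊥)
    (h2 : ⁅⁅Y, Subgroup.zpowers g⁆, Subgroup.zpowers g⁆ = ⊥) :
    ⁅⁅X ⊔ Y, Subgroup.zpowers g⁆, Subgroup.zpowers g⁆ = ⊥ := by
  rw [commutator_eq_bot_iff_le_centralizer] at h1 h2 ⊢
  rw [commutator_le]
  intro u hu h hh
  have hYX : Y ≤ Subgroup.normalizer (X : Set G) := fun y hy => by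
    rw [mem_normalizer_iff]
    intro x
    constructor
    · intro hx; rwa [hW y (hY hy) x (hX hx), mul_inv_cancel_right]
    · intro hx
      have e : x = y⁻¹ * (y * x * y⁻¹) * y := by group
      rw [e, ← hW _ (hX hx) _ (inv_mem (hY hy)), inv_mul_cancel_right]
      exact hx
  rw [← SetLike.mem_coe, coe_mul_of_right_le_normalizer_left X Y hYX] at hu
  obtain ⟨x, hx, y, hy, rfl⟩ := Set.mem_mul.mp hu
  have e : ⁅x * y, h⁆ = (x * ⁅y, h⁆ * x⁻¹) * ⁅x, h⁆ := by
    simp only [commutatorElement_def]; group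
  have hyW : ⁅y, h⁆ ∈ W := by
    rw [commutatorElement_def, mul_assoc, mul_assoc]
    exact mul_mem (hY hy) (by simpa [mul_assoc] using hWn.conj_mem _ (inv_mem (hY hy)) h)
  rw [e, hW x (hX hx) _ hyW, mul_inv_cancel_right]
  exact mul_mem (h2 (commutator_mem_commutator hy hh)) (h1 (commutator_mem_commutator hx hh))

/-! ### The setting -/

/-- A critical subgroup `A` of `O_p(G)` (the parts used). -/
structure CriticalIn (p : ℕ) (A : Subgroup G) : Prop where
  le : A ≤ pCore p G
  normal : A.Normal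
  classTwo : ⁅A, A⁆ ≤ Subgroup.centralizer (A : Set G)
  central : ⁅pCore p G, A⁆ ≤ A ⊓ Subgroup.centralizer (A : Set G)
  faithful : ∀ φ : MulAut ↥(pCore p G), (orderOf φ).Coprime p →
    (∀ a : ↥(pCore p G), (a : G) ∈ A → φ a = a) → φ = 1

/-- The conclusion sought for one element. -/
def KWitness (p : ℕ) (A : Subgroup G) (g : G) : Prop :=
  iterCommutator A (Subgroup.zpowers g) 3 ≤ A ⊓ Subgroup.centralizer (A : Set G) ∧
    ⁅⁅A ⊓ Subgroup.centralizer (A : Set G), Subgroup.zpowers g⁆, Subgroup.zpowers g⁆ = ⊥ ∧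
    (Subgroup.centralizer ((pCore p G : Subgroup G) : Set G) ≤ pCore p G →
      ∃ U V : Subgroup G, IsChiefFactor U V ∧ U ≤ A ∧
        ⁅⁅U, Subgroup.zpowers g⁆, Subgroup.zpowers g⁆ ≤ V ∧ ¬ ⁅U, Subgroup.zpowers g⁆ ≤ V)

variable {A : Subgroup G}

theorem CriticalIn.mem_pCore_of_stab (hA : CriticalIn p A)
    (hC : Subgroup.centralizer ((pCore p G : Subgroup G) : Set G) ≤ pCore p G) {g : G}
    (hg : ∀ U V : Subgroup G, IsChiefFactor U V → U ≤ A →
      U ≤ A ⊓ Subgroup.centralizer (A : Set G) ∨ A ⊓ Subgroup.centralizer (A : Set G) ≤ V →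
      ⁅U, Subgroup.zpowers g⁆ ≤ V) : g ∈ pCore p G := by
  haveI := hA.normal
  set Z := A ⊓ Subgroup.centralizer (A : Set G) with hZ
  set N := seriesStab (fun U V : Subgroup G => U ≤ A ∧ (U ≤ Z ∨ Z ≤ V)) with hN
  haveI : N.Normal := seriesStab_normal _
  have hNp : IsPGroup p N := by
    intro x
    obtain ⟨x, hx⟩ := x
    refine ⟨(orderOf x).factorization p, Subtype.ext ?_⟩
    show x ^ p ^ (orderOf x).factorization p = 1
    set y := x ^ p ^ (orderOf x).factorization p with hy
    have hyo : (orderOf y).Coprime p := by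
      rw [hy, orderOf_pow_of_dvd (pow_ne_zero _ hp.out.ne_zero) (Nat.ordProj_dvd _ p)]
      exact (Nat.coprime_ordCompl hp.out (orderOf_pos x).ne').symm
    have hyN : y ∈ N := pow_mem hx _
    have hfix : ∀ a ∈ A, y * a = a * y := coprime_centralizes (Z := Z)
      ((CfsgLib.Core.isPGroup_pCore p G).to_le hA.le) inf_le_left hyo
      fun U V hUV hU hside => mem_seriesStab.mp hyN U V hUV ⟨hU, hside⟩
    have hφ : MulAut.conjNormal (H := pCore p G) y = 1 := by
      refine hA.faithful _ (hyo.coprime_dvd_left (orderOf_map_dvd _ y)) fun a ha => Subtype.ext ?_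
      rw [MulAut.conjNormal_apply, hfix _ ha, mul_inv_cancel_right]
    have hyT : y ∈ pCore p G := hC (mem_centralizer_iff.mpr fun t ht => by
      have := congrArg Subtype.val (DFunLike.congr_fun hφ ⟨t, ht⟩)
      rw [MulAut.conjNormal_apply] at this
      exact (mul_inv_eq_iff_eq_mul.mp this).symm)
    obtain ⟨k, hk⟩ := CfsgLib.Core.isPGroup_pCore p G ⟨y, hyT⟩
    exact orderOf_eq_one_iff.mp (Nat.eq_one_of_dvd_coprimes (hyo.pow_right k) dvd_rfl
      (orderOf_dvd_of_pow_eq_one (congrArg Subtype.val hk)))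
  exact CfsgLib.Core.le_pCore hNp (mem_seriesStab.mpr fun U V hUV h => hg U V hUV h.1 h.2)

variable (S : Sylow p G)
  (hno : ∀ g : G, g ∈ (S : Subgroup G) → g ∉ pCore p G → ¬ KWitness p A g)

include hno in
/-- Elements quadratic on `A / Z(A)` and on `Z(A)`. -/
theorem mem_pCore_of_quadratic (hA : CriticalIn p A) {g : G} (hg : g ∈ (S : Subgroup G))
    (h1 : ⁅⁅A, Subgroup.zpowers g⁆, Subgroup.zpowers g⁆ ≤ A ⊓ Subgroup.centralizer (A : Set G))
    (h2 : ⁅⁅A ⊓ Subgroup.centralizer (A : Set G), Subgroup.zpowers g⁆, Subgroup.zpowers g⁆ = ⊥) :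
    g ∈ pCore p G := by
  haveI := hA.normal
  by_contra hgT
  refine hno g hg hgT ⟨(commutator_mono h1 le_rfl).trans (commutator_le_left _ _), h2, fun hC => ?_⟩
  by_contra hne
  refine hgT (hA.mem_pCore_of_stab hC fun U V hUV hU hside => by_contra fun hn =>
    hne ⟨U, V, hUV, hU, ?_, hn⟩)
  rcases hside with h | h
  · exact ((commutator_mono (commutator_mono h le_rfl) le_rfl).trans h2.le).trans bot_le
  · exact ((commutator_mono (commutator_mono hU le_rfl) le_rfl).trans h1).trans h

/-- The elements of `A` whose commutators with `A` centralize `B`. -/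
def fixedPart (A B : Subgroup G) (hA : ⁅A, A⁆ ≤ Subgroup.centralizer (A : Set G)) : Subgroup G where
  carrier := {a | a ∈ A ∧ ∀ b ∈ A, ⁅a, b⁆ ∈ Subgroup.centralizer (B : Set G)}
  one_mem' := ⟨one_mem A, fun b _ => by rw [commutatorElement_one_left]; exact one_mem _⟩
  mul_mem' := by
    rintro a c ⟨ha, ha'⟩ ⟨hc, hc'⟩
    refine ⟨mul_mem ha hc, fun b hb => ?_⟩
    have e : ⁅a * c, b⁆ = (a * ⁅c, b⁆ * a⁻¹) * ⁅a, b⁆ := by
      simp only [commutatorElement_def]; group
    rw [e, mem_centralizer_iff.mp (hA (commutator_mem_commutator hc hb)) a ha, mul_inv_cancel_right]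
    exact mul_mem (hc' b hb) (ha' b hb)
  inv_mem' := by
    rintro a ⟨ha, ha'⟩
    refine ⟨inv_mem ha, fun b hb => ?_⟩
    have e : ⁅a⁻¹, b⁆ = a⁻¹ * ⁅a, b⁆⁻¹ * a := by
      simp only [commutatorElement_def]; group
    rw [e, mem_centralizer_iff.mp (inv_mem (hA (commutator_mem_commutator ha hb))) _ (inv_mem ha),
      inv_mul_cancel_right]
    exact inv_mem (ha' b hb)

omit [Finite G] hp in
theorem normalizer_le_normalizer_centralizer' (B : Subgroup G) :
    Subgroup.normalizer (B : Set G) ≤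
      Subgroup.normalizer ((Subgroup.centralizer (B : Set G) : Subgroup G) : Set G) :=
  le_normalizer_iff.mpr fun n hn c hc => mem_centralizer_iff.mpr fun b hb => by
    have := mem_centralizer_iff.mp hc (n⁻¹ * b * n) ((mem_normalizer_iff''.mp hn b).mp hb)
    calc b * (n * c * n⁻¹) = n * (n⁻¹ * b * n * c) * n⁻¹ := by group
      _ = n * (c * (n⁻¹ * b * n)) * n⁻¹ := by rw [this]
      _ = n * c * n⁻¹ * b := by group

omit [Finite G] hp in
theorem fixedPart_invariant (hA : ⁅A, A⁆ ≤ Subgroup.centralizer (A : Set G)) [A.Normal]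
    {B : Subgroup G} {X : Subgroup G}
    (hX : ∀ x ∈ X, ∀ z ∈ A ⊓ Subgroup.centralizer (A : Set G),
      z ∈ Subgroup.centralizer (B : Set G) → x * z * x⁻¹ ∈ Subgroup.centralizer (B : Set G)) :
    X ≤ Subgroup.normalizer ((fixedPart A B hA : Subgroup G) : Set G) := by
  refine le_normalizer_iff.mpr fun x hx a ha => ⟨(inferInstance : A.Normal).conj_mem a ha.1 x,
    fun b hb => ?_⟩
  have hb' : x⁻¹ * b * x ∈ A := by simpa using (inferInstance : A.Normal).conj_mem b hb x⁻¹
  have e : ⁅x * a * x⁻¹, b⁆ = x * ⁅a, x⁻¹ * b * x⁆ * x⁻¹ := by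
    simp only [commutatorElement_def]; group
  rw [e]
  exact hX x hx _ (mem_inf.mpr ⟨commutator_le_left A A (commutator_mem_commutator ha.1 hb'),
    hA (commutator_mem_commutator ha.1 hb')⟩) (ha.2 _ hb')

omit [Finite G] hp in
theorem le_normalizer_center {A B : Subgroup G} (h : A ≤ Subgroup.normalizer (B : Set G)) :
    A ≤ Subgroup.normalizer ((B ⊓ Subgroup.centralizer (B : Set G) : Subgroup G) : Set G) :=
  (h.trans (le_inf le_rfl (normalizer_le_normalizer_centralizer' B))).trans
    inf_normalizer_le_normalizer_inf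

include hno in
/-- Members of a lower family over a term containing `A` lie in `O_p(G)`. -/
theorem lower_le_pCore (hA : CriticalIn p A) {B : Subgroup G} (hBS : B ≤ (S : Subgroup G))
    (hB2 : ⁅B, B⁆ ≤ Subgroup.centralizer (B : Set G))
    (hAB : A ≤ Subgroup.normalizer (B : Set G))
    (hcond : ∀ A' : Subgroup G, A' ≤ A → ⁅A', A'⁆ ≤ Subgroup.centralizer (A' : Set G) →
      B ≤ Subgroup.normalizer (A' : Set G) → ⁅B, ⁅A', A'⁆⁆ = ⊥ →
      ⁅⁅B ⊓ Subgroup.centralizer (B : Set G), A'⁆, A'⁆ = ⊥ →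
      ⁅B, A'⁆ ≤ B ⊓ Subgroup.centralizer (B : Set G)) :
    B ≤ pCore p G := by
  haveI := hA.normal
  set Z := A ⊓ Subgroup.centralizer (A : Set G) with hZ
  set W := B ⊓ Subgroup.centralizer (B : Set G) with hW
  have hAW : ⁅A, W⁆ ≤ W := le_normalizer_iff_commutator_le_right.mp (le_normalizer_center hAB)
  have hAB' : ⁅A, B⁆ ≤ B := le_normalizer_iff_commutator_le_right.mp hAB
  have hWW : ⁅W, W⁆ = ⊥ :=
    commutator_eq_bot_iff_le_centralizer.mpr (inf_le_right.trans (centralizer_le inf_le_left))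
  have hWB : ⁅W, B⁆ = ⊥ := commutator_eq_bot_iff_le_centralizer.mpr inf_le_right
  have hWT : W ≤ pCore p G := by
    intro z hz
    have hzW : Subgroup.zpowers z ≤ W := zpowers_le.mpr hz
    have h1 : ⁅⁅A, Subgroup.zpowers z⁆, Subgroup.zpowers z⁆ = ⊥ := le_bot_iff.mp
      ((commutator_mono ((commutator_mono le_rfl hzW).trans hAW) hzW).trans hWW.le)
    exact mem_pCore_of_quadratic S hno hA (hBS (mem_inf.mp hz).1)
      (h1.le.trans bot_le) (le_bot_iff.mp
        ((commutator_mono (commutator_mono inf_le_left le_rfl) le_rfl).trans h1.le))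
  have hWA : ⁅W, A⁆ ≤ Z := (commutator_mono hWT le_rfl).trans hA.central
  have hZA : ⁅Z, A⁆ = ⊥ := commutator_eq_bot_iff_le_centralizer.mpr inf_le_right
  have hZZ : ⁅Z, Z⁆ = ⊥ := le_bot_iff.mp ((commutator_mono le_rfl inf_le_left).trans hZA.le)
  have hBZ : ⁅B, Z⁆ ≤ W := hcond Z inf_le_left (hZZ.le.trans bot_le)
    (by rw [normalizer_eq_top]; exact le_top) (by rw [hZZ, commutator_bot_right])
    (le_bot_iff.mp ((commutator_mono ((commutator_mono le_rfl inf_le_left).trans hWA)
      inf_le_left).trans hZA.le))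
  set UB := fixedPart A B hA.classTwo with hUB
  have hUBA : UB ≤ A := fun a ha => ha.1
  have hBUB : B ≤ Subgroup.normalizer ((UB : Subgroup G) : Set G) :=
    fixedPart_invariant hA.classTwo fun x hx z _ hz =>
      le_normalizer_iff.mp ((le_normalizer (H := B)).trans (normalizer_le_normalizer_centralizer' B))
        x hx z hz
  have hUBc : ⁅UB, UB⁆ ≤ Subgroup.centralizer (B : Set G) :=
    commutator_le.mpr fun a ha b hb => ha.2 b (hUBA hb)
  have hBU : ⁅B, UB⁆ ≤ W := hcond UB hUBA
    ((commutator_mono hUBA hUBA).trans (hA.classTwo.trans (centralizer_le hUBA)))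
    hBUB (commutator_eq_bot_iff_le_centralizer.mpr (le_centralizer_iff.mp hUBc))
    (le_bot_iff.mp ((commutator_mono ((commutator_mono le_rfl hUBA).trans hWA) hUBA).trans hZA.le))
  intro g hg
  have hgB : Subgroup.zpowers g ≤ B := zpowers_le.mpr hg
  have hAgg : ⁅⁅A, Subgroup.zpowers g⁆, Subgroup.zpowers g⁆ ≤ A ⊓ ⁅B, B⁆ :=
    le_inf ((commutator_mono (commutator_le_left _ _) le_rfl).trans (commutator_le_left _ _))
      (commutator_mono ((commutator_mono le_rfl hgB).trans hAB') hgB)
  have hZgg : ⁅⁅Z, Subgroup.zpowers g⁆, Subgroup.zpowers g⁆ = ⊥ := le_bot_iff.mp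
    ((commutator_mono ((commutator_mono le_rfl hgB).trans (by rw [commutator_comm]; exact hBZ))
      hgB).trans hWB.le)
  by_contra hgT
  have h3 : iterCommutator A (Subgroup.zpowers g) 3 = ⊥ := le_bot_iff.mp
    ((commutator_mono (hAgg.trans inf_le_right) hgB).trans
      (commutator_eq_bot_iff_le_centralizer.mpr hB2).le)
  refine hno g (hBS hg) hgT ⟨h3.le.trans bot_le, hZgg, fun hC => ?_⟩
  by_contra hne
  have hlow : ∀ U V : Subgroup G, IsChiefFactor U V → U ≤ Z → ⁅U, Subgroup.zpowers g⁆ ≤ V :=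
    fun U V hUV hU => by_contra fun hn => hne ⟨U, V, hUV, hU.trans inf_le_left,
      ((commutator_mono (commutator_mono hU le_rfl) le_rfl).trans hZgg.le).trans bot_le, hn⟩
  refine hgT (hA.mem_pCore_of_stab hC fun U V hUV hU hside => ?_)
  rcases hside with hUZ | hZV
  · exact hlow U V hUV hUZ
  by_contra hn
  refine hne ⟨U, V, hUV, hU, ?_, hn⟩
  -- the subgroup `K ⟨g⟩`
  set NZ := seriesStab (fun U V : Subgroup G => U ≤ Z) with hNZ
  haveI hNZn : NZ.Normal := seriesStab_normal _
  set K := Subgroup.closure {x | x ∈ NZ ∧ (orderOf x).Coprime p} with hK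
  have hKNZ : K ≤ NZ := (closure_le _).mpr fun x hx => hx.1
  haveI hKn : K.Normal := Subgroup.Normal.mk fun x hx h => by
    have : K.map (MulAut.conj h).toMonoidHom ≤ K := by
      rw [map_le_iff_le_comap, hK, closure_le]
      intro y hy
      refine subset_closure ⟨hNZn.conj_mem y hy.1 h, ?_⟩
      show (orderOf ((MulAut.conj h).toMonoidHom y)).Coprime p
      rw [MulEquiv.coe_toMonoidHom, MulEquiv.orderOf_eq]
      exact hy.2
    exact this ⟨x, hx, rfl⟩
  have hKZ : K ≤ Subgroup.centralizer (Z : Set G) := by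
    rw [hK, closure_le]
    intro x hx
    refine mem_centralizer_iff.mpr fun z hz => (coprime_centralizes (A := Z) (Z := Z)
      ((CfsgLib.Core.isPGroup_pCore p G).to_le (inf_le_left.trans hA.le)) le_rfl hx.2
      (fun U V hUV hUZ _ => mem_seriesStab.mp hx.1 U V hUV hUZ) z hz).symm
  have hgN : g ∈ NZ := mem_seriesStab.mpr hlow
  set H := K ⊔ Subgroup.zpowers g with hH
  have hHN : H ≤ NZ := sup_le hKNZ (zpowers_le.mpr hgN)
  have hHsn : H.IsSubnormal := by
    refine IsSubnormal.trans hHN ?_ (Subgroup.Normal.isSubnormal inferInstance)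
    set f := QuotientGroup.mk' (K.subgroupOf NZ)
    have hQ : IsPGroup p (↥NZ ⧸ K.subgroupOf NZ) := by
      intro q
      obtain ⟨x, rfl⟩ := QuotientGroup.mk'_surjective (K.subgroupOf NZ) q
      refine ⟨(orderOf x).factorization p, ?_⟩
      rw [← map_pow, QuotientGroup.mk'_apply, QuotientGroup.eq_one_iff, mem_subgroupOf]
      refine subset_closure ⟨(x ^ p ^ (orderOf x).factorization p : NZ).2, ?_⟩
      rw [orderOf_coe, orderOf_pow_of_dvd (pow_ne_zero _ hp.out.ne_zero) (Nat.ordProj_dvd _ p)]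
      exact (Nat.coprime_ordCompl hp.out (orderOf_pos x).ne').symm
    have e : H.subgroupOf NZ = ((H.subgroupOf NZ).map f).comap f := by
      rw [comap_map_eq, QuotientGroup.ker_mk', left_eq_sup]
      exact comap_mono le_sup_left
    rw [e]
    haveI := hQ.isNilpotent
    exact ((CfsgLib.Core.isNilpotent_iff_isSubnormal).mp inferInstance _).comap f
  have hUU : ⁅U, U⁆ ≤ V :=
    ((le_inf (commutator_le_left A A) hA.classTwo).trans' (commutator_mono hU hU)).trans hZV
  haveI := hUV.2.1
  haveI := hUV.2.2.1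
  have hHUB : H ≤ Subgroup.normalizer ((UB : Subgroup G) : Set G) := by
    refine sup_le (fixedPart_invariant hA.classTwo fun x hx z hz hzc => ?_) (hgB.trans hBUB)
    rw [← mem_centralizer_iff.mp (hKZ hx) z hz, mul_inv_cancel_right]
    exact hzc
  have hMinv : InvBetween H U V (UB ⊓ U ⊔ V) :=
    ⟨le_sup_right, sup_le inf_le_right hUV.1.le,
      (le_inf ((le_inf hHUB (by rw [normalizer_eq_top]; exact le_top)).trans
        inf_normalizer_le_normalizer_inf) (by rw [normalizer_eq_top (H := V)]; exact le_top)).trans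
        (normalizer_inf_normalizer_le_normalizer_sup _ _)⟩
  obtain ⟨L, hL, hsup, hinf⟩ := semisimple_of_subnormal hUV hUU hHsn _ hMinv
  have hgH : Subgroup.zpowers g ≤ H := le_sup_right
  have hUBA' : ⁅⁅U, Subgroup.zpowers g⁆, Subgroup.zpowers g⁆ ≤ UB ⊓ U := by
    refine le_inf (fun y hy => ?_)
      ((commutator_mono (commutator_le_left _ _) le_rfl).trans (commutator_le_left _ _))
    obtain ⟨hyA, hyBB⟩ := mem_inf.mp (hAgg ((commutator_mono (commutator_mono hU le_rfl) le_rfl) hy))
    refine ⟨hyA, fun b hb => ?_⟩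
    have hyW : y ∈ W := mem_inf.mpr ⟨commutator_le_self B hyBB, hB2 hyBB⟩
    refine (mem_inf.mp (hAW ?_)).2
    rw [commutator_comm]
    exact commutator_mem_commutator hyW hb
  have hqL : ⁅⁅L, Subgroup.zpowers g⁆, Subgroup.zpowers g⁆ ≤ V := by
    rw [← hinf]
    refine le_inf (((commutator_mono (commutator_mono hL.2.1 le_rfl) le_rfl).trans hUBA').trans
      le_sup_left) ?_
    have h := le_normalizer_iff_commutator_le_left.mp (hgH.trans hL.2.2)
    exact (commutator_mono h le_rfl).trans h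
  have hqM : ⁅⁅UB ⊓ U, Subgroup.zpowers g⁆, Subgroup.zpowers g⁆ ≤ V :=
    ((commutator_mono ((commutator_mono inf_le_left hgB).trans (by rw [commutator_comm]; exact hBU))
      hgB).trans hWB.le).trans bot_le
  set π := QuotientGroup.mk' V with hπ
  have hker : ∀ X : Subgroup G, X ≤ V ↔ X.map π = ⊥ := fun X => by
    rw [Subgroup.map_eq_bot_iff, hπ, QuotientGroup.ker_mk']
  rw [hker, map_commutator, map_commutator, MonoidHom.map_zpowers, ← hsup, Subgroup.map_sup,
    Subgroup.map_sup, (hker V).mp le_rfl, sup_bot_eq]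
  refine quadratic_sup (W := U.map π) ?_ (‹U.Normal›.map π (QuotientGroup.mk'_surjective V))
    (map_mono inf_le_right) (map_mono hL.2.1) ?_ ?_
  · intro a ha b hb
    rw [← commutatorElement_eq_one_iff_mul_comm, ← mem_bot, ← (hker _).mp hUU, map_commutator]
    exact commutator_mem_commutator ha hb
  · rw [← MonoidHom.map_zpowers, ← map_commutator, ← map_commutator]
    exact (hker _).mp hqM
  · rw [← MonoidHom.map_zpowers, ← map_commutator, ← map_commutator]
    exact (hker _).mp hqL

include hno in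
/-- Members of an upper family over a term containing `A` lie in `O_p(G)`. -/
theorem upper_le_pCore (hA : CriticalIn p A) {B : Subgroup G} (hBS : B ≤ (S : Subgroup G))
    (hBA : ⁅B, A⁆ ≤ B ⊓ Subgroup.centralizer (B : Set G)) : B ≤ pCore p G := by
  intro g hg
  have hgB : Subgroup.zpowers g ≤ B := zpowers_le.mpr hg
  have h1 : ⁅⁅A, Subgroup.zpowers g⁆, Subgroup.zpowers g⁆ = ⊥ := le_bot_iff.mp
    ((commutator_mono ((commutator_mono le_rfl hgB).trans (by rw [commutator_comm]; exact hBA))
      hgB).trans (commutator_eq_bot_iff_le_centralizer.mpr inf_le_right).le)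
  exact mem_pCore_of_quadratic S hno hA (hBS hg) (h1.le.trans bot_le) (le_bot_iff.mp
    ((commutator_mono (commutator_mono inf_le_left le_rfl) le_rfl).trans h1.le))

include hno in
/-- What makes `A` a member of every lower family. -/
theorem commutator_le_center_of_family (hA : CriticalIn p A) {A' : Subgroup G}
    (hA'S : A' ≤ (S : Subgroup G))
    (hn : A ≤ Subgroup.normalizer (A' : Set G)) (h1 : ⁅A, ⁅A', A'⁆⁆ = ⊥)
    (h2 : ⁅⁅A ⊓ Subgroup.centralizer (A : Set G), A'⁆, A'⁆ = ⊥) :
    ⁅A, A'⁆ ≤ A ⊓ Subgroup.centralizer (A : Set G) := by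
  haveI := hA.normal
  have hle : A' ≤ pCore p G := fun g hg => by
    have hgA : Subgroup.zpowers g ≤ A' := zpowers_le.mpr hg
    refine mem_pCore_of_quadratic S hno hA (hA'S hg) (le_inf
      ((commutator_mono (commutator_le_left _ _) le_rfl).trans (commutator_le_left _ _))
      (le_trans ?_ (le_centralizer_iff.mp (commutator_eq_bot_iff_le_centralizer.mp h1))))
      (le_bot_iff.mp ((commutator_mono (commutator_mono le_rfl hgA) hgA).trans h2.le))
    exact commutator_mono ((commutator_mono le_rfl hgA).trans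
      (le_normalizer_iff_commutator_le_right.mp hn)) hgA
  calc ⁅A, A'⁆ = ⁅A', A⁆ := commutator_comm _ _
    _ ≤ ⁅pCore p G, A⁆ := commutator_mono hle le_rfl
    _ ≤ _ := hA.central

include hno in
/-- All terms of the K-sequence of `S` lie in `O_p(G)`. -/
theorem kSeq_le_pCore (hA : CriticalIn p A) (n : ℕ) :
    (kSeqEven ↥(S : Subgroup G) n).map (S : Subgroup G).subtype ≤ pCore p G ∧
      (kSeqOdd ↥(S : Subgroup G) (n + 1)).map (S : Subgroup G).subtype ≤ pCore p G := by
  haveI := hA.normal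
  have hAS : A ≤ (S : Subgroup G) := hA.le.trans (CfsgLib.Core.pCore_le_sylow S)
  set AS := A.subgroupOf (S : Subgroup G) with hASdef
  have hASm : AS.map (S : Subgroup G).subtype = A := map_subgroupOf_eq_of_le hAS
  have hASn : ∀ R : Subgroup ↥(S : Subgroup G),
      R ≤ Subgroup.normalizer (AS : Set ↥(S : Subgroup G)) := fun R => by
    rw [normalizer_eq_top]; exact le_top
  have hAS2 : AS ∈ classTwoSubgroups ↥(S : Subgroup G) := by
    rw [← mem_classTwo_map_iff, hASm]; exact hA.classTwo
  have hASlow : ∀ R, AS ∈ kLowerStarFamily R := by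
    intro R
    refine ⟨hAS2, hASn R, fun A' _ _ hn h1 h3 => ?_⟩
    have := commutator_le_center_of_family S hno hA (map_subtype_le A')
      (by rw [← hASm]; exact (le_normalizer_map_iff AS A').mpr hn)
      (by rw [← hASm, ← map_commutator, ← map_commutator, h1, Subgroup.map_bot])
      (by rw [← hASm, ← map_inf_centralizer, ← map_commutator, ← map_commutator, h3,
        Subgroup.map_bot])
    rwa [← hASm, ← map_commutator, ← map_inf_centralizer,
      map_le_map_iff_of_injective (Subgroup.subtype_injective _)] at this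
  have hlow : ∀ R, AS ≤ R → ∀ B ∈ kLowerStarFamily R,
      B.map (S : Subgroup G).subtype ≤ pCore p G := by
    intro R hR B hB
    refine lower_le_pCore S hno hA (map_subtype_le B) ((mem_classTwo_map_iff B).mpr hB.1)
      (by rw [← hASm]; exact (le_normalizer_map_iff AS B).mpr (hR.trans hB.2.1)) fun A' hA'A => ?_
    obtain ⟨A'', rfl⟩ : ∃ A'' : Subgroup ↥(S : Subgroup G), A''.map (S : Subgroup G).subtype = A' :=
      ⟨A'.subgroupOf _, map_subgroupOf_eq_of_le (hA'A.trans hAS)⟩
    intro h2 hn h1 h3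
    rw [← map_commutator, ← map_inf_centralizer,
      map_le_map_iff_of_injective (Subgroup.subtype_injective _)]
    refine hB.2.2 A'' ((mem_classTwo_map_iff A'').mp h2) ?_ ((le_normalizer_map_iff B A'').mp hn)
      ?_ ?_
    · refine le_trans ?_ hR
      rw [← map_le_map_iff_of_injective (Subgroup.subtype_injective (S : Subgroup G)), hASm]
      exact hA'A
    · rwa [← map_commutator, ← map_commutator,
        map_eq_bot_iff_of_injective _ (Subgroup.subtype_injective _)] at h1
    · rwa [← map_inf_centralizer, ← map_commutator, ← map_commutator,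
        map_eq_bot_iff_of_injective _ (Subgroup.subtype_injective _)] at h3
  have hevenA : ∀ m, AS ≤ kSeqEven ↥(S : Subgroup G) m := fun m => by
    rw [kSeqEven_def]; exact le_sSup (hASlow _)
  have heven : ∀ m, AS ≤ kSeqOdd ↥(S : Subgroup G) m →
      (kSeqEven ↥(S : Subgroup G) m).map (S : Subgroup G).subtype ≤ pCore p G := fun m hm => by
    rw [map_le_iff_le_comap, kSeqEven_def]
    exact sSup_le fun B hB => map_le_iff_le_comap.mp (hlow _ hm B hB)
  have hodd : ∀ m, AS ≤ kSeqOdd ↥(S : Subgroup G) m := by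
    intro m
    induction m with
    | zero => exact le_top
    | succ m ih =>
      rw [kSeqOdd_succ]
      refine le_sSup ⟨hAS2, ?_⟩
      rw [← map_le_map_iff_of_injective (Subgroup.subtype_injective (S : Subgroup G)),
        map_commutator, map_inf_centralizer, hASm, commutator_comm]
      exact (commutator_mono (heven m ih) le_rfl).trans hA.central
  refine ⟨heven n (hodd n), ?_⟩
  rw [map_le_iff_le_comap, kSeqOdd_succ]
  refine sSup_le fun B hB => map_le_iff_le_comap.mp
    (upper_le_pCore S hno hA (map_subtype_le B) ?_)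
  rw [← hASm, ← map_commutator, ← map_inf_centralizer,
    map_le_map_iff_of_injective (Subgroup.subtype_injective _)]
  exact (commutator_mono le_rfl (hevenA n)).trans hB.2

include hno in
/-- Both K-infinity subgroups of `S` are then normal. -/
theorem kInf_normal (hA : CriticalIn p A) :
    (inducedFunctor kInfLower (S : Subgroup G)).Normal ∧
      (inducedFunctor kInfUpper (S : Subgroup G)).Normal := by
  have hTS : pCore p G ≤ (S : Subgroup G) := CfsgLib.Core.pCore_le_sylow S
  set T := (pCore p G).subgroupOf (S : Subgroup G) with hT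
  obtain ⟨hl, hu⟩ := map_kInf_eq (Q := T) fun n => by
    have := kSeq_le_pCore S hno hA n
    exact ⟨map_le_iff_le_comap.mp this.1, map_le_iff_le_comap.mp this.2⟩
  let e : ↥T ≃* ↥(pCore p G) := subgroupOfEquivOfLe hTS
  have key : ∀ W : ∀ (Q : Type u) [Group Q], Subgroup Q,
      (∀ (P Q : Type u) [Group P] [Group Q] (e : P ≃* Q), (W P).map e.toMonoidHom = W Q) →
      (W ↥T).map T.subtype = W ↥(S : Subgroup G) →
      (inducedFunctor W (S : Subgroup G)).Normal := by
    intro W hW h
    haveI : (W ↥(pCore p G)).Characteristic :=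
      characteristic_iff_map_eq.mpr fun φ => hW _ _ φ
    have e1 : inducedFunctor W (S : Subgroup G) = (W ↥(pCore p G)).map (pCore p G).subtype := by
      show (W ↥(S : Subgroup G)).map (S : Subgroup G).subtype = _
      rw [← h, ← hW _ _ e, Subgroup.map_map, Subgroup.map_map]
      rfl
    rw [e1]
    infer_instance
  exact ⟨key (fun Q _ => kInfLower Q) (fun P Q _ _ e => map_kInfLower_equiv e) hl,
    key (fun Q _ => kInfUpper Q) (fun P Q _ _ e => map_kInfUpper_equiv e) hu⟩

end CfsgLib.Techniques
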