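import Cfsg.Agent.Lib.Techniques.KInfty
import Cfsg.Agent.Lib.LocalEven.Qd
import Cfsg.Prelude.Def_PLocal

/-!
The lower K-infinity subgroup does not control fusion in `Qd(p)`.
-/

set_option autoImplicit false

namespace CfsgLib.Techniques

open Subgroup Cfsg
open scoped MatrixGroups

universe u

theorem kInfLower_eq_top_of_classTwo {P : Type u} [Group P]
    (h : ⁅(⊤ : Subgroup P), (⊤ : Subgroup P)⁆ ≤ centralizer ((⊤ : Subgroup P) : Set P)) :
    kInfLower P = ⊤ := by
  have h1 : (⊤ : Subgroup P) ∈ kLowerStarFamily (kSeqOdd P 0) :=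
    ⟨h, by rw [Subgroup.normalizer_eq_top]; exact le_top, fun A _ _ _ _ _ =>
      le_inf le_top ((commutator_mono le_rfl le_top).trans h)⟩
  exact top_le_iff.1 ((le_sSup h1).trans (le_iSup (fun n => kSeqEven P n) 0))

theorem classTwo_of_card_dvd {p : ℕ} [Fact p.Prime] {P : Type*} [Group P] [Finite P]
    (hP : IsPGroup p P) (h : Nat.card P ∣ p ^ 3) :
    ⁅(⊤ : Subgroup P), (⊤ : Subgroup P)⁆ ≤ center P := by
  rcases subsingleton_or_nontrivial P with hs | hnt
  · intro x _
    rw [Subsingleton.elim x 1]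
    exact one_mem _
  · haveI := hP.center_nontrivial
    have hp := (Fact.out : p.Prime)
    have hZ : p ∣ Nat.card (center P) := by
      obtain ⟨n, hn⟩ := IsPGroup.iff_card.1 (hP.to_subgroup (center P))
      rcases n with - | n
      · exact absurd (Finite.one_lt_card (α := center P)) (by simp [hn])
      · rw [hn]; exact dvd_pow_self p (by omega)
    have hq : Nat.card (P ⧸ center P) ∣ p ^ 2 := by
      have h1 := (Subgroup.card_eq_card_quotient_mul_card_subgroup (center P)) ▸ h
      obtain ⟨c, hc⟩ := hZ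
      rw [hc, ← mul_assoc, mul_comm _ p, mul_assoc, pow_succ' p 2] at h1
      exact (Dvd.intro _ rfl).trans ((Nat.mul_dvd_mul_iff_left hp.pos).1 h1)
    have hcomm : ∀ a b : P ⧸ center P, a * b = b * a := by
      obtain ⟨j, hj, hje⟩ := (Nat.dvd_prime_pow hp).1 hq
      interval_cases j
      · intro a b
        haveI := (Nat.card_eq_one_iff_unique.1 (by simpa using hje)).1
        exact Subsingleton.elim _ _
      · haveI := isCyclic_of_prime_card (α := P ⧸ center P) (by simpa using hje)
        exact fun a b => (IsCyclic.commGroup (α := P ⧸ center P)).mul_comm a b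
      · exact IsPGroup.commutative_of_card_eq_prime_sq hje
    refine commutator_le.2 fun x _ y _ => ?_
    rw [← QuotientGroup.eq_one_iff, commutatorElement_def]
    simp only [QuotientGroup.mk_mul, QuotientGroup.mk_inv]
    rw [hcomm (x : P ⧸ center P) y]
    group

variable {p : ℕ} [hp : Fact p.Prime]

theorem not_kInf_controls_qd {X : Type u} [Group X] [Finite X] (e₀ : X ≃* ↥(Cfsg.qd p))
    (T : Sylow p X) :
    ¬ ControlsStrongFusion p (inducedFunctor kInfLower (T : Subgroup X)) := by
  classical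
  let e : X ≃* ↥(Cfsg.qdOver (ZMod p)) := e₀
  set π : X →* SL(2, ZMod p) := (CfsgLib.LocalEven.Qd.block (ZMod p)).comp e.toMonoidHom with hπ
  have hπs : Function.Surjective π := by
    intro A
    obtain ⟨x, hx⟩ := e.surjective (CfsgLib.LocalEven.Qd.mkElt (ZMod p) A 0)
    exact ⟨x, (congrArg _ hx).trans (CfsgLib.LocalEven.Qd.block_mkElt A 0)⟩
  have hidx : π.ker.index = p * (p ^ 2 - 1) := by
    rw [Subgroup.index_ker, MonoidHom.range_eq_top.2 hπs, Subgroup.card_top,
      CfsgLib.Classical.Two.card_SL_two, ZMod.card]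
  have hker : Nat.card π.ker = p ^ 2 := by
    have h1 : π.ker.map e.toMonoidHom = (CfsgLib.LocalEven.Qd.block (ZMod p)).ker := by
      rw [hπ, ← MonoidHom.comap_ker, map_comap_eq_self_of_surjective e.surjective]
    rw [Nat.card_congr (Subgroup.equivMapOfInjective π.ker e.toMonoidHom e.injective).toEquiv, h1,
      ← Nat.card_congr Additive.toMul, Nat.card_congr (CfsgLib.LocalEven.Qd.kerEquiv (ZMod p)).toEquiv,
      Nat.card_fun, Nat.card_zmod, Nat.card_fin]
  have hkp : IsPGroup p π.ker := IsPGroup.of_card hker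
  have hcard : Nat.card X = p ^ 3 * (p ^ 2 - 1) := by
    rw [← Subgroup.index_mul_card π.ker, hidx, hker]; ring
  have hTd : Nat.card T ∣ p ^ 3 := by
    obtain ⟨k, hk⟩ := IsPGroup.iff_card.1 T.2
    have h1 := Subgroup.card_subgroup_dvd_card (T : Subgroup X)
    rw [hk, hcard] at h1
    have h2 : (p ^ k).Coprime (p ^ 2 - 1) := by
      refine Nat.Coprime.pow_left k ((Nat.Prime.coprime_iff_not_dvd hp.out).2 fun hd => ?_)
      exact CfsgLib.Classical.Two.not_dvd_card_sq_sub_one (F := ZMod p) p (by rwa [ZMod.card])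
    rw [hk]
    exact h2.dvd_of_dvd_mul_right h1
  have hTn : ¬ (T : Subgroup X).Normal := by
    intro hn
    have h1 : (T : Subgroup X) ≤ π.ker := by
      intro t ht
      have hm : ((T : Subgroup X).map π) ≤ Cfsg.pCore p SL(2, ZMod p) := by
        haveI := hn.map π hπs
        exact CfsgLib.Core.le_pCore (T.2.map π)
      rw [CfsgLib.LocalEven.Qd.pCore_SL_two_eq_bot p] at hm
      exact mem_bot.1 (hm (mem_map_of_mem π ht))
    exact T.not_dvd_index ((hidx ▸ dvd_mul_right p _ : p ∣ π.ker.index).trans (index_dvd_of_le h1))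
  have hKT : inducedFunctor kInfLower (T : Subgroup X) = (T : Subgroup X) := by
    rw [inducedFunctor, kInfLower_eq_top_of_classTwo, ← MonoidHom.range_eq_map, Subgroup.range_subtype]
    rw [Subgroup.coe_top, Subgroup.centralizer_univ]
    exact classTwo_of_card_dvd T.2 hTd
  have hC : centralizer (π.ker : Set X) ≤ π.ker := by
    intro x hx
    rw [MonoidHom.mem_ker]
    have key : ∀ v : Fin 2 → ZMod p, ((CfsgLib.LocalEven.Qd.block (ZMod p) (e x) : SL(2, ZMod p)) :
        Matrix (Fin 2) (Fin 2) (ZMod p)).mulVec v = v := by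
      intro v
      have hm : e.symm (CfsgLib.LocalEven.Qd.mkElt (ZMod p) 1 v) ∈ π.ker := by
        rw [MonoidHom.mem_ker, hπ, MonoidHom.comp_apply, MulEquiv.coe_toMonoidHom, e.apply_symm_apply]
        exact CfsgLib.LocalEven.Qd.block_mkElt 1 v
      have h := congrArg (fun y => CfsgLib.LocalEven.Qd.trans (e y))
        (mem_centralizer_iff.1 hx _ hm)
      simp only [map_mul, e.apply_symm_apply, CfsgLib.LocalEven.Qd.trans_mul,
        CfsgLib.LocalEven.Qd.trans_mkElt, CfsgLib.LocalEven.Qd.block_mkElt,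
        Matrix.SpecialLinearGroup.coe_one, Matrix.one_mulVec] at h
      rw [add_comm _ v] at h
      exact (add_right_cancel h).symm
    apply Subtype.ext
    ext i j
    have := congrFun (key (Pi.single j 1)) i
    rw [Matrix.mulVec_single_one] at this
    simpa [hπ, Matrix.one_apply, Pi.single_apply] using this
  rintro ⟨T', hUT, hctl⟩
  rw [hKT] at hUT hctl
  have hTT : (T : Subgroup X) = T' := (T.3 T'.2 hUT).symm
  have hVT : π.ker ≤ (T : Subgroup X) :=
    (CfsgLib.Core.le_pCore hkp).trans (CfsgLib.Core.pCore_le_sylow T)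
  apply hTn
  rw [← normalizer_eq_top_iff, eq_top_iff]
  intro g _
  obtain ⟨-, hc⟩ := hctl (π.ker : Set X) (fun a ha => hTT ▸ hVT ha)
  obtain ⟨x, hx, heq⟩ := hc g (by
    rintro _ ⟨a, ha, rfl⟩
    exact hTT ▸ hVT ((MonoidHom.normal_ker π).conj_mem a ha g))
  have hmem : x⁻¹ * g ∈ centralizer (π.ker : Set X) := by
    rw [mem_centralizer_iff]
    intro a ha
    have := heq a ha
    calc a * (x⁻¹ * g) = x⁻¹ * (x * a * x⁻¹) * g := by group
      _ = x⁻¹ * (g * a * g⁻¹) * g := by rw [this]
      _ = x⁻¹ * g * a := by group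
  have := mul_mem hx (le_normalizer (hVT (hC hmem)))
  rwa [mul_inv_cancel_left] at this

end CfsgLib.Techniques
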