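import Cfsg.Agent.Lib.Techniques.KInfCritical
import Cfsg.Agent.Lib.Techniques.CriticalDegree
import Cfsg.Agent.Lib.Techniques.CriterionStructure
import Cfsg.Agent.Lib.Transfer.CoprimeAut
import Cfsg.Agent.S1969
import Cfsg.Agent.S1972

/-!
Consequences for the K-infinity subgroups of a non-normal K-infinity subgroup.
-/

set_option autoImplicit false
set_option linter.all false

namespace CfsgLib.Techniques

open Subgroup Cfsg
open scoped commutatorElement

universe u

variable {p : ℕ} [hp : Fact p.Prime]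

theorem exists_criticalIn (G : Type u) [Group G] [Finite G] :
    ∃ A : Subgroup G, CriticalIn p A ∧
      pCore p G ⊓ Subgroup.centralizer (A : Set G) ≤ A := by
  have hTp := CfsgLib.Core.isPGroup_pCore p G
  haveI : (pCore p G).Normal := CfsgLib.Core.normal_pCore p G
  set T := pCore p G
  obtain ⟨H, hH, -, hc, hC⟩ := CfsgLib.Transfer.exists_critical hTp
  haveI := hH
  have hcen : ⁅T, H.map T.subtype⁆ ≤
      H.map T.subtype ⊓ Subgroup.centralizer ((H.map T.subtype : Subgroup G) : Set G) := by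
    have h1 := map_mono (f := T.subtype) hc
    rw [map_commutator, ← MonoidHom.range_eq_map, range_subtype, map_inf_centralizer,
      commutator_comm] at h1
    exact h1
  refine ⟨H.map T.subtype, ⟨map_subtype_le H, inferInstance, ?_, hcen, fun φ hφ hfix => ?_⟩, ?_⟩
  · exact (commutator_mono (map_subtype_le H) le_rfl).trans (hcen.trans inf_le_right)
  · exact CfsgLib.Transfer.eq_one_of_fixes_centralizer_le hTp φ hφ (pow_orderOf_eq_one φ) hC
      fun x hx => hfix x (mem_map_of_mem _ hx)
  · intro t ht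
    obtain ⟨htT, htc⟩ := mem_inf.mp ht
    refine ⟨⟨t, htT⟩, hC (mem_centralizer_iff.mpr fun b hb => Subtype.ext ?_), rfl⟩
    exact mem_centralizer_iff.mp htc _ (mem_map_of_mem T.subtype hb)

/-- What is deduced from a non-normal K-infinity subgroup. -/
def KBad (p : ℕ) {G : Type u} [Group G] (g : G) : Prop :=
  (∀ U V : Subgroup G, IsChiefFactor U V → U ≤ pCore p G →
      iterCommutator U (Subgroup.zpowers g) 4 ≤ V) ∧
    ⁅⁅pCore p G ⊓ Subgroup.centralizer ((pCore p G : Subgroup G) : Set G), Subgroup.zpowers g⁆,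
      Subgroup.zpowers g⁆ = ⊥ ∧
    (Subgroup.centralizer ((pCore p G : Subgroup G) : Set G) ≤ pCore p G →
      ∃ U V : Subgroup G, IsChiefFactor U V ∧ U ≤ pCore p G ∧
        ⁅⁅U, Subgroup.zpowers g⁆, Subgroup.zpowers g⁆ ≤ V ∧ ¬ ⁅U, Subgroup.zpowers g⁆ ≤ V)

theorem exists_kBad {G : Type u} [Group G] [Finite G] (S : Sylow p G)
    (h : ¬ (inducedFunctor kInfLower (S : Subgroup G)).Normal ∨
      ¬ (inducedFunctor kInfUpper (S : Subgroup G)).Normal) :
    ∃ g : G, g ∈ (S : Subgroup G) ∧ g ∉ pCore p G ∧ KBad p g := by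
  obtain ⟨A, hA, hA4⟩ := exists_criticalIn (p := p) G
  haveI := hA.normal
  haveI : (pCore p G).Normal := CfsgLib.Core.normal_pCore p G
  by_contra hcon
  have key : ∀ g : G, g ∈ (S : Subgroup G) → g ∉ pCore p G → ¬ KWitness p A g := by
    intro g hg hgT hw
    obtain ⟨h3, h2, hclause⟩ := hw
    refine hcon ⟨g, hg, hgT, fun U V hUV hU => ?_, ?_, fun hC => ?_⟩
    · refine degree_of_critical (pCore p G) (CfsgLib.Core.isPGroup_pCore p G) A hA.le hA.central
        hA4 g 3 2 (by norm_num) (fun U V hUV hU => ?_) (fun U V hUV hU => ?_) U V hUV hU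
      · haveI := hUV.2.1
        haveI := hUV.2.2.1
        have hmono : ∀ {X Y : Subgroup G}, X ≤ Y →
            iterCommutator X (Subgroup.zpowers g) 3 ≤ iterCommutator Y (Subgroup.zpowers g) 3 :=
          fun hXY => commutator_mono (commutator_mono (commutator_mono hXY le_rfl) le_rfl) le_rfl
        rcases chief_inter (Z := A ⊓ Subgroup.centralizer (A : Set G)) hUV with hc | hc
        · obtain ⟨-, hdec⟩ := chiefFactor_inf hUV hc
          refine iterCommutator_le_of_le_sup hdec (iterCommutator_le_of_normal (i := 2) ?_ (by norm_num))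
          show ⁅⁅U ⊓ _, Subgroup.zpowers g⁆, Subgroup.zpowers g⁆ ≤ V
          exact (commutator_mono (commutator_mono inf_le_right le_rfl) le_rfl).trans
            (h2.le.trans bot_le)
        · have hUn : ⁅U, Subgroup.zpowers g⁆ ≤ U := commutator_le_left U _
          exact (le_inf ((commutator_mono ((commutator_mono hUn le_rfl).trans hUn) le_rfl).trans hUn)
            ((hmono hU).trans h3)).trans hc
      · show ⁅⁅U, Subgroup.zpowers g⁆, Subgroup.zpowers g⁆ ≤ V
        exact (commutator_mono (commutator_mono hU le_rfl) le_rfl).trans (h2.le.trans bot_le)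
    · have hle : pCore p G ⊓ Subgroup.centralizer ((pCore p G : Subgroup G) : Set G) ≤
          A ⊓ Subgroup.centralizer (A : Set G) :=
        le_inf ((inf_le_inf le_rfl (centralizer_le hA.le)).trans hA4)
          (inf_le_right.trans (centralizer_le hA.le))
      exact le_bot_iff.mp ((commutator_mono (commutator_mono hle le_rfl) le_rfl).trans h2.le)
    · obtain ⟨U, V, hUV, hU, hq⟩ := hclause hC
      exact ⟨U, V, hUV, hU.trans hA.le, hq⟩
  have := kInf_normal S key hA
  exact h.elim (fun h => h this.1) fun h => h this.2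

/-- A chief factor with a nontrivial quadratic action gives a quotient which is not stable. -/
theorem not_isNormalizerPStable_quotient {G : Type u} [Group G] [Finite G] {U V : Subgroup G}
    [V.Normal] (hUV : IsChiefFactor U V) (hU : IsPGroup p U) {g : G}
    (hq : ⁅⁅U, Subgroup.zpowers g⁆, Subgroup.zpowers g⁆ ≤ V)
    (hn : ¬ ⁅U, Subgroup.zpowers g⁆ ≤ V) : ¬ IsNormalizerPStable p (G ⧸ V) := by
  intro hst
  haveI := hUV.2.1
  set π := QuotientGroup.mk' V with hπ
  have hker : ∀ X : Subgroup G, X ≤ V ↔ X.map π = ⊥ := fun X => by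
    rw [Subgroup.map_eq_bot_iff, hπ, QuotientGroup.ker_mk']
  set P := U.map π with hP
  haveI : P.Normal := hUV.2.1.map π (QuotientGroup.mk'_surjective V)
  have hPp : IsPGroup p P := hU.map π
  set N := Subgroup.normalizer (P : Set (G ⧸ V)) with hN
  have hNtop : N = ⊤ := normalizer_eq_top (H := P)
  set C := Subgroup.centralizer (P : Set (G ⧸ V)) with hC
  haveI : C.Normal := by rw [hC]; infer_instance
  set Qm := QuotientGroup.mk' (C.subgroupOf N) with hQm
  have hgN : π g ∈ N := by rw [hNtop]; exact mem_top _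
  have hmem := hst P hPp (π g) hgN (by
    rw [hP, ← MonoidHom.map_zpowers, ← map_commutator, ← map_commutator]
    exact (hker _).mp hq)
  set O := pCore p (↥N ⧸ C.subgroupOf N) with hO
  haveI : O.Normal := CfsgLib.Core.normal_pCore p _
  set D := (O.comap Qm).map N.subtype with hD
  haveI hDn : D.Normal := by
    refine ⟨fun d hd x => ?_⟩
    obtain ⟨d', hd', rfl⟩ := hd
    have hx : x ∈ N := by rw [hNtop]; exact mem_top _
    exact ⟨⟨x, hx⟩ * d' * ⟨x, hx⟩⁻¹,
      (Subgroup.Normal.comap inferInstance Qm).conj_mem d' hd' _, rfl⟩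
  have hgD : π g ∈ D := ⟨⟨π g, hgN⟩, hmem, rfl⟩
  have hCD : C ≤ D := fun c hc => by
    have hcN : c ∈ N := by rw [hNtop]; exact mem_top _
    refine ⟨⟨c, hcN⟩, mem_comap.mpr ?_, rfl⟩
    rw [show Qm ⟨c, hcN⟩ = 1 from (QuotientGroup.eq_one_iff _).mpr
      (mem_subgroupOf.mpr hc : (⟨c, hcN⟩ : N) ∈ C.subgroupOf N)]
    exact one_mem _
  obtain ⟨R⟩ : Nonempty (Sylow p D) := inferInstance
  set R' := (R : Subgroup D).map D.subtype with hR'
  have hR'D : R' ≤ D := map_subtype_le _
  have hgen : D ≤ C ⊔ R' := by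
    have eR : R'.subgroupOf D = (R : Subgroup D) :=
      comap_map_eq_self_of_injective D.subtype_injective _
    rw [← subgroupOf_eq_top, subgroupOf_sup hCD hR'D, eR, ← index_eq_one]
    set X := C.subgroupOf D ⊔ (R : Subgroup D)
    have h1 : ¬ p ∣ X.index := fun hd => R.not_dvd_index (hd.trans (index_dvd_of_le le_sup_right))
    have h2 : IsPGroup p (↥D ⧸ C.subgroupOf D) := by
      intro q
      obtain ⟨⟨_, d, hd, rfl⟩, rfl⟩ := QuotientGroup.mk'_surjective (C.subgroupOf D) q
      obtain ⟨k, hk⟩ := CfsgLib.Core.isPGroup_pCore p _ ⟨Qm d, hd⟩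
      refine ⟨k, ?_⟩
      rw [← map_pow, QuotientGroup.mk'_apply, QuotientGroup.eq_one_iff, mem_subgroupOf]
      have hk' : Qm (d ^ p ^ k) = 1 := by rw [map_pow]; exact congrArg Subtype.val hk
      have h5 := mem_subgroupOf.mp ((QuotientGroup.eq_one_iff _).mp hk')
      exact h5
    obtain ⟨k, hk⟩ := IsPGroup.iff_card.mp h2
    rw [← index_eq_card] at hk
    obtain ⟨l, -, hl⟩ := (Nat.dvd_prime_pow hp.out).mp
      (hk ▸ (index_dvd_of_le (le_sup_left : C.subgroupOf D ≤ X)))
    rcases l with _ | l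
    · simpa using hl
    · exact absurd (hl ▸ dvd_pow_self p l.succ_ne_zero) h1
  have hJ : IsPGroup p (R' ⊔ P : Subgroup (G ⧸ V)) :=
    (R.2.map _).to_sup_of_normal_right hPp
  haveI := hJ.isNilpotent
  have hPne : P ≠ ⊥ := fun e => hUV.1.not_ge ((hker U).mpr e)
  haveI : (P.subgroupOf (R' ⊔ P)).Normal := Subgroup.Normal.subgroupOf inferInstance _
  have hfix : P ⊓ Subgroup.centralizer (D : Set (G ⧸ V)) ≠ ⊥ := by
    intro hbot
    refine CfsgLib.Core.inf_center_ne_bot_of_isNilpotent (P.subgroupOf (R' ⊔ P))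
      (fun e => hPne ?_) (le_bot_iff.mp fun x hx => ?_)
    · rw [← map_subgroupOf_eq_of_le (le_sup_right : P ≤ R' ⊔ P), e, Subgroup.map_bot]
    · obtain ⟨hxP, hxc⟩ := mem_inf.mp hx
      have hxD : (x : G ⧸ V) ∈ Subgroup.centralizer (D : Set (G ⧸ V)) := by
        refine mem_centralizer_iff.mpr fun d hd => ?_
        have h1 : C ⊔ R' ≤ Subgroup.centralizer ({(x : G ⧸ V)} : Set (G ⧸ V)) := by
          refine sup_le (fun c hc => ?_) (fun r hr => ?_) <;>
            refine mem_centralizer_iff.mpr fun z hz => ?_ <;> rw [Set.mem_singleton_iff.mp hz]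
          · exact mem_centralizer_iff.mp hc _ hxP
          · exact (congrArg Subtype.val (mem_center_iff.mp hxc ⟨r, mem_sup_left hr⟩)).symm
        exact (mem_centralizer_iff.mp (h1 (hgen hd)) _ rfl).symm
      have : (x : G ⧸ V) = 1 := mem_bot.mp (hbot ▸ mem_inf.mpr ⟨hxP, hxD⟩)
      exact mem_bot.mpr (Subtype.ext this)
  have hPC : P ⊓ Subgroup.centralizer (D : Set (G ⧸ V)) = P := by
    set M := P ⊓ Subgroup.centralizer (D : Set (G ⧸ V)) with hM
    have hMn : (M.comap π).Normal := Subgroup.Normal.comap inferInstance π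
    rcases hUV.2.2.2 (M.comap π) hMn (fun v hv => mem_comap.mpr (by
        rw [show π v = 1 from (QuotientGroup.eq_one_iff v).mpr hv]; exact one_mem _))
      (by
        refine (comap_mono (inf_le_left : M ≤ P)).trans (le_of_eq ?_)
        rw [hP, comap_map_eq, hπ, QuotientGroup.ker_mk', sup_eq_left.mpr hUV.1.le]) with h | h
    · exact absurd (by
        rw [← map_comap_eq_self_of_surjective (QuotientGroup.mk'_surjective V) M]
        exact (hker _).mp h.le) hfix
    · calc M = (M.comap π).map π := (map_comap_eq_self_of_surjective (QuotientGroup.mk'_surjective V) M).symm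
        _ = P := by rw [h]
  apply hn
  rw [hker, map_commutator, MonoidHom.map_zpowers, commutator_eq_bot_iff_le_centralizer]
  refine (le_centralizer_iff.mp (zpowers_le.mpr ?_))
  exact le_centralizer_iff.mp (hPC ▸ inf_le_right : P ≤ Subgroup.centralizer (D : Set (G ⧸ V))) hgD

/-- Stability passes along isomorphisms. -/
theorem isNormalizerPStable_congr {H G : Type*} [Group H] [Group G] (e : H ≃* G)
    (h : IsNormalizerPStable p H) : IsNormalizerPStable p G := by
  intro P hP g hg hq
  set f := e.toMonoidHom with hf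
  set P' := P.comap f with hP'
  have hPP : P'.map f = P := map_comap_eq_self_of_surjective e.surjective P
  have hN : (Subgroup.normalizer (P' : Set H)).map f = Subgroup.normalizer (P : Set G) := by
    rw [map_normalizer_eq_of_bijective P' e.bijective, hPP]
  have hC : (Subgroup.centralizer (P' : Set H)).map f = Subgroup.centralizer (P : Set G) := by
    rw [map_centralizer_equiv, hPP]
  obtain ⟨g', hg', rfl⟩ := hN.ge hg
  have := h P' (hP.comap_of_injective f e.injective) g' hg' (by
    refine (Subgroup.map_eq_bot_iff_of_injective _ (f := f) e.injective).mp ?_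
    rw [map_commutator, map_commutator, MonoidHom.map_zpowers, hPP]
    exact hq)
  let ε : ↥(Subgroup.normalizer (P' : Set H)) ≃* ↥(Subgroup.normalizer (P : Set G)) :=
    (e.subgroupMap _).trans (MulEquiv.subgroupCongr hN)
  have hε : ((Subgroup.centralizer (P' : Set H)).subgroupOf (Subgroup.normalizer (P' : Set H))).map
      ε.toMonoidHom =
      (Subgroup.centralizer (P : Set G)).subgroupOf (Subgroup.normalizer (P : Set G)) := by
    ext x
    constructor
    · rintro ⟨y, hy, rfl⟩
      exact hC.le ⟨y, hy, rfl⟩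
    · intro hx
      obtain ⟨y, hy, hyx⟩ := hC.ge hx
      obtain ⟨z, hz, hzx⟩ := hN.ge x.2
      have hzy : z = y := e.injective (hzx.trans hyx.symm)
      exact ⟨⟨z, hz⟩, (hzy ▸ hy : z ∈ Subgroup.centralizer (P' : Set H)), Subtype.ext hzx⟩
  exact (CfsgLib.Core.map_equiv_pCore (QuotientGroup.congr _ _ ε hε)).le ⟨_, this, rfl⟩

section Control

variable {G : Type u} [Group G] [Finite G] {W : ∀ (Q : Type u) [Group Q], Subgroup Q}
  (hWc : IsCharPFunctor.{u} p W)
  (hbad : ∀ (X : Type u) [Group X] [Finite X] (S : Sylow p X),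
    ¬ (inducedFunctor (G := X) W (S : Subgroup X)).Normal →
      ∃ g : X, g ∈ (S : Subgroup X) ∧ g ∉ pCore p X ∧ KBad p g)

include hWc hbad in
/-- Stable sections give control of fusion. -/
theorem kInf_controls_fusion
    (hst : ∀ (K R : Subgroup G) [hR : (R.subgroupOf K).Normal],
      IsNormalizerPStable p (↥K ⧸ R.subgroupOf K)) (T : Sylow p G) :
    ControlsStrongFusion p (inducedFunctor W (T : Subgroup G)) := by
  have h𝓦 : ∀ V ∈ ({W} : Set (∀ (Q : Type u) [Group Q], Subgroup Q)),
      Cfsg.IsCharPFunctor.{u} p V := fun V hV => by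
    rw [Set.mem_singleton_iff] at hV
    exact hV ▸ hWc
  have hloc : ∀ (X : Type u) [Group X] [Finite X], IsSec G X →
      Subgroup.centralizer ((pCore p X : Subgroup X) : Set X) ≤ pCore p X → ∀ S : Sylow p X,
        (inducedFunctor (G := X) W (S : Subgroup X)).Normal := by
    intro X _ _ hs hc S
    by_contra hn
    obtain ⟨g, -, -, -, -, hcl⟩ := hbad X S hn
    obtain ⟨U, V, hUV, hU, hq, hne⟩ := hcl hc
    haveI := hUV.2.2.1
    obtain ⟨K, R, hR, ⟨e⟩⟩ := (hs.quotient V).exists_quotient
    exact not_isNormalizerPStable_quotient hUV ((CfsgLib.Core.isPGroup_pCore p X).to_le hU) hq hne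
      (isNormalizerPStable_congr e (hst K R))
  have hctl := CfsgLib.Techniques.familyFusion_of_sections h𝓦
    (fun H _ _ hs hc => CfsgLib.Techniques.sections_of_quotients h𝓦 (fun K' R' hR' hc' => by
      obtain ⟨S⟩ : Nonempty (Sylow p (↥K' ⧸ R'.subgroupOf K')) := inferInstance
      refine CfsgLib.Techniques.familyControls_of_spath S fun A y hA hAy => ?_
      refine CfsgLib.Techniques.SPath.single ⟨_, ⟨W, rfl, rfl⟩, Subgroup.mem_inf.mpr ⟨trivial, ?_⟩⟩
        hA hAy
      rw [Subgroup.normalizer_eq_top_iff.mpr (hloc _ (isSec_quotient K' R') hc' S)]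
      trivial) H hs hc)
    G (CfsgLib.Techniques.isSec_self G)
  refine ⟨T, Subgroup.map_subtype_le _, fun A hA => ⟨hA, fun g hg => ?_⟩⟩
  refine (CfsgLib.Techniques.familyControlsFusion_at
    (CfsgLib.Techniques.inducedSet_conjugacy h𝓦 _) hctl
    (CfsgLib.Techniques.isSylowSub_sylow T) A g trivial hA hg).exists_mem ?_
  rintro m ⟨_, ⟨V, hV, rfl⟩, hm⟩
  rw [Set.mem_singleton_iff] at hV
  subst hV
  exact (Subgroup.mem_inf.mp hm).2

include hWc hbad in
/-- For `p ≥ 5` transfer is controlled in every section. -/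
theorem kInf_transfer_sections (h5 : 5 ≤ p) :
    ∀ (K R : Subgroup G) [hR : (R.subgroupOf K).Normal],
      ControlsTransferIn p (inducedFunctor (G := (↥K ⧸ R.subgroupOf K)) W) ⊤ :=
  Cfsg.Agent.S1972.result W hWc fun K R hR _ T hT => by
    obtain ⟨g, hg, hgT, h4, -, -⟩ := hbad (↥K ⧸ R.subgroupOf K) T hT
    refine ⟨g, hg, hgT, fun U V hUV hU => ?_⟩
    haveI := hUV.2.2.1
    exact iterCommutator_le_of_normal (h4 U V hUV hU) (by omega)

include hWc hbad in
/-- For `p ≥ 5` transfer is controlled. -/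
theorem kInf_transfer (h5 : 5 ≤ p) :
    ControlsTransferIn p (inducedFunctor (G := G) W) ⊤ := by
  obtain ⟨K, R, hR, ⟨e⟩⟩ := (isSec_self G).exists_quotient
  have h𝓦 : ∀ V ∈ ({W} : Set (∀ (Q : Type u) [Group Q], Subgroup Q)),
      Cfsg.IsCharPFunctor.{u} p V := fun V hV => by
    rw [Set.mem_singleton_iff] at hV
    exact hV ▸ hWc
  have := familyTransfer_congr h𝓦 e (by
    rw [inducedSet_singleton, familyTransfer_singleton_iff]
    exact kInf_transfer_sections hWc hbad h5 K R)
  rwa [inducedSet_singleton, familyTransfer_singleton_iff] at this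

end Control

theorem kBad_lower (X : Type u) [Group X] [Finite X] (S : Sylow p X)
    (h : ¬ (inducedFunctor (G := X) kInfLower (S : Subgroup X)).Normal) :
    ∃ g : X, g ∈ (S : Subgroup X) ∧ g ∉ pCore p X ∧ KBad p g := exists_kBad S (Or.inl h)

theorem kBad_upper (X : Type u) [Group X] [Finite X] (S : Sylow p X)
    (h : ¬ (inducedFunctor (G := X) kInfUpper (S : Subgroup X)).Normal) :
    ∃ g : X, g ∈ (S : Subgroup X) ∧ g ∉ pCore p X ∧ KBad p g := exists_kBad S (Or.inr h)

end CfsgLib.Techniques
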