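import Cfsg.Agent.Lib.Techniques.KInfTheorems
import Cfsg.Prelude.Def_Amalgam

/-!
Weak closure statements for the lower K-infinity subgroup.
-/

set_option autoImplicit false
set_option linter.all false

namespace CfsgLib.Techniques

open Subgroup Cfsg
open scoped commutatorElement

universe u

variable {G : Type u} [Group G] [Finite G] {p : ℕ} [hp : Fact p.Prime]

theorem center_le_inducedFunctor_kInfLower (P : Subgroup G) (hP : IsPGroup p P) :
    P ⊓ Subgroup.centralizer (P : Set G) ≤ inducedFunctor kInfLower P := by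
  intro x hx
  obtain ⟨hxP, hxc⟩ := mem_inf.mp hx
  refine ⟨⟨x, hxP⟩, (centralizer_kInf_le hP).1 (mem_centralizer_iff.mpr fun b _ => Subtype.ext ?_), rfl⟩
  exact mem_centralizer_iff.mp hxc b b.2

theorem pCoreOf_inf_centralizer (H : Subgroup G) :
    pCoreOf p H ⊓ Subgroup.centralizer ((pCoreOf p H : Subgroup G) : Set G) =
      (pCore p H ⊓ Subgroup.centralizer ((pCore p H : Subgroup H) : Set H)).map H.subtype :=
  (map_inf_centralizer _).symm

/-- A witness in a subgroup whose K-infinity normalizer is proper. -/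
theorem exists_kBad_subgroup {H T : Subgroup G} (hTH : T ≤ H) (hT : IsPGroup p T)
    (hi : ¬ p ∣ T.relIndex H)
    (hn : ¬ H ≤ Subgroup.normalizer ((inducedFunctor kInfLower T : Subgroup G) : Set G)) :
    ∃ g : H, (g : G) ∈ T ∧ (g : G) ∉ pCoreOf p H ∧ KBad p g := by
  let T' : Sylow p H := (hT.comap_subtype (K := H)).toSylow hi
  have hmap : (T' : Subgroup H).map H.subtype = T := map_subgroupOf_eq_of_le hTH
  have hnn : ¬ (inducedFunctor (G := H) kInfLower (T' : Subgroup H)).Normal := by
    intro hN
    apply hn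
    have h1 := inducedFunctor_map (kInf_isCharPFunctor (p := p)).1 T'.2 H.subtype H.subtype_injective.injOn
    rw [hmap] at h1
    rw [h1]
    refine le_trans ?_ (le_normalizer_map H.subtype)
    rw [normalizer_eq_top_iff.mpr hN, ← MonoidHom.range_eq_map, range_subtype]
  obtain ⟨g, hg, hgT, hb⟩ := kBad_lower H T' hnn
  refine ⟨g, hmap ▸ mem_map_of_mem H.subtype hg, fun h => hgT ?_, hb⟩
  exact (mem_map_iff_mem H.subtype_injective).mp h

end CfsgLib.Techniques
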