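import Cfsg.Prelude.Def_ConjugacyFunctors
import Cfsg.Agent.Lib.PGroups.Basic

/-!
The K-sequence of a finite `p`-group and its two limits.
-/

namespace CfsgLib.Techniques

open Subgroup Cfsg

variable {P : Type*} [Group P]

theorem kUpperStarFamily_anti {Q Q' : Subgroup P} (h : Q ≤ Q') :
    kUpperStarFamily Q' ⊆ kUpperStarFamily Q := fun _ hB =>
  ⟨hB.1, (commutator_mono le_rfl h).trans hB.2⟩

theorem kLowerStarFamily_anti {Q Q' : Subgroup P} (h : Q ≤ Q') :
    kLowerStarFamily Q' ⊆ kLowerStarFamily Q := fun _ hB =>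
  ⟨hB.1, h.trans hB.2.1, fun A hA hAQ => hB.2.2 A hA (hAQ.trans h)⟩

theorem kSeqOdd_succ (n : ℕ) :
    kSeqOdd P (n + 1) = sSup (kUpperStarFamily (kSeqEven P n)) := rfl

theorem kSeqEven_def (n : ℕ) : kSeqEven P n = sSup (kLowerStarFamily (kSeqOdd P n)) := rfl

theorem kSeqOdd_succ_le (n : ℕ) : kSeqOdd P (n + 1) ≤ kSeqOdd P n := by
  induction n with
  | zero => exact le_top
  | succ n ih =>
    rw [kSeqOdd_succ, kSeqOdd_succ n]
    exact sSup_le_sSup (kUpperStarFamily_anti (sSup_le_sSup (kLowerStarFamily_anti ih)))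

theorem kSeqEven_le_succ (n : ℕ) : kSeqEven P n ≤ kSeqEven P (n + 1) :=
  sSup_le_sSup (kLowerStarFamily_anti (kSeqOdd_succ_le n))

theorem kSeqOdd_antitone : Antitone (kSeqOdd P) := antitone_nat_of_succ_le kSeqOdd_succ_le

theorem kSeqEven_monotone : Monotone (kSeqEven P) := monotone_nat_of_le_succ kSeqEven_le_succ

theorem exists_kSeq_stable [Finite P] : ∃ n : ℕ, ∀ m, n ≤ m →
    kSeqEven P m = kInfLower P ∧ kSeqOdd P m = kInfUpper P := by
  obtain ⟨_, ⟨n, rfl⟩, hn⟩ := Set.Finite.exists_minimal (Set.toFinite (Set.range (kSeqOdd P)))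
    (Set.range_nonempty _)
  have hodd : ∀ m, n ≤ m → kSeqOdd P m = kSeqOdd P n := fun m hm =>
    le_antisymm (kSeqOdd_antitone hm) (hn ⟨m, rfl⟩ (kSeqOdd_antitone hm))
  have heven : ∀ m, n ≤ m → kSeqEven P m = kSeqEven P n := fun m hm => by
    rw [kSeqEven_def, kSeqEven_def, hodd m hm]
  refine ⟨n, fun m hm => ⟨?_, ?_⟩⟩
  · refine le_antisymm (le_iSup (kSeqEven P) m) (iSup_le fun k => ?_)
    rcases le_total k m with h | h
    · exact kSeqEven_monotone h
    · rw [heven m hm, heven k (hm.trans h)]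
  · refine le_antisymm (le_iInf fun k => ?_) (iInf_le (kSeqOdd P) m)
    rcases le_total k m with h | h
    · exact kSeqOdd_antitone h
    · rw [hodd m hm, hodd k (hm.trans h)]

theorem bot_mem_classTwo : (⊥ : Subgroup P) ∈ classTwoSubgroups P := by
  show ⁅(⊥ : Subgroup P), (⊥ : Subgroup P)⁆ ≤ _
  rw [commutator_bot_left]; exact bot_le

theorem bot_mem_upper (Q : Subgroup P) : (⊥ : Subgroup P) ∈ kUpperStarFamily Q :=
  ⟨bot_mem_classTwo, by rw [commutator_bot_left]; exact bot_le⟩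

theorem bot_mem_lower (Q : Subgroup P) : (⊥ : Subgroup P) ∈ kLowerStarFamily Q := by
  refine ⟨bot_mem_classTwo, fun q _ => ?_, fun A _ _ _ _ _ => ?_⟩
  · rw [mem_normalizer_iff]
    intro x
    simp
  · rw [commutator_bot_left]; exact bot_le

theorem abelian_mem_families {A : Subgroup P} [A.Normal] (hA : IsMulCommutative A) :
    A ∈ classTwoSubgroups P ∧ ∀ Q : Subgroup P, A ∈ kLowerStarFamily Q ∧ A ∈ kUpperStarFamily Q := by
  have hc : A ≤ Subgroup.centralizer (A : Set P) := fun a ha =>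
    mem_centralizer_iff.mpr fun b hb => congrArg Subtype.val (hA.is_comm.comm ⟨b, hb⟩ ⟨a, ha⟩)
  have h2 : A ∈ classTwoSubgroups P := (commutator_le_left A A).trans hc
  have hle : ∀ X : Subgroup P, ⁅A, X⁆ ≤ A ⊓ Subgroup.centralizer (A : Set P) := fun X =>
    le_inf (commutator_le_left A X) ((commutator_le_left A X).trans hc)
  exact ⟨h2, fun Q => ⟨⟨h2, le_normalizer_of_normal, fun X _ _ _ _ _ => hle X⟩, h2, hle Q⟩⟩

/-! ### Maximal members contain their centralizers -/

theorem commutator_sup_zpowers_le {B Z : Subgroup P} {x : P} {A : Subgroup P}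
    (hZB : ∀ y ∈ B ⊔ zpowers x, ∀ z ∈ Z, y * z = z * y) (hB : ⁅B, A⁆ ≤ Z)
    (hx : ∀ a ∈ A, x * a * x⁻¹ * a⁻¹ ∈ Z) : ⁅B ⊔ zpowers x, A⁆ ≤ Z := by
  rw [commutator_le]
  intro y hy a ha
  have key : ∀ y ∈ Subgroup.closure ((B : Set P) ∪ {x}), y * a * y⁻¹ * a⁻¹ ∈ Z := by
    intro y hy
    induction hy using Subgroup.closure_induction with
    | mem z hz =>
      rcases hz with hz | hz
      · exact hB (commutator_mem_commutator hz ha)
      · rw [Set.mem_singleton_iff] at hz; subst hz; exact hx a ha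
    | one => simp
    | mul u v hu _ h1 h2 =>
      have hu' : u ∈ B ⊔ zpowers x := by
        rwa [← Subgroup.closure_eq B, zpowers_eq_closure, ← Subgroup.closure_union]
      have e : u * v * a * (u * v)⁻¹ * a⁻¹ =
          (u * (v * a * v⁻¹ * a⁻¹) * u⁻¹) * (u * a * u⁻¹ * a⁻¹) := by group
      rw [e, hZB u hu' _ h2, mul_inv_cancel_right]
      exact mul_mem h2 h1
    | inv u hu h1 =>
      have hu' : u⁻¹ ∈ B ⊔ zpowers x := by
        rw [← Subgroup.closure_eq B, zpowers_eq_closure, ← Subgroup.closure_union]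
        exact inv_mem hu
      have e : u⁻¹ * a * u⁻¹⁻¹ * a⁻¹ = u⁻¹ * (u * a * u⁻¹ * a⁻¹)⁻¹ * u⁻¹⁻¹ := by group
      rw [e, hZB _ hu' _ (inv_mem h1), mul_inv_cancel_right]
      exact inv_mem h1
  rw [commutatorElement_def]
  refine key y ?_
  rwa [← Subgroup.closure_eq B, zpowers_eq_closure, ← Subgroup.closure_union] at hy

/-- An element of `C_P(B) \ B` central modulo `Z(B)` for `B` and `Q`. -/
theorem exists_extension [Finite P] {p : ℕ} [Fact p.Prime] (hP : IsPGroup p P) {B Q : Subgroup P}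
    (hQ : Q ≤ Subgroup.normalizer (B : Set P))
    (hne : ¬ Subgroup.centralizer (B : Set P) ≤ B) :
    ∃ x ∈ Subgroup.centralizer (B : Set P), x ∉ B ∧
      ∀ q ∈ Q, x * q * x⁻¹ * q⁻¹ ∈ B ⊓ Subgroup.centralizer (B : Set P) := by
  set C := Subgroup.centralizer (B : Set P) with hC
  set N := Subgroup.normalizer (B : Set P) with hN
  have hCn : ∀ n ∈ N, ∀ c ∈ C, n * c * n⁻¹ ∈ C := by
    intro n hn c hc
    rw [hC, mem_centralizer_iff]
    intro b hb
    have := mem_centralizer_iff.mp hc (n⁻¹ * b * n) ((mem_normalizer_iff''.mp hn b).mp hb)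
    calc b * (n * c * n⁻¹) = n * (n⁻¹ * b * n * c) * n⁻¹ := by group
      _ = n * (c * (n⁻¹ * b * n)) * n⁻¹ := by rw [this]
      _ = n * c * n⁻¹ * b := by group
  have hCN : C ≤ N := by
    intro c hc
    rw [hN, mem_normalizer_iff'']
    intro b
    have aux : ∀ b ∈ B, c⁻¹ * b * c = b := fun b hb => by
      rw [mul_assoc, mem_centralizer_iff.mp hc b hb, inv_mul_cancel_left]
    constructor
    · intro hb; rw [aux b hb]; exact hb
    · intro hb
      have h1 := mem_centralizer_iff.mp hc _ hb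
      have h2 : c⁻¹ * b * c = b := by
        calc c⁻¹ * b * c = c * (c⁻¹ * b * c) * c⁻¹ := by rw [← h1]; group
          _ = b := by group
      rwa [h2] at hb
  let Z := (B ⊓ C).subgroupOf N
  haveI hZn : Z.Normal := ⟨fun z hz n =>
    ⟨(mem_normalizer_iff.mp n.2 _).mp hz.1, hCn _ n.2 _ hz.2⟩⟩
  haveI hKn : (C.subgroupOf N).Normal := ⟨fun z hz n => hCn _ n.2 _ hz⟩
  haveI : ((C.subgroupOf N).map (QuotientGroup.mk' Z)).Normal :=
    hKn.map _ (QuotientGroup.mk'_surjective Z)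
  have hb : (C.subgroupOf N).map (QuotientGroup.mk' Z) ≠ ⊥ := by
    rw [Ne, Subgroup.map_eq_bot_iff, QuotientGroup.ker_mk']
    intro h
    exact hne fun c hc =>
      (h (show (⟨c, hCN hc⟩ : N) ∈ C.subgroupOf N from hc)).1
  have := CfsgLib.PGroups.inf_center_ne_bot ((hP.to_subgroup N).to_quotient Z) hb
  obtain ⟨y, hy, hy1⟩ := (Subgroup.bot_or_exists_ne_one _).resolve_left this
  obtain ⟨⟨x, hxC, rfl⟩, hyc⟩ := hy
  refine ⟨x, hxC, fun h => hy1 ((QuotientGroup.eq_one_iff x).mpr ⟨h, hxC⟩), fun q hq => ?_⟩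
  have e : QuotientGroup.mk' Z (x * ⟨q, hQ hq⟩ * x⁻¹ * ⟨q, hQ hq⟩⁻¹) = 1 := by
    rw [map_mul, map_mul, map_mul, map_inv, map_inv,
      ← mem_center_iff.mp hyc (QuotientGroup.mk' Z ⟨q, hQ hq⟩)]
    group
  rw [QuotientGroup.mk'_apply, QuotientGroup.eq_one_iff] at e
  exact e

theorem classTwo_sup_zpowers {B : Subgroup P} (hB : B ∈ classTwoSubgroups P) {x : P}
    (hx : x ∈ Subgroup.centralizer (B : Set P)) :
    B ⊔ zpowers x ∈ classTwoSubgroups P ∧
      B ⊓ Subgroup.centralizer (B : Set P) ≤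
        (B ⊔ zpowers x) ⊓ Subgroup.centralizer ((B ⊔ zpowers x : Subgroup P) : Set P) ∧
      x ∈ (B ⊔ zpowers x) ⊓ Subgroup.centralizer ((B ⊔ zpowers x : Subgroup P) : Set P) := by
  set B' := B ⊔ zpowers x with hB'
  set Z := B' ⊓ Subgroup.centralizer (B' : Set P) with hZ
  have hBx : B' = Subgroup.closure ((B : Set P) ∪ {x}) := by
    rw [hB', zpowers_eq_closure, Subgroup.closure_union, Subgroup.closure_eq]
  have hcen : ∀ z ∈ B', (∀ b ∈ B, b * z = z * b) → x * z = z * x → z ∈ Z := by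
    intro z hz h1 h2
    refine mem_inf.mpr ⟨hz, ?_⟩
    rw [hBx, centralizer_closure, mem_centralizer_iff]
    rintro y (hy | hy)
    · exact h1 y hy
    · rw [Set.mem_singleton_iff] at hy; subst hy; exact h2
  have hxB' : x ∈ B' := mem_sup_right (mem_zpowers x)
  have hxZ : x ∈ Z := hcen x hxB' (fun b hb => mem_centralizer_iff.mp hx b hb) rfl
  have hZB : B ⊓ Subgroup.centralizer (B : Set P) ≤ Z := fun z hz =>
    hcen z (mem_sup_left hz.1) (fun b hb => mem_centralizer_iff.mp hz.2 b hb)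
      (mem_centralizer_iff.mp hx z hz.1).symm
  refine ⟨?_, hZB, hxZ⟩
  refine (?_ : ⁅B', B'⁆ ≤ Z).trans inf_le_right
  have hcomm : ∀ y ∈ B', ∀ z ∈ Z, y * z = z * y := fun y hy z hz =>
    mem_centralizer_iff.mp hz.2 y hy
  have hxc : ∀ a ∈ B', x * a * x⁻¹ * a⁻¹ ∈ Z := fun a ha => by
    rw [← hcomm a ha x hxZ, mul_inv_cancel_right, mul_inv_cancel]; exact one_mem _
  refine commutator_sup_zpowers_le hcomm ?_ hxc
  rw [commutator_comm]
  refine commutator_sup_zpowers_le hcomm ?_ fun a ha => hxc a (mem_sup_left ha)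
  refine le_trans (le_inf ?_ hB) hZB
  rw [commutator_le]
  intro a ha b hb
  exact mul_mem (mul_mem (mul_mem ha hb) (inv_mem ha)) (inv_mem hb)

theorem centralizer_le_of_max_classTwo {B : Subgroup P}
    (hB : B ∈ classTwoSubgroups P)
    (hmax : ∀ C ∈ classTwoSubgroups P, B ≤ C → C = B) :
    Subgroup.centralizer (B : Set P) ≤ B := fun x hx => by
  have := hmax _ (classTwo_sup_zpowers hB hx).1 le_sup_left
  rw [← this]
  exact mem_sup_right (mem_zpowers x)

theorem centralizer_le_of_max_upper [Finite P] {p : ℕ} [Fact p.Prime] (hP : IsPGroup p P)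
    {B Q : Subgroup P} (hB : B ∈ kUpperStarFamily Q)
    (hmax : ∀ C ∈ kUpperStarFamily Q, B ≤ C → C = B) :
    Subgroup.centralizer (B : Set P) ≤ B := by
  by_contra hne
  obtain ⟨x, hx, hxB, hxQ⟩ := exists_extension hP
    (le_normalizer_iff_commutator_le_left.mpr (hB.2.trans inf_le_left)) hne
  obtain ⟨h2, hZ, -⟩ := classTwo_sup_zpowers hB.1 hx
  have hmem : B ⊔ zpowers x ∈ kUpperStarFamily Q := ⟨h2, commutator_sup_zpowers_le
    (fun y hy z hz => mem_centralizer_iff.mp hz.2 y hy) (hB.2.trans hZ) fun q hq => hZ (hxQ q hq)⟩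
  exact hxB (hmax _ hmem le_sup_left ▸ mem_sup_right (mem_zpowers x))

theorem centralizer_le_of_max_lower [Finite P] {p : ℕ} [Fact p.Prime] (hP : IsPGroup p P)
    {B Q : Subgroup P} (hB : B ∈ kLowerStarFamily Q)
    (hmax : ∀ C ∈ kLowerStarFamily Q, B ≤ C → C = B) :
    Subgroup.centralizer (B : Set P) ≤ B := by
  by_contra hne
  obtain ⟨x, hx, hxB, hxQ⟩ := exists_extension hP hB.2.1 hne
  obtain ⟨h2, hZ, hxZ⟩ := classTwo_sup_zpowers hB.1 hx
  have hZc : ∀ y ∈ B ⊔ zpowers x,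
      ∀ z ∈ (B ⊔ zpowers x) ⊓ Subgroup.centralizer ((B ⊔ zpowers x : Subgroup P) : Set P),
        y * z = z * y := fun y hy z hz => mem_centralizer_iff.mp hz.2 y hy
  have hmem : B ⊔ zpowers x ∈ kLowerStarFamily Q := by
    refine ⟨h2, ?_, fun A hA hAQ hnorm h1 h3 => ?_⟩
    · refine le_normalizer_iff.mpr fun q hq y hy => ?_
      rw [← Subgroup.closure_eq B, zpowers_eq_closure, ← Subgroup.closure_union] at hy
      induction hy using Subgroup.closure_induction with
      | mem z hz =>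
        rcases hz with hz | hz
        · exact mem_sup_left (le_normalizer_iff.mp hB.2.1 q hq z hz)
        · rw [Set.mem_singleton_iff] at hz; subst hz
          have e : q * z * q⁻¹ = (z * q * z⁻¹ * q⁻¹)⁻¹ * z := by group
          rw [e]
          exact mul_mem (inv_mem (mem_sup_left (hxQ q hq).1)) (mem_sup_right (mem_zpowers z))
      | one => simp
      | mul u v _ _ h1 h2 =>
        have e : q * (u * v) * q⁻¹ = (q * u * q⁻¹) * (q * v * q⁻¹) := by group
        rw [e]; exact mul_mem h1 h2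
      | inv u _ h1 =>
        have e : q * u⁻¹ * q⁻¹ = (q * u * q⁻¹)⁻¹ := by group
        rw [e]; exact inv_mem h1
    · refine commutator_sup_zpowers_le hZc ?_ fun a ha => hZ (hxQ a (hAQ ha))
      exact (hB.2.2 A hA hAQ (le_sup_left.trans hnorm)
        (le_bot_iff.mp (h1 ▸ commutator_mono le_sup_left le_rfl))
        (le_bot_iff.mp (h3 ▸ commutator_mono (commutator_mono hZ le_rfl) le_rfl))).trans hZ
  exact hxB (hmax _ hmem le_sup_left ▸ mem_sup_right (mem_zpowers x))

theorem centralizer_kInf_le [Finite P] {p : ℕ} [Fact p.Prime] (hP : IsPGroup p P) :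
    Subgroup.centralizer (kInfLower P : Set P) ≤ kInfLower P ∧
      Subgroup.centralizer (kInfUpper P : Set P) ≤ kInfUpper P := by
  obtain ⟨n, hn⟩ := exists_kSeq_stable (P := P)
  constructor
  · obtain ⟨B, hB⟩ := Set.Finite.exists_maximal (Set.toFinite (kLowerStarFamily (kSeqOdd P n)))
      ⟨⊥, bot_mem_lower _⟩
    have hle : B ≤ kInfLower P := by
      rw [← (hn n le_rfl).1, kSeqEven_def]; exact le_sSup hB.1
    exact (centralizer_le (SetLike.coe_subset_coe.mpr hle)).trans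
      ((centralizer_le_of_max_lower hP hB.1 fun C hC h => le_antisymm (hB.2 hC h) h).trans hle)
  · obtain ⟨B, hB⟩ := Set.Finite.exists_maximal (Set.toFinite (kUpperStarFamily (kSeqEven P n)))
      ⟨⊥, bot_mem_upper _⟩
    have hle : B ≤ kInfUpper P := by
      rw [← (hn (n + 1) (Nat.le_succ n)).2, kSeqOdd_succ]; exact le_sSup hB.1
    exact (centralizer_le (SetLike.coe_subset_coe.mpr hle)).trans
      ((centralizer_le_of_max_upper hP hB.1 fun C hC h => le_antisymm (hB.2 hC h) h).trans hle)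

/-! ### Passing to a subgroup -/

theorem map_inf_centralizer {Q : Subgroup P} (B : Subgroup Q) :
    (B ⊓ Subgroup.centralizer (B : Set Q)).map Q.subtype =
      B.map Q.subtype ⊓ Subgroup.centralizer ((B.map Q.subtype : Subgroup P) : Set P) := by
  ext x
  constructor
  · rintro ⟨y, hy, rfl⟩
    refine mem_inf.mpr ⟨⟨y, hy.1, rfl⟩, mem_centralizer_iff.mpr ?_⟩
    rintro _ ⟨b, hb, rfl⟩
    exact congrArg Subtype.val (mem_centralizer_iff.mp hy.2 b hb)
  · rintro ⟨⟨y, hy, rfl⟩, hc⟩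
    exact ⟨y, ⟨hy, mem_centralizer_iff.mpr fun b hb =>
      Subtype.ext (mem_centralizer_iff.mp hc _ ⟨b, hb, rfl⟩)⟩, rfl⟩

theorem le_normalizer_map_iff {Q : Subgroup P} (A B : Subgroup Q) :
    A.map Q.subtype ≤ Subgroup.normalizer ((B.map Q.subtype : Subgroup P) : Set P) ↔
      A ≤ Subgroup.normalizer (B : Set Q) := by
  rw [le_normalizer_iff_commutator_le_right, le_normalizer_iff_commutator_le_right,
    ← map_commutator, map_le_map_iff_of_injective Q.subtype_injective]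

theorem mem_classTwo_map_iff {Q : Subgroup P} (B : Subgroup Q) :
    B.map Q.subtype ∈ classTwoSubgroups P ↔ B ∈ classTwoSubgroups Q := by
  show ⁅B.map Q.subtype, B.map Q.subtype⁆ ≤ Subgroup.centralizer ((B.map Q.subtype : Subgroup P) : Set P) ↔
    ⁅B, B⁆ ≤ Subgroup.centralizer (B : Set Q)
  rw [← map_commutator]
  constructor
  · intro h y hy
    rw [mem_centralizer_iff]
    exact fun b hb => Subtype.ext (mem_centralizer_iff.mp (h ⟨y, hy, rfl⟩) _ ⟨b, hb, rfl⟩)
  · rintro h _ ⟨y, hy, rfl⟩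
    rw [mem_centralizer_iff]
    rintro _ ⟨b, hb, rfl⟩
    exact congrArg Subtype.val (mem_centralizer_iff.mp (h hy) b hb)

theorem mem_upper_map_iff {Q : Subgroup P} (B R : Subgroup Q) :
    B.map Q.subtype ∈ kUpperStarFamily (R.map Q.subtype) ↔ B ∈ kUpperStarFamily R := by
  show _ ∧ _ ↔ _ ∧ _
  rw [mem_classTwo_map_iff, ← map_commutator, ← map_inf_centralizer,
    map_le_map_iff_of_injective Q.subtype_injective]

theorem mem_lower_map_iff {Q : Subgroup P} (B R : Subgroup Q) :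
    B.map Q.subtype ∈ kLowerStarFamily (R.map Q.subtype) ↔ B ∈ kLowerStarFamily R := by
  show _ ∧ _ ∧ _ ↔ _ ∧ _ ∧ _
  rw [mem_classTwo_map_iff, le_normalizer_map_iff]
  refine and_congr_right fun _ => and_congr_right fun _ => ⟨fun h A hA hAR hn h1 h3 => ?_, fun h A hA hAR hn h1 h3 => ?_⟩
  · have := h (A.map Q.subtype) ((mem_classTwo_map_iff A).mpr hA) (Subgroup.map_mono hAR)
      ((le_normalizer_map_iff B A).mpr hn)
      (by rw [← map_commutator, ← map_commutator, h1, Subgroup.map_bot])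
      (by rw [← map_inf_centralizer, ← map_commutator, ← map_commutator, h3, Subgroup.map_bot])
    rwa [← map_commutator, ← map_inf_centralizer, map_le_map_iff_of_injective Q.subtype_injective] at this
  · have hAQ : A ≤ Q := hAR.trans (map_subtype_le R)
    obtain ⟨A', rfl⟩ : ∃ A' : Subgroup Q, A'.map Q.subtype = A :=
      ⟨A.subgroupOf Q, map_subgroupOf_eq_of_le hAQ⟩
    rw [← map_commutator, ← map_inf_centralizer, map_le_map_iff_of_injective Q.subtype_injective]
    refine h A' ((mem_classTwo_map_iff A').mp hA)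
      ((map_le_map_iff_of_injective Q.subtype_injective).mp hAR) ((le_normalizer_map_iff B A').mp hn)
      ?_ ?_
    · rwa [← map_commutator, ← map_commutator, map_eq_bot_iff_of_injective _ Q.subtype_injective] at h1
    · rwa [← map_inf_centralizer, ← map_commutator, ← map_commutator,
        map_eq_bot_iff_of_injective _ Q.subtype_injective] at h3

theorem map_kSeq_bounds {Q : Subgroup P}
    (hQ : ∀ n : ℕ, kSeqEven P n ≤ Q ∧ kSeqOdd P (n + 1) ≤ Q) (n : ℕ) :
    kSeqEven P n ≤ (kSeqEven Q n).map Q.subtype ∧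
      (kSeqEven Q n).map Q.subtype ≤ kSeqEven P (n + 1) ∧
      (kSeqOdd P (n + 1) ≤ (kSeqOdd Q n).map Q.subtype ∧
        (kSeqOdd Q n).map Q.subtype ≤ kSeqOdd P n) := by
  have evens : ∀ n, kSeqOdd P (n + 1) ≤ (kSeqOdd Q n).map Q.subtype →
      (kSeqOdd Q n).map Q.subtype ≤ kSeqOdd P n →
      kSeqEven P n ≤ (kSeqEven Q n).map Q.subtype ∧
        (kSeqEven Q n).map Q.subtype ≤ kSeqEven P (n + 1) := by
    intro n h1 h2
    constructor
    · rw [kSeqEven_def]
      refine sSup_le fun B hB => ?_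
      have hBQ : B ≤ Q := ((le_sSup hB : B ≤ kSeqEven P n)).trans (hQ n).1
      rw [← map_subgroupOf_eq_of_le hBQ] at hB ⊢
      exact Subgroup.map_mono (le_sSup ((mem_lower_map_iff _ _).mp (kLowerStarFamily_anti h2 hB)))
    · rw [map_le_iff_le_comap, kSeqEven_def]
      refine sSup_le fun B hB => map_le_iff_le_comap.mp ?_
      exact le_sSup (kLowerStarFamily_anti h1 ((mem_lower_map_iff _ _).mpr hB))
  induction n with
  | zero =>
    have h1 : kSeqOdd P 1 ≤ (kSeqOdd Q 0).map Q.subtype := by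
      show _ ≤ (⊤ : Subgroup Q).map Q.subtype
      rw [← MonoidHom.range_eq_map, range_subtype]
      exact (hQ 0).2
    have h2 : (kSeqOdd Q 0).map Q.subtype ≤ kSeqOdd P 0 := le_top
    exact ⟨(evens 0 h1 h2).1, (evens 0 h1 h2).2, h1, h2⟩
  | succ n ih =>
    obtain ⟨he1, he2, -, -⟩ := ih
    have h2 : (kSeqOdd Q (n + 1)).map Q.subtype ≤ kSeqOdd P (n + 1) := by
      rw [kSeqOdd_succ, map_le_iff_le_comap, kSeqOdd_succ]
      refine sSup_le fun B hB => map_le_iff_le_comap.mp ?_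
      exact le_sSup (kUpperStarFamily_anti he1 ((mem_upper_map_iff _ _).mpr hB))
    have h1 : kSeqOdd P (n + 1 + 1) ≤ (kSeqOdd Q (n + 1)).map Q.subtype := by
      rw [kSeqOdd_succ]
      refine sSup_le fun B hB => ?_
      have hBQ : B ≤ Q := (le_sSup hB : B ≤ kSeqOdd P (n + 1 + 1)).trans (hQ (n + 1)).2
      rw [← map_subgroupOf_eq_of_le hBQ] at hB ⊢
      exact Subgroup.map_mono (le_sSup ((mem_upper_map_iff _ _).mp (kUpperStarFamily_anti he2 hB)))
    exact ⟨(evens (n + 1) h1 h2).1, (evens (n + 1) h1 h2).2, h1, h2⟩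

theorem map_kInf_eq [Finite P] {Q : Subgroup P}
    (hQ : ∀ n : ℕ, kSeqEven P n ≤ Q ∧ kSeqOdd P (n + 1) ≤ Q) :
    (kInfLower Q).map Q.subtype = kInfLower P ∧ (kInfUpper Q).map Q.subtype = kInfUpper P := by
  obtain ⟨a, ha⟩ := exists_kSeq_stable (P := P)
  obtain ⟨b, hb⟩ := exists_kSeq_stable (P := Q)
  set m := max a b
  obtain ⟨h1, h2, h3, h4⟩ := map_kSeq_bounds hQ m
  rw [(ha m (le_max_left a b)).1, (hb m (le_max_right a b)).1] at h1
  rw [(hb m (le_max_right a b)).1, (ha (m + 1) ((le_max_left a b).trans (Nat.le_succ _))).1] at h2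
  rw [(hb m (le_max_right a b)).2, (ha (m + 1) ((le_max_left a b).trans (Nat.le_succ _))).2] at h3
  rw [(hb m (le_max_right a b)).2, (ha m (le_max_left a b)).2] at h4
  exact ⟨le_antisymm h2 h1, le_antisymm h4 h3⟩

end CfsgLib.Techniques
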