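import Cfsg.Prelude.Def_CaseTheorems
import Cfsg.Prelude.Def_LocalEven
import Cfsg.Prelude.Def_Local
import Cfsg.Agent.Lib.LocalEvenB.CharP
import Cfsg.Agent.Lib.Signalizer.Basic
import Cfsg.Agent.Lib.Transfer.SmallOrder

/-!
# Groups of local characteristic `p` and of characteristic `2` type (Klinger–Mason)

If `p` is odd, the `2`-local `p`-rank of such a group is at most `2`.
-/

set_option autoImplicit false

namespace CfsgLib.Techniques.KlingerMason

open Subgroup
open scoped commutatorElement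
open CfsgLib.LocalEvenB (HasCharP)

variable {G : Type*} [Group G]

/-! ### Small lemmas -/

theorem mem_sup_mul {H N : Subgroup G} (h : H ≤ normalizer (N : Set G)) {x : G} :
    x ∈ N ⊔ H ↔ ∃ u ∈ N, ∃ v ∈ H, x = u * v := by
  rw [sup_comm]
  exact CfsgLib.Core.mem_sup_iff_mul' h

theorem normalizer_le_map_char {U : Subgroup G} (H : Subgroup U) [hH : H.Characteristic] :
    normalizer (U : Set G) ≤ normalizer (H.map U.subtype : Set G) := by
  intro g hg
  have key : ∀ g ∈ normalizer (U : Set G), ∀ x ∈ H.map U.subtype,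
      g * x * g⁻¹ ∈ H.map U.subtype := by
    rintro g hg _ ⟨x, hx, rfl⟩
    let φ : U ≃* U :=
      { toFun := fun u => ⟨g * u * g⁻¹, (mem_normalizer_iff.mp hg u).mp u.2⟩
        invFun := fun u => ⟨g⁻¹ * u * g, (mem_normalizer_iff.mp hg _).mpr (by
          simp [mul_assoc])⟩
        left_inv := fun u => Subtype.ext (by simp [mul_assoc])
        right_inv := fun u => Subtype.ext (by simp [mul_assoc])
        map_mul' := fun u v => Subtype.ext (by simp [mul_assoc]) }
    exact ⟨φ x, (characteristic_iff_le_comap.mp hH φ) hx, rfl⟩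
  rw [mem_normalizer_iff]
  intro x
  refine ⟨key g hg x, fun hx => ?_⟩
  have := key g⁻¹ (inv_mem hg) _ hx
  simpa [mul_assoc] using this

theorem le_normalizer_sup_of {A X Y : Subgroup G} (hX : A ≤ normalizer (X : Set G))
    (hY : A ≤ normalizer (Y : Set G)) : A ≤ normalizer ((X ⊔ Y : Subgroup G) : Set G) := by
  intro a ha
  have hmap : ∀ g ∈ A, ∀ x ∈ X ⊔ Y, g * x * g⁻¹ ∈ X ⊔ Y := by
    intro g hg x hx
    have hle : X ⊔ Y ≤ (X ⊔ Y).comap (MulAut.conj g).toMonoidHom :=
      sup_le (fun y hy => mem_sup_left ((mem_normalizer_iff.mp (hX hg) y).mp hy))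
        (fun y hy => mem_sup_right ((mem_normalizer_iff.mp (hY hg) y).mp hy))
    exact hle hx
  rw [mem_normalizer_iff]
  intro x
  refine ⟨hmap a ha x, fun hx => ?_⟩
  have := hmap a⁻¹ (inv_mem ha) _ hx
  simpa [mul_assoc] using this

theorem orderOf_inv_conj_eq {t a : G} (ha : Odd (orderOf a))
    (h : a * (a * t * a⁻¹) * a⁻¹ = t) : a * t = t * a := by
  obtain ⟨k, hk⟩ := ha
  have h2 : Commute (a ^ 2) t := by
    show a ^ 2 * t = t * a ^ 2
    calc a ^ 2 * t = a * (a * t * a⁻¹) * a⁻¹ * a ^ 2 := by rw [pow_two]; group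
      _ = t * a ^ 2 := by rw [h]
  have h3 : Commute (a ^ (2 * k + 2)) t := by
    rw [show 2 * k + 2 = 2 * (k + 1) by ring, pow_mul]
    exact h2.pow_left _
  rwa [show 2 * k + 2 = (2 * k + 1) + 1 by ring, pow_succ, ← hk, pow_orderOf_eq_one, one_mul] at h3

theorem card_two_zpowers {z : G} (hz : z * z = 1) (hz1 : z ≠ 1) :
    Nat.card (zpowers z) = 2 := by
  rw [Nat.card_zpowers]
  exact orderOf_eq_prime (by rw [pow_two, hz]) hz1

theorem mem_zpowers_involution {z x : G} (hz : z * z = 1) (hx : x ∈ zpowers z) :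
    x = 1 ∨ x = z := by
  obtain ⟨k, rfl⟩ := mem_zpowers_iff.mp hx
  rcases Int.even_or_odd' k with ⟨j, rfl | rfl⟩
  · left
    rw [zpow_mul, zpow_two, hz, one_zpow]
  · right
    rw [zpow_add, zpow_mul, zpow_two, hz, one_zpow, one_mul, zpow_one]

/-- A subgroup of 2-power order with six elements. -/
theorem eight_le_of_moved [Finite G] {W : Subgroup G} (hW : IsPGroup 2 W) {z w a : G}
    (ha : Odd (orderOf a)) (haW : a ∈ normalizer (W : Set G)) (hzW : z ∈ W) (hz1 : z ≠ 1)
    (haz : a * z = z * a) (hw : w ∈ W) (hmove : a * w ≠ w * a) : 8 ≤ Nat.card W := by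
  classical
  obtain ⟨k, hk⟩ := hW.exists_card_eq
  have hcw : ∀ x ∈ W, a * x * a⁻¹ ∈ W := fun x hx => (mem_normalizer_iff.mp haW x).mp hx
  set w' := a * w * a⁻¹ with hw'
  set w'' := a * w' * a⁻¹ with hw''
  have hne1 : w' ≠ w := fun h => hmove (by rw [← mul_inv_eq_iff_eq_mul]; exact h)
  have hne2 : w'' ≠ w := fun h => hmove (orderOf_inv_conj_eq ha h)
  have hne3 : w'' ≠ w' := fun h => hne1 (by
    have h' : a * w' * a⁻¹ = a * w * a⁻¹ := h
    exact mul_left_cancel (mul_right_cancel h'))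
  have hfix : ∀ x, a * x = x * a → a * x * a⁻¹ = x := fun x hx => by rw [hx]; group
  have hw1 : w ≠ 1 := fun h => hmove (by rw [h, mul_one, one_mul])
  have hwz : w ≠ z := fun h => hmove (h ▸ haz)
  have hinj : ∀ x y : G, a * x * a⁻¹ = a * y * a⁻¹ → x = y := fun x y h =>
    mul_left_cancel (mul_right_cancel h)
  have hw'1 : w' ≠ 1 := fun h => hw1 (hinj _ _ (by rw [← hw', h, mul_one, mul_inv_cancel]))
  have hw'z : w' ≠ z := fun h => hwz (hinj _ _ (by rw [← hw', h, hfix z haz]))
  have hw''1 : w'' ≠ 1 := fun h => hw'1 (hinj _ _ (by rw [← hw'', h, mul_one, mul_inv_cancel]))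
  have hw''z : w'' ≠ z := fun h => hw'z (hinj _ _ (by rw [← hw'', h, hfix z haz]))
  let s : Finset G := {1, z, w, w', w''}
  have hcard : s.card = 5 := by
    simp only [s]
    rw [Finset.card_insert_of_notMem, Finset.card_insert_of_notMem, Finset.card_insert_of_notMem,
      Finset.card_insert_of_notMem, Finset.card_singleton]
    · simp [hne3.symm]
    · simp [hne1.symm, hne2.symm]
    · simp [hwz.symm, hw'z.symm, hw''z.symm]
    · simp [hz1.symm, hw1.symm, hw'1.symm, hw''1.symm]
  have hsub : (s : Set G) ⊆ (W : Set G) := by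
    intro x hx
    simp only [s, Finset.coe_insert, Finset.coe_singleton, Set.mem_insert_iff,
      Set.mem_singleton_iff] at hx
    rcases hx with rfl | rfl | rfl | rfl | rfl
    · exact W.one_mem
    · exact hzW
    · exact hw
    · exact hcw _ hw
    · exact hcw _ (hcw _ hw)
  have h5 : 5 ≤ Nat.card W := by
    have := Set.ncard_le_ncard hsub (Set.toFinite _)
    rwa [Set.ncard_coe_finset, hcard, ← Nat.card_coe_set_eq] at this
  rw [hk] at h5 ⊢
  calc 8 = 2 ^ 3 := rfl
    _ ≤ 2 ^ k := Nat.pow_le_pow_right (by norm_num) (by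
      by_contra hlt
      have : 2 ^ k ≤ 2 ^ 2 := Nat.pow_le_pow_right (by norm_num) (by omega)
      omega)

theorem elementary_two_sup {X : Subgroup G} {f : G}
    (hX : Cfsg.IsElementaryAbelian 2 X) (hf : f * f = 1) (hfX : ∀ x ∈ X, f * x = x * f) :
    Cfsg.IsElementaryAbelian 2 (X ⊔ zpowers f) := by
  haveI := hX.1
  have hle : X ⊔ zpowers f = closure ((X : Set G) ∪ {f}) := by
    rw [Subgroup.closure_union, closure_eq, ← zpowers_eq_closure]
  refine ⟨?_, ?_⟩
  · rw [hle]
    apply isMulCommutative_closure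
    rintro x (hx | rfl) y (hy | rfl)
    · exact congrArg Subtype.val (hX.1.is_comm.comm ⟨x, hx⟩ ⟨y, hy⟩)
    · exact (hfX x hx).symm
    · exact hfX y hy
    · rfl
  · intro x hx
    obtain ⟨u, hu, v, hv, rfl⟩ := (mem_sup_mul (N := X) (H := zpowers f)
      (by
        rw [zpowers_le, mem_normalizer_iff]
        intro y
        constructor
        · intro hy; rwa [hfX y hy, mul_inv_cancel_right]
        · intro hy
          have h1 := hfX _ hy
          have : f * y * f⁻¹ = y := by
            have h2 : f * y * f⁻¹ = f * (f * y * f⁻¹) * f⁻¹ := by rw [h1]; group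
            calc f * y * f⁻¹ = f * (f * y * f⁻¹) * f⁻¹ := h2
              _ = (f * f) * y * (f * f)⁻¹ := by group
              _ = y := by rw [hf]; group
          rwa [this] at hy)).mp hx
    rcases mem_zpowers_involution hf hv with rfl | rfl
    · simpa using hX.2 u hu
    · have hc : Commute u v := (hfX u hu).symm
      rw [hc.mul_pow, hX.2 u hu, one_mul, pow_two, hf]

theorem card_sup_zpowers [Finite G] {P : Subgroup G} {p : ℕ} (hp : p.Prime) {r : G}
    (hr : orderOf r = p) (hrP : r ∉ P) (hn : r ∈ normalizer (P : Set G)) :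
    Nat.card ↥(P ⊔ zpowers r) = Nat.card P * p := by
  haveI := Fact.mk hp
  refine le_antisymm ?_ ?_
  · have := Nat.le_of_dvd (Nat.mul_pos Nat.card_pos Nat.card_pos)
      (CfsgLib.Components.card_sup_dvd_mul (A := P) (B := zpowers r) (zpowers_le.mpr hn))
    rwa [Nat.card_zpowers, hr] at this
  · have hd : P ⊓ zpowers r = ⊥ := by
      rw [eq_bot_iff]
      rintro x ⟨hxP, hxr⟩
      by_contra hx1
      apply hrP
      have : zpowers x = zpowers r := eq_of_le_of_card_ge (zpowers_le.mpr hxr) (by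
        rw [Nat.card_zpowers, Nat.card_zpowers, hr]
        have hd := orderOf_dvd_natCard (⟨x, hxr⟩ : zpowers r)
        rw [Subgroup.orderOf_mk, Nat.card_zpowers, hr] at hd
        rcases (Nat.dvd_prime hp).mp hd with h | h
        · exact absurd (orderOf_eq_one_iff.mp h) (by simpa using hx1)
        · exact h.ge)
      exact zpowers_le.mpr hxP (this.ge (mem_zpowers r))
    have := CfsgLib.LocalEvenB.card_mul_card_le_sup_inf P (zpowers r)
    rwa [hd, Nat.card_zpowers, hr, Subgroup.card_bot, mul_one] at this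

variable [Finite G]

theorem hasCharP_centralizer_involution (hG2 : Cfsg.IsCharacteristicTwoType G) {z : G}
    (hz : z * z = 1) (hz1 : z ≠ 1) :
    HasCharP 2 (centralizer ({z} : Set G)) := by
  have hn : normalizer (zpowers z : Set G) = centralizer ({z} : Set G) := by
    ext g
    rw [mem_normalizer_iff, mem_centralizer_singleton_iff]
    constructor
    · intro h
      rcases mem_zpowers_involution hz ((h z).mp (mem_zpowers z)) with h1 | h1
      · exact absurd (by simpa [mul_inv_eq_one] using h1) hz1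
      · exact mul_inv_eq_iff_eq_mul.mp h1
    · intro h x
      have hgz : g * z * g⁻¹ = z := by rw [h]; group
      constructor
      · intro hx
        rcases mem_zpowers_involution hz hx with rfl | rfl
        · simp
        · rw [hgz]; exact mem_zpowers _
      · intro hx
        rcases mem_zpowers_involution hz hx with h1 | h1
        · have : x = 1 := by simpa using h1
          rw [this]; exact one_mem _
        · have : g * x * g⁻¹ = g * z * g⁻¹ := h1.trans hgz.symm
          rw [mul_left_cancel (mul_right_cancel this)]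
          exact mem_zpowers _
  have h := hG2.2 (zpowers z) (IsPGroup.of_card (n := 1) (card_two_zpowers hz hz1))
    (by rw [zpowers_ne_bot]; exact hz1)
  rw [hn] at h
  exact (CfsgLib.LocalEvenB.hasCharP_iff _).mpr h

/-- The 2-local `p`-rank is at most `n`. -/
def RankBound (p n : ℕ) (G : Type*) [Group G] : Prop :=
  ∀ A T : Subgroup G, Cfsg.IsElementaryAbelian p A → IsPGroup 2 T → T ≠ ⊥ →
    A ≤ normalizer (T : Set G) → Nat.card A ≤ p ^ n

variable {p : ℕ} [hp : Fact p.Prime]

theorem RankBound.of_centralizes {n : ℕ} (hn : RankBound p n G) {A : Subgroup G}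
    (hA : Cfsg.IsElementaryAbelian p A) {e : G} (he : e * e = 1) (he1 : e ≠ 1)
    (hc : ∀ a ∈ A, a * e = e * a) : Nat.card A ≤ p ^ n := by
  refine hn A (zpowers e) hA (IsPGroup.of_card (n := 1) (card_two_zpowers he he1))
    (by rw [zpowers_ne_bot]; exact he1) fun a ha => ?_
  rw [mem_normalizer_iff]
  intro x
  have hae : a * e * a⁻¹ = e := by rw [hc a ha]; group
  constructor
  · intro hx
    rcases mem_zpowers_involution he hx with rfl | rfl
    · simp
    · rw [hae]; exact mem_zpowers _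
  · intro hx
    rcases mem_zpowers_involution he hx with h1 | h1
    · have : x = 1 := by simpa using h1
      rw [this]; exact one_mem _
    · rw [mul_left_cancel (mul_right_cancel (h1.trans hae.symm))]
      exact mem_zpowers _

/-! ### The step: an elementary 2-group centralizing a `p`-group -/

theorem step (hp2 : p ≠ 2) (hGp : Cfsg.IsOfLocalCharacteristic p G) {P E : Subgroup G}
    (hP : Cfsg.IsElementaryAbelian p P) (hP1 : P ≠ ⊥) (hE : Cfsg.IsElementaryAbelian 2 E)
    (hE1 : E ≠ ⊥) (hPE : E ≤ centralizer (P : Set G)) :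
    ∃ (r : G) (f : G) (E₁ : Subgroup G), E₁ ≤ E ∧ Nat.card E ≤ 2 * Nat.card E₁ ∧ f ∈ E ∧
      r ∈ Cfsg.pCoreOf p (normalizer (P : Set G)) ∧ f * r * f⁻¹ = r⁻¹ ∧ r ≠ r⁻¹ ∧
      Cfsg.IsElementaryAbelian p (P ⊔ zpowers r) ∧
      Nat.card ↥(P ⊔ zpowers r) = Nat.card P * p ∧
      E₁ ≤ centralizer ((P ⊔ zpowers r : Subgroup G) : Set G) := by
  haveI : Fact (Nat.Prime 2) := ⟨Nat.prime_two⟩
  set N := normalizer (P : Set G) with hN
  set R := Cfsg.pCoreOf p N with hR
  have hPp : IsPGroup p P := CfsgLib.Signalizer.elementary_isPGroup hP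
  have hchar : HasCharP p N := (CfsgLib.LocalEvenB.hasCharP_iff _).mpr (hGp.2 P hPp hP1)
  have hEN : E ≤ N := hPE.trans (Subgroup.centralizer_le_normalizer _)
  have hNR : N ≤ normalizer (R : Set G) := CfsgLib.LocalEvenB.le_normalizer_pCoreOf N
  have hPR : P ≤ normalizer (R : Set G) := Subgroup.le_normalizer.trans hNR
  set R' := R ⊓ centralizer (P : Set G) with hR'
  have hER' : E ≤ normalizer (R' : Set G) := by
    refine CfsgLib.Signalizer.le_normalizer_inf (hEN.trans hNR) ?_
    exact fun x hx => Subgroup.le_normalizer (hPE hx)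
  have hfaith : ¬ R' ≤ centralizer (E : Set G) := by
    intro hle
    apply hE1
    rw [eq_bot_iff]
    intro x hx
    rw [mem_bot]
    have hxo : (orderOf x).Coprime p := by
      have := hE.2 x hx
      exact Nat.Coprime.coprime_dvd_left (orderOf_dvd_of_pow_eq_one this)
        ((Nat.coprime_primes Nat.prime_two hp.out).mpr (Ne.symm hp2))
    refine hchar.eq_one (hEN hx) hxo ?_
    refine CfsgLib.LocalEvenB.mem_centralizer_of_axb (B := P) hxo
      (CfsgLib.LocalEvenB.isPGroup_pCoreOf N) hPp hPR (hNR (hEN hx)) (hPE hx) ?_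
    rw [mem_centralizer_iff]
    intro y hy
    exact (mem_centralizer_iff.mp (hle hy) x hx).symm
  have hR'p : IsPGroup p R' := (CfsgLib.LocalEvenB.isPGroup_pCoreOf N).to_le inf_le_left
  have hR'2 : ¬ 2 ∣ Nat.card R' := by
    obtain ⟨k, hk⟩ := hR'p.exists_card_eq
    rw [hk]
    exact fun h => hp2 ((Nat.prime_dvd_prime_iff_eq Nat.prime_two hp.out).mp
      (Nat.prime_two.dvd_of_dvd_pow h)).symm
  obtain ⟨E₁, hE₁, hidx, hE₁R⟩ : ∃ E₁ : Subgroup G, E₁ ≤ E ∧ E₁.relIndex E ≤ 2 ∧
      ¬ R' ⊓ centralizer (E₁ : Set G) ≤ centralizer (E : Set G) := by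
    by_contra hcon
    push Not at hcon
    exact hfaith (CfsgLib.Signalizer.le_of_hyperplanes_le hE hR'2 hER' hcon)
  obtain ⟨y, hy, hyE⟩ := SetLike.not_le_iff_exists.mp hE₁R
  rw [mem_centralizer_iff] at hyE
  push Not at hyE
  obtain ⟨f, hf, hfy⟩ := hyE
  have hff : f * f = 1 := by rw [← pow_two]; exact hE.2 f hf
  set v := y⁻¹ * (f * y * f⁻¹) with hv
  have hv1 : v ≠ 1 := fun h => hfy (by
    rw [hv, inv_mul_eq_one] at h
    exact mul_inv_eq_iff_eq_mul.mp h.symm)
  have hfv : f * v * f⁻¹ = v⁻¹ := by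
    have hfinv : f⁻¹ = f := inv_eq_of_mul_eq_one_right hff
    rw [hv, hfinv]
    calc f * (y⁻¹ * (f * y * f)) * f = f * y⁻¹ * f * y * (f * f) := by group
      _ = f⁻¹ * y⁻¹ * f⁻¹ * y := by rw [hff, mul_one, hfinv]
      _ = (y⁻¹ * (f * y * f))⁻¹ := by group
  have hvR' : v ∈ R' ⊓ centralizer (E₁ : Set G) := by
    refine mul_mem (inv_mem hy) ⟨(mem_normalizer_iff.mp (hER' hf) y).mp hy.1, ?_⟩
    show f * y * f⁻¹ ∈ centralizer (E₁ : Set G)
    rw [mem_centralizer_iff]
    intro e he
    have h1 : e * f = f * e := CfsgLib.Signalizer.elementary_comm hE (hE₁ he) hf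
    have h2 : e * y = y * e := mem_centralizer_iff.mp hy.2 e he
    have h3 : e * f⁻¹ = f⁻¹ * e := (Commute.inv_right h1).eq
    calc e * (f * y * f⁻¹) = (e * f) * y * f⁻¹ := by group
      _ = f * (e * y) * f⁻¹ := by rw [h1]; group
      _ = f * y * (e * f⁻¹) := by rw [h2]; group
      _ = f * y * f⁻¹ * e := by rw [h3]; group
  obtain ⟨k, hk⟩ : ∃ k, orderOf v = p ^ (k + 1) := by
    obtain ⟨j, hj⟩ := IsPGroup.iff_orderOf.mp hR'p ⟨v, hvR'.1⟩
    rw [Subgroup.orderOf_mk] at hj
    cases j with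
    | zero => exact absurd (orderOf_eq_one_iff.mp (by simpa using hj)) hv1
    | succ k => exact ⟨k, hj⟩
  set r := v ^ p ^ k with hr
  have hro : orderOf r = p := by
    rw [hr, orderOf_pow_of_dvd (pow_ne_zero _ hp.out.ne_zero) (by rw [hk, pow_succ]; exact dvd_mul_right _ _),
      hk, pow_succ, Nat.mul_div_cancel_left _ (pow_pos hp.out.pos _)]
  have hfr : f * r * f⁻¹ = r⁻¹ := by rw [hr, ← conj_pow, hfv, inv_pow]
  have hrR : r ∈ R' ⊓ centralizer (E₁ : Set G) := pow_mem hvR' _
  have hrne : r ≠ r⁻¹ := by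
    intro h
    have h2 : r ^ 2 = 1 := by rw [pow_two]; nth_rw 2 [h]; exact mul_inv_cancel r
    have := orderOf_dvd_of_pow_eq_one h2
    rw [hro] at this
    exact hp2 ((Nat.prime_dvd_prime_iff_eq hp.out Nat.prime_two).mp this)
  have hrc : ∀ x ∈ P, x * r = r * x := fun x hx => mem_centralizer_iff.mp hrR.1.2 x hx
  have hrP : r ∉ P := by
    intro hrP
    apply hrne
    rw [← hfr, (mem_centralizer_iff.mp (hPE hf) r hrP).symm]
    group
  have hrn : r ∈ normalizer (P : Set G) :=
    Subgroup.centralizer_le_normalizer _ hrR.1.2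
  refine ⟨r, f, E₁, hE₁, ?_, hf, hrR.1.1, hfr, hrne, ⟨?_, ?_⟩, card_sup_zpowers hp.out hro hrP hrn, ?_⟩
  · have h1 : Nat.card E₁ * E₁.relIndex E = Nat.card E := by
      rw [← Subgroup.relIndex_bot_left E₁, Subgroup.relIndex_mul_relIndex ⊥ E₁ E bot_le hE₁,
        Subgroup.relIndex_bot_left]
    rw [← h1, mul_comm 2]
    exact Nat.mul_le_mul_left _ hidx
  · haveI := hP.1
    rw [show P ⊔ zpowers r = closure ((P : Set G) ∪ {r}) by
      rw [Subgroup.closure_union, closure_eq, ← zpowers_eq_closure]]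
    apply isMulCommutative_closure
    rintro x (hx | rfl) y (hy | rfl)
    · exact CfsgLib.Signalizer.elementary_comm hP hx hy
    · exact hrc x hx
    · exact (hrc y hy).symm
    · rfl
  · intro x hx
    obtain ⟨u, hu, w, hw, rfl⟩ :=
      (mem_sup_mul (N := P) (H := zpowers r) (zpowers_le.mpr hrn)).mp hx
    obtain ⟨j, rfl⟩ := mem_zpowers_iff.mp hw
    have hc : Commute u (r ^ j) := Commute.zpow_right (hrc u hu) j
    rw [hc.mul_pow, hP.2 u hu, one_mul, ← zpow_natCast, ← zpow_mul, mul_comm, zpow_mul,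
      zpow_natCast, ← hro, pow_orderOf_eq_one, one_zpow]
  · rw [le_centralizer_iff]
    refine sup_le (le_centralizer_iff.mp (hE₁.trans hPE)) (zpowers_le.mpr ?_)
    exact hrR.2

/-- Iterating the step. -/
theorem iterate (hp2 : p ≠ 2) (hGp : Cfsg.IsOfLocalCharacteristic p G) :
    ∀ (k : ℕ) {P E : Subgroup G}, Cfsg.IsElementaryAbelian p P → P ≠ ⊥ →
      Cfsg.IsElementaryAbelian 2 E → E ≤ centralizer (P : Set G) → 2 ^ (k + 1) ≤ Nat.card E →
      ∃ P' E' : Subgroup G, Cfsg.IsElementaryAbelian p P' ∧ P ≤ P' ∧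
        Nat.card P' = Nat.card P * p ^ k ∧ E' ≤ E ∧ Nat.card E ≤ 2 ^ k * Nat.card E' ∧
        E' ≤ centralizer (P' : Set G) := by
  intro k
  induction k with
  | zero =>
    intro P E hP _ _ hPE _
    exact ⟨P, E, hP, le_rfl, by simp, le_rfl, by simp, hPE⟩
  | succ k ih =>
    intro P E hP hP1 hE hPE hcard
    have hE1 : E ≠ ⊥ := by
      rintro rfl
      rw [Subgroup.card_bot] at hcard
      have : 1 < 2 ^ (k + 1 + 1) := Nat.one_lt_two_pow (by omega)
      omega
    obtain ⟨r, f, E₁, hE₁, hc₁, -, -, -, -, hel, hPr, hE₁c⟩ := step hp2 hGp hP hP1 hE hE1 hPE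
    have hP'1 : P ⊔ zpowers r ≠ ⊥ := fun h => hP1 (eq_bot_iff.mpr (h ▸ le_sup_left))
    have hc2 : 2 ^ (k + 1) ≤ Nat.card E₁ := by rw [pow_succ] at hcard; omega
    obtain ⟨P', E', h1, h2, h3, h4, h5, h6⟩ := ih hel hP'1
      (CfsgLib.Signalizer.elementary_of_le hE hE₁) hE₁c hc2
    refine ⟨P', E', h1, le_sup_left.trans h2, ?_, h4.trans hE₁, ?_, h6⟩
    · rw [h3, hPr, pow_succ]; ring
    · calc Nat.card E ≤ 2 * Nat.card E₁ := hc₁
        _ ≤ 2 * (2 ^ k * Nat.card E') := Nat.mul_le_mul_left _ h5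
        _ = 2 ^ (k + 1) * Nat.card E' := by rw [pow_succ]; ring

/-- The pair inequality. -/
theorem pair_le (hp2 : p ≠ 2) (hGp : Cfsg.IsOfLocalCharacteristic p G) {n : ℕ}
    (hn : RankBound p n G) {P E : Subgroup G} (hP : Cfsg.IsElementaryAbelian p P) (hP1 : P ≠ ⊥)
    (hE : Cfsg.IsElementaryAbelian 2 E) (hPE : E ≤ centralizer (P : Set G)) {a b : ℕ}
    (ha : p ^ a ≤ Nat.card P) (hb : 2 ^ b ≤ Nat.card E) (hb1 : 1 ≤ b) : a + b ≤ n + 1 := by
  obtain ⟨k, rfl⟩ : ∃ k, b = k + 1 := ⟨b - 1, by omega⟩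
  obtain ⟨P', E', h1, -, h3, h4, h5, h6⟩ := iterate hp2 hGp k hP hP1 hE hPE hb
  have hE'1 : E' ≠ ⊥ := by
    rintro rfl
    rw [Subgroup.card_bot, mul_one] at h5
    have := hb.trans h5
    rw [pow_succ] at this
    have : 0 < 2 ^ k := Nat.two_pow_pos k
    omega
  obtain ⟨e, he, he1⟩ := (ne_bot_iff_exists_ne_one).mp hE'1 |> fun ⟨x, hx⟩ =>
    (⟨(x : G), x.2, fun h => hx (Subtype.ext h)⟩ : ∃ e : G, e ∈ E' ∧ e ≠ 1)
  have hle := hn.of_centralizes h1 (e := e) (by rw [← pow_two]; exact hE.2 e (h4 he)) he1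
    fun a' ha' => mem_centralizer_iff.mp (h6 he) a' ha'
  rw [h3] at hle
  have : p ^ (a + k) ≤ p ^ n := by
    rw [pow_add]
    exact le_trans (Nat.mul_le_mul_right _ ha) hle
  have := (Nat.pow_le_pow_iff_right hp.out.one_lt).mp this
  omega

/-! ### Elementary subgroups from two commuting blocks -/

theorem exists_rank_three {U : Subgroup G} {z : G} (hz : z * z = 1)
    (hzU : z ∈ U) (hUz : ∀ x ∈ U, x * z = z * x) (hz1 : z ≠ 1)
    {T T' : Subgroup G} (hT : T ≤ U) (hT' : T' ≤ U) (hTT' : ∀ x ∈ T, ∀ y ∈ T', x * y = y * x)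
    {A : Subgroup G} (hdisj : ∀ x ∈ T, (x ∈ T' ∨ x * z ∈ T') → ∀ a ∈ A, a * x = x * a)
    (hzA : ∀ a ∈ A, a * z = z * a)
    {t s t' s' : G} (ht : t ∈ T) (hs : s ∈ T) (ht' : t' ∈ T') (hs' : s' ∈ T')
    (hsq₁ : (t * t') * (t * t') = 1) (hsq₂ : (s * s') * (s * s') = 1)
    (hcomm : (t * t') * (s * s') = (s * s') * (t * t'))
    (hmov₁ : ∃ a ∈ A, a * t ≠ t * a) (hmov₂ : ∃ a ∈ A, a * s ≠ s * a)
    (hmov₃ : ∃ a ∈ A, a * (t⁻¹ * s) ≠ (t⁻¹ * s) * a) :
    Cfsg.IsElementaryAbelian 2 (zpowers z ⊔ zpowers (t * t') ⊔ zpowers (s * s')) ∧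
      8 ≤ Nat.card ↥(zpowers z ⊔ zpowers (t * t') ⊔ zpowers (s * s')) := by
  set u := t * t' with hu
  set v := s * s' with hv
  have huU : u ∈ U := mul_mem (hT ht) (hT' ht')
  have hvU : v ∈ U := mul_mem (hT hs) (hT' hs')
  have hz2 : Cfsg.IsElementaryAbelian 2 (zpowers z) := by
    refine ⟨inferInstance, fun x hx => ?_⟩
    rcases mem_zpowers_involution hz hx with rfl | rfl
    · simp
    · rw [pow_two, hz]
  have hX1 := elementary_two_sup hz2 hsq₁ fun x hx => by
    rcases mem_zpowers_involution hz hx with rfl | rfl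
    · rw [mul_one, one_mul]
    · exact hUz u huU
  have hX := elementary_two_sup hX1 hsq₂ fun x hx => by
    have : zpowers z ⊔ zpowers u ≤ centralizer ({v} : Set G) := by
      refine sup_le (zpowers_le.mpr ?_) (zpowers_le.mpr ?_)
      · exact mem_centralizer_singleton_iff.mpr (hUz v hvU).symm
      · exact mem_centralizer_singleton_iff.mpr hcomm
    exact (mem_centralizer_singleton_iff.mp (this hx)).symm
  refine ⟨hX, ?_⟩
  · have hTfix : ∀ x ∈ T, ∀ y, (y = 1 ∨ y = z) → x * y ∈ T' → ∀ a ∈ A, a * x = x * a := by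
      rintro x hx y (rfl | rfl) hxy
      · exact hdisj x hx (Or.inl (by simpa using hxy))
      · exact hdisj x hx (Or.inr hxy)
    have hu' : u ∉ zpowers z := by
      intro h
      obtain ⟨a, ha, hne⟩ := hmov₁
      apply hne
      have hc := mem_zpowers_involution hz h
      refine hTfix t ht u hc ?_ a ha
      have hut : u = t' * t := hTT' t ht t' ht'
      have hzc : t * u = u * t := by
        rcases hc with hc | hc
        · rw [hc, mul_one, one_mul]
        · rw [hc]; exact hUz t (hT ht)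
      have : t * u = t'⁻¹ := by
        apply eq_inv_of_mul_eq_one_right
        calc t' * (t * u) = (t' * t) * u := by group
          _ = u * u := by rw [← hut]
          _ = 1 := hsq₁
      rw [this]
      exact inv_mem ht'
    have hv' : v ∉ zpowers z ⊔ zpowers u := by
      intro h
      obtain ⟨c, hc, d, hd, hcd⟩ := (mem_sup_mul (N := zpowers z) (H := zpowers u)
        (zpowers_le.mpr (by
          rw [mem_normalizer_iff]
          intro x
          have hconj : ∀ x ∈ zpowers z, u * x * u⁻¹ = x := by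
            intro x hx
            rcases mem_zpowers_involution hz hx with rfl | rfl
            · group
            · rw [hUz u huU]; group
          constructor
          · intro hx; rwa [hconj x hx]
          · intro hx
            have h1 := hconj _ hx
            have : u * x * u⁻¹ = x := mul_left_cancel (mul_right_cancel h1)
            rwa [this] at hx))).mp h
      rcases mem_zpowers_involution hsq₁ hd with rfl | rfl
      · obtain ⟨a, ha, hne⟩ := hmov₂
        apply hne
        have hc' := mem_zpowers_involution hz hc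
        rw [mul_one] at hcd
        refine hTfix s hs c hc' ?_ a ha
        have hsc : s * c = c * s := by
          rcases hc' with hc' | hc'
          · rw [hc', mul_one, one_mul]
          · rw [hc']; exact hUz s (hT hs)
        have : s * c = s'⁻¹ := by
          apply eq_inv_of_mul_eq_one_right
          calc s' * (s * c) = (s' * s) * c := by group
            _ = (s * s') * (s * s') := by rw [← hTT' s hs s' hs', ← hv, hcd]
            _ = 1 := hsq₂
        rw [this]
        exact inv_mem hs'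
      · obtain ⟨a, ha, hne⟩ := hmov₃
        apply hne
        have hc' := mem_zpowers_involution hz hc
        have hcz : ∀ x ∈ U, x * c = c * x := by
          intro x hx
          rcases hc' with hc' | hc'
          · rw [hc', mul_one, one_mul]
          · rw [hc']; exact hUz x hx
        have hts : t⁻¹ * s ∈ T := mul_mem (inv_mem ht) hs
        refine hTfix (t⁻¹ * s) hts c hc' ?_ a ha
        have hcc : c * c = 1 := by
          rcases hc' with hc' | hc'
          · rw [hc', mul_one]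
          · rw [hc', hz]
        have hkey : t⁻¹ * s * c = t' * s'⁻¹ := by
          have h1 : s * s' = c * (t * t') := hcd
          calc t⁻¹ * s * c = t⁻¹ * (s * s') * s'⁻¹ * c := by group
            _ = t⁻¹ * (c * (t * t')) * s'⁻¹ * c := by rw [h1]
            _ = t⁻¹ * (c * t) * t' * s'⁻¹ * c := by group
            _ = (c * (t' * s'⁻¹)) * c := by rw [← hcz t (hT ht)]; group
            _ = (t' * s'⁻¹) * (c * c) := by
              rw [← hcz _ (mul_mem (hT' ht') (inv_mem (hT' hs')))]; group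
            _ = t' * s'⁻¹ := by rw [hcc, mul_one]
        rw [hkey]
        exact mul_mem ht' (inv_mem hs')
    have hu1 : u ≠ 1 := fun h => hu' (h ▸ one_mem _)
    have hv1 : v ≠ 1 := fun h => hv' (h ▸ one_mem _)
    have huo : orderOf u = 2 := orderOf_eq_prime (by rw [pow_two, hsq₁]) hu1
    have hvo : orderOf v = 2 := orderOf_eq_prime (by rw [pow_two, hsq₂]) hv1
    rw [card_sup_zpowers Nat.prime_two hvo hv', card_sup_zpowers Nat.prime_two huo hu',
      card_two_zpowers hz hz1]
    · rw [mem_normalizer_iff]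
      intro x
      have hconj : ∀ x ∈ zpowers z, u * x * u⁻¹ = x := by
        intro x hx
        rcases mem_zpowers_involution hz hx with rfl | rfl
        · group
        · rw [hUz u huU]; group
      constructor
      · intro hx; rwa [hconj x hx]
      · intro hx
        have : u * x * u⁻¹ = x := mul_left_cancel (mul_right_cancel (hconj _ hx))
        rwa [this] at hx
    · apply Subgroup.centralizer_le_normalizer
      rw [mem_centralizer_iff]
      intro x hx
      have h1 : v ∈ zpowers z ⊔ zpowers u ⊔ zpowers v := mem_sup_right (mem_zpowers v)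
      exact CfsgLib.Signalizer.elementary_comm hX (mem_sup_left hx) h1

/-! ### The structure of `O₂(C(z))` for a centralized involution `z` -/

/-- Data: `A` of maximal rank centralizing the involution `z`, `K` a critical subgroup of `O₂(C(z))`. -/
structure Blocks (p : ℕ) (A : Subgroup G) (z : G) (U K : Subgroup G) : Prop where
  normA : A ≤ normalizer (K : Set G)
  normC : centralizer ({z} : Set G) ≤ normalizer (K : Set G)
  normU : centralizer ({z} : Set G) ≤ normalizer (U : Set G)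
  leU : K ≤ U
  two : IsPGroup 2 U
  memz : z ∈ U
  commz : ∀ x ∈ U, x * z = z * x
  faith : A ⊓ centralizer (K : Set G) = ⊥
  centfix : ∀ x ∈ K, (∀ y ∈ K, x * y = y * x) → ∀ a ∈ A, a * x = x * a
  comm : ∀ x ∈ K, ∀ y ∈ K, ∀ w ∈ K, ⁅x, y⁆ * w = w * ⁅x, y⁆
  sq : ∀ x ∈ K, ∀ w ∈ K, x * x * w = w * (x * x)
  inv : ∀ x ∈ U, x * x = 1 → (∀ a ∈ A, a * x = x * a) → x = 1 ∨ x = z

theorem exists_blocks (hp2 : p ≠ 2) (hGp : Cfsg.IsOfLocalCharacteristic p G)
    (hG2 : Cfsg.IsCharacteristicTwoType G) {n : ℕ} (hn3 : 3 ≤ n) (hn : RankBound p n G)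
    {A : Subgroup G} (hA : Cfsg.IsElementaryAbelian p A) (hAc : Nat.card A = p ^ n) {z : G}
    (hz : z * z = 1) (hz1 : z ≠ 1) (hzA : ∀ a ∈ A, a * z = z * a) :
    ∃ U K : Subgroup G, Blocks p A z U K := by
  haveI : Fact (Nat.Prime 2) := ⟨Nat.prime_two⟩
  set C := centralizer ({z} : Set G) with hC
  set U := Cfsg.pCoreOf 2 C with hU
  have hchar : HasCharP 2 C := hasCharP_centralizer_involution hG2 hz hz1
  have hU2 : IsPGroup 2 U := CfsgLib.LocalEvenB.isPGroup_pCoreOf C
  have hCU : C ≤ normalizer (U : Set G) := CfsgLib.LocalEvenB.le_normalizer_pCoreOf C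
  have hUC : U ≤ C := CfsgLib.LocalEvenB.pCoreOf_le C
  have hAC : A ≤ C := fun a ha => mem_centralizer_singleton_iff.mpr (hzA a ha)
  have hcommz : ∀ x ∈ U, x * z = z * x := fun x hx => mem_centralizer_singleton_iff.mp (hUC hx)
  have hzU : z ∈ U := by
    refine (CfsgLib.LocalEvenB.le_pCoreOf (p := 2) (L := C)
      (zpowers_le.mpr (mem_centralizer_singleton_iff.mpr rfl))
      (IsPGroup.of_card (n := 1) (card_two_zpowers hz hz1)) ?_) (mem_zpowers z)
    intro g hg
    apply Subgroup.centralizer_le_normalizer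
    rw [mem_centralizer_iff]
    intro x hx
    rcases mem_zpowers_involution hz hx with rfl | rfl
    · simp
    · exact (mem_centralizer_singleton_iff.mp hg).symm
  obtain ⟨H, hHc, hΦ, hHU, hHH⟩ := CfsgLib.Transfer.exists_critical (p := 2) hU2
  haveI := hHc
  set K := H.map U.subtype with hK
  have hKU : K ≤ U := map_subtype_le _
  have hCK : C ≤ normalizer (K : Set G) := fun g hg =>
    (normalizer_le_map_char H) (hCU hg)
  have hAp : IsPGroup p A := CfsgLib.Signalizer.elementary_isPGroup hA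
  have ho : ∀ a ∈ A, (orderOf a).Coprime 2 := fun a ha =>
    Nat.Coprime.coprime_dvd_left (orderOf_dvd_of_pow_eq_one (hA.2 a ha))
      ((Nat.coprime_primes hp.out Nat.prime_two).mpr hp2)
  have hodd : ∀ a ∈ A, Odd (orderOf a) := fun a ha =>
    Nat.coprime_two_right.mp (ho a ha)
  have hH2 : IsPGroup 2 H := hU2.to_subgroup H
  have hΦH : ∀ x : H, x ∈ frattini H → ∀ y : H, x * y = y * x := fun x hx y =>
    Subtype.ext (mem_centralizer_iff.mp (hΦ ⟨x, hx, rfl⟩) y y.2).symm
  have hfaith : A ⊓ centralizer (K : Set G) = ⊥ := by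
    rw [eq_bot_iff]
    rintro a ⟨ha, haK⟩
    rw [mem_bot]
    refine hchar.eq_one (hAC ha) (ho a ha) ?_
    refine CfsgLib.LocalEvenB.mem_centralizer_of_axb (B := K) (ho a ha) hU2 (hU2.to_le hKU)
      (hKU.trans (hUC.trans hCU)) (hCU (hAC ha)) haK ?_
    rw [mem_centralizer_iff]
    rintro x ⟨hxU, hxK⟩
    have hxH : (⟨x, hxU⟩ : U) ∈ H := hHH (mem_centralizer_iff.mpr fun y hy =>
      Subtype.ext (mem_centralizer_iff.mp hxK y (mem_map_of_mem _ hy)))
    exact mem_centralizer_iff.mp haK x ⟨_, hxH, rfl⟩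
  have hinv : ∀ x ∈ U, x * x = 1 → (∀ a ∈ A, a * x = x * a) → x = 1 ∨ x = z := by
    intro x hx hxx hxA
    by_contra hcon
    push Not at hcon
    have hzz : Cfsg.IsElementaryAbelian 2 (zpowers z) := by
      refine ⟨inferInstance, fun y hy => ?_⟩
      rcases mem_zpowers_involution hz hy with rfl | rfl
      · simp
      · rw [pow_two, hz]
    have hxz : ∀ y ∈ zpowers z, x * y = y * x := by
      intro y hy
      rcases mem_zpowers_involution hz hy with rfl | rfl
      · simp
      · exact hcommz x hx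
    have hE := elementary_two_sup hzz hxx hxz
    have hxo : orderOf x = 2 := orderOf_eq_prime (by rw [pow_two, hxx]) hcon.1
    have hxn : x ∉ zpowers z := fun h => (mem_zpowers_involution hz h).elim hcon.1 hcon.2
    have hcard : Nat.card ↥(zpowers z ⊔ zpowers x) = 4 := by
      rw [card_sup_zpowers Nat.prime_two hxo hxn, card_two_zpowers hz hz1]
      apply Subgroup.centralizer_le_normalizer
      exact mem_centralizer_iff.mpr fun y hy => (hxz y hy).symm
    have hA1 : A ≠ ⊥ := by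
      rintro rfl
      rw [Subgroup.card_bot] at hAc
      have := Nat.one_lt_pow (by omega : n ≠ 0) hp.out.one_lt
      omega
    have := pair_le hp2 hGp hn (a := n) (b := 2) hA hA1 hE
      (le_centralizer_iff.mp (fun a ha => mem_centralizer_iff.mpr fun y hy => by
        have hcl : zpowers z ⊔ zpowers x ≤ centralizer ({a} : Set G) := by
          refine sup_le (zpowers_le.mpr ?_) (zpowers_le.mpr ?_)
          · exact mem_centralizer_singleton_iff.mpr (hzA a ha).symm
          · exact mem_centralizer_singleton_iff.mpr (hxA a ha).symm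
        exact mem_centralizer_singleton_iff.mp (hcl hy)))
      hAc.ge (by rw [hcard]; norm_num) (by norm_num)
    omega
  refine ⟨U, K, hAC.trans hCK, hCK, hCU, hKU, hU2, hzU, hcommz, hfaith, ?_, ?_, ?_, hinv⟩
  · -- the centre of `K` is centralized by `A`
    set Z := K ⊓ centralizer (K : Set G) with hZ
    have hZab : IsMulCommutative Z :=
      ⟨⟨fun a b => Subtype.ext (mem_centralizer_iff.mp b.2.2 a a.2.1)⟩⟩
    have hAZ : A ≤ normalizer (Z : Set G) :=
      CfsgLib.Signalizer.le_normalizer_inf (hAC.trans hCK)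
        ((hAC.trans hCK).trans (CfsgLib.Signalizer.normalizer_le_normalizer_centralizer_set _))
    have hZU : Z ≤ U := inf_le_left.trans hKU
    let X : Subgroup G :=
      { carrier := {x | x ∈ Z ∧ x * x = 1}
        one_mem' := ⟨one_mem _, one_mul 1⟩
        mul_mem' := fun {x y} hx hy => ⟨mul_mem hx.1 hy.1, by
          have hc : x * y = y * x := mem_centralizer_iff.mp hy.1.2 x hx.1.1
          calc x * y * (x * y) = x * y * (y * x) := by rw [← hc]
            _ = x * (y * y) * x := by group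
            _ = 1 := by rw [hy.2, mul_one, hx.2]⟩
        inv_mem' := fun {x} hx => ⟨inv_mem hx.1, by rw [← mul_inv_rev, hx.2, inv_one]⟩ }
    have hXU : X ≤ U := fun x hx => hZU hx.1
    have hAX : A ≤ normalizer (X : Set G) := by
      rw [← CfsgLib.Signalizer.conj_mem_iff_le_normalizer]
      rintro a ha x ⟨hx, hxx⟩
      refine ⟨(mem_normalizer_iff.mp (hAZ ha) x).mp hx, ?_⟩
      calc a * x * a⁻¹ * (a * x * a⁻¹) = a * (x * x) * a⁻¹ := by group
        _ = 1 := by rw [hxx, mul_one, mul_inv_cancel]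
    have hX2 : ¬ p ∣ Nat.card X := by
      obtain ⟨k, hk⟩ := (hU2.to_le hXU).exists_card_eq
      rw [hk]
      exact fun h => hp2 ((Nat.prime_dvd_prime_iff_eq hp.out Nat.prime_two).mp
        (hp.out.dvd_of_dvd_pow h))
    have hXA : X ≤ centralizer (A : Set G) := by
      refine CfsgLib.Signalizer.le_of_hyperplanes_le hA hX2 hAX fun B hBA hidx => ?_
      intro w hw
      by_contra hwA
      rw [mem_centralizer_iff] at hwA
      push Not at hwA
      obtain ⟨a, ha, haw⟩ := hwA
      set XB := X ⊓ centralizer (B : Set G) with hXB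
      set W := XB ⊔ zpowers z with hW
      have hel : Cfsg.IsElementaryAbelian 2 W := by
        refine elementary_two_sup ⟨⟨⟨fun u v => Subtype.ext
          (mem_centralizer_iff.mp v.2.1.1.2 u u.2.1.1.1)⟩⟩, fun u hu => by
            rw [pow_two]; exact hu.1.2⟩ hz fun u hu => (hcommz u (hXU hu.1)).symm
      have hWU : W ≤ U := sup_le (inf_le_left.trans hXU) (zpowers_le.mpr hzU)
      have haW : a ∈ normalizer (W : Set G) := by
        refine le_normalizer_sup_of ?_ ?_ ha
        · exact CfsgLib.Signalizer.le_normalizer_inf hAX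
            (CfsgLib.Signalizer.le_normalizer_centralizer_of_le hA hBA)
        · intro g hg
          apply Subgroup.centralizer_le_normalizer
          rw [mem_centralizer_iff]
          intro y hy
          rcases mem_zpowers_involution hz hy with rfl | rfl
          · simp
          · exact (hzA g hg).symm
      have h8 := eight_le_of_moved (hU2.to_le hWU) (hodd a ha) haW
        (mem_sup_right (mem_zpowers z)) hz1 (hzA a ha) (mem_sup_left hw) haw
      have hBc : p ^ (n - 1) ≤ Nat.card B := by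
        have h1 : Nat.card B * B.relIndex A = Nat.card A := by
          rw [← Subgroup.relIndex_bot_left B, Subgroup.relIndex_mul_relIndex ⊥ B A bot_le hBA,
            Subgroup.relIndex_bot_left]
        rw [hAc, show n = (n - 1) + 1 by omega, pow_succ] at h1
        exact Nat.le_of_mul_le_mul_right
          (h1 ▸ Nat.mul_le_mul_left _ hidx) hp.out.pos
      have hB1 : B ≠ ⊥ := by
        rintro rfl
        rw [Subgroup.card_bot] at hBc
        have := Nat.one_lt_pow (by omega : n - 1 ≠ 0) hp.out.one_lt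
        omega
      have := pair_le hp2 hGp hn (a := n - 1) (b := 3)
        (CfsgLib.Signalizer.elementary_of_le hA hBA) hB1 hel
        (sup_le inf_le_right (zpowers_le.mpr (mem_centralizer_iff.mpr fun b hb =>
          hzA b (hBA hb)))) hBc (by norm_num; exact h8) (by norm_num)
      omega
    intro x hx hxK a ha
    have hco : (Nat.card A).Coprime (Nat.card Z) := by
      obtain ⟨k, hk⟩ := (hU2.to_le hZU).exists_card_eq
      rw [hAc, hk]
      exact Nat.Coprime.pow _ _ ((Nat.coprime_primes hp.out Nat.prime_two).mpr hp2)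
    have := CfsgLib.Core.abelian_centralizes_of_prime_order hAZ hco fun v hv hvp b hb => by
      have hv2 : orderOf v = 2 := by
        obtain ⟨j, hj⟩ := IsPGroup.iff_orderOf.mp (hU2.to_le hZU) ⟨v, hv⟩
        rw [Subgroup.orderOf_mk] at hj
        rw [hj] at hvp ⊢
        exact ((Nat.prime_dvd_prime_iff_eq Nat.prime_two hvp).mp
          (dvd_pow_self 2 (fun h => by rw [h] at hvp; exact Nat.not_prime_one hvp))).symm
      exact mem_centralizer_iff.mp (hXA ⟨hv, by rw [← pow_two, ← hv2, pow_orderOf_eq_one]⟩) b hb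
    exact (mem_centralizer_iff.mp (this ha) x
      ⟨hx, mem_centralizer_iff.mpr fun y hy => (hxK y hy).symm⟩).symm
  · rintro _ ⟨⟨x, hxU⟩, hx, rfl⟩ _ ⟨⟨y, hyU⟩, hy, rfl⟩ _ ⟨⟨w, hwU⟩, hw, rfl⟩
    have h := hΦH _ (CfsgLib.PGroups.commutator_le_frattini' hH2
      (commutator_mem_commutator (mem_top ⟨_, hx⟩) (mem_top ⟨_, hy⟩))) ⟨_, hw⟩
    simpa [commutatorElement_def] using congrArg (fun g : H => ((g : U) : G)) h
  · rintro _ ⟨⟨x, hxU⟩, hx, rfl⟩ _ ⟨⟨w, hwU⟩, hw, rfl⟩
    have h := hΦH _ (CfsgLib.PGroups.pow_mem_frattini hH2 ⟨_, hx⟩) ⟨_, hw⟩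
    simpa [pow_two] using congrArg (fun g : H => ((g : U) : G)) h

namespace Blocks

variable {A U K : Subgroup G} {z : G}

theorem cop (h : Blocks p A z U K) (hp2 : p ≠ 2) (hA : Cfsg.IsElementaryAbelian p A)
    {L : Subgroup G} (hL : L ≤ U) : (Nat.card A).Coprime (Nat.card L) := by
  haveI : Fact (Nat.Prime 2) := ⟨Nat.prime_two⟩
  obtain ⟨k, hk⟩ := (CfsgLib.Signalizer.elementary_isPGroup hA).exists_card_eq
  obtain ⟨j, hj⟩ := (h.two.to_le hL).exists_card_eq
  rw [hk, hj]
  exact Nat.Coprime.pow _ _ ((Nat.coprime_primes hp.out Nat.prime_two).mpr hp2)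

/-- A block: `[C_K(H), A]`. -/
def block (A K H : Subgroup G) : Subgroup G := ⁅K ⊓ centralizer (H : Set G), A⁆

theorem norm_cK (h : Blocks p A z U K) (hA : Cfsg.IsElementaryAbelian p A) {H : Subgroup G}
    (hH : H ≤ A) : A ≤ normalizer ((K ⊓ centralizer (H : Set G) : Subgroup G) : Set G) :=
  CfsgLib.Signalizer.le_normalizer_inf h.normA
    (CfsgLib.Signalizer.le_normalizer_centralizer_of_le hA hH)

theorem block_le (h : Blocks p A z U K) (hA : Cfsg.IsElementaryAbelian p A) {H : Subgroup G}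
    (hH : H ≤ A) : block A K H ≤ K ⊓ centralizer (H : Set G) :=
  CfsgLib.Core.commutator_le_of_normalizes (h.norm_cK hA hH)

theorem block_moved (h : Blocks p A z U K) (hp2 : p ≠ 2) (hA : Cfsg.IsElementaryAbelian p A)
    {H : Subgroup G} (hH : H ≤ A) (hb : block A K H ≠ ⊥) :
    ∃ t ∈ block A K H, ∃ a ∈ A, a * t ≠ t * a := by
  by_contra hcon
  push Not at hcon
  apply hb
  have hsolv : Group.IsSolvable A := by
    haveI := (CfsgLib.Signalizer.elementary_isPGroup hA).isNilpotent
    infer_instance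
  rw [block, ← CfsgLib.Core.commutator_commutator_eq (h.norm_cK hA hH)
    (h.cop hp2 hA (inf_le_left.trans h.leU)) (Or.inl hsolv)]
  rw [commutator_eq_bot_iff_le_centralizer]
  intro t ht
  exact mem_centralizer_iff.mpr fun a ha => hcon t ht a ha

theorem comm_fixed (h : Blocks p A z U K) {x y : G} (hx : x ∈ K) (hy : y ∈ K) :
    ∀ a ∈ A, a * ⁅x, y⁆ = ⁅x, y⁆ * a := by
  refine h.centfix _ ?_ fun w hw => h.comm x hx y hy w hw
  rw [commutatorElement_def]
  exact mul_mem (mul_mem (mul_mem hx hy) (inv_mem hx)) (inv_mem hy)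

theorem sq_fixed (h : Blocks p A z U K) {x : G} (hx : x ∈ K) :
    ∀ a ∈ A, a * (x * x) = x * x * a :=
  h.centfix _ (mul_mem hx hx) fun w hw => h.sq x hx w hw

theorem comm_cases (h : Blocks p A z U K) {x y : G} (hx : x ∈ K) (hy : y ∈ K) :
    ⁅x, y⁆ = 1 ∨ ⁅x, y⁆ = z := by
  have hmem : ⁅x, y⁆ ∈ K := by
    rw [commutatorElement_def]
    exact mul_mem (mul_mem (mul_mem hx hy) (inv_mem hx)) (inv_mem hy)
  refine h.inv _ (h.leU hmem) ?_ (h.comm_fixed hx hy)
  have h1 := h.comm x hx y hy x hx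
  have h2 := h.sq x hx y hy
  have h3 : ⁅x * x, y⁆ = 1 := by
    rw [commutatorElement_eq_one_iff_mul_comm]
    exact h2
  rw [commutatorElement_mul_left_eq_conj_mul] at h3
  rwa [← h1, mul_inv_cancel_right] at h3

theorem sq_cases (h : Blocks p A z U K) (hz : z * z = 1) {H : Subgroup G}
    (hA : Cfsg.IsElementaryAbelian p A) (hH : H ≤ A) {t : G} (ht : t ∈ block A K H) :
    t * t = 1 ∨ t * t = z := by
  have hz' : ∀ x ∈ K, z * x = x * z := fun x hx => (h.commz x (h.leU hx)).symm
  suffices hK' : t ∈ K ∧ (t * t = 1 ∨ t * t = z) from hK'.2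
  refine Subgroup.closure_induction (p := fun x _ => x ∈ K ∧ (x * x = 1 ∨ x * x = z))
    ?_ ⟨one_mem _, Or.inl (one_mul 1)⟩ ?_ ?_ ((commutator_def _ _).le ht)
  · rintro _ ⟨k, hk, a, ha, rfl⟩
    have hk' : a * k⁻¹ * a⁻¹ ∈ K := (mem_normalizer_iff.mp (h.normA ha) _).mp (inv_mem hk.1)
    have hmem : ⁅k, a⁆ ∈ K := by
      rw [commutatorElement_def, mul_assoc (k * a), mul_assoc k, ← mul_assoc a]
      exact mul_mem hk.1 hk'
    refine ⟨hmem, ?_⟩
    set l := a * k⁻¹ * a⁻¹ with hl
    have hkl : ⁅k, a⁆ = k * l := by rw [hl, commutatorElement_def]; group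
    have hll : l * l = (k * k)⁻¹ := by
      have h1 := h.sq_fixed hk.1 a ha
      calc l * l = (a * (k * k) * a⁻¹)⁻¹ := by rw [hl]; group
        _ = (k * k)⁻¹ := by rw [h1]; group
    have hsq : ⁅k, a⁆ * ⁅k, a⁆ = ⁅l, k⁆ := by
      rw [hkl]
      calc k * l * (k * l) = k * (⁅l, k⁆ * k) * (l * l) := by
            rw [commutatorElement_def]; group
        _ = k * (k * ⁅l, k⁆) * (l * l) := by rw [h.comm l hk' k hk.1 k hk.1]
        _ = (k * k) * (⁅l, k⁆ * (l * l)) := by group
        _ = (k * k) * ((l * l) * ⁅l, k⁆) := by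
            rw [h.comm l hk' k hk.1 (l * l) (mul_mem hk' hk')]
        _ = ⁅l, k⁆ := by rw [← mul_assoc, hll, mul_inv_cancel, one_mul]
    rw [hsq]
    exact h.comm_cases hk' hk.1
  · rintro x y _ _ ⟨hx, hxx⟩ ⟨hy, hyy⟩
    refine ⟨mul_mem hx hy, ?_⟩
    have hexp : x * y * (x * y) = (x * x) * (⁅y, x⁆ * (y * y)) := by
      calc x * y * (x * y) = x * (⁅y, x⁆ * x) * (y * y) := by rw [commutatorElement_def]; group
        _ = x * (x * ⁅y, x⁆) * (y * y) := by rw [h.comm y hy x hx x hx]
        _ = (x * x) * (⁅y, x⁆ * (y * y)) := by group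
    rw [hexp]
    rcases hxx with h1 | h1 <;> rcases h.comm_cases hy hx with h2 | h2 <;>
      rcases hyy with h3 | h3 <;> simp [h1, h2, h3, hz, ← mul_assoc]
  · rintro x _ ⟨hx, hxx⟩
    refine ⟨inv_mem hx, ?_⟩
    rw [← mul_inv_rev]
    rcases hxx with h1 | h1
    · exact Or.inl (by rw [h1, inv_one])
    · exact Or.inr (by rw [h1]; exact inv_eq_of_mul_eq_one_right hz)

/-- An element of the block of `H` commutes with everything in `K` centralized by `H₂`. -/
theorem block_commute (h : Blocks p A z U K) (hA : Cfsg.IsElementaryAbelian p A)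
    {H H₂ : Subgroup G} (hH : H ≤ A) (hH₂ : H₂ ≤ A) (hsup : A ≤ H ⊔ H₂) {x s : G}
    (hx : x ∈ block A K H) (hs : s ∈ K ⊓ centralizer (H₂ : Set G)) : x * s = s * x := by
  suffices hle : block A K H ≤ centralizer ({s} : Set G) from
    mem_centralizer_singleton_iff.mp (hle hx)
  rw [block, commutator_le]
  rintro k hk a ha
  obtain ⟨b, hb, c, hc, rfl⟩ := (mem_sup_mul (N := H) (H := H₂)
    (hH₂.trans fun a ha => Subgroup.centralizer_le_normalizer _
      (mem_centralizer_iff.mpr fun y hy => CfsgLib.Signalizer.elementary_comm hA (hH hy) ha))).mp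
    (hsup ha)
  have hbA := hH hb
  have hcA := hH₂ hc
  have hcomm : b * c = c * b := CfsgLib.Signalizer.elementary_comm hA hbA hcA
  have hkb : b * k = k * b := mem_centralizer_iff.mp hk.2 b hb
  have hka : ⁅k, b * c⁆ = ⁅k, c⁆ := by
    rw [hcomm, commutatorElement_def, commutatorElement_def]
    calc k * (c * b) * k⁻¹ * (c * b)⁻¹ = k * c * (b * k⁻¹) * (c * b)⁻¹ := by group
      _ = k * c * (k⁻¹ * b) * (c * b)⁻¹ := by rw [(Commute.inv_right hkb).eq]
      _ = k * c * k⁻¹ * c⁻¹ := by group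
  rw [hka, mem_centralizer_singleton_iff]
  have hcs : c * s = s * c := mem_centralizer_iff.mp hs.2 c hc
  set l := c * k⁻¹ * c⁻¹ with hl
  have hlK : l ∈ K := (mem_normalizer_iff.mp (h.normA hcA) _).mp (inv_mem hk.1)
  have hkl : ⁅k, c⁆ = k * l := by rw [hl, commutatorElement_def]; group
  have hsc := h.comm_fixed (inv_mem hk.1) hs.1 c hcA
  have hl' : ⁅l, s⁆ = ⁅k⁻¹, s⁆ := by
    calc ⁅l, s⁆ = ⁅c * k⁻¹ * c⁻¹, c * s * c⁻¹⁆ := by rw [hl, hcs, mul_inv_cancel_right]
      _ = c * ⁅k⁻¹, s⁆ * c⁻¹ := (conjugate_commutatorElement _ _ _).symm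
      _ = ⁅k⁻¹, s⁆ := by rw [hsc, mul_inv_cancel_right]
  rw [hkl]
  rw [← commutatorElement_eq_one_iff_mul_comm, commutatorElement_mul_left_eq_conj_mul, hl',
    ← commutatorElement_mul_left_eq_conj_mul, mul_inv_cancel, commutatorElement_one_left]

theorem exists_block (h : Blocks p A z U K) (hp2 : p ≠ 2) (hA : Cfsg.IsElementaryAbelian p A)
    {B : Subgroup G} (hB : B ≤ A) (hB1 : B ≠ ⊥) :
    ∃ H : Subgroup G, H ≤ A ∧ H.relIndex A = p ∧ block A K H ≠ ⊥ ∧ ¬ B ≤ H := by
  by_contra hcon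
  push Not at hcon
  haveI : Fact (Nat.Prime 2) := ⟨Nat.prime_two⟩
  have hsolv : Group.IsSolvable A := by
    haveI := (CfsgLib.Signalizer.elementary_isPGroup hA).isNilpotent
    infer_instance
  have hK2 : ¬ p ∣ Nat.card K := by
    obtain ⟨k, hk⟩ := (h.two.to_le h.leU).exists_card_eq
    rw [hk]
    exact fun h' => hp2 ((Nat.prime_dvd_prime_iff_eq hp.out Nat.prime_two).mp
      (hp.out.dvd_of_dvd_pow h'))
  have hKB : K ≤ centralizer (B : Set G) := by
    refine CfsgLib.Signalizer.le_of_hyperplanes_le hA hK2 h.normA fun H hH hidx => ?_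
    rw [← CfsgLib.Core.commutator_sup_centralizer (h.norm_cK hA hH)
      (h.cop hp2 hA (inf_le_left.trans h.leU)) (Or.inl hsolv)]
    refine sup_le ?_ (inf_le_right.trans (centralizer_le hB))
    by_cases hb : block A K H = ⊥
    · exact le_of_eq_of_le hb bot_le
    · have hdvd : H.relIndex A ∣ Nat.card A := relIndex_dvd_card H A
      have hne : H.relIndex A ≠ 1 := by
        intro h1
        apply hb
        rw [block, commutator_eq_bot_iff_le_centralizer]
        exact inf_le_right.trans (centralizer_le (relIndex_eq_one.mp h1))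
      obtain ⟨k, hk⟩ := (CfsgLib.Signalizer.elementary_isPGroup hA).exists_card_eq
      rw [hk] at hdvd
      obtain ⟨j, -, hj⟩ := (Nat.dvd_prime_pow hp.out).mp hdvd
      have hjp : H.relIndex A = p := by
        rcases j with _ | _ | j
        · exact absurd (by simpa using hj) hne
        · simpa using hj
        · exfalso
          rw [hj] at hidx
          have : p ^ 1 < p ^ (j + 1 + 1) := Nat.pow_lt_pow_right hp.out.one_lt (by omega)
          simp only [pow_one] at this
          omega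
      exact (h.block_le hA hH).trans (inf_le_right.trans (centralizer_le (hcon H hH hjp hb)))
  apply hB1
  rw [eq_bot_iff, ← h.faith]
  exact le_inf hB (le_centralizer_iff.mp hKB)

theorem card_hyperplane {n₀ : ℕ} (hA : Nat.card A = p ^ n₀) {H : Subgroup G} (hH : H ≤ A)
    (hi : H.relIndex A = p) : p * Nat.card H = p ^ n₀ := by
  rw [← hA, ← hi, mul_comm, ← Subgroup.relIndex_bot_left H,
    Subgroup.relIndex_mul_relIndex ⊥ H A bot_le hH, Subgroup.relIndex_bot_left]

theorem sup_hyperplanes {H H₂ : Subgroup G} (hH : H ≤ A) (hH₂ : H₂ ≤ A)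
    (hi : H.relIndex A = p) (hne : ¬ H₂ ≤ H) : A ≤ H ⊔ H₂ := by
  have h1 : (H ⊔ H₂).relIndex A ∣ p := hi ▸ relIndex_dvd_of_le_left A le_sup_left
  rcases (Nat.dvd_prime hp.out).mp h1 with h | h
  · exact relIndex_eq_one.mp h
  · exfalso
    have h2 := Subgroup.relIndex_mul_relIndex H (H ⊔ H₂) A le_sup_left (sup_le hH hH₂)
    rw [hi, h, Nat.mul_eq_right hp.out.ne_zero] at h2
    exact hne (le_sup_right.trans (relIndex_eq_one.mp h2))

end Blocks

open Blocks

theorem card_inf_ge {n : ℕ} (hn : 2 ≤ n) {A H L : Subgroup G} (hAc : Nat.card A = p ^ n)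
    (hH : H ≤ A) (hL : L ≤ A) (hHc : p * Nat.card H = p ^ n) (hLc : p * Nat.card L = p ^ n) :
    p ^ (n - 2) ≤ Nat.card ↥(H ⊓ L) := by
  have h1 := CfsgLib.LocalEvenB.card_mul_card_le_sup_inf H L
  have h2 : Nat.card ↥(H ⊔ L) ≤ p ^ n :=
    hAc ▸ Subgroup.card_le_of_le (sup_le hH hL)
  have h4 : p ^ n * p ^ n ≤ p * p * (p ^ n * Nat.card ↥(H ⊓ L)) := by
    calc p ^ n * p ^ n = p * Nat.card H * (p * Nat.card L) := by rw [hHc, hLc]
      _ = p * p * (Nat.card H * Nat.card L) := by ring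
      _ ≤ p * p * (p ^ n * Nat.card ↥(H ⊓ L)) :=
          Nat.mul_le_mul_left _ (h1.trans (Nat.mul_le_mul_right _ h2))
  have h5 : p ^ n ≤ p * p * Nat.card ↥(H ⊓ L) := by
    rw [show p * p * (p ^ n * Nat.card ↥(H ⊓ L)) = p ^ n * (p * p * Nat.card ↥(H ⊓ L)) by ring]
      at h4
    exact Nat.le_of_mul_le_mul_left h4 (pow_pos hp.out.pos _)
  rw [show p ^ n = p * p * p ^ (n - 2) by
    rw [← pow_two, ← pow_add]; congr 1; omega] at h5
  exact Nat.le_of_mul_le_mul_left h5 (Nat.mul_pos hp.out.pos hp.out.pos)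

/-- No elementary group of order `p ^ (n - 1)` centralizes a four-group. -/
theorem no_pair (hp2 : p ≠ 2) (hGp : Cfsg.IsOfLocalCharacteristic p G)
    (hG2 : Cfsg.IsCharacteristicTwoType G) {n : ℕ} (hn3 : 3 ≤ n) (hn : RankBound p n G)
    {P E : Subgroup G} (hP : Cfsg.IsElementaryAbelian p P) (hPc : Nat.card P = p ^ (n - 1))
    (hE : Cfsg.IsElementaryAbelian 2 E) (hEc : 4 ≤ Nat.card E)
    (hPE : E ≤ centralizer (P : Set G)) : False := by
  haveI : Fact (Nat.Prime 2) := ⟨Nat.prime_two⟩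
  have hP1 : P ≠ ⊥ := by
    rintro rfl
    rw [Subgroup.card_bot] at hPc
    have := Nat.one_lt_pow (by omega : n - 1 ≠ 0) hp.out.one_lt
    omega
  have hE1 : E ≠ ⊥ := by rintro rfl; rw [Subgroup.card_bot] at hEc; omega
  obtain ⟨r, f, E₁, hE₁, hE₁c, hf, hrR, hfr, hrne, hA, hAc', hE₁A⟩ :=
    step hp2 hGp hP hP1 hE hE1 hPE
  set A := P ⊔ zpowers r with hAdef
  have hAc : Nat.card A = p ^ n := by
    rw [hAc', hPc, ← pow_succ]; congr 1; omega
  obtain ⟨e, he, he1⟩ : ∃ e ∈ E₁, e ≠ 1 := by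
    by_contra hcon
    push Not at hcon
    rw [show E₁ = ⊥ from eq_bot_iff.mpr fun x hx => mem_bot.mpr (hcon x hx), Subgroup.card_bot]
      at hE₁c
    omega
  have hee : e * e = 1 := by rw [← pow_two]; exact hE.2 e (hE₁ he)
  have heA : ∀ a ∈ A, a * e = e * a := fun a ha => mem_centralizer_iff.mp (hE₁A he) a ha
  obtain ⟨U, K, hB⟩ := exists_blocks hp2 hGp hG2 hn3 hn hA hAc hee he1 heA
  have hff : f * f = 1 := by rw [← pow_two]; exact hE.2 f hf
  have hfinv : f⁻¹ = f := inv_eq_of_mul_eq_one_right hff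
  have hfC : f ∈ centralizer ({e} : Set G) :=
    mem_centralizer_singleton_iff.mpr (CfsgLib.Signalizer.elementary_comm hE hf (hE₁ he))
  have hfP : ∀ x ∈ P, f * x * f⁻¹ = x := fun x hx => by
    rw [← mem_centralizer_iff.mp (hPE hf) x hx, mul_inv_cancel_right]
  have hrA : r ∈ A := mem_sup_right (mem_zpowers r)
  have hPA : P ≤ A := le_sup_left
  have hfA : ∀ a ∈ A, f * a * f⁻¹ ∈ A := by
    intro a ha
    have hle : A ≤ A.comap (MulAut.conj f).toMonoidHom := by
      refine sup_le (fun x hx => ?_) (zpowers_le.mpr ?_)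
      · show f * x * f⁻¹ ∈ A
        rw [hfP x hx]; exact hPA hx
      · show f * r * f⁻¹ ∈ A
        rw [hfr]; exact inv_mem hrA
    exact hle ha
  have hfU : f ∉ U := by
    intro hfU
    have hmem : f * (r * f⁻¹ * r⁻¹) ∈ U := mul_mem hfU
      ((mem_normalizer_iff.mp (hB.normU (mem_centralizer_singleton_iff.mpr (heA r hrA))) _).mp
        (inv_mem hfU))
    have heq : f * (r * f⁻¹ * r⁻¹) = r⁻¹ * r⁻¹ := by
      rw [← mul_assoc, ← mul_assoc, hfr]
    rw [heq] at hmem
    have hcop := hB.cop hp2 hA (le_refl U)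
    have hbot : A ⊓ U = ⊥ := inf_eq_bot_of_coprime hcop
    have : r⁻¹ * r⁻¹ ∈ A ⊓ U :=
      Subgroup.mem_inf.mpr ⟨mul_mem (inv_mem hrA) (inv_mem hrA), hmem⟩
    rw [hbot, mem_bot, ← mul_inv_rev, inv_eq_one] at this
    exact hrne (eq_inv_of_mul_eq_one_right this)
  -- a block whose kernel does not contain `r`
  obtain ⟨H, hHA, hHi, hHb, hrH⟩ := hB.exists_block hp2 hA (B := zpowers r)
    (zpowers_le.mpr hrA) (by
      rw [zpowers_ne_bot]; intro h1; exact hrne (by rw [h1, inv_one]))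
  have hrH' : r ∉ H := fun h1 => hrH (zpowers_le.mpr h1)
  set R := Cfsg.pCoreOf p (normalizer (P : Set G))
  have hPH : ¬ P ≤ H := by
    intro hPH
    set T := block A K H
    have hTU : T ≤ U := (hB.block_le hA hHA).trans (inf_le_left.trans hB.leU)
    have hTN : T ≤ normalizer (P : Set G) :=
      ((hB.block_le hA hHA).trans (inf_le_right.trans (centralizer_le hPH))).trans
        (Subgroup.centralizer_le_normalizer _)
    have hTnorm : A ≤ normalizer (T : Set G) := normalizer_commutator_ge_right _ _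
    have hbot : T ⊓ R = ⊥ := by
      refine inf_eq_bot_of_coprime ?_
      obtain ⟨k, hk⟩ := (CfsgLib.LocalEvenB.isPGroup_pCoreOf (p := p)
        (normalizer (P : Set G))).exists_card_eq
      obtain ⟨j, hj⟩ := (hB.two.to_le hTU).exists_card_eq
      rw [hj, hk]
      exact Nat.Coprime.pow _ _ ((Nat.coprime_primes Nat.prime_two hp.out).mpr (Ne.symm hp2))
    apply hHb
    obtain ⟨t, ht, a, ha, hne⟩ := hB.block_moved hp2 hA hHA hHb
    exfalso
    apply hne
    have htr : r * t = t * r := by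
      have h1 : t * r * t⁻¹ * r⁻¹ ∈ T ⊓ R := Subgroup.mem_inf.mpr ⟨by
          rw [mul_assoc t, mul_assoc t]
          exact mul_mem ht ((mem_normalizer_iff.mp (hTnorm hrA) _).mp (inv_mem ht)),
        mul_mem ((mem_normalizer_iff.mp
          (CfsgLib.LocalEvenB.le_normalizer_pCoreOf _ (hTN ht)) r).mp hrR) (inv_mem hrR)⟩
      rw [hbot, mem_bot, ← commutatorElement_def, commutatorElement_eq_one_iff_mul_comm] at h1
      exact h1.symm
    have hle : A ≤ centralizer ({t} : Set G) := by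
      refine sup_le (fun x hx => ?_) (zpowers_le.mpr (mem_centralizer_singleton_iff.mpr htr))
      exact mem_centralizer_singleton_iff.mpr
        (mem_centralizer_iff.mp (hB.block_le hA hHA ht).2 x (hPH hx))
    exact mem_centralizer_singleton_iff.mp (hle ha)
  -- the conjugate kernel
  set H₂ := H.map (MulAut.conj f).toMonoidHom with hH₂def
  have hH₂A : H₂ ≤ A := by
    rintro _ ⟨x, hx, rfl⟩
    exact hfA x (hHA hx)
  have hne : ¬ H₂ ≤ H := by
    intro hle
    apply hrH'
    have hsup := Blocks.sup_hyperplanes hHA hPA hHi hPH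
    obtain ⟨x, hx, y, hy, hxy⟩ := (mem_sup_mul (N := H) (H := P)
      (hPA.trans fun a ha => Subgroup.centralizer_le_normalizer _
        (mem_centralizer_iff.mpr fun w hw =>
          CfsgLib.Signalizer.elementary_comm hA (hHA hw) ha))).mp (hsup hrA)
    have hfx : f * x * f⁻¹ ∈ H := hle ⟨x, hx, rfl⟩
    have hr2 : r * r ∈ H := by
      have h1 : r⁻¹ = f * x * f⁻¹ * y := by
        rw [← hfr, hxy]
        calc f * (x * y) * f⁻¹ = f * x * f⁻¹ * (f * y * f⁻¹) := by group
          _ = f * x * f⁻¹ * y := by rw [hfP y hy]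
      have h2 : r * r = x * (f * x * f⁻¹)⁻¹ := by
        calc r * r = (x * y) * (r⁻¹)⁻¹ := by rw [inv_inv, ← hxy]
          _ = (x * y) * (f * x * f⁻¹ * y)⁻¹ := by rw [h1]
          _ = x * (f * x * f⁻¹)⁻¹ := by group
      rw [h2]
      exact mul_mem hx (inv_mem hfx)
    obtain ⟨j, hj⟩ := hp.out.odd_of_ne_two hp2
    have h3 : (r * r) ^ (j + 1) = r := by
      rw [← pow_two, ← pow_mul, show 2 * (j + 1) = p + 1 by omega, pow_succ, hA.2 r hrA, one_mul]
    exact h3 ▸ pow_mem hr2 _
  have hsup := Blocks.sup_hyperplanes hHA hH₂A hHi hne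
  set L := H ⊓ P with hLdef
  have hLH₂ : L ≤ H₂ := fun x hx => ⟨x, hx.1, hfP x hx.2⟩
  have hLc : p ^ (n - 2) ≤ Nat.card L :=
    card_inf_ge (by omega) hAc hHA hPA (Blocks.card_hyperplane hAc hHA hHi)
      (by rw [hPc, ← pow_succ']; congr 1; omega)
  -- the block and its conjugate
  set T := block A K H with hT
  set T' := T.map (MulAut.conj f).toMonoidHom with hT'
  have hTK : T ≤ K := (hB.block_le hA hHA).trans inf_le_left
  have hfK : ∀ x ∈ K, f * x * f⁻¹ ∈ K := fun x hx =>
    (mem_normalizer_iff.mp (hB.normC hfC) x).mp hx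
  have hT'C : T' ≤ K ⊓ centralizer (H₂ : Set G) := by
    rintro _ ⟨x, hx, rfl⟩
    refine ⟨hfK x (hTK hx), mem_centralizer_iff.mpr ?_⟩
    rintro _ ⟨y, hy, rfl⟩
    simp only [MulEquiv.coe_toMonoidHom, MulAut.conj_apply]
    rw [conj_mul, conj_mul, mem_centralizer_iff.mp (hB.block_le hA hHA hx).2 y hy]
  have hTT' : ∀ x ∈ T, ∀ y ∈ T', x * y = y * x := fun x hx y hy =>
    hB.block_commute hA hHA hH₂A hsup hx (hT'C hy)
  have hdisj : ∀ x ∈ T, (x ∈ T' ∨ x * e ∈ T') → ∀ a ∈ A, a * x = x * a := by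
    intro x hx hx'
    have h2 : x ∈ centralizer (H₂ : Set G) := by
      rcases hx' with h1 | h1
      · exact (hT'C h1).2
      · have h3 : e ∈ centralizer (H₂ : Set G) :=
          mem_centralizer_iff.mpr fun y hy => heA y (hH₂A hy)
        have h4 : x * e ∈ centralizer (H₂ : Set G) := (Subgroup.mem_inf.mp (hT'C h1)).2
        simpa using mul_mem h4 (inv_mem h3)
    intro a ha
    have hle : A ≤ centralizer ({x} : Set G) := hsup.trans (sup_le
      (fun y hy => mem_centralizer_singleton_iff.mpr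
        (mem_centralizer_iff.mp (hB.block_le hA hHA hx).2 y hy))
      (fun y hy => mem_centralizer_singleton_iff.mpr (mem_centralizer_iff.mp h2 y hy)))
    exact mem_centralizer_singleton_iff.mp (hle ha)
  obtain ⟨t, ht, a, ha, hat⟩ := hB.block_moved hp2 hA hHA hHb
  have hTnorm : A ≤ normalizer (T : Set G) := normalizer_commutator_ge_right _ _
  set s := a * t * a⁻¹ with hs
  have hsT : s ∈ T := (mem_normalizer_iff.mp (hTnorm ha) t).mp ht
  have hodd : Odd (orderOf a) := (hp.out.odd_of_ne_two hp2).of_dvd_nat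
    (orderOf_dvd_of_pow_eq_one (hA.2 a ha))
  have hsmove : a * s ≠ s * a := by
    intro h1
    apply hat
    refine orderOf_inv_conj_eq hodd ?_
    exfalso
    apply hat
    have : s = t := mul_left_cancel (mul_right_cancel
      (show a * s * a⁻¹ = a * t * a⁻¹ by rw [h1, mul_inv_cancel_right]))
    calc a * t = (a * t * a⁻¹) * a := by group
      _ = t * a := by rw [← hs, this]
  have htsmove : a * (t⁻¹ * s) ≠ t⁻¹ * s * a := by
    intro h1
    apply hat
    have hpow : ∀ m : ℕ, a ^ m * t * (a ^ m)⁻¹ = t * (t⁻¹ * s) ^ m := by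
      intro m
      induction m with
      | zero => simp
      | succ m ih =>
        calc a ^ (m + 1) * t * (a ^ (m + 1))⁻¹ = a * (a ^ m * t * (a ^ m)⁻¹) * a⁻¹ := by
              rw [pow_succ']; group
          _ = (a * t * a⁻¹) * (a * (t⁻¹ * s) ^ m * a⁻¹) := by rw [ih]; group
          _ = t * (t⁻¹ * s) * (t⁻¹ * s) ^ m := by
              rw [(Commute.pow_right h1 m).eq, mul_inv_cancel_right, ← hs, mul_inv_cancel_left]
          _ = t * (t⁻¹ * s) ^ (m + 1) := by rw [mul_assoc, pow_succ']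
    have h2 := hpow (orderOf a)
    rw [pow_orderOf_eq_one, one_mul, inv_one, mul_one, left_eq_mul] at h2
    obtain ⟨j, hj⟩ := IsPGroup.iff_orderOf.mp hB.two
      ⟨t⁻¹ * s, hB.leU (hTK (mul_mem (inv_mem ht) hsT))⟩
    rw [Subgroup.orderOf_mk] at hj
    have h3 : orderOf (t⁻¹ * s) = 1 := Nat.eq_one_of_dvd_coprimes
      (Nat.Coprime.pow_left j (Nat.coprime_two_left.mpr hodd)) (dvd_of_eq hj)
      (orderOf_dvd_of_pow_eq_one h2)
    rw [orderOf_eq_one_iff, inv_mul_eq_one] at h3
    calc a * t = (a * t * a⁻¹) * a := by group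
      _ = t * a := by rw [← hs, ← h3]
  have hpair : ∀ x ∈ T, f * x * f⁻¹ ∈ T' := fun x hx => ⟨x, hx, rfl⟩
  have hsq : ∀ x ∈ T, x * (f * x * f⁻¹) * (x * (f * x * f⁻¹)) = 1 := by
    intro x hx
    have hc := hTT' x hx _ (hpair x hx)
    calc x * (f * x * f⁻¹) * (x * (f * x * f⁻¹))
        = x * ((f * x * f⁻¹) * x) * (f * x * f⁻¹) := by group
      _ = (x * x) * (f * (x * x) * f⁻¹) := by rw [← hc]; group
      _ = 1 := by
        rcases hB.sq_cases hee hA hHA hx with h1 | h1
        · rw [h1]; group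
        · rw [h1, mem_centralizer_singleton_iff.mp hfC, mul_inv_cancel_right, hee]
  have hcomm : ∀ x ∈ T, ∀ y ∈ T, x * (f * x * f⁻¹) * (y * (f * y * f⁻¹)) =
      y * (f * y * f⁻¹) * (x * (f * x * f⁻¹)) := by
    intro x hx y hy
    rw [← commutatorElement_eq_one_iff_mul_comm]
    have hxy : ⁅x, y⁆ * (f * ⁅x, y⁆ * f⁻¹) = 1 := by
      rcases hB.comm_cases (hTK hx) (hTK hy) with h1 | h1
      · rw [h1]; group
      · rw [h1, mem_centralizer_singleton_iff.mp hfC, mul_inv_cancel_right, hee]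
    set x' := f * x * f⁻¹
    set y' := f * y * f⁻¹
    have c1 : x' * y = y * x' := (hTT' y hy x' (hpair x hx)).symm
    have c2 : y' * x⁻¹ = x⁻¹ * y' := (hTT' _ (inv_mem hx) y' (hpair y hy)).symm
    have c3 : x' * x⁻¹ = x⁻¹ * x' := (hTT' _ (inv_mem hx) x' (hpair x hx)).symm
    have c4 : y' * y⁻¹ = y⁻¹ * y' := (hTT' _ (inv_mem hy) y' (hpair y hy)).symm
    have c5 : x' * y⁻¹ = y⁻¹ * x' := (hTT' _ (inv_mem hy) x' (hpair x hx)).symm
    calc ⁅x * x', y * y'⁆ = x * (x' * y) * y' * x'⁻¹ * x⁻¹ * y'⁻¹ * y⁻¹ := by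
          rw [commutatorElement_def]; group
      _ = (x * y) * (x' * y' * x'⁻¹) * x⁻¹ * (y'⁻¹ * y⁻¹) := by rw [c1]; group
      _ = (x * y * x⁻¹) * (x' * y' * x'⁻¹) * (y'⁻¹ * y⁻¹) := by
          have hq : x' * y' * x'⁻¹ ∈ T' :=
            mul_mem (mul_mem (hpair x hx) (hpair y hy)) (inv_mem (hpair x hx))
          rw [mul_assoc (x * y), ← hTT' _ (inv_mem hx) _ hq]; group
      _ = (x * y * x⁻¹) * ((x' * y' * x'⁻¹ * y'⁻¹) * y⁻¹) := by group
      _ = (x * y * x⁻¹) * (y⁻¹ * (x' * y' * x'⁻¹ * y'⁻¹)) := by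
          have hq : x' * y' * x'⁻¹ * y'⁻¹ ∈ T' := mul_mem
            (mul_mem (mul_mem (hpair x hx) (hpair y hy)) (inv_mem (hpair x hx)))
            (inv_mem (hpair y hy))
          rw [hTT' _ (inv_mem hy) _ hq]
      _ = ⁅x, y⁆ * (f * ⁅x, y⁆ * f⁻¹) := by
          rw [commutatorElement_def]; simp only [x', y']; group
      _ = 1 := hxy
  have hT'U : T' ≤ U := hT'C.trans (inf_le_left.trans hB.leU)
  obtain ⟨hX, hX8⟩ := exists_rank_three hee hB.memz hB.commz he1 (hTK.trans hB.leU) hT'U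
    hTT' hdisj (fun a ha => heA a ha) ht hsT (hpair t ht) (hpair s hsT) (hsq t ht) (hsq s hsT)
    (hcomm t ht s hsT) ⟨a, ha, hat⟩ ⟨a, ha, hsmove⟩ ⟨a, ha, htsmove⟩
  set X := zpowers e ⊔ zpowers (t * (f * t * f⁻¹)) ⊔ zpowers (s * (f * s * f⁻¹)) with hXdef
  have hmemU : ∀ x ∈ T, x * (f * x * f⁻¹) ∈ U := fun x hx =>
    mul_mem (hB.leU (hTK hx)) (hT'U (hpair x hx))
  have hXU : X ≤ U := sup_le (sup_le (zpowers_le.mpr hB.memz) (zpowers_le.mpr (hmemU t ht)))
    (zpowers_le.mpr (hmemU s hsT))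
  -- `f` centralizes `X`
  have hfix : ∀ x ∈ T, x * (f * x * f⁻¹) ∈ centralizer ({f} : Set G) := by
    intro x hx
    rw [mem_centralizer_singleton_iff]
    have hyf : f * x * f⁻¹ * f = f * x := inv_mul_cancel_right _ _
    have hfy : f * (f * x * f⁻¹) = x * f := by
      calc f * (f * x * f⁻¹) = (f * f) * x * f⁻¹ := by group
        _ = x * f := by rw [hff, one_mul, hfinv]
    calc x * (f * x * f⁻¹) * f = x * (f * x) := by rw [mul_assoc, hyf]
      _ = (x * f) * x := by group
      _ = f * (f * x * f⁻¹) * x := by rw [hfy]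
      _ = f * (x * (f * x * f⁻¹)) := by rw [hTT' x hx _ (hpair x hx)]; group
  have hXf : X ≤ centralizer ({f} : Set G) :=
    sup_le (sup_le (zpowers_le.mpr (mem_centralizer_singleton_iff.mpr
      (mem_centralizer_singleton_iff.mp hfC).symm)) (zpowers_le.mpr (hfix t ht)))
      (zpowers_le.mpr (hfix s hsT))
  have hfX : ∀ x ∈ X, f * x = x * f := fun x hx =>
    (mem_centralizer_singleton_iff.mp (hXf hx)).symm
  have hE' := elementary_two_sup hX hff hfX
  have hfo : orderOf f = 2 := orderOf_eq_prime (by rw [pow_two, hff])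
    (fun h => hfU (h ▸ one_mem _))
  have hfX' : f ∉ X := fun h => hfU (hXU h)
  have hc16 : 2 ^ 4 ≤ Nat.card ↥(X ⊔ zpowers f) := by
    rw [card_sup_zpowers Nat.prime_two hfo hfX' (Subgroup.centralizer_le_normalizer _
      (mem_centralizer_iff.mpr fun x hx => (hfX x hx).symm))]
    omega
  have hLA : L ≤ A := inf_le_left.trans hHA
  have hL1 : L ≠ ⊥ := by
    intro h
    rw [h, Subgroup.card_bot] at hLc
    have := Nat.one_lt_pow (by omega : n - 2 ≠ 0) hp.out.one_lt
    omega
  have hXL : X ⊔ zpowers f ≤ centralizer (L : Set G) := by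
    have hu : ∀ x ∈ T, x * (f * x * f⁻¹) ∈ centralizer (L : Set G) := fun x hx =>
      mul_mem (centralizer_le inf_le_left (hB.block_le hA hHA hx).2)
        (centralizer_le hLH₂ (hT'C (hpair x hx)).2)
    refine sup_le (sup_le (sup_le (zpowers_le.mpr ?_) (zpowers_le.mpr (hu t ht)))
      (zpowers_le.mpr (hu s hsT))) (zpowers_le.mpr (centralizer_le inf_le_right (hPE hf)))
    exact mem_centralizer_iff.mpr fun y hy => heA y (hLA hy)
  have := pair_le hp2 hGp hn (a := n - 2) (b := 4) (CfsgLib.Signalizer.elementary_of_le hA hLA)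
    hL1 hE' hXL hLc hc16 (by norm_num)
  omega

/-- No pair with `a + b = n + 1`, `b ≥ 2`. -/
theorem pair_lt (hp2 : p ≠ 2) (hGp : Cfsg.IsOfLocalCharacteristic p G)
    (hG2 : Cfsg.IsCharacteristicTwoType G) {n : ℕ} (hn3 : 3 ≤ n) (hn : RankBound p n G)
    {P E : Subgroup G} (hP : Cfsg.IsElementaryAbelian p P) (hP1 : P ≠ ⊥)
    (hE : Cfsg.IsElementaryAbelian 2 E) (hPE : E ≤ centralizer (P : Set G)) {a b : ℕ}
    (ha : p ^ a ≤ Nat.card P) (hb : 2 ^ b ≤ Nat.card E) (hb2 : 2 ≤ b) : a + b ≤ n := by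
  obtain ⟨a', ha'⟩ := (CfsgLib.Signalizer.elementary_isPGroup hP).exists_card_eq
  have haa : a ≤ a' := (Nat.pow_le_pow_iff_right hp.out.one_lt).mp (ha' ▸ ha)
  have hle := pair_le hp2 hGp hn hP hP1 hE hPE ha'.ge hb (by omega)
  by_contra hcon
  obtain ⟨k, rfl⟩ : ∃ k, b = k + 2 := ⟨b - 2, by omega⟩
  have hb' : 2 ^ (k + 1) ≤ Nat.card E :=
    le_trans (Nat.pow_le_pow_right (by norm_num) (by omega)) hb
  obtain ⟨P', E', h1, -, h3, h4, h5, h6⟩ := iterate hp2 hGp k hP hP1 hE hPE hb'
  refine no_pair hp2 hGp hG2 hn3 hn h1 (by rw [h3, ha', ← pow_add]; congr 1; omega)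
    (CfsgLib.Signalizer.elementary_of_le hE h4) ?_ h6
  have h7 := hb.trans h5
  rw [pow_add] at h7
  exact Nat.le_of_mul_le_mul_left h7 (Nat.two_pow_pos k)

theorem exists_involution_centralized (hp2 : p ≠ 2) (hGp : Cfsg.IsOfLocalCharacteristic p G)
    (hG2 : Cfsg.IsCharacteristicTwoType G) {n : ℕ} (hn3 : 3 ≤ n) (hn : RankBound p n G)
    {A : Subgroup G} (hA : Cfsg.IsElementaryAbelian p A) (hAc : Nat.card A = p ^ n) {M : Subgroup G}
    (hM : ∃ T : Subgroup G, IsPGroup 2 T ∧ T ≠ ⊥ ∧ M = normalizer (T : Set G)) (hAM : A ≤ M) :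
    ∃ z : G, z * z = 1 ∧ z ≠ 1 ∧ ∀ a ∈ A, a * z = z * a := by
  haveI : Fact (Nat.Prime 2) := ⟨Nat.prime_two⟩
  obtain ⟨T, hT2, hT1, rfl⟩ := hM
  set M := normalizer (T : Set G)
  set U := Cfsg.pCoreOf 2 M with hU
  have hTU : T ≤ U := CfsgLib.LocalEvenB.le_pCoreOf Subgroup.le_normalizer hT2 le_rfl
  have hU2 : IsPGroup 2 U := CfsgLib.LocalEvenB.isPGroup_pCoreOf M
  have hMU : M ≤ normalizer (U : Set G) := CfsgLib.LocalEvenB.le_normalizer_pCoreOf M
  let X : Subgroup G :=
    { carrier := {x | x ∈ U ∧ (∀ y ∈ U, x * y = y * x) ∧ x * x = 1}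
      one_mem' := ⟨one_mem _, fun y _ => by simp, one_mul 1⟩
      mul_mem' := fun {x y} hx hy => ⟨mul_mem hx.1 hy.1,
        fun w hw => by rw [mul_assoc, hy.2.1 w hw, ← mul_assoc, hx.2.1 w hw, mul_assoc], by
          calc x * y * (x * y) = x * (y * x) * y := by group
            _ = x * (x * y) * y := by rw [hy.2.1 x hx.1]
            _ = (x * x) * (y * y) := by group
            _ = 1 := by rw [hx.2.2, hy.2.2, mul_one]⟩
      inv_mem' := fun {x} hx => by
        have : x⁻¹ = x := inv_eq_of_mul_eq_one_right hx.2.2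
        rw [this]; exact hx }
  have hXU : X ≤ U := fun x hx => hx.1
  have hAX : A ≤ normalizer (X : Set G) := by
    rw [← CfsgLib.Signalizer.conj_mem_iff_le_normalizer]
    rintro a ha x ⟨hx, hxc, hxx⟩
    have hn' := mem_normalizer_iff.mp (hMU (hAM ha))
    refine ⟨(hn' x).mp hx, fun y hy => ?_, ?_⟩
    · have hy' : a⁻¹ * y * a ∈ U := (hn' _).mpr (by simpa [mul_assoc] using hy)
      calc a * x * a⁻¹ * y = a * (x * (a⁻¹ * y * a)) * a⁻¹ := by group
        _ = a * ((a⁻¹ * y * a) * x) * a⁻¹ := by rw [hxc _ hy']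
        _ = y * (a * x * a⁻¹) := by group
    · calc a * x * a⁻¹ * (a * x * a⁻¹) = a * (x * x) * a⁻¹ := by group
        _ = 1 := by rw [hxx, mul_one, mul_inv_cancel]
  obtain ⟨x, hx, hx1⟩ : ∃ x ∈ X, x ≠ 1 := by
    haveI : Nontrivial U := (Subgroup.nontrivial_iff_ne_bot U).mpr
      fun h => hT1 (eq_bot_iff.mpr (h ▸ hTU))
    haveI := hU2.center_nontrivial
    obtain ⟨k, hk⟩ := (hU2.to_subgroup (Subgroup.center U)).exists_card_eq
    have hk1 : k ≠ 0 := by
      rintro rfl
      rw [pow_zero] at hk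
      exact (Subgroup.nontrivial_iff_ne_bot _).mp inferInstance (Subgroup.card_eq_one.mp hk)
    obtain ⟨⟨w, hw⟩, hwo⟩ := exists_prime_orderOf_dvd_card' 2 (hk ▸ dvd_pow_self 2 hk1)
    refine ⟨((w : U) : G), ⟨w.2, fun y hy => ?_, ?_⟩, ?_⟩
    · exact (congrArg Subtype.val (mem_center_iff.mp hw ⟨y, hy⟩)).symm
    · have h2 := congrArg (fun v : Subgroup.center U => ((v : U) : G))
        (orderOf_dvd_iff_pow_eq_one.mp hwo.dvd : (⟨w, hw⟩ : Subgroup.center U) ^ 2 = 1)
      simpa [pow_two] using h2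
    · intro h1
      have : (⟨w, hw⟩ : Subgroup.center U) = 1 := Subtype.ext (Subtype.ext h1)
      rw [this, orderOf_one] at hwo
      exact absurd hwo (by norm_num)
  by_contra hcon
  push Not at hcon
  have hXp : ¬ p ∣ Nat.card X := by
    obtain ⟨k, hk⟩ := (hU2.to_le hXU).exists_card_eq
    rw [hk]
    exact fun h => hp2 ((Nat.prime_dvd_prime_iff_eq hp.out Nat.prime_two).mp
      (hp.out.dvd_of_dvd_pow h))
  refine hx1 (mem_bot.mp (CfsgLib.Signalizer.le_of_hyperplanes_le hA hXp hAX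
    (Y := ⊥) (fun B hBA hidx => ?_) hx))
  intro w hw
  by_contra hw1
  rw [mem_bot] at hw1
  obtain ⟨a, ha, haw⟩ := hcon w hw.1.2.2 hw1
  set W := X ⊓ centralizer (B : Set G) with hW
  have hel : Cfsg.IsElementaryAbelian 2 W :=
    ⟨⟨⟨fun u v => Subtype.ext (u.2.1.2.1 v v.2.1.1)⟩⟩, fun u hu => by
      rw [pow_two]; exact hu.1.2.2⟩
  have haW : a ∈ normalizer (W : Set G) := CfsgLib.Signalizer.le_normalizer_inf hAX
    (CfsgLib.Signalizer.le_normalizer_centralizer_of_le hA hBA) ha
  have h4 : 2 ^ 2 ≤ Nat.card W := by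
    obtain ⟨k, hk⟩ := (hU2.to_le (inf_le_left.trans hXU) : IsPGroup 2 W).exists_card_eq
    rw [hk]
    refine Nat.pow_le_pow_right (by norm_num) ?_
    by_contra hk2
    have h2 : zpowers w = W := by
      refine eq_of_le_of_card_ge (zpowers_le.mpr hw) ?_
      rw [card_two_zpowers hw.1.2.2 hw1, hk]
      calc 2 ^ k ≤ 2 ^ 1 := Nat.pow_le_pow_right (by norm_num) (by omega)
        _ = 2 := by norm_num
    have h3 : a * w * a⁻¹ ∈ zpowers w := h2 ▸ (mem_normalizer_iff.mp haW w).mp hw
    rcases mem_zpowers_involution hw.1.2.2 h3 with h | h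
    · exact hw1 (by simpa using h)
    · exact haw (mul_inv_eq_iff_eq_mul.mp h)
  have hBc : p ^ (n - 1) ≤ Nat.card B := by
    have h1 : Nat.card B * B.relIndex A = Nat.card A := by
      rw [← Subgroup.relIndex_bot_left B, Subgroup.relIndex_mul_relIndex ⊥ B A bot_le hBA,
        Subgroup.relIndex_bot_left]
    rw [hAc, show n = (n - 1) + 1 by omega, pow_succ] at h1
    exact Nat.le_of_mul_le_mul_right (h1 ▸ Nat.mul_le_mul_left _ hidx) hp.out.pos
  have hB1 : B ≠ ⊥ := by
    rintro rfl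
    rw [Subgroup.card_bot] at hBc
    have := Nat.one_lt_pow (by omega : n - 1 ≠ 0) hp.out.one_lt
    omega
  have := pair_lt hp2 hGp hG2 hn3 hn (CfsgLib.Signalizer.elementary_of_le hA hBA) hB1 hel
    inf_le_right hBc h4 le_rfl
  omega

/-- The theorem for a maximal elementary subgroup. -/
theorem no_rank (hp2 : p ≠ 2) (hGp : Cfsg.IsOfLocalCharacteristic p G)
    (hG2 : Cfsg.IsCharacteristicTwoType G) {n : ℕ} (hn3 : 3 ≤ n) (hn : RankBound p n G)
    {A : Subgroup G} (hA : Cfsg.IsElementaryAbelian p A) (hAc : Nat.card A = p ^ n) {M : Subgroup G}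
    (hM : ∃ T : Subgroup G, IsPGroup 2 T ∧ T ≠ ⊥ ∧ M = normalizer (T : Set G)) (hAM : A ≤ M) :
    False := by
  obtain ⟨z, hz, hz1, hzA⟩ := exists_involution_centralized hp2 hGp hG2 hn3 hn hA hAc hM hAM
  obtain ⟨U, K, hB⟩ := exists_blocks hp2 hGp hG2 hn3 hn hA hAc hz hz1 hzA
  -- involutions of a block are trivial or `z`
  have hblock : ∀ H : Subgroup G, H ≤ A → H.relIndex A = p →
      ∀ t ∈ block A K H, t * t = 1 → t = 1 ∨ t = z := by
    intro H hH hi t ht htt
    by_contra hcon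
    push Not at hcon
    have htU : t ∈ U := hB.leU (hB.block_le hA hH ht).1
    have htz : ∀ x ∈ zpowers z, t * x = x * t := by
      intro x hx
      rcases mem_zpowers_involution hz hx with rfl | rfl
      · simp
      · exact hB.commz t htU
    have hzz : Cfsg.IsElementaryAbelian 2 (zpowers z) := by
      refine ⟨inferInstance, fun y hy => ?_⟩
      rcases mem_zpowers_involution hz hy with rfl | rfl
      · simp
      · rw [pow_two, hz]
    have htn : t ∉ zpowers z := fun h => (mem_zpowers_involution hz h).elim hcon.1 hcon.2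
    have hc4 : 2 ^ 2 ≤ Nat.card ↥(zpowers z ⊔ zpowers t) := by
      rw [card_sup_zpowers Nat.prime_two (orderOf_eq_prime (by rw [pow_two, htt]) hcon.1) htn,
        card_two_zpowers hz hz1]
      · norm_num
      · exact Subgroup.centralizer_le_normalizer _
          (mem_centralizer_iff.mpr fun x hx => (htz x hx).symm)
    have hHc := Blocks.card_hyperplane hAc hH hi
    have hHc' : p ^ (n - 1) ≤ Nat.card H := by
      rw [show n = (n - 1) + 1 by omega, pow_succ'] at hHc
      exact (Nat.eq_of_mul_eq_mul_left hp.out.pos hHc).ge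
    have hH1 : H ≠ ⊥ := by
      rintro rfl
      rw [Subgroup.card_bot] at hHc'
      have := Nat.one_lt_pow (by omega : n - 1 ≠ 0) hp.out.one_lt
      omega
    have := pair_lt hp2 hGp hG2 hn3 hn (CfsgLib.Signalizer.elementary_of_le hA hH) hH1
      (elementary_two_sup hzz htt htz)
      (sup_le (zpowers_le.mpr (mem_centralizer_iff.mpr fun y hy => hzA y (hH hy)))
        (zpowers_le.mpr (hB.block_le hA hH ht).2)) hHc' hc4 le_rfl
    omega
  have hA1 : A ≠ ⊥ := by
    rintro rfl
    rw [Subgroup.card_bot] at hAc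
    have := Nat.one_lt_pow (by omega : n ≠ 0) hp.out.one_lt
    omega
  obtain ⟨H, hHA, hHi, hHb, -⟩ := hB.exists_block hp2 hA le_rfl hA1
  have hH1 : H ≠ ⊥ := by
    rintro rfl
    have := Blocks.card_hyperplane hAc hHA hHi
    rw [Subgroup.card_bot, mul_one] at this
    have h2 : p ^ 1 < p ^ n := Nat.pow_lt_pow_right hp.out.one_lt (by omega)
    rw [pow_one] at h2
    omega
  obtain ⟨H₂, hH₂A, hH₂i, hH₂b, hne⟩ := hB.exists_block hp2 hA hHA hH1
  have hsup : A ≤ H₂ ⊔ H := Blocks.sup_hyperplanes hH₂A hHA hH₂i hne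
  have hsup' : A ≤ H ⊔ H₂ := sup_comm H₂ H ▸ hsup
  have hTT' : ∀ x ∈ block A K H, ∀ y ∈ block A K H₂, x * y = y * x := fun x hx y hy =>
    hB.block_commute hA hHA hH₂A hsup' hx (hB.block_le hA hH₂A hy)
  have hodd : ∀ a ∈ A, Odd (orderOf a) := fun a ha =>
    (hp.out.odd_of_ne_two hp2).of_dvd_nat (orderOf_dvd_of_pow_eq_one (hA.2 a ha))
  -- pairs in a block
  have hget : ∀ J : Subgroup G, J ≤ A → J.relIndex A = p → block A K J ≠ ⊥ →
      ∃ t ∈ block A K J, ∃ s ∈ block A K J, t * t = z ∧ s * s = z ∧ ⁅t, s⁆ = z ∧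
        (∃ a ∈ A, a * t ≠ t * a) ∧ (∃ a ∈ A, a * s ≠ s * a) ∧
        (∃ a ∈ A, a * (t⁻¹ * s) ≠ t⁻¹ * s * a) := by
    intro J hJ hi hb
    obtain ⟨t, ht, a, ha, hat⟩ := hB.block_moved hp2 hA hJ hb
    have hmove_of : ∀ x ∈ block A K J, (∃ b ∈ A, b * x ≠ x * b) → x * x = z := by
      intro x hx hmv
      rcases hB.sq_cases hz hA hJ hx with h1 | h1
      · exfalso
        obtain ⟨b, hb', hne'⟩ := hmv
        rcases hblock J hJ hi x hx h1 with rfl | rfl
        · exact hne' (by simp)
        · exact hne' (hzA b hb')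
      · exact h1
    set s := a * t * a⁻¹ with hs
    have hsT : s ∈ block A K J :=
      (mem_normalizer_iff.mp (normalizer_commutator_ge_right _ _ ha) t).mp ht
    have hsm : a * s ≠ s * a := by
      intro h1
      apply hat
      have : s = t := mul_left_cancel (mul_right_cancel
        (show a * s * a⁻¹ = a * t * a⁻¹ by rw [h1, mul_inv_cancel_right]))
      calc a * t = (a * t * a⁻¹) * a := by group
        _ = t * a := by rw [← hs, this]
    have htt := hmove_of t ht ⟨a, ha, hat⟩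
    have hss := hmove_of s hsT ⟨a, ha, hsm⟩
    have hts : t⁻¹ * s ∈ block A K J := mul_mem (inv_mem ht) hsT
    have htsm : a * (t⁻¹ * s) ≠ t⁻¹ * s * a := by
      intro h1
      apply hat
      refine orderOf_inv_conj_eq (hodd a ha) ?_
      have h2 : a * s * a⁻¹ = s * (t⁻¹ * s) := by
        calc a * s * a⁻¹ = a * (t * (t⁻¹ * s)) * a⁻¹ := by group
          _ = (a * t * a⁻¹) * (a * (t⁻¹ * s) * a⁻¹) := by group
          _ = s * (t⁻¹ * s) := by rw [h1, mul_inv_cancel_right]
      show a * s * a⁻¹ = t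
      rw [h2]
      rcases hB.comm_cases (hB.block_le hA hJ ht).1 (hB.block_le hA hJ hsT).1 with h3 | h3
      · rw [commutatorElement_eq_one_iff_mul_comm] at h3
        have h4 : s * t⁻¹ = t⁻¹ * s := (Commute.inv_right h3.symm).eq
        calc s * (t⁻¹ * s) = (s * t⁻¹) * s := by group
          _ = t⁻¹ * (s * s) := by rw [h4]; group
          _ = t⁻¹ * (t * t) := by rw [hss, htt]
          _ = t := by group
      · have h4 : s * t⁻¹ = z * (t⁻¹ * s) := by
          have h5 : z * z = 1 := hz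
          have h6 : t * s = z * (s * t) := by rw [← h3, commutatorElement_def]; group
          calc s * t⁻¹ = t⁻¹ * (t * s) * t⁻¹ := by group
            _ = t⁻¹ * z * s := by rw [h6]; group
            _ = z * (t⁻¹ * s) := by
              rw [hB.commz _ (inv_mem (hB.leU (hB.block_le hA hJ ht).1))]; group
        exfalso
        have h7 : a ^ 2 * t * (a ^ 2)⁻¹ = s * (t⁻¹ * s) := by
          rw [← h2, hs, pow_two]; group
        have h8 : s * (t⁻¹ * s) = t * z := by
          calc s * (t⁻¹ * s) = (s * t⁻¹) * s := by group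
            _ = z * (t⁻¹ * (s * s)) := by rw [h4]; group
            _ = z * (t⁻¹ * (t * t)) := by rw [hss, htt]
            _ = t * z := by
              rw [← mul_assoc t⁻¹, inv_mul_cancel, one_mul,
                hB.commz t (hB.leU (hB.block_le hA hJ ht).1)]
        rw [h8] at h7
        have hzc : Commute (a ^ 2) z := Commute.pow_left (hzA a ha) 2
        have hpow : ∀ m : ℕ, (a ^ 2) ^ m * t * ((a ^ 2) ^ m)⁻¹ = t * z ^ m := by
          intro m
          induction m with
          | zero => simp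
          | succ m ih =>
            calc (a ^ 2) ^ (m + 1) * t * ((a ^ 2) ^ (m + 1))⁻¹
                = a ^ 2 * ((a ^ 2) ^ m * t * ((a ^ 2) ^ m)⁻¹) * (a ^ 2)⁻¹ := by
                  rw [pow_succ' (a ^ 2) m]; group
              _ = (a ^ 2 * t * (a ^ 2)⁻¹) * (a ^ 2 * z ^ m * (a ^ 2)⁻¹) := by rw [ih]; group
              _ = t * z * z ^ m := by
                  rw [h7, (hzc.pow_right m).eq, mul_inv_cancel_right]
              _ = t * z ^ (m + 1) := by rw [mul_assoc, pow_succ']
        have h9 := hpow p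
        rw [← pow_mul, mul_comm 2, pow_mul, hA.2 a ha, one_pow, one_mul, inv_one, mul_one,
          left_eq_mul] at h9
        obtain ⟨j, hj⟩ := hp.out.odd_of_ne_two hp2
        rw [hj, pow_succ, pow_mul, pow_two, hz, one_pow, one_mul] at h9
        exact hz1 h9
    refine ⟨t, ht, s, hsT, htt, hss, ?_, ⟨a, ha, hat⟩, ⟨a, ha, hsm⟩, ⟨a, ha, htsm⟩⟩
    rcases hB.comm_cases (hB.block_le hA hJ ht).1 (hB.block_le hA hJ hsT).1 with h3 | h3
    · exfalso
      rw [commutatorElement_eq_one_iff_mul_comm] at h3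
      have hmv := hmove_of _ hts ⟨a, ha, htsm⟩
      have : (t⁻¹ * s) * (t⁻¹ * s) = 1 := by
        calc (t⁻¹ * s) * (t⁻¹ * s) = t⁻¹ * (s * t⁻¹) * s := by group
          _ = (t * t)⁻¹ * (s * s) := by rw [(Commute.inv_right h3.symm).eq]; group
          _ = 1 := by rw [htt, hss, inv_mul_cancel]
      exact hz1 (hmv.symm.trans this)
    · exact h3
  obtain ⟨t, ht, s, hs, htt, hss, hts, hm₁, hm₂, hm₃⟩ := hget H hHA hHi hHb
  obtain ⟨t', ht', s', hs', htt', hss', hts', -, -, -⟩ := hget H₂ hH₂A hH₂i hH₂b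
  have hsqr : ∀ x ∈ block A K H, ∀ y ∈ block A K H₂, x * x = z → y * y = z →
      x * y * (x * y) = 1 := by
    intro x hx y hy h1 h2
    calc x * y * (x * y) = x * (y * x) * y := by group
      _ = (x * x) * (y * y) := by rw [← hTT' x hx y hy]; group
      _ = 1 := by rw [h1, h2, hz]
  have hcomm : t * t' * (s * s') = s * s' * (t * t') := by
    have h1 : t * s = z * (s * t) := by rw [← hts, commutatorElement_def]; group
    have h2 : t' * s' = z * (s' * t') := by rw [← hts', commutatorElement_def]; group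
    have c1 : t' * s = s * t' := (hTT' s hs t' ht').symm
    have c2 : s' * t = t * s' := (hTT' t ht s' hs').symm
    have hzs : z * (s * t) = s * t * z := (hB.commz _ (hB.leU
      (mul_mem (hB.block_le hA hHA hs).1 (hB.block_le hA hHA ht).1))).symm
    calc t * t' * (s * s') = t * (t' * s) * s' := by group
      _ = (t * s) * (t' * s') := by rw [c1]; group
      _ = z * (s * t) * (z * (s' * t')) := by rw [h1, h2]
      _ = s * t * (z * z) * (s' * t') := by rw [hzs]; group
      _ = s * (t * s') * t' := by rw [hz]; group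
      _ = s * s' * (t * t') := by rw [← c2]; group
  have hdisj : ∀ x ∈ block A K H, (x ∈ block A K H₂ ∨ x * z ∈ block A K H₂) →
      ∀ a ∈ A, a * x = x * a := by
    intro x hx hx'
    have h2 : x ∈ centralizer (H₂ : Set G) := by
      rcases hx' with h1 | h1
      · exact (hB.block_le hA hH₂A h1).2
      · have h3 : z ∈ centralizer (H₂ : Set G) :=
          mem_centralizer_iff.mpr fun y hy => hzA y (hH₂A hy)
        have h4 : x * z ∈ centralizer (H₂ : Set G) :=
          (Subgroup.mem_inf.mp (hB.block_le hA hH₂A h1)).2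
        simpa using mul_mem h4 (inv_mem h3)
    intro a ha
    have hle : A ≤ centralizer ({x} : Set G) := hsup'.trans (sup_le
      (fun y hy => mem_centralizer_singleton_iff.mpr
        (mem_centralizer_iff.mp (hB.block_le hA hHA hx).2 y hy))
      (fun y hy => mem_centralizer_singleton_iff.mpr (mem_centralizer_iff.mp h2 y hy)))
    exact mem_centralizer_singleton_iff.mp (hle ha)
  obtain ⟨hX, hX8⟩ := exists_rank_three hz hB.memz hB.commz hz1
    ((hB.block_le hA hHA).trans (inf_le_left.trans hB.leU))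
    ((hB.block_le hA hH₂A).trans (inf_le_left.trans hB.leU)) hTT' hdisj hzA ht hs ht' hs'
    (hsqr t ht t' ht' htt htt') (hsqr s hs s' hs' hss hss') hcomm hm₁ hm₂ hm₃
  set L := H ⊓ H₂ with hL
  have hLc := card_inf_ge (by omega) hAc hHA hH₂A (Blocks.card_hyperplane hAc hHA hHi)
    (Blocks.card_hyperplane hAc hH₂A hH₂i)
  have hL1 : L ≠ ⊥ := by
    intro h
    rw [← hL, h, Subgroup.card_bot] at hLc
    have := Nat.one_lt_pow (by omega : n - 2 ≠ 0) hp.out.one_lt
    omega
  have hXL : zpowers z ⊔ zpowers (t * t') ⊔ zpowers (s * s') ≤ centralizer (L : Set G) := by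
    have hmem : ∀ x ∈ block A K H, ∀ y ∈ block A K H₂, x * y ∈ centralizer (L : Set G) :=
      fun x hx y hy => mul_mem (centralizer_le inf_le_left (hB.block_le hA hHA hx).2)
        (centralizer_le inf_le_right (hB.block_le hA hH₂A hy).2)
    exact sup_le (sup_le (zpowers_le.mpr (mem_centralizer_iff.mpr fun y hy => hzA y (hHA hy.1)))
      (zpowers_le.mpr (hmem t ht t' ht'))) (zpowers_le.mpr (hmem s hs s' hs'))
  have := pair_lt hp2 hGp hG2 hn3 hn
    (CfsgLib.Signalizer.elementary_of_le hA (inf_le_left.trans hHA : L ≤ A)) hL1 hX hXL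
    (a := n - 2) (b := 3) hLc (by norm_num; exact hX8) (by norm_num)
  omega

/-- Klinger–Mason. -/
theorem main (hp2 : p ≠ 2) (hGp : Cfsg.IsOfLocalCharacteristic p G)
    (hG2 : Cfsg.IsCharacteristicTwoType G) : Cfsg.TwoLocalPRankLE p 2 G := by
  classical
  by_contra hcon
  let S : Set ℕ := {n | ∃ A T : Subgroup G, Cfsg.IsElementaryAbelian p A ∧ IsPGroup 2 T ∧ T ≠ ⊥ ∧
    A ≤ normalizer (T : Set G) ∧ Nat.card A = p ^ n}
  have hbdd : ∀ m ∈ S, m ≤ Nat.card G := by
    rintro m ⟨A, T, -, -, -, -, hm⟩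
    exact (Nat.lt_pow_self hp.out.one_lt).le.trans (hm ▸ Subgroup.card_le_card_group A)
  obtain ⟨m, hmS, hm3⟩ : ∃ m ∈ S, 3 ≤ m := by
    unfold Cfsg.TwoLocalPRankLE Cfsg.PRankLE at hcon
    push Not at hcon
    obtain ⟨H, ⟨T, hT, hT1, rfl⟩, B, hBc, hBp, hlt⟩ := hcon
    have hel : Cfsg.IsElementaryAbelian p (B.map (normalizer (T : Set G)).subtype) := by
      refine ⟨⟨⟨?_⟩⟩, ?_⟩
      · rintro ⟨_, x, hx, rfl⟩ ⟨_, y, hy, rfl⟩
        have h1 : x * y = y * x := congrArg Subtype.val (hBc.is_comm.comm ⟨x, hx⟩ ⟨y, hy⟩)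
        exact Subtype.ext (show (x : G) * y = y * x from congrArg Subtype.val h1)
      · rintro _ ⟨x, hx, rfl⟩
        rw [← map_pow, hBp x hx, map_one]
    obtain ⟨m, hm⟩ := (CfsgLib.Signalizer.elementary_isPGroup hel).exists_card_eq
    refine ⟨m, ⟨_, T, hel, hT, hT1, map_subtype_le _, hm⟩, ?_⟩
    rw [← Nat.card_congr (B.equivMapOfInjective _ (normalizer (T : Set G)).subtype_injective).symm.toEquiv,
      hm] at hlt
    have := (Nat.pow_lt_pow_iff_right hp.out.one_lt).mp hlt
    omega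
  set n := Nat.findGreatest (· ∈ S) (Nat.card G) with hn
  have hnS : n ∈ S := Nat.findGreatest_spec (P := (· ∈ S)) (hbdd m hmS) hmS
  have hmn : m ≤ n := Nat.le_findGreatest (hbdd m hmS) hmS
  have hbound : RankBound p n G := by
    intro A T hA hT hT1 hAT
    obtain ⟨k, hk⟩ := (CfsgLib.Signalizer.elementary_isPGroup hA).exists_card_eq
    rw [hk]
    exact Nat.pow_le_pow_right hp.out.pos
      (Nat.le_findGreatest (hbdd k ⟨A, T, hA, hT, hT1, hAT, hk⟩) ⟨A, T, hA, hT, hT1, hAT, hk⟩)
  obtain ⟨A, T, hA, hT, hT1, hAT, hAc⟩ := hnS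
  exact no_rank hp2 hGp hG2 (by omega) hbound hA hAc ⟨T, hT, hT1, rfl⟩ hAT

end CfsgLib.Techniques.KlingerMason
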