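import Mathlib.Algebra.Polynomial.Eval.Degree
import Mathlib.Algebra.Polynomial.Basic
import Mathlib.Tactic

/-!
Leading coefficients of a polynomial one-parameter family of conjugates `(1+ty) A (1-ty)`, `y² = 0`.
-/

set_option autoImplicit false

namespace CfsgLib.Techniques.LeadingConjugate

open Polynomial

variable {R : Type*} [Ring R]

/-- `1 + X y`. -/
noncomputable def up (y : R) : R[X] := 1 + X * C y

/-- `1 - X y`. -/
noncomputable def dn (y : R) : R[X] := 1 - X * C y

variable {y : R}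

theorem dn_mul_up (hy : y * y = 0) : dn y * up y = 1 := by
  have h : X * C y * (X * C y) = 0 := by
    rw [mul_assoc, ← mul_assoc (C y) X, ← X_mul (p := C y), mul_assoc X (C y), ← C_mul, hy, map_zero,
      mul_zero, mul_zero]
  rw [dn, up, sub_mul, one_mul, mul_add, mul_one, h, add_zero, add_sub_cancel_right]

theorem up_mul_dn (hy : y * y = 0) : up y * dn y = 1 := by
  have h : X * C y * (X * C y) = 0 := by
    rw [mul_assoc, ← mul_assoc (C y) X, ← X_mul (p := C y), mul_assoc X (C y), ← C_mul, hy, map_zero,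
      mul_zero, mul_zero]
  rw [dn, up, add_mul, one_mul, mul_sub, mul_one, h, sub_zero, sub_add_cancel]

theorem natDegree_up_le (y : R) : (up y).natDegree ≤ 1 :=
  (natDegree_add_le _ _).trans (max_le (by simp) ((natDegree_mul_le).trans (by simp [natDegree_X_le])))

theorem natDegree_dn_le (y : R) : (dn y).natDegree ≤ 1 :=
  (natDegree_sub_le _ _).trans (max_le (by simp) ((natDegree_mul_le).trans (by simp [natDegree_X_le])))

/-- Polynomials with coefficients in `A`. -/
def coeffsIn (A : AddSubgroup R) : AddSubgroup R[X] where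
  carrier := {P | ∀ n, P.coeff n ∈ A}
  zero_mem' := fun n => by simp
  add_mem' := fun {P Q} hP hQ n => by rw [coeff_add]; exact A.add_mem (hP n) (hQ n)
  neg_mem' := fun {P} hP n => by rw [coeff_neg]; exact A.neg_mem (hP n)

theorem X_mul_mem_coeffsIn {A : AddSubgroup R} {P : R[X]} (hP : P ∈ coeffsIn A) : X * P ∈ coeffsIn A := by
  intro n
  rw [X_mul]
  cases n with
  | zero => simp
  | succ n => rw [coeff_mul_X]; exact hP n

theorem pow_mul_mem {M : AddSubgroup R[X]} (hX : ∀ P ∈ M, X * P ∈ M) {P : R[X]} (hP : P ∈ M) :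
    ∀ k : ℕ, X ^ k * P ∈ M
  | 0 => by simpa using hP
  | k + 1 => by rw [pow_succ', mul_assoc]; exact hX _ (pow_mul_mem hX hP k)

/-- Leading coefficients of the members of `M`. -/
def lead (M : AddSubgroup R[X]) (hX : ∀ P ∈ M, X * P ∈ M) : AddSubgroup R where
  carrier := {z | ∃ N : ℕ, ∃ P ∈ M, P.natDegree ≤ N ∧ P.coeff N = z}
  zero_mem' := ⟨0, 0, M.zero_mem, by simp, by simp⟩
  add_mem' := by
    rintro _ _ ⟨N, P, hP, hPd, rfl⟩ ⟨K, Q, hQ, hQd, rfl⟩
    refine ⟨N + K, X ^ K * P + X ^ N * Q, M.add_mem (pow_mul_mem hX hP K) (pow_mul_mem hX hQ N), ?_, ?_⟩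
    · refine (natDegree_add_le _ _).trans (max_le ?_ ?_)
      · exact natDegree_mul_le.trans (by have := natDegree_X_pow_le (R := R) K; omega)
      · exact natDegree_mul_le.trans (by have := natDegree_X_pow_le (R := R) N; omega)
    · rw [coeff_add, X_pow_mul, X_pow_mul, coeff_mul_X_pow]
      conv_lhs => rw [show N + K = K + N from add_comm N K, coeff_mul_X_pow]
  neg_mem' := by
    rintro _ ⟨N, P, hP, hPd, rfl⟩
    exact ⟨N, -P, M.neg_mem hP, by rwa [natDegree_neg], coeff_neg P N⟩

theorem card_deg_le [Finite R] (M : AddSubgroup R[X]) (hX : ∀ P ∈ M, X * P ∈ M) :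
    ∀ N : ℕ, Finite {P : R[X] // P ∈ M ∧ P.natDegree ≤ N} ∧
      Nat.card {P : R[X] // P ∈ M ∧ P.natDegree ≤ N} ≤ Nat.card (lead M hX) ^ (N + 1) := by
  intro N
  induction N with
  | zero =>
    let f : {P : R[X] // P ∈ M ∧ P.natDegree ≤ 0} → lead M hX := fun P =>
      ⟨P.1.coeff 0, 0, P.1, P.2.1, P.2.2, rfl⟩
    have hf : Function.Injective f := fun P Q h => Subtype.ext (by
      rw [eq_C_of_natDegree_le_zero P.2.2, eq_C_of_natDegree_le_zero Q.2.2]
      exact congrArg C (congrArg Subtype.val h))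
    exact ⟨Finite.of_injective f hf, by simpa using Nat.card_le_card_of_injective f hf⟩
  | succ N ih =>
    classical
    let σ : R → R[X] := fun z =>
      if h : ∃ P ∈ M, P.natDegree ≤ N + 1 ∧ P.coeff (N + 1) = z then h.choose else 0
    have hσ : ∀ P ∈ M, P.natDegree ≤ N + 1 → σ (P.coeff (N + 1)) ∈ M ∧
        (σ (P.coeff (N + 1))).natDegree ≤ N + 1 ∧ (σ (P.coeff (N + 1))).coeff (N + 1) = P.coeff (N + 1) := by
      intro P hP hd
      have h : ∃ Q ∈ M, Q.natDegree ≤ N + 1 ∧ Q.coeff (N + 1) = P.coeff (N + 1) := ⟨P, hP, hd, rfl⟩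
      simp only [σ, dif_pos h]
      exact h.choose_spec
    let f : {P : R[X] // P ∈ M ∧ P.natDegree ≤ N + 1} →
        lead M hX × {P : R[X] // P ∈ M ∧ P.natDegree ≤ N} := fun P =>
      (⟨P.1.coeff (N + 1), N + 1, P.1, P.2.1, P.2.2, rfl⟩,
        ⟨P.1 - σ (P.1.coeff (N + 1)), M.sub_mem P.2.1 (hσ _ P.2.1 P.2.2).1, by
          obtain ⟨-, hd, hc⟩ := hσ _ P.2.1 P.2.2
          rw [natDegree_le_iff_coeff_eq_zero]
          intro n hn
          rw [coeff_sub]
          rcases eq_or_lt_of_le (Nat.succ_le_of_lt hn) with h | h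
          · rw [← h]
            show P.1.coeff (N + 1) - _ = 0
            rw [hc, sub_self]
          · rw [natDegree_le_iff_coeff_eq_zero.1 P.2.2 n h, natDegree_le_iff_coeff_eq_zero.1 hd n h, sub_zero]⟩)
    have hf : Function.Injective f := fun P Q h => Subtype.ext (by
      have h1 : P.1.coeff (N + 1) = Q.1.coeff (N + 1) := congrArg (fun t => (t.1 : R)) h
      have h2 : P.1 - σ (P.1.coeff (N + 1)) = Q.1 - σ (Q.1.coeff (N + 1)) := congrArg (fun t => (t.2 : R[X])) h
      rw [h1] at h2
      exact sub_left_injective h2)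
    haveI := ih.1
    refine ⟨Finite.of_injective f hf, (Nat.card_le_card_of_injective f hf).trans ?_⟩
    rw [Nat.card_prod, pow_succ' _ (N + 1)]
    exact Nat.mul_le_mul_left _ ih.2

/-- A parametrisation of `M` by sequences in `A` raising the degree by at most 2. -/
theorem card_le_lead [Finite R] (M : AddSubgroup R[X]) (hX : ∀ P ∈ M, X * P ∈ M) (A : AddSubgroup R)
    (f : R[X] → R[X]) (hf : ∀ P ∈ coeffsIn A, f P ∈ M) (hinj : Function.Injective f)
    (hdeg : ∀ P : R[X], (f P).natDegree ≤ P.natDegree + 2) :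
    Nat.card A ≤ Nat.card (lead M hX) := by
  classical
  set e := Nat.card (lead M hX)
  set d := Nat.card A
  have key : ∀ k : ℕ, d ^ (k + 1) ≤ e ^ (k + 3) := by
    intro k
    haveI := (card_deg_le M hX (k + 2)).1
    refine le_trans ?_ (card_deg_le M hX (k + 2)).2
    let g : (Fin (k + 1) → A) → {P : R[X] // P ∈ M ∧ P.natDegree ≤ k + 2} := fun a =>
      ⟨f (∑ i, C (a i : R) * X ^ (i : ℕ)), hf _ (sum_mem fun i _ n => by
        rw [coeff_C_mul, coeff_X_pow]
        split_ifs
        · simp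
        · simp), (hdeg _).trans (Nat.add_le_add_right (natDegree_sum_le_of_forall_le _ _ fun i _ =>
          (natDegree_C_mul_X_pow_le _ _).trans (Nat.le_of_lt_succ i.2)) 2)⟩
    have hg : Function.Injective g := by
      intro a b h
      have h' := hinj (congrArg Subtype.val h)
      funext j
      have h'' := congrArg (fun P : R[X] => P.coeff (j : ℕ)) h'
      simp only [finsetSum_coeff, coeff_C_mul, coeff_X_pow, Fin.val_inj, mul_ite, mul_one, mul_zero,
        Finset.sum_ite_eq, Finset.mem_univ, if_true] at h''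
      exact Subtype.ext h''
    have := Nat.card_le_card_of_injective g hg
    rwa [Nat.card_fun, Nat.card_fin] at this
  by_contra hlt
  have he : 0 < e := Nat.card_pos
  have hk := (Nat.pow_le_pow_left (not_le.1 hlt : e + 1 ≤ d) _).trans (key (e ^ 3))
  have hb : ∀ k : ℕ, e ^ (k + 1) + (k + 1) * e ^ k ≤ (e + 1) ^ (k + 1) := by
    intro k
    induction k with
    | zero => simp
    | succ k ih =>
      calc e ^ (k + 1 + 1) + (k + 1 + 1) * e ^ (k + 1)
          ≤ (e ^ (k + 1) + (k + 1) * e ^ k) * (e + 1) := by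
            have e1 : e ^ (k + 1 + 1) = e ^ (k + 1) * e := pow_succ e (k + 1)
            have e2 : e ^ (k + 1) = e ^ k * e := pow_succ e k
            nlinarith [Nat.zero_le (e ^ k), Nat.zero_le k]
        _ ≤ (e + 1) ^ (k + 1) * (e + 1) := Nat.mul_le_mul_right _ ih
        _ = (e + 1) ^ (k + 1 + 1) := (pow_succ _ _).symm
  have h1 := (hb (e ^ 3)).trans hk
  have h2 : e ^ (e ^ 3 + 3) = e ^ (e ^ 3) * e ^ 3 := pow_add _ _ _
  have h3 : 0 < e ^ (e ^ 3) := pow_pos he _
  rw [pow_succ, h2] at h1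
  generalize e ^ (e ^ 3) = K at h1 h3
  nlinarith

theorem mul_eq_zero_of_coeffsIn {A B : AddSubgroup R} (h : ∀ a ∈ A, ∀ b ∈ B, a * b = 0) {P Q : R[X]}
    (hP : P ∈ coeffsIn A) (hQ : Q ∈ coeffsIn B) : P * Q = 0 := by
  ext n
  rw [coeff_mul, coeff_zero]
  exact Finset.sum_eq_zero fun x _ => h _ (hP _) _ (hQ _)

/-! ### The twisted modules -/

/-- `{P | (1 - Xy) P (1 + Xy)` has coefficients in `A}`. -/
def twist (y : R) (A : AddSubgroup R) : AddSubgroup R[X] where
  carrier := {P | dn y * P * up y ∈ coeffsIn A}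
  zero_mem' := by simp [zero_mem]
  add_mem' := fun {P Q} hP hQ => by
    show _ ∈ coeffsIn A
    rw [mul_add, add_mul]; exact add_mem hP hQ
  neg_mem' := fun {P} hP => by
    show _ ∈ coeffsIn A
    rw [mul_neg, neg_mul]; exact neg_mem hP

/-- `{P | (1 - Xy) P` has coefficients in `A}`. -/
def twistLeft (y : R) (A : AddSubgroup R) : AddSubgroup R[X] where
  carrier := {P | dn y * P ∈ coeffsIn A}
  zero_mem' := by simp [zero_mem]
  add_mem' := fun {P Q} hP hQ => by
    show _ ∈ coeffsIn A
    rw [mul_add]; exact add_mem hP hQ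
  neg_mem' := fun {P} hP => by
    show _ ∈ coeffsIn A
    rw [mul_neg]; exact neg_mem hP

theorem mem_twist {A : AddSubgroup R} {P : R[X]} : P ∈ twist y A ↔ dn y * P * up y ∈ coeffsIn A := Iff.rfl

theorem mem_twistLeft {A : AddSubgroup R} {P : R[X]} : P ∈ twistLeft y A ↔ dn y * P ∈ coeffsIn A := Iff.rfl

theorem X_mul_twist (A : AddSubgroup R) : ∀ P ∈ twist y A, X * P ∈ twist y A := fun P hP => by
  rw [mem_twist] at hP ⊢
  rw [← mul_assoc, ← X_mul, mul_assoc X, mul_assoc X]
  exact X_mul_mem_coeffsIn hP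

theorem X_mul_twistLeft (A : AddSubgroup R) : ∀ P ∈ twistLeft y A, X * P ∈ twistLeft y A := fun P hP => by
  rw [mem_twistLeft] at hP ⊢
  rw [← mul_assoc, ← X_mul, mul_assoc X]
  exact X_mul_mem_coeffsIn hP

/-- The limit of the conjugates of `A`. -/
def limit (y : R) (A : AddSubgroup R) : AddSubgroup R := lead (twist y A) (X_mul_twist A)

/-- The limit of the translates of `A`. -/
def limitLeft (y : R) (A : AddSubgroup R) : AddSubgroup R := lead (twistLeft y A) (X_mul_twistLeft A)

variable (hy : y * y = 0)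
include hy

theorem untwist {A : AddSubgroup R} {P : R[X]} (hP : P ∈ twist y A) :
    ∃ a ∈ coeffsIn A, P = up y * a * dn y := by
  refine ⟨_, mem_twist.1 hP, ?_⟩
  rw [← mul_assoc, ← mul_assoc, up_mul_dn hy, one_mul, mul_assoc, up_mul_dn hy, mul_one]

theorem untwistLeft {A : AddSubgroup R} {P : R[X]} (hP : P ∈ twistLeft y A) :
    ∃ a ∈ coeffsIn A, P = up y * a := by
  refine ⟨_, mem_twistLeft.1 hP, ?_⟩
  rw [← mul_assoc, up_mul_dn hy, one_mul]

theorem twist_mem {A : AddSubgroup R} {a : R[X]} (ha : a ∈ coeffsIn A) : up y * a * dn y ∈ twist y A := by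
  rw [mem_twist]
  rw [← mul_assoc, ← mul_assoc, dn_mul_up hy, one_mul, mul_assoc, dn_mul_up hy, mul_one]
  exact ha

theorem card_le_limit [Finite R] (A : AddSubgroup R) : Nat.card A ≤ Nat.card (limit y A) := by
  refine card_le_lead _ _ A (fun a => up y * a * dn y) (fun a ha => twist_mem hy ha) ?_ fun P => ?_
  · intro a b h
    have := congrArg (fun P => dn y * P * up y) h
    simpa only [← mul_assoc, dn_mul_up hy, one_mul, mul_assoc _ (dn y) (up y), mul_one] using this
  · have := natDegree_up_le y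
    have := natDegree_dn_le y
    have h1 := natDegree_mul_le (p := up y * P) (q := dn y)
    have h2 := natDegree_mul_le (p := up y) (q := P)
    omega

theorem card_le_limitLeft [Finite R] (A : AddSubgroup R) : Nat.card A ≤ Nat.card (limitLeft y A) := by
  refine card_le_lead _ _ A (fun a => up y * a) (fun a ha => ?_) ?_ fun P => ?_
  · rw [mem_twistLeft]
    rw [← mul_assoc, dn_mul_up hy, one_mul]
    exact ha
  · intro a b h
    have := congrArg (fun P => dn y * P) h
    simpa only [← mul_assoc, dn_mul_up hy, one_mul] using this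
  · have := natDegree_up_le y
    have h2 := natDegree_mul_le (p := up y) (q := P)
    omega

theorem limit_mul_limit {A : AddSubgroup R} (hA : ∀ a ∈ A, ∀ b ∈ A, a * b = 0) {z w : R}
    (hz : z ∈ limit y A) (hw : w ∈ limit y A) : z * w = 0 := by
  obtain ⟨N, P, hP, hPd, rfl⟩ := hz
  obtain ⟨K, Q, hQ, hQd, rfl⟩ := hw
  obtain ⟨a, ha, rfl⟩ := untwist hy hP
  obtain ⟨b, hb, rfl⟩ := untwist hy hQ
  rw [← coeff_mul_add_eq_of_natDegree_le hPd hQd]
  have h0 : up y * a * dn y * (up y * b * dn y) = 0 := by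
    rw [show up y * a * dn y * (up y * b * dn y) = up y * a * (dn y * up y) * b * dn y by simp only [mul_assoc],
      dn_mul_up hy, mul_one, mul_assoc (up y) a b, mul_eq_zero_of_coeffsIn hA ha hb, mul_zero, zero_mul]
  rw [h0, coeff_zero]

theorem limit_mul_limitLeft {A B : AddSubgroup R} (hAB : ∀ a ∈ A, ∀ b ∈ B, a * b = 0) {z w : R}
    (hz : z ∈ limit y A) (hw : w ∈ limitLeft y B) : z * w = 0 := by
  obtain ⟨N, P, hP, hPd, rfl⟩ := hz
  obtain ⟨K, Q, hQ, hQd, rfl⟩ := hw
  obtain ⟨a, ha, rfl⟩ := untwist hy hP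
  obtain ⟨b, hb, rfl⟩ := untwistLeft hy hQ
  rw [← coeff_mul_add_eq_of_natDegree_le hPd hQd]
  have h0 : up y * a * dn y * (up y * b) = 0 := by
    rw [show up y * a * dn y * (up y * b) = up y * a * (dn y * up y) * b by simp only [mul_assoc],
      dn_mul_up hy, mul_one, mul_assoc (up y) a b, mul_eq_zero_of_coeffsIn hAB ha hb, mul_zero]
  rw [h0, coeff_zero]

/-- Limit elements are combinations of `x`, `yx - xy`, `yxy`. -/
theorem limit_le {A L : AddSubgroup R} (h0 : ∀ a ∈ A, a ∈ L) (h1 : ∀ a ∈ A, y * a - a * y ∈ L)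
    (h2 : ∀ a ∈ A, y * a * y ∈ L) : limit y A ≤ L := by
  rintro _ ⟨N, P, hP, -, rfl⟩
  obtain ⟨a, ha, rfl⟩ := untwist hy hP
  have h : up y * a * dn y = a + X * (C y * a - a * C y) - X * (X * (C y * a * C y)) := by
    simp only [up, dn, add_mul, mul_sub, sub_mul, one_mul, mul_one, mul_assoc]
    rw [← mul_assoc a X, ← X_mul (p := a), mul_assoc X a, ← mul_assoc (C y) X, ← X_mul (p := C y), mul_assoc X (C y)]
    abel
  have hc1 : C y * a - a * C y ∈ coeffsIn L := fun n => by
    rw [coeff_sub, coeff_C_mul, coeff_mul_C]; exact h1 _ (ha n)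
  have hc2 : C y * a * C y ∈ coeffsIn L := fun n => by
    rw [coeff_mul_C, coeff_C_mul]; exact h2 _ (ha n)
  have hc0 : a ∈ coeffsIn L := fun n => h0 _ (ha n)
  rw [h]
  exact (sub_mem (add_mem hc0 (X_mul_mem_coeffsIn hc1))
    (X_mul_mem_coeffsIn (X_mul_mem_coeffsIn hc2))) N

omit hy

/-- The substitution `X ↦ X - 1`. -/
noncomputable def shift : R[X] →+* R[X] :=
  eval₂RingHom' C (X - 1) fun a => ((commute_X (C a)).symm.sub_right (Commute.one_right _))

theorem shift_eq (P : R[X]) {N : ℕ} (hN : P.natDegree ≤ N) :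
    shift P = ∑ i ∈ Finset.range (N + 1), C (P.coeff i) * (X - 1) ^ i :=
  eval₂_eq_sum_range' C (Nat.lt_succ_of_le hN) _

theorem natDegree_shift_le (P : R[X]) {N : ℕ} (hN : P.natDegree ≤ N) : (shift P).natDegree ≤ N := by
  rw [shift_eq P hN]
  refine natDegree_sum_le_of_forall_le _ _ fun i hi => (natDegree_C_mul_le _ _).trans ?_
  have h1 : (X - 1 : R[X]).natDegree ≤ 1 := (natDegree_sub_le _ _).trans (by simp [natDegree_X_le])
  exact (natDegree_pow_le_of_le i h1).trans (by have := Finset.mem_range.1 hi; omega)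

theorem coeff_shift (P : R[X]) {N : ℕ} (hN : P.natDegree ≤ N) : (shift P).coeff N = P.coeff N := by
  have h1 : (X - 1 : R[X]).natDegree ≤ 1 := (natDegree_sub_le _ _).trans (by simp [natDegree_X_le])
  rw [shift_eq P hN, finsetSum_coeff, Finset.sum_eq_single N]
  · rw [coeff_C_mul]
    have := coeff_pow_of_natDegree_le (m := N) h1
    rw [mul_one] at this
    rw [this, coeff_sub, coeff_X_one, coeff_one, if_neg (by norm_num), sub_zero, one_pow, mul_one]
  · intro i hi hne
    rw [coeff_C_mul, coeff_eq_zero_of_natDegree_lt (p := (X - 1 : R[X]) ^ i), mul_zero]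
    have := natDegree_pow_le_of_le i h1
    have := Finset.mem_range.1 hi
    omega
  · intro h; exact absurd (Finset.self_mem_range_succ N) h

theorem shift_mem_coeffsIn {A : AddSubgroup R} {P : R[X]} (hP : P ∈ coeffsIn A) : shift P ∈ coeffsIn A := by
  intro n
  rw [shift_eq P le_rfl, finsetSum_coeff]
  refine sum_mem fun i _ => ?_
  have hz : ∀ j m : ℕ, ∃ k : ℤ, ((X - 1 : R[X]) ^ j).coeff m = (k : R) := by
    intro j
    induction j with
    | zero => exact fun m => ⟨if m = 0 then 1 else 0, by rw [pow_zero, coeff_one]; split_ifs <;> simp⟩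
    | succ j ih =>
      intro m
      rw [pow_succ, mul_sub, mul_one, coeff_sub]
      obtain ⟨k1, hk1⟩ := ih m
      cases m with
      | zero => exact ⟨-k1, by rw [hk1]; simp⟩
      | succ m =>
        obtain ⟨k2, hk2⟩ := ih m
        exact ⟨k2 - k1, by rw [coeff_mul_X, hk2, hk1]; push_cast; ring⟩
  obtain ⟨k, hk⟩ := hz i n
  rw [coeff_C_mul, hk, ← zsmul_eq_mul']
  exact AddSubgroup.zsmul_mem _ (hP i) k

include hy

/-- The limit is invariant under conjugation by `1 + y`. -/
theorem conj_mem_limit {A : AddSubgroup R} {z : R} (hz : z ∈ limit y A) :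
    (1 + y) * z * (1 - y) ∈ limit y A := by
  obtain ⟨N, P, hP, hPd, rfl⟩ := hz
  refine ⟨N, shift (C (1 + y) * P * C (1 - y)), ?_, ?_, ?_⟩
  rotate_left
  · exact natDegree_shift_le _ ((natDegree_mul_C_le _ _).trans ((natDegree_C_mul_le _ _).trans hPd))
  · rw [coeff_shift _ ((natDegree_mul_C_le _ _).trans ((natDegree_C_mul_le _ _).trans hPd)), coeff_mul_C,
      coeff_C_mul]
  rw [mem_twist]
  have hsC : ∀ r : R, shift (C r) = C r := fun r => eval₂_C _ _
  have hyy : C y * C y = 0 := by rw [← C_mul, hy, map_zero]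
  have hcomm : (X - 1 : R[X]) * C y = C y * (X - 1) := ((commute_X (C y)).sub_left (Commute.one_left _)).eq
  have hd : shift (dn y) = C (1 + y) * dn y := by
    rw [dn, map_sub, map_one, map_mul, show shift (X : R[X]) = X - 1 from eval₂_X _ _, hsC, map_add, map_one,
      add_mul, one_mul, mul_sub, mul_one, ← mul_assoc, ← X_mul (p := C y), mul_assoc X, hyy, mul_zero, sub_zero,
      sub_mul, one_mul]
    abel
  have hu : shift (up y) = up y * C (1 - y) := by
    rw [up, map_add, map_one, map_mul, show shift (X : R[X]) = X - 1 from eval₂_X _ _, hsC, map_sub, map_one,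
      mul_sub, mul_one, add_mul, one_mul, mul_assoc X, hyy, mul_zero, add_zero, sub_mul, one_mul]
    abel
  have key : dn y * shift (C (1 + y) * P * C (1 - y)) * up y = shift (dn y * P * up y) := by
    have hXy : Commute (X * C y) (C y) := (commute_X (C y)).mul_left (Commute.refl _)
    have hc1 : dn y * C (1 + y) = C (1 + y) * dn y := by
      rw [dn, map_add, map_one]
      exact ((Commute.one_right _).add_right ((Commute.one_left (C y)).sub_left hXy)).eq
    have hc2 : C (1 - y) * up y = up y * C (1 - y) := by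
      rw [up, map_sub, map_one]
      exact ((Commute.one_right _).sub_right ((Commute.one_left (C y)).add_left hXy)).eq.symm
    rw [map_mul, map_mul, map_mul, map_mul, hsC, hsC, hd, hu, ← hc1, ← hc2]
    simp only [mul_assoc]
  rw [key]
  exact shift_mem_coeffsIn (mem_twist.1 hP)

omit hy

/-- A polynomial of degree at most 4 whose values at `0, …, 4` lie in `A` has coefficients in `A`. -/
theorem mem_coeffsIn_of_eval {p : ℕ} (hp : p.Prime) (hp5 : 5 ≤ p) (hpR : (p : R) = 0) {A : AddSubgroup R}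
    {F : R[X]} (hd : F.natDegree ≤ 4)
    (h : ∀ i < 5, eval₂ (RingHom.id R) ((i : ℕ) : R) F ∈ A) : F ∈ coeffsIn A := by
  have hev : ∀ i : ℕ, eval₂ (RingHom.id R) ((i : ℕ) : R) F =
      F.coeff 0 + i • F.coeff 1 + (i ^ 2) • F.coeff 2 + (i ^ 3) • F.coeff 3 + (i ^ 4) • F.coeff 4 := by
    intro i
    rw [eval₂_eq_sum_range' _ (Nat.lt_succ_of_le hd)]
    simp only [Finset.sum_range_succ, Finset.range_zero, Finset.sum_empty, RingHom.id_apply, nsmul_eq_mul',
      Nat.cast_pow, pow_zero, pow_one, mul_one, zero_add]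
  have e0 : F.coeff 0 ∈ A := by simpa [hev 0] using h 0 (by norm_num)
  have e1 := h 1 (by norm_num)
  have e2 := h 2 (by norm_num)
  have e3 := h 3 (by norm_num)
  have e4 := h 4 (by norm_num)
  rw [hev] at e1 e2 e3 e4
  have hdiv : ∀ c : R, (24 : ℤ) • c ∈ A → c ∈ A := by
    intro c hc
    have hcop : Int.gcd 24 (p : ℤ) = 1 := by
      show Nat.gcd 24 p = 1
      refine Nat.Coprime.symm ((hp.coprime_iff_not_dvd).2 fun h24 => ?_)
      have hle := Nat.le_of_dvd (by norm_num) h24
      revert hp h24; interval_cases p <;> norm_num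
    have hb := Int.gcd_eq_gcd_ab 24 (p : ℤ)
    rw [hcop] at hb
    have : c = Int.gcdA 24 p • ((24 : ℤ) • c) := by
      conv_lhs => rw [← one_zsmul c]
      rw [← mul_zsmul]
      simp only [zsmul_eq_mul]
      have h1 : ((1 : ℤ) : R) = ((24 * Int.gcdA 24 p : ℤ) : R) := by
        have := congrArg (fun k : ℤ => (k : R)) hb
        simp only [Nat.cast_one, Int.cast_add, Int.cast_mul, Int.cast_natCast, hpR, zero_mul, add_zero] at this
        rw [this, Int.cast_mul]
      rw [h1, mul_comm (24 : ℤ)]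
    rw [this]
    exact A.zsmul_mem hc _
  have k1 : (24 : ℤ) • F.coeff 1 ∈ A := by
    have := add_mem (add_mem (add_mem (add_mem (A.zsmul_mem e0 (-50)) (A.zsmul_mem e1 96))
      (A.zsmul_mem e2 (-72))) (A.zsmul_mem e3 32)) (A.zsmul_mem e4 (-6))
    convert this using 1
    simp only [one_pow, one_nsmul, Nat.reducePow]
    abel
  have k2 : (24 : ℤ) • F.coeff 2 ∈ A := by
    have := add_mem (add_mem (add_mem (add_mem (A.zsmul_mem e0 35) (A.zsmul_mem e1 (-104)))
      (A.zsmul_mem e2 114)) (A.zsmul_mem e3 (-56))) (A.zsmul_mem e4 11)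
    convert this using 1
    simp only [one_pow, one_nsmul, Nat.reducePow]
    abel
  have k3 : (24 : ℤ) • F.coeff 3 ∈ A := by
    have := add_mem (add_mem (add_mem (add_mem (A.zsmul_mem e0 (-10)) (A.zsmul_mem e1 36))
      (A.zsmul_mem e2 (-48))) (A.zsmul_mem e3 28)) (A.zsmul_mem e4 (-6))
    convert this using 1
    simp only [one_pow, one_nsmul, Nat.reducePow]
    abel
  have k4 : (24 : ℤ) • F.coeff 4 ∈ A := by
    have := add_mem (add_mem (add_mem (add_mem (A.zsmul_mem e0 1) (A.zsmul_mem e1 (-4)))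
      (A.zsmul_mem e2 6)) (A.zsmul_mem e3 (-4))) (A.zsmul_mem e4 1)
    convert this using 1
    simp only [one_pow, one_nsmul, Nat.reducePow]
    abel
  intro n
  match n with
  | 0 => exact e0
  | 1 => exact hdiv _ k1
  | 2 => exact hdiv _ k2
  | 3 => exact hdiv _ k3
  | 4 => exact hdiv _ k4
  | n + 5 => rw [coeff_eq_zero_of_natDegree_lt (by omega)]; exact zero_mem _

include hy

omit hy in
theorem eval_up (i : ℕ) : eval₂ (RingHom.id R) (i : R) (up y) = 1 + i • y := by
  have h : eval₂RingHom' (RingHom.id R) (i : R) (fun a => (Nat.cast_commute i a).symm) (up y) = 1 + i • y := by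
    rw [up, map_add, map_one, map_mul, nsmul_eq_mul]
    congr 2
    · exact eval₂_X _ _
    · exact eval₂_C _ _
  exact h

omit hy in
theorem eval_dn (i : ℕ) : eval₂ (RingHom.id R) (i : R) (dn y) = 1 - i • y := by
  have h : eval₂RingHom' (RingHom.id R) (i : R) (fun a => (Nat.cast_commute i a).symm) (dn y) = 1 - i • y := by
    rw [dn, map_sub, map_one, map_mul, nsmul_eq_mul]
    congr 2
    · exact eval₂_X _ _
    · exact eval₂_C _ _
  exact h

/-- Elements normalizing `A` after conjugation by every `1 + iy` normalize the limit. -/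
theorem conj_mem_limit_of_normalizes {p : ℕ} (hp : p.Prime) (hp5 : 5 ≤ p) (hpR : (p : R) = 0)
    {A : AddSubgroup R} {h h' : R}
    (hn : ∀ i : ℕ, ∀ a ∈ A,
      ((1 - i • y) * h * (1 + i • y)) * a * ((1 - i • y) * h' * (1 + i • y)) ∈ A)
    {z : R} (hz : z ∈ limit y A) : h * z * h' ∈ limit y A := by
  obtain ⟨N, P, hP, hPd, rfl⟩ := hz
  refine ⟨N, C h * P * C h', ?_, (natDegree_mul_C_le _ _).trans ((natDegree_C_mul_le _ _).trans hPd), ?_⟩
  rotate_left
  · rw [coeff_mul_C, coeff_C_mul]
  obtain ⟨a, ha, rfl⟩ := untwist hy hP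
  set H := dn y * C h * up y with hH
  set H' := dn y * C h' * up y with hH'
  rw [mem_twist]
  rw [show dn y * (C h * (up y * a * dn y) * C h') * up y = H * a * H' by simp only [hH, hH', mul_assoc]]
  have hx : ∀ x ∈ A, H * C x * H' ∈ coeffsIn A := by
    intro x hx
    refine mem_coeffsIn_of_eval hp hp5 hpR ?_ fun i _ => ?_
    · have hu := natDegree_up_le y
      have hd := natDegree_dn_le y
      have h1 : ∀ r : R, (dn y * C r * up y).natDegree ≤ 2 := fun r =>
        natDegree_mul_le.trans (add_le_add ((natDegree_mul_C_le _ _).trans hd) hu)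
      exact natDegree_mul_le.trans (add_le_add ((natDegree_mul_C_le _ _).trans (h1 h)) (h1 h'))
    · let ev := eval₂RingHom' (RingHom.id R) (i : R) (fun a => (Nat.cast_commute i a).symm)
      show ev (H * C x * H') ∈ A
      have hevC : ∀ r : R, ev (C r) = r := fun r => eval₂_C _ _
      rw [hH, hH']
      simp only [map_mul, hevC, show ev (up y) = 1 + i • y from eval_up i,
        show ev (dn y) = 1 - i • y from eval_dn i]
      exact hn i x hx
  rw [a.as_sum_range_C_mul_X_pow, Finset.mul_sum, Finset.sum_mul]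
  refine sum_mem fun j _ => ?_
  have h3 : ∀ P Q S : R[X], P * (Q * X ^ j) * S = X ^ j * (P * Q * S) := fun P Q S => by
    rw [← mul_assoc P Q, ← X_pow_mul (p := P * Q), mul_assoc]
  rw [h3]
  exact pow_mul_mem (fun _ => X_mul_mem_coeffsIn) (hx _ (ha j)) j

end CfsgLib.Techniques.LeadingConjugate
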