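import Cfsg.Agent.Lib.Components.Subnormal
import Cfsg.Agent.Lib.PGroups.Basic
import Mathlib.GroupTheory.SpecificGroups.KleinFour
import Mathlib.GroupTheory.Abelianization.Defs
import Mathlib.GroupTheory.Sylow

/-!
Groups of order 320 with derived group of order 64 and centre of that a four-group: generators and relations.
-/

set_option autoImplicit false

namespace CfsgLib.Techniques.Order320

open Subgroup
open scoped commutatorElement

variable {K : Type*} [Group K]

/-- The relations. -/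
structure Rel (a x : K) : Prop where
  a5 : a ^ 5 = 1
  xa : (x * a) ^ 5 = 1
  s_sq : (x * x) * (x * x) = 1
  c_sq : ⁅x, a * x * a⁻¹⁆ * ⁅x, a * x * a⁻¹⁆ = 1
  s_a : a * (x * x) = (x * x) * a
  c_a : a * ⁅x, a * x * a⁻¹⁆ = ⁅x, a * x * a⁻¹⁆ * a
  c_x : x * ⁅x, a * x * a⁻¹⁆ = ⁅x, a * x * a⁻¹⁆ * x
  c2 : ⁅x, a ^ 2 * x * (a ^ 2)⁻¹⁆ = x * x * ⁅x, a * x * a⁻¹⁆

theorem card_closure_le [Finite K] : ∀ (S : Finset K), (∀ u ∈ S, ∀ v ∈ S, u * v = v * u) →
    (∀ u ∈ S, u * u = 1) → Nat.card (closure (S : Set K)) ≤ 2 ^ S.card := by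
  classical
  intro S
  induction S using Finset.induction with
  | empty => intro _ _; simp
  | insert b S hb ih =>
    intro hc hs
    rw [Finset.coe_insert, Set.insert_eq, Subgroup.closure_union, sup_comm, ← zpowers_eq_closure,
      Finset.card_insert_of_notMem hb, pow_succ]
    have hn : zpowers b ≤ normalizer (closure (S : Set K) : Set K) := by
      refine le_trans (zpowers_le.2 ?_) (centralizer_le_normalizer _)
      rw [centralizer_closure, mem_centralizer_iff]
      exact fun v hv => hc v (Finset.mem_insert_of_mem hv) b (Finset.mem_insert_self _ _)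
    refine (Nat.le_of_dvd (Nat.mul_pos Nat.card_pos Nat.card_pos) (Components.card_sup_dvd_mul hn)).trans ?_
    refine Nat.mul_le_mul (ih (fun u hu v hv => hc u (Finset.mem_insert_of_mem hu) v (Finset.mem_insert_of_mem hv))
      fun u hu => hs u (Finset.mem_insert_of_mem hu)) ?_
    rw [Nat.card_zpowers]
    exact orderOf_le_of_pow_eq_one (by norm_num) (by rw [pow_two]; exact hs b (Finset.mem_insert_self _ _))

/-- `xs i = a^i x a^-i`. -/
def xs (a x : K) (i : ℕ) : K := a ^ i * x * (a ^ i)⁻¹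

theorem xs_prod (a x : K) (ha : a ^ 5 = 1) :
    xs a x 0 * xs a x 1 * xs a x 2 * xs a x 3 * xs a x 4 = (x * a) ^ 5 := by
  have h4 : (a ^ 4)⁻¹ = a := by rw [inv_eq_iff_mul_eq_one, ← pow_succ]; exact ha
  rw [show (x * a) ^ 5 = x * (a * x * a⁻¹) * (a ^ 2 * x * (a ^ 2)⁻¹) * (a ^ 3 * x * (a ^ 3)⁻¹) *
      (a ^ 4 * x * a) by simp only [pow_succ, pow_zero, one_mul]; group]
  simp only [xs, h4, pow_zero, inv_one, mul_one, one_mul, pow_one]

theorem xs_mod (a x : K) (ha : a ^ 5 = 1) (i : ℕ) : xs a x i = xs a x (i % 5) := by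
  rw [xs, xs, ← pow_eq_pow_mod i ha]

/-- A group generated by `a`, `x` subject to the relations has order at most 320. -/
theorem card_le [Finite K] {a x : K} (h : Rel a x) (hgen : closure {a, x} = ⊤) : Nat.card K ≤ 320 := by
  classical
  set s := x * x with hs
  set c := ⁅x, a * x * a⁻¹⁆ with hc
  set Z := closure (({s, c} : Finset K) : Set K)
  have hZc : Z ≤ center K := by
    refine (closure_le _).2 ?_
    intro z hz
    have hgs : ∀ z, (a * z = z * a) → (x * z = z * x) → z ∈ center K := fun z h1 h2 => by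
      rw [← centralizer_univ, ← coe_top, ← hgen, centralizer_closure, mem_centralizer_iff]
      rintro g (rfl | rfl)
      · exact h1
      · exact h2
    rcases (by simpa using hz : z = s ∨ z = c) with rfl | rfl
    · exact hgs _ h.s_a (by rw [hs, mul_assoc])
    · exact hgs _ h.c_a h.c_x
  haveI : Z.Normal := ⟨fun z hz g => by rwa [mem_center_iff.1 (hZc hz) g, mul_inv_cancel_right]⟩
  have hZ4 : Nat.card Z ≤ 4 := by
    refine (card_closure_le _ (fun u hu v _ => ?_) fun u hu => ?_).trans ?_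
    · exact (mem_center_iff.1 (hZc (subset_closure hu)) v).symm
    · rcases (by simpa using hu : u = s ∨ u = c) with rfl | rfl
      · exact h.s_sq
      · exact h.c_sq
    · exact (Nat.pow_le_pow_right (by norm_num) (Finset.card_le_two)).trans (by norm_num)
  set π := QuotientGroup.mk' Z
  have hsZ : π s = 1 := (QuotientGroup.eq_one_iff _).2 (subset_closure (by simp))
  have hcZ : π c = 1 := (QuotientGroup.eq_one_iff _).2 (subset_closure (by simp))
  set A := π a
  set X := π x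
  have hA5 : A ^ 5 = 1 := by rw [← map_pow, h.a5, map_one]
  have hX2 : X * X = 1 := by rw [← map_mul, ← hs, hsZ]
  have hinv : ∀ i, xs A X i * xs A X i = 1 := fun i => by
    rw [xs, show A ^ i * X * (A ^ i)⁻¹ * (A ^ i * X * (A ^ i)⁻¹) = A ^ i * (X * X) * (A ^ i)⁻¹ by group, hX2,
      mul_one, mul_inv_cancel]
  have hshift : ∀ i j, A ^ j * xs A X i * (A ^ j)⁻¹ = xs A X (j + i) := fun i j => by
    simp only [xs, pow_add, mul_inv_rev, mul_assoc]
  have h01 : ⁅X, xs A X 1⁆ = 1 := by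
    rw [show xs A X 1 = π (a * x * a⁻¹) by simp [xs, A, X], ← map_commutatorElement, ← hc, hcZ]
  have h02 : ⁅X, xs A X 2⁆ = 1 := by
    rw [show xs A X 2 = π (a ^ 2 * x * (a ^ 2)⁻¹) by simp [xs, A, X], ← map_commutatorElement, h.c2, ← hs, ← hc,
      map_mul, hsZ, hcZ, one_mul]
  have hcomm : ∀ i j, xs A X i * xs A X j = xs A X j * xs A X i := by
    have key : ∀ i d, ⁅X, xs A X d⁆ = 1 → xs A X i * xs A X (i + d) = xs A X (i + d) * xs A X i := by
      intro i d hd
      rw [← hshift d i, xs, show A ^ i * X * (A ^ i)⁻¹ * (A ^ i * xs A X d * (A ^ i)⁻¹) =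
        A ^ i * (X * xs A X d) * (A ^ i)⁻¹ by group, commutatorElement_eq_one_iff_mul_comm.1 hd]
      group
    have hd : ∀ d < 5, d = 0 ∨ ⁅X, xs A X d⁆ = 1 ∨ ∃ e, ⁅X, xs A X e⁆ = 1 ∧ d + e = 5 := by
      intro d hd
      interval_cases d
      · exact .inl rfl
      · exact .inr (.inl h01)
      · exact .inr (.inl h02)
      · exact .inr (.inr ⟨2, h02, rfl⟩)
      · exact .inr (.inr ⟨1, h01, rfl⟩)
    intro i j
    rcases hd ((j + 4 * i) % 5) (Nat.mod_lt _ (by norm_num)) with h0 | h0 | ⟨e, he, hde⟩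
    · rw [xs_mod A X hA5 i, xs_mod A X hA5 j, show i % 5 = j % 5 by omega]
    · have := key i _ h0
      rwa [xs_mod A X hA5 (i + _), show (i + (j + 4 * i) % 5) % 5 = j % 5 by omega, ← xs_mod A X hA5 j] at this
    · have := key j e he
      rw [xs_mod A X hA5 (j + e), show (j + e) % 5 = i % 5 by omega, ← xs_mod A X hA5 i] at this
      exact this.symm
  set S : Finset (K ⧸ Z) := {xs A X 0, xs A X 1, xs A X 2, xs A X 3}
  set N := closure (S : Set (K ⧸ Z))
  have hN16 : Nat.card N ≤ 16 := by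
    refine (card_closure_le S ?_ ?_).trans ((Nat.pow_le_pow_right (by norm_num) Finset.card_le_four).trans (by norm_num))
    · intro u hu v hv
      simp only [S, Finset.mem_insert, Finset.mem_singleton] at hu hv
      rcases hu with rfl | rfl | rfl | rfl <;> rcases hv with rfl | rfl | rfl | rfl <;> exact hcomm _ _
    · intro u hu
      simp only [S, Finset.mem_insert, Finset.mem_singleton] at hu
      rcases hu with rfl | rfl | rfl | rfl <;> exact hinv _
  have hxN : ∀ i, xs A X i ∈ N := by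
    intro i
    have h4 : xs A X 4 ∈ N := by
      have := xs_prod A X hA5
      rw [← map_mul, ← map_pow, h.xa, map_one, mul_eq_one_iff_inv_eq] at this
      rw [← this]
      refine inv_mem (mul_mem (mul_mem (mul_mem ?_ ?_) ?_) ?_) <;> exact subset_closure (by simp [S])
    rw [xs_mod A X hA5 i]
    have := Nat.mod_lt i (show 5 > 0 by norm_num)
    interval_cases i % 5 <;> first | exact h4 | exact subset_closure (by simp [S])
  have hAN : zpowers A ≤ normalizer (N : Set (K ⧸ Z)) := by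
    refine zpowers_le.2 ?_
    have hle : ∀ n : ℕ, N ≤ N.comap (MulAut.conj (A ^ n)).toMonoidHom := fun n => by
      refine (closure_le _).2 fun u hu => ?_
      simp only [S, Finset.coe_insert, Finset.coe_singleton, Set.mem_insert_iff, Set.mem_singleton_iff] at hu
      rcases hu with rfl | rfl | rfl | rfl <;>
      · show A ^ n * _ * (A ^ n)⁻¹ ∈ N
        rw [hshift]; exact hxN _
    refine mem_normalizer_iff.2 fun u => ⟨fun hu => by simpa using hle 1 hu, fun hu => ?_⟩
    have h5 : (A ^ 4)⁻¹ = A := by rw [inv_eq_iff_mul_eq_one, ← pow_succ]; exact hA5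
    have h5' : A ^ 4 = A⁻¹ := by rw [← h5, inv_inv, h5]
    have h' : A ^ 4 * (A * u * A⁻¹) * (A ^ 4)⁻¹ ∈ N := hle 4 hu
    rw [h5, h5'] at h'
    simpa [mul_assoc] using h'
  have htop : (⊤ : Subgroup (K ⧸ Z)) ≤ N ⊔ zpowers A := by
    rw [← map_top_of_surjective π (QuotientGroup.mk'_surjective Z), ← hgen, MonoidHom.map_closure, closure_le]
    rintro _ ⟨g, (rfl | rfl), rfl⟩
    · exact mem_sup_right (mem_zpowers A)
    · exact mem_sup_left (by simpa [xs] using hxN 0)
  have hQ : Nat.card (K ⧸ Z) ≤ 16 * 5 := by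
    rw [← card_top, ← top_le_iff.1 htop]
    refine (Nat.le_of_dvd (Nat.mul_pos Nat.card_pos Nat.card_pos) (Components.card_sup_dvd_mul hAN)).trans
      (Nat.mul_le_mul hN16 ?_)
    rw [Nat.card_zpowers]
    exact orderOf_le_of_pow_eq_one (by norm_num) hA5
  rw [card_eq_card_quotient_mul_card_subgroup Z]
  exact (Nat.mul_le_mul hQ hZ4).trans (by norm_num)

/-- The uniqueness: `G` presented by the relations maps isomorphically. -/
theorem nonempty_equiv {G H : Type*} [Group G] [Finite G] [Group H] [Finite H] {a x : G} {a' x' : H}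
    (hG : Rel a x) (hH : Rel a' x') (hcard : Nat.card G = 320) (hgen : closure {a, x} = ⊤)
    (hmeet : ∀ N : Subgroup G, N.Normal → N ≠ ⊥ →
      x * x ∈ N ∨ ⁅x, a * x * a⁻¹⁆ ∈ N ∨ x * x * ⁅x, a * x * a⁻¹⁆ ∈ N)
    (hs : x' * x' ≠ 1) (hc : ⁅x', a' * x' * a'⁻¹⁆ ≠ 1) (hsc : x' * x' ≠ ⁅x', a' * x' * a'⁻¹⁆)
    (hle : Nat.card H ≤ 320) : Nonempty (G ≃* H) := by
  set L : Subgroup (G × H) := closure {(a, a'), (x, x')}
  let A : L := ⟨(a, a'), subset_closure (Or.inl rfl)⟩
  let X : L := ⟨(x, x'), subset_closure (Or.inr rfl)⟩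
  have hp : ∀ w w' : L, (w : G × H).1 = (w' : G × H).1 → (w : G × H).2 = (w' : G × H).2 → w = w' :=
    fun w w' h1 h2 => Subtype.ext (Prod.ext h1 h2)
  let π₁ : L →* G := (MonoidHom.fst G H).comp L.subtype
  let π₂ : L →* H := (MonoidHom.snd G H).comp L.subtype
  have hrel : Rel A X := by
    refine ⟨hp _ _ ?_ ?_, hp _ _ ?_ ?_, hp _ _ ?_ ?_, hp _ _ ?_ ?_, hp _ _ ?_ ?_, hp _ _ ?_ ?_, hp _ _ ?_ ?_,
      hp _ _ ?_ ?_⟩
    · exact hG.a5
    · exact hH.a5
    · exact hG.xa
    · exact hH.xa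
    · exact hG.s_sq
    · exact hH.s_sq
    · exact hG.c_sq
    · exact hH.c_sq
    · exact hG.s_a
    · exact hH.s_a
    · exact hG.c_a
    · exact hH.c_a
    · exact hG.c_x
    · exact hH.c_x
    · exact hG.c2
    · exact hH.c2
  have hgenL : closure ({A, X} : Set L) = ⊤ := by
    refine top_le_iff.1 (closure_closure_coe_preimage.ge.trans (closure_mono ?_))
    rintro ⟨w, hw⟩ hmem
    rcases hmem with h | h
    · exact Or.inl (Subtype.ext h)
    · exact Or.inr (Subtype.ext h)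
  have hsurj : Function.Surjective π₁ := by
    rw [← MonoidHom.range_eq_top, eq_top_iff, ← hgen, closure_le]
    rintro g (rfl | rfl)
    · exact ⟨A, rfl⟩
    · exact ⟨X, rfl⟩
  have hinj : Function.Injective π₁ := by
    haveI := Fintype.ofFinite L
    haveI := Fintype.ofFinite G
    refine ((Fintype.bijective_iff_surjective_and_card π₁).2 ⟨hsurj, le_antisymm ?_ ?_⟩).1
    · rw [← Nat.card_eq_fintype_card, ← Nat.card_eq_fintype_card, hcard]
      exact card_le hrel hgenL
    · exact Fintype.card_le_of_surjective _ hsurj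
  let φ : G →* H := π₂.comp (MulEquiv.ofBijective π₁ ⟨hinj, hsurj⟩).symm.toMonoidHom
  have hφ : ∀ w : L, φ (π₁ w) = π₂ w := fun w =>
    congrArg π₂ ((MulEquiv.ofBijective π₁ ⟨hinj, hsurj⟩).symm_apply_apply w)
  have ha : φ a = a' := hφ A
  have hx : φ x = x' := hφ X
  have hker : φ.ker = ⊥ := by
    by_contra hne
    have e1 : φ ⁅x, a * x * a⁻¹⁆ = ⁅x', a' * x' * a'⁻¹⁆ := by
      rw [map_commutatorElement, map_mul, map_mul, map_inv, ha, hx]
    rcases hmeet φ.ker inferInstance hne with h | h | h <;> rw [MonoidHom.mem_ker] at h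
    · rw [map_mul, hx] at h; exact hs h
    · rw [e1] at h; exact hc h
    · rw [map_mul, map_mul, hx, e1] at h
      refine hsc ?_
      rw [eq_inv_of_mul_eq_one_left h, inv_eq_of_mul_eq_one_right hH.c_sq]
  have hφi : Function.Injective φ := (MonoidHom.ker_eq_bot_iff φ).1 hker
  haveI := Fintype.ofFinite G
  haveI := Fintype.ofFinite H
  refine ⟨MulEquiv.ofBijective φ ((Fintype.bijective_iff_injective_and_card φ).2
    ⟨hφi, le_antisymm (Fintype.card_le_of_injective _ hφi) ?_⟩)⟩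
  rw [← Nat.card_eq_fintype_card, ← Nat.card_eq_fintype_card, hcard]
  exact hle

/-- A group acted on by an element of order 5 with no nontrivial fixed point has order `1 mod 5`. -/
theorem modEq_fixed {α : Type*} [Finite α] (σ : Equiv.Perm α) (hσ : σ ^ 5 = 1) :
    Nat.card α ≡ Nat.card {y // σ y = y} [MOD 5] := by
  haveI : Fact (Nat.Prime 5) := ⟨by norm_num⟩
  have hP : IsPGroup 5 (zpowers σ) := fun ⟨_, i, rfl⟩ => ⟨1, Subtype.ext (by
    show (σ ^ i) ^ (5 ^ 1) = 1
    rw [pow_one, ← zpow_natCast, ← zpow_mul, mul_comm, zpow_mul, zpow_natCast, hσ, one_zpow])⟩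
  refine (hP.card_modEq_card_fixedPoints α).trans (congrArg (· % 5) (Nat.card_congr (Equiv.subtypeEquivRight ?_)))
  intro y
  refine ⟨fun h => h ⟨σ, mem_zpowers σ⟩, fun h g => ?_⟩
  obtain ⟨_, i, rfl⟩ := g
  exact MulAction.mem_stabilizer_iff.1 (zpow_mem (show σ ∈ MulAction.stabilizer (Equiv.Perm α) y from h) i)

theorem two_pow_mod_five {n : ℕ} (hn : n ∣ 64) (h1 : n ≠ 1) (h : n ≡ 1 [MOD 5]) : n = 16 := by
  obtain ⟨k, hk, rfl⟩ := (Nat.dvd_prime_pow Nat.prime_two).1 (show n ∣ 2 ^ 6 from hn)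
  interval_cases k <;> simp_all [Nat.ModEq]

/-- The data in a group of order 320. -/
theorem exists_data {G : Type*} [Group G] [Finite G] (hG : Nat.card G = 320)
    (hD : Nat.card (commutator G) = 64) (hZ : IsKleinFour (center (commutator G))) :
    ∃ a x : G, Rel a x ∧ closure {a, x} = ⊤ ∧ ∀ N : Subgroup G, N.Normal → N ≠ ⊥ →
      x * x ∈ N ∨ ⁅x, a * x * a⁻¹⁆ ∈ N ∨ x * x * ⁅x, a * x * a⁻¹⁆ ∈ N := by
  classical
  haveI : Fact (Nat.Prime 2) := ⟨Nat.prime_two⟩
  haveI : Fact (Nat.Prime 5) := ⟨by norm_num⟩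
  set D := commutator G with hDdef
  haveI hDn : D.Normal := inferInstance
  have hDp : IsPGroup 2 D := IsPGroup.of_card (n := 6) hD
  obtain ⟨a, ha⟩ := exists_prime_orderOf_dvd_card' (G := G) 5 (by rw [hG]; norm_num)
  have ha5 : a ^ 5 = 1 := by rw [← ha]; exact pow_orderOf_eq_one a
  have hDa : D ⊔ zpowers a = ⊤ := by
    refine eq_top_of_card_eq _ (Nat.dvd_antisymm (card_subgroup_dvd_card _) ?_)
    have h1 : 64 ∣ Nat.card ↥(D ⊔ zpowers a) := hD ▸ card_dvd_of_le le_sup_left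
    have h2 : 5 ∣ Nat.card ↥(D ⊔ zpowers a) := by
      rw [← ha, ← Nat.card_zpowers]; exact card_dvd_of_le le_sup_right
    rw [hG]
    exact Nat.Coprime.mul_dvd_of_dvd_of_dvd (by norm_num : Nat.Coprime 64 5) h1 h2
  -- the subgroup generated by the squares
  set P := closure {g : G | ∃ d ∈ D, d * d = g}
  have hPD : P ≤ D := (closure_le _).2 fun g ⟨d, hd, h⟩ => h ▸ mul_mem hd hd
  haveI hPn : P.Normal := by
    have : normalClosure {g : G | ∃ d ∈ D, d * d = g} = P := by
      refine le_antisymm ?_ closure_le_normalClosure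
      refine closure_mono ?_
      intro g hg
      obtain ⟨b, ⟨d, hd, rfl⟩, hb⟩ := Group.mem_conjugatesOfSet_iff.1 hg
      obtain ⟨u, rfl⟩ := isConj_iff.1 hb
      exact ⟨u * d * u⁻¹, hDn.conj_mem d hd u, by group⟩
    rw [← this]; exact normalClosure_normal
  have hsq : ∀ d ∈ D, d * d ∈ P := fun d hd => subset_closure ⟨d, hd, rfl⟩
  have hcomP : ∀ u ∈ D, ∀ v ∈ D, ⁅u, v⁆ ∈ P := by
    intro u hu v hv
    rw [show ⁅u, v⁆ = (u * v) * (u * v) * (v⁻¹ * (u⁻¹ * u⁻¹) * v⁻¹⁻¹) * (v⁻¹ * v⁻¹) by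
      rw [commutatorElement_def]; group]
    exact mul_mem (mul_mem (hsq _ (mul_mem hu hv)) (hPn.conj_mem _ (hsq _ (inv_mem hu)) _))
      (hsq _ (inv_mem hv))
  have hPne : ¬ D ≤ P := by
    obtain ⟨M, hM⟩ := Sylow.exists_subgroup_card_pow_prime (G := D) 2 (n := 5) (by rw [hD]; norm_num)
    have hMi : M.index = 2 := by
      have := M.card_mul_index
      rw [hM, hD] at this
      omega
    have hle : P ≤ M.map D.subtype := (closure_le _).2 fun g ⟨d, hd, h⟩ =>
      h ▸ ⟨⟨d, hd⟩ * ⟨d, hd⟩, by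
        have := Subgroup.sq_mem_of_index_two hMi ⟨d, hd⟩
        rwa [pow_two] at this, rfl⟩
    intro h
    have := card_le_of_le (h.trans hle)
    rw [card_map_of_injective D.subtype_injective, hM, hD] at this
    norm_num at this
  -- the action on `D / P`
  set π := QuotientGroup.mk' P
  set V := D.map π
  have hVc : ∀ u ∈ V, ∀ v ∈ V, u * v = v * u := by
    rintro _ ⟨u, hu, rfl⟩ _ ⟨v, hv, rfl⟩
    rw [← commutatorElement_eq_one_iff_mul_comm, ← map_commutatorElement]
    exact (QuotientGroup.eq_one_iff _).2 (hcomP u hu v hv)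
  haveI hVn : V.Normal := hDn.map π (QuotientGroup.mk'_surjective P)
  set A := π a
  have hA5 : A ^ 5 = 1 := by rw [← map_pow, ha5, map_one]
  have hconjV : ∀ v ∈ V, A * v * A⁻¹ ∈ V := fun v hv => hVn.conj_mem v hv A
  let I : Subgroup (G ⧸ P) :=
    { carrier := {w | ∃ v ∈ V, ⁅A, v⁆ = w}
      one_mem' := ⟨1, one_mem V, commutatorElement_one_right A⟩
      mul_mem' := by
        rintro _ _ ⟨u, hu, rfl⟩ ⟨v, hv, rfl⟩
        refine ⟨u * v, mul_mem hu hv, ?_⟩
        rw [commutatorElement_def, commutatorElement_def, commutatorElement_def]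
        have e := hVc _ (inv_mem hu) _ (mul_mem (hconjV v hv) (inv_mem hv))
        calc A * (u * v) * A⁻¹ * (u * v)⁻¹ = A * u * A⁻¹ * ((A * v * A⁻¹ * v⁻¹) * u⁻¹) := by group
          _ = A * u * A⁻¹ * (u⁻¹ * (A * v * A⁻¹ * v⁻¹)) := by rw [e]
          _ = A * u * A⁻¹ * u⁻¹ * (A * v * A⁻¹ * v⁻¹) := by group
      inv_mem' := by
        rintro _ ⟨u, hu, rfl⟩
        refine ⟨u⁻¹, inv_mem hu, ?_⟩
        rw [commutatorElement_def, commutatorElement_def]
        have e := hVc _ (inv_mem (hconjV u hu)) _ hu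
        calc A * u⁻¹ * A⁻¹ * u⁻¹⁻¹ = (A * u * A⁻¹)⁻¹ * u := by group
          _ = u * (A * u * A⁻¹)⁻¹ := e
          _ = (A * u * A⁻¹ * u⁻¹)⁻¹ := by group }
  have hIV : I ≤ V := fun w ⟨v, hv, hw⟩ => hw ▸ mul_mem (hconjV v hv) (inv_mem hv)
  have hgenQ : V ⊔ zpowers A = ⊤ := by
    rw [← MonoidHom.map_zpowers, ← Subgroup.map_sup, hDa, map_top_of_surjective π (QuotientGroup.mk'_surjective P)]
  haveI hIn : I.Normal := by
    rw [← normalizer_eq_top_iff, eq_top_iff, ← hgenQ]
    refine sup_le ?_ (zpowers_le.2 ?_)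
    · refine le_trans ?_ (centralizer_le_normalizer _)
      exact fun v hv => mem_centralizer_iff.2 fun w hw => hVc w (hIV hw) v hv
    · refine mem_normalizer_iff.2 fun w => ⟨?_, ?_⟩
      · rintro ⟨v, hv, rfl⟩
        exact ⟨A * v * A⁻¹, hconjV v hv, by simp only [commutatorElement_def]; group⟩
      · rintro ⟨v, hv, hw⟩
        refine ⟨A⁻¹ * v * A⁻¹⁻¹, hVn.conj_mem v hv A⁻¹, ?_⟩
        rw [commutatorElement_def] at hw ⊢
        calc A * (A⁻¹ * v * A⁻¹⁻¹) * A⁻¹ * (A⁻¹ * v * A⁻¹⁻¹)⁻¹ = A⁻¹ * (A * v * A⁻¹ * v⁻¹) * A := by group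
          _ = w := by rw [hw]; group
  have hVI : V ≤ I := by
    have hc : commutator (G ⧸ P) ≤ I := by
      rw [_root_.commutator_def, ← hgenQ]
      set ρ := QuotientGroup.mk' I
      rw [← QuotientGroup.ker_mk' I, ← Subgroup.map_eq_bot_iff, map_commutator, commutator_eq_bot_iff_le_centralizer,
        Subgroup.map_sup, MonoidHom.map_zpowers]
      have hVA : ∀ v ∈ V, ρ A * ρ v = ρ v * ρ A := fun v hv => by
        rw [← commutatorElement_eq_one_iff_mul_comm, ← map_commutatorElement]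
        exact (QuotientGroup.eq_one_iff _).2 ⟨v, hv, rfl⟩
      have hVV : ∀ v ∈ V, ∀ w ∈ V, ρ v * ρ w = ρ w * ρ v := fun v hv w hw => by
        rw [← map_mul, ← map_mul, hVc v hv w hw]
      have hsub : V.map ρ ⊔ zpowers (ρ A) ≤ centralizer ((V.map ρ : Subgroup _) : Set _) := by
        refine sup_le ?_ (zpowers_le.2 ?_)
        · rintro _ ⟨v, hv, rfl⟩
          exact mem_centralizer_iff.2 (by rintro _ ⟨w, hw, rfl⟩; exact hVV w hw v hv)
        · exact mem_centralizer_iff.2 (by rintro _ ⟨w, hw, rfl⟩; exact (hVA w hw).symm)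
      have hsub' : V.map ρ ⊔ zpowers (ρ A) ≤ centralizer {ρ A} := by
        refine sup_le ?_ (zpowers_le.2 (mem_centralizer_singleton_iff.2 rfl))
        rintro _ ⟨v, hv, rfl⟩
        exact mem_centralizer_singleton_iff.2 (hVA v hv).symm
      rw [le_centralizer_iff]
      refine sup_le (le_centralizer_iff.1 hsub) (zpowers_le.2 (mem_centralizer_iff.2 fun g hg => ?_))
      exact mem_centralizer_singleton_iff.1 (hsub' hg)
    calc V = (commutator G).map π := rfl
      _ ≤ commutator (G ⧸ P) := by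
        rw [_root_.commutator_def, _root_.commutator_def, map_commutator]
        exact commutator_mono le_top le_top
      _ ≤ I := hc
  let θ : V → V := fun v => ⟨⁅A, (v : G ⧸ P)⁆, hIV ⟨v, v.2, rfl⟩⟩
  have hθs : Function.Surjective θ := fun w => by
    obtain ⟨v, hv, hvw⟩ := hVI w.2
    exact ⟨⟨v, hv⟩, Subtype.ext hvw⟩
  have hθ : Function.Injective θ := Finite.injective_iff_surjective.2 hθs
  have hfix : ∀ d ∈ D, ⁅a, d⁆ ∈ P → d ∈ P := by
    intro d hd h
    have e : θ ⟨π d, mem_map_of_mem _ hd⟩ = θ ⟨1, one_mem V⟩ := Subtype.ext (by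
      show ⁅A, π d⁆ = ⁅A, (1 : G ⧸ P)⁆
      rw [commutatorElement_one_right, ← map_commutatorElement]
      exact (QuotientGroup.eq_one_iff _).2 h)
    exact (QuotientGroup.eq_one_iff _).1 (congrArg Subtype.val (hθ e))
  have hVne : V ≠ ⊥ := fun h => hPne fun d hd => (QuotientGroup.eq_one_iff _).1 (mem_bot.1 (h ▸ mem_map_of_mem π hd))
  have hinvariant : ∀ W : Subgroup (G ⧸ P), W ≤ V → W ≠ ⊥ → (∀ w ∈ W, A * w * A⁻¹ ∈ W) → Nat.card W = 16 := by
    intro W hWV hW hA
    let f : W → W := fun w => ⟨A * w * A⁻¹, hA w w.2⟩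
    have hf : Function.Injective f := fun u v h => Subtype.ext (by
      simpa [f] using congrArg Subtype.val h)
    let σ : Equiv.Perm W := Equiv.ofBijective f (Finite.injective_iff_bijective.1 hf)
    have hσn : ∀ n : ℕ, ∀ w, (((σ ^ n) w : W) : G ⧸ P) = A ^ n * w * (A ^ n)⁻¹ := by
      intro n
      induction n with
      | zero => intro w; simp
      | succ n ih =>
        intro w
        rw [pow_succ', Equiv.Perm.mul_apply]
        show A * (((σ ^ n) w : W) : G ⧸ P) * A⁻¹ = _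
        rw [ih, pow_succ']; group
    have h := modEq_fixed σ (Equiv.ext fun w => Subtype.ext (by rw [hσn, hA5]; simp))
    have hone : Nat.card {w // σ w = w} = 1 := by
      refine Nat.card_eq_one_iff_unique.2 ⟨⟨fun u v => ?_⟩, ⟨⟨1, Subtype.ext (by
        show A * (1 : G ⧸ P) * A⁻¹ = 1
        rw [mul_one, mul_inv_cancel])⟩⟩⟩
      have hone : ∀ u : {w // σ w = w}, ((u : W) : G ⧸ P) = 1 := fun u => by
        have e : θ ⟨_, hWV (u : W).2⟩ = θ ⟨1, one_mem V⟩ := Subtype.ext (by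
          show ⁅A, ((u : W) : G ⧸ P)⁆ = ⁅A, (1 : G ⧸ P)⁆
          rw [commutatorElement_one_right, commutatorElement_def, mul_inv_eq_one]
          exact congrArg Subtype.val u.2)
        exact congrArg Subtype.val (hθ e)
      exact Subtype.ext (Subtype.ext ((hone u).trans (hone v).symm))
    rw [hone] at h
    refine two_pow_mod_five ?_ (fun e => hW (card_eq_one.1 e)) h
    refine (card_dvd_of_le hWV).trans ?_
    rw [← hD]
    exact card_map_dvd D π
  have hV16 : Nat.card V = 16 := hinvariant V le_rfl hVne hconjV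
  have hP4 : Nat.card P = 4 := by
    have h : Nat.card (π.comp D.subtype).ker * (π.comp D.subtype).ker.index = Nat.card D := card_mul_index _
    rw [index_ker, MonoidHom.range_comp, range_subtype, hV16, ← MonoidHom.comap_ker, hD,
      QuotientGroup.ker_mk', comap_subtype, Nat.card_congr (subgroupOfEquivOfLe hPD).toEquiv] at h
    omega
  -- `a` centralizes `P`
  have haP : ∀ z ∈ P, a * z = z * a := by
    let f : P → P := fun z => ⟨a * z * a⁻¹, hPn.conj_mem z z.2 a⟩
    have hf : Function.Injective f := fun u v h => Subtype.ext (by simpa [f] using congrArg Subtype.val h)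
    let σ : Equiv.Perm P := Equiv.ofBijective f (Finite.injective_iff_bijective.1 hf)
    have hσn : ∀ n : ℕ, ∀ w, (((σ ^ n) w : P) : G) = a ^ n * w * (a ^ n)⁻¹ := by
      intro n
      induction n with
      | zero => intro w; simp
      | succ n ih =>
        intro w
        rw [pow_succ', Equiv.Perm.mul_apply]
        show a * (((σ ^ n) w : P) : G) * a⁻¹ = _
        rw [ih, pow_succ']; group
    have h := modEq_fixed σ (Equiv.ext fun w => Subtype.ext (by rw [hσn, ha5]; simp))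
    have hle : Nat.card {w // σ w = w} ≤ Nat.card P := Finite.card_subtype_le _
    rw [hP4] at h hle
    have h4 : Nat.card {w // σ w = w} = 4 := by
      unfold Nat.ModEq at h
      omega
    intro z hz
    have hall : ∀ w, σ w = w := by
      intro w
      by_contra hw
      have := Finite.card_subtype_lt (p := fun w => σ w = w) hw
      omega
    exact mul_inv_eq_iff_eq_mul.1 (congrArg Subtype.val (hall ⟨z, hz⟩))
  have hPab : ∀ u ∈ P, ∀ v ∈ P, u * v = v * u := fun u hu v hv =>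
    congrArg Subtype.val (IsPGroup.commutative_of_card_eq_prime_sq (p := 2) (G := P) (by rw [hP4]; norm_num)
      ⟨u, hu⟩ ⟨v, hv⟩)
  have hPc : ∀ z ∈ P, ∀ d ∈ D, d * z = z * d := by
    intro z hz
    suffices h : D ≤ centralizer {z} from fun d hd => mem_centralizer_singleton_iff.1 (h hd)
    intro d hd
    obtain ⟨v, ⟨e, he, hev⟩, hvd⟩ := hVI (mem_map_of_mem π hd)
    subst hev
    have hcz : e⁻¹ * (a * e * a⁻¹) ∈ centralizer {z} := by
      rw [mem_centralizer_singleton_iff]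
      have hze : e * z * e⁻¹ ∈ P := hPn.conj_mem z hz e
      have h1 : a * e * a⁻¹ * z * (a * e * a⁻¹)⁻¹ = e * z * e⁻¹ := by
        have h2 : a⁻¹ * z * a = z := by rw [mul_assoc, ← haP z hz, inv_mul_cancel_left]
        calc a * e * a⁻¹ * z * (a * e * a⁻¹)⁻¹ = a * (e * (a⁻¹ * z * a) * e⁻¹) * a⁻¹ := by group
          _ = e * z * e⁻¹ := by rw [h2, haP _ hze, mul_inv_cancel_right]
      calc e⁻¹ * (a * e * a⁻¹) * z = e⁻¹ * (a * e * a⁻¹ * z * (a * e * a⁻¹)⁻¹) * (a * e * a⁻¹) := by group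
        _ = z * (e⁻¹ * (a * e * a⁻¹)) := by rw [h1]; group
    have hq : π (e⁻¹ * (a * e * a⁻¹)) = π d := by
      rw [← hvd, commutatorElement_def, map_mul, map_inv, map_mul, map_mul, map_inv]
      exact hVc _ (inv_mem (mem_map_of_mem π he)) _ (hconjV _ (mem_map_of_mem π he))
    have hk : (e⁻¹ * (a * e * a⁻¹))⁻¹ * d ∈ P := by
      rw [← QuotientGroup.eq_one_iff]
      show π _ = 1
      rw [map_mul, map_inv, hq, inv_mul_cancel]
    rw [show d = e⁻¹ * (a * e * a⁻¹) * ((e⁻¹ * (a * e * a⁻¹))⁻¹ * d) by group]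
    exact mul_mem hcz (mem_centralizer_singleton_iff.2 (hPab _ hk z hz))
  have hPcenter : (center D).map D.subtype = P := by
    refine (eq_of_le_of_card_ge ?_ ?_).symm
    · exact fun z hz => ⟨⟨z, hPD hz⟩, mem_center_iff.2 fun d => Subtype.ext (hPc z hz d d.2), rfl⟩
    · rw [card_map_of_injective D.subtype_injective, hZ.card_four, hP4]
  have hP2 : ∀ z ∈ P, z * z = 1 := by
    intro z hz
    obtain ⟨w, hw, rfl⟩ := hPcenter.ge hz
    exact congrArg Subtype.val (congrArg Subtype.val (IsKleinFour.mul_self (⟨w, hw⟩ : center D)) :)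
  -- the generator
  obtain ⟨x₀, hx₀, hx₀P⟩ := SetLike.not_le_iff_exists.1 hPne
  set z₀ := (x₀ * a) ^ 5 with hz₀
  have hxsD : ∀ i, xs a x₀ i ∈ D := fun i => hDn.conj_mem _ hx₀ _
  have hz₀D : z₀ ∈ D := by
    rw [hz₀, ← xs_prod a x₀ ha5]
    exact mul_mem (mul_mem (mul_mem (mul_mem (hxsD _) (hxsD _)) (hxsD _)) (hxsD _)) (hxsD _)
  have hz₀P : z₀ ∈ P := by
    refine hfix z₀ hz₀D ?_
    have e : (x₀ * a) * z₀ = z₀ * (x₀ * a) := by rw [hz₀, ← pow_succ', pow_succ]
    have e' : ⁅a, z₀⁆ = ⁅x₀⁻¹, z₀⁆ := by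
      rw [commutatorElement_def, commutatorElement_def]
      calc a * z₀ * a⁻¹ * z₀⁻¹ = x₀⁻¹ * ((x₀ * a) * z₀) * a⁻¹ * z₀⁻¹ := by group
        _ = x₀⁻¹ * (z₀ * (x₀ * a)) * a⁻¹ * z₀⁻¹ := by rw [e]
        _ = x₀⁻¹ * z₀ * x₀⁻¹⁻¹ * z₀⁻¹ := by group
    rw [e']
    exact hcomP _ (inv_mem hx₀) _ hz₀D
  set x := x₀ * z₀ with hxdef
  have hxD : x ∈ D := mul_mem hx₀ hz₀D
  have hxP : x ∉ P := fun h => hx₀P ((mul_mem_cancel_right hz₀P).1 h)
  have hxa : (x * a) ^ 5 = 1 := by
    have hcz : Commute (x₀ * a) z₀ := by rw [hz₀]; exact (Commute.refl _).pow_right _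
    rw [hxdef, show x₀ * z₀ * a = x₀ * a * z₀ by rw [mul_assoc, ← haP z₀ hz₀P, ← mul_assoc], hcz.mul_pow,
      ← hz₀, show z₀ ^ 5 = z₀ from by
        rw [show z₀ ^ 5 = z₀ * z₀ * (z₀ * z₀) * z₀ by simp only [pow_succ, pow_zero, one_mul, mul_assoc],
          hP2 z₀ hz₀P, one_mul, one_mul], hP2 z₀ hz₀P]
  have hxs : ∀ i, xs a x i ∈ D := fun i => hDn.conj_mem _ hxD _
  set s := x * x with hsdef
  set c := ⁅x, a * x * a⁻¹⁆ with hcdef
  have hsP : s ∈ P := hsq x hxD
  have hcP : c ∈ P := hcomP _ hxD _ (hDn.conj_mem _ hxD a)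
  have hcc2 : ⁅x, a ^ 2 * x * (a ^ 2)⁻¹⁆ ∈ P := hcomP _ hxD _ (hDn.conj_mem _ hxD _)
  -- bilinearity
  have hbl : ∀ u ∈ D, ∀ v ∈ D, ∀ w ∈ D, ⁅u * v, w⁆ = ⁅u, w⁆ * ⁅v, w⁆ := by
    intro u hu v hv w hw
    have h := hPc _ (hcomP v hv w hw) u hu
    calc ⁅u * v, w⁆ = u * ⁅v, w⁆ * (w * u⁻¹ * w⁻¹) := by simp only [commutatorElement_def]; group
      _ = ⁅v, w⁆ * u * (w * u⁻¹ * w⁻¹) := by rw [h]
      _ = ⁅v, w⁆ * ⁅u, w⁆ := by simp only [commutatorElement_def]; group
      _ = ⁅u, w⁆ * ⁅v, w⁆ := hPab _ (hcomP v hv w hw) _ (hcomP u hu w hw)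
  have hsym : ∀ u ∈ D, ∀ v ∈ D, ⁅u, v⁆ = ⁅v, u⁆ := fun u hu v hv => by
    rw [← commutatorElement_inv v u]
    exact inv_eq_of_mul_eq_one_right (hP2 _ (hcomP v hv u hu))
  have hf : ∀ u ∈ D, ∀ v ∈ D, u * v * (u * v) = u * u * (v * v) * ⁅u, v⁆ := by
    intro u hu v hv
    rw [hsym u hu v hv]
    have h := hPc _ (hcomP v hv u hu)
    calc u * v * (u * v) = u * (⁅v, u⁆ * u) * (v * v) := by simp only [commutatorElement_def]; group
      _ = u * (u * ⁅v, u⁆) * (v * v) := by rw [h u hu]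
      _ = u * u * (⁅v, u⁆ * (v * v)) := by simp only [mul_assoc]
      _ = u * u * ((v * v) * ⁅v, u⁆) := by rw [hPab _ (hcomP v hv u hu) _ (hsq v hv)]
      _ = u * u * (v * v) * ⁅v, u⁆ := by simp only [mul_assoc]
  have hshift : ∀ i j k, ⁅xs a x (k + i), xs a x (k + j)⁆ = a ^ k * ⁅xs a x i, xs a x j⁆ * (a ^ k)⁻¹ := by
    intro i j k
    simp only [xs, commutatorElement_def, pow_add, mul_inv_rev]
    group
  have hfixk : ∀ k, ∀ z ∈ P, a ^ k * z * (a ^ k)⁻¹ = z := fun k z hz => by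
    rw [((show Commute a z from haP z hz).pow_left k).eq, mul_inv_cancel_right]
  have hb : ∀ i j k, ⁅xs a x (k + i), xs a x (k + j)⁆ = ⁅xs a x i, xs a x j⁆ := fun i j k => by
    rw [hshift, hfixk k _ (hcomP _ (hxs i) _ (hxs j))]
  have hx0 : xs a x 0 = x := by simp [xs]
  have hx1 : xs a x 1 = a * x * a⁻¹ := by simp [xs]
  have hxxs : ∀ i, xs a x i * xs a x i = s := fun i => by
    rw [xs, show a ^ i * x * (a ^ i)⁻¹ * (a ^ i * x * (a ^ i)⁻¹) = a ^ i * (x * x) * (a ^ i)⁻¹ by group]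
    exact hfixk i _ hsP
  have hc2 : ⁅x, a ^ 2 * x * (a ^ 2)⁻¹⁆ = s * c := by
    set e := ⁅x, a ^ 2 * x * (a ^ 2)⁻¹⁆ with hedef
    have b01 : ⁅xs a x 0, xs a x 1⁆ = c := by rw [hx0, hx1]
    have b12 : ⁅xs a x 1, xs a x 2⁆ = c := by rw [← b01]; exact hb 0 1 1
    have b23 : ⁅xs a x 2, xs a x 3⁆ = c := by rw [← b01]; exact hb 0 1 2
    have b02 : ⁅xs a x 0, xs a x 2⁆ = e := by rw [hx0]; rfl
    have b13 : ⁅xs a x 1, xs a x 3⁆ = e := by rw [← b02]; exact hb 0 2 1
    have b03 : ⁅xs a x 0, xs a x 3⁆ = e := by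
      rw [← b02, hsym _ (hxs 0) _ (hxs 3), ← hb 0 2 3, xs_mod a x ha5 5]
    have m1 : xs a x 0 * xs a x 1 ∈ D := mul_mem (hxs _) (hxs _)
    have m2 : xs a x 0 * xs a x 1 * xs a x 2 ∈ D := mul_mem m1 (hxs _)
    have hP3 := xs_prod a x ha5
    rw [hxa, mul_eq_one_iff_inv_eq] at hP3
    have h4 := hxxs 4
    rw [← hP3, ← mul_inv_rev, hf _ m2 _ (hxs 3), hf _ m1 _ (hxs 2), hf _ (hxs 0) _ (hxs 1),
      hbl _ m1 _ (hxs 2) _ (hxs 3), hbl _ (hxs 0) _ (hxs 1) _ (hxs 3), hbl _ (hxs 0) _ (hxs 1) _ (hxs 2),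
      hxxs 0, hxxs 1, hxxs 2, hxxs 3, b01, b12, b02, b03, b13, b23] at h4
    letI : CommGroup P := { (inferInstance : Group P) with
      mul_comm := fun u v => Subtype.ext (hPab _ u.2 _ v.2) }
    have key : ∀ S C E : P, S * S = 1 → C * C = 1 → E * E = 1 →
        (S * S * C * S * (E * C) * S * (E * E * C))⁻¹ = S → E = S * C := by
      intro S C E hS hC hE h
      have e1 : S * S * C * S * (E * C) * S * (E * E * C) = S * S * (S * S) * (C * C) * (E * E) * (C * E) := by
        simp only [mul_assoc, mul_left_comm, mul_comm]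
      rw [e1, hS, hC, hE, one_mul, one_mul, one_mul, one_mul, mul_inv, inv_eq_of_mul_eq_one_right hE,
        inv_eq_of_mul_eq_one_right hC] at h
      rw [← h, mul_comm C E, mul_assoc, hC, mul_one]
    exact congrArg Subtype.val (key ⟨s, hsP⟩ ⟨c, hcP⟩ ⟨e, hcc2⟩ (Subtype.ext (hP2 s hsP)) (Subtype.ext (hP2 c hcP))
      (Subtype.ext (hP2 e hcc2)) (Subtype.ext h4))
  have hRel : Rel a x :=
    ⟨ha5, hxa, hP2 s hsP, hP2 c hcP, haP s hsP, haP c hcP, hPc c hcP x hxD, hc2⟩
  set W := closure (Set.range (xs a x))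
  have hWD : W ≤ D := (closure_le _).2 (by rintro _ ⟨i, rfl⟩; exact hxs i)
  have hWP : D ≤ W ⊔ P := by
    have hW16 : Nat.card (W.map π) = 16 := by
      refine hinvariant _ (map_mono hWD) ?_ ?_
      · intro h
        exact hxP ((QuotientGroup.eq_one_iff _).1 (mem_bot.1 (h ▸ mem_map_of_mem π (subset_closure ⟨0, hx0⟩))))
      · rintro _ ⟨w, hw, rfl⟩
        refine ⟨a * w * a⁻¹, ?_, by simp [A]⟩
        have : W ≤ W.comap (MulAut.conj a).toMonoidHom := (closure_le _).2 (by
          rintro _ ⟨i, rfl⟩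
          refine subset_closure ⟨i + 1, ?_⟩
          simp only [xs, pow_succ', mul_inv_rev, MulEquiv.coe_toMonoidHom, MulAut.conj_apply]
          group)
        exact this hw
    have heq : W.map π = V := eq_of_le_of_card_ge (map_mono hWD) (by rw [hW16, hV16])
    intro d hd
    obtain ⟨w, hw, hwd⟩ := heq.ge (mem_map_of_mem π hd)
    rw [show d = w * (w⁻¹ * d) by group]
    refine mul_mem_sup hw ?_
    rw [← QuotientGroup.eq_one_iff]
    show π _ = 1
    rw [map_mul, map_inv, hwd, inv_mul_cancel]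
  set Z0 := closure ({s, c} : Set G)
  have hZ0P : Z0 ≤ P := (closure_le _).2 (by rintro _ (rfl | rfl); exacts [hsP, hcP])
  have hsZ : s ∈ Z0 := subset_closure (Or.inl rfl)
  have hcZ : c ∈ Z0 := subset_closure (Or.inr rfl)
  have hbZ : ∀ i j, ⁅xs a x i, xs a x j⁆ ∈ Z0 := by
    have h0 : ∀ d < 5, ⁅xs a x 0, xs a x d⁆ ∈ Z0 := by
      intro d hd
      interval_cases d
      · rw [commutatorElement_self]; exact one_mem _
      · rw [hx0, hx1]; exact hcZ
      · rw [hx0]; show ⁅x, a ^ 2 * x * (a ^ 2)⁻¹⁆ ∈ Z0; rw [hc2]; exact mul_mem hsZ hcZ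
      · rw [hsym _ (hxs 0) _ (hxs 3), ← hb 3 0 2, xs_mod a x ha5 5, hx0]
        show ⁅x, a ^ 2 * x * (a ^ 2)⁻¹⁆ ∈ Z0
        rw [hc2]; exact mul_mem hsZ hcZ
      · rw [hsym _ (hxs 0) _ (hxs 4), ← hb 4 0 1, xs_mod a x ha5 5, hx0, hx1]
        exact hcZ
    intro i j
    have := hb 0 ((j + 4 * i) % 5) i
    rw [Nat.add_zero, xs_mod a x ha5 (i + _), show (i + (j + 4 * i) % 5) % 5 = j % 5 by omega,
      ← xs_mod a x ha5 j] at this
    rw [this]
    exact h0 _ (Nat.mod_lt _ (by norm_num))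
  have hWW : ∀ u ∈ W, ∀ v ∈ W, ⁅u, v⁆ ∈ Z0 := by
    intro u hu
    induction hu using closure_induction with
    | mem u hu =>
      obtain ⟨i, rfl⟩ := hu
      intro v hv
      induction hv using closure_induction with
      | mem v hv => obtain ⟨j, rfl⟩ := hv; exact hbZ i j
      | one => rw [commutatorElement_one_right]; exact one_mem _
      | mul v v' hv hv' ih ih' =>
        rw [hsym _ (hxs i) _ (mul_mem (hWD hv) (hWD hv')), hbl _ (hWD hv) _ (hWD hv') _ (hxs i),
          hsym _ (hWD hv) _ (hxs i), hsym _ (hWD hv') _ (hxs i)]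
        exact mul_mem ih ih'
      | inv v hv ih =>
        have h := hbl _ (inv_mem (hWD hv)) _ (hWD hv) _ (hxs i)
        rw [inv_mul_cancel, commutatorElement_one_left, eq_comm, ← inv_eq_iff_mul_eq_one] at h
        rw [hsym _ (hxs i) _ (inv_mem (hWD hv)), ← inv_mem_iff, h, hsym _ (hWD hv) _ (hxs i)]
        exact ih
    | one => intro v _; rw [commutatorElement_one_left]; exact one_mem _
    | mul u u' hu hu' ih ih' =>
      intro v hv
      rw [hbl _ (hWD hu) _ (hWD hu') _ (hWD hv)]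
      exact mul_mem (ih v hv) (ih' v hv)
    | inv u hu ih =>
      intro v hv
      have h := hbl _ (inv_mem (hWD hu)) _ (hWD hu) _ (hWD hv)
      rw [inv_mul_cancel, commutatorElement_one_left, eq_comm, ← inv_eq_iff_mul_eq_one] at h
      rw [← inv_mem_iff, h]
      exact ih v hv
  have hWsq : ∀ u ∈ W, u * u ∈ Z0 := by
    intro u hu
    induction hu using closure_induction with
    | mem u hu => obtain ⟨i, rfl⟩ := hu; rw [hxxs]; exact hsZ
    | one => rw [one_mul]; exact one_mem _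
    | mul u v hu hv ih ih' =>
      rw [hf _ (hWD hu) _ (hWD hv)]
      exact mul_mem (mul_mem ih ih') (hWW u hu v hv)
    | inv u hu ih => rw [← mul_inv_rev]; exact inv_mem ih
  have hZ0 : Z0 = P := by
    refine le_antisymm hZ0P ((closure_le _).2 ?_)
    rintro _ ⟨d, hd, rfl⟩
    have hdm : d ∈ (↑(W ⊔ P) : Set G) := hWP hd
    rw [mul_normal] at hdm
    obtain ⟨w, hw, z, hz, rfl⟩ := hdm
    show w * z * (w * z) ∈ Z0
    rw [show w * z * (w * z) = w * (z * w) * z by simp only [mul_assoc], ← hPc z hz w (hWD hw),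
      show w * (w * z) * z = w * w * (z * z) by simp only [mul_assoc], hP2 z hz, mul_one]
    exact hWsq w hw
  refine ⟨a, x, hRel, ?_, ?_⟩
  · rw [eq_top_iff, ← hDa]
    refine sup_le ?_ (zpowers_le.2 (Subgroup.subset_closure (Or.inl rfl)))
    refine hWP.trans (sup_le ?_ ?_)
    · refine (closure_le _).2 ?_
      rintro _ ⟨i, rfl⟩
      have ha' : a ∈ closure ({a, x} : Set G) := Subgroup.subset_closure (Or.inl rfl)
      have hx' : x ∈ closure ({a, x} : Set G) := Subgroup.subset_closure (Or.inr rfl)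
      exact mul_mem (mul_mem (pow_mem ha' _) hx') (inv_mem (pow_mem ha' _))
    · rw [← hZ0, closure_le]
      have ha' : a ∈ closure ({a, x} : Set G) := Subgroup.subset_closure (Or.inl rfl)
      have hx' : x ∈ closure ({a, x} : Set G) := Subgroup.subset_closure (Or.inr rfl)
      rintro _ (rfl | rfl)
      · exact mul_mem hx' hx'
      · simp only [hcdef, commutatorElement_def]
        exact mul_mem (mul_mem (mul_mem hx' (mul_mem (mul_mem ha' hx') (inv_mem ha'))) (inv_mem hx'))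
          (inv_mem (mul_mem (mul_mem ha' hx') (inv_mem ha')))
  · intro N hN hNne
    haveI := hN
    have hND : N ⊓ D ≠ ⊥ := by
      intro hb0
      have hdisj : Disjoint N D := disjoint_iff.2 hb0
      obtain ⟨n, hn, hn1⟩ : ∃ n ∈ N, n ≠ 1 := by
        by_contra h
        exact hNne ((eq_bot_iff_forall N).2 fun n hn => by_contra fun h1 => h ⟨n, hn, h1⟩)
      have hnd : n ∈ (↑(D ⊔ zpowers a) : Set G) := by rw [hDa]; trivial
      rw [normal_mul] at hnd
      obtain ⟨d, hd, _, ⟨i, rfl⟩, hni⟩ := hnd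
      have hpi : π n = π d * A ^ i := by rw [← hni, map_mul, map_zpow]
      have hcomV : ∀ v ∈ V, A ^ i * v = v * A ^ i := by
        rintro _ ⟨u, hu, rfl⟩
        have h2 : n * u = u * n := commute_of_normal_of_disjoint N D hN hDn hdisj n u hn hu
        have h3 : π d * A ^ i * π u = π u * (π d * A ^ i) := by rw [← hpi, ← map_mul, ← map_mul, h2]
        rw [mul_assoc, ← mul_assoc (π u), hVc _ (mem_map_of_mem π hu) _ (mem_map_of_mem π hd), mul_assoc] at h3
        exact mul_left_cancel h3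
      by_cases h5 : (5 : ℤ) ∣ i
      · obtain ⟨m, hm⟩ := h5
        have hai : a ^ i = 1 := by rw [hm, zpow_mul, show a ^ (5 : ℤ) = 1 from ha5 ▸ zpow_natCast a 5, one_zpow]
        simp only [hai, mul_one] at hni
        exact hn1 (mem_bot.1 (hb0 ▸ ⟨hn, hni ▸ hd⟩))
      · -- `A` centralizes `V`
        obtain ⟨v, hv, hv1⟩ : ∃ v ∈ V, v ≠ 1 := by
          by_contra h
          exact hVne ((eq_bot_iff_forall V).2 fun v hv => by_contra fun h1 => h ⟨v, hv, h1⟩)
        have hAi : A ∈ zpowers (A ^ i) := by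
          have hcop : IsCoprime (5 : ℤ) i := (Int.prime_iff_natAbs_prime.2 (by norm_num)).coprime_iff_not_dvd.2 h5
          obtain ⟨u, w, huw⟩ := hcop
          refine ⟨w, ?_⟩
          show (A ^ i) ^ w = A
          rw [← zpow_mul, show i * w = 1 + 5 * (-u) by linarith, zpow_add, zpow_one, zpow_mul,
            show A ^ (5 : ℤ) = 1 from hA5 ▸ zpow_natCast A 5, one_zpow, mul_one]
        obtain ⟨m, hm⟩ := hAi
        have hcv : A * v = v * A := by
          rw [← hm]
          exact ((show Commute (A ^ i) v from hcomV v hv).zpow_left m).eq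
        have e : θ ⟨v, hv⟩ = θ ⟨1, one_mem V⟩ := Subtype.ext (by
          show ⁅A, v⁆ = ⁅A, (1 : G ⧸ P)⁆
          rw [commutatorElement_one_right, commutatorElement_eq_one_iff_mul_comm.2 hcv])
        exact hv1 (congrArg Subtype.val (hθ e))
    have hN2 : (N.subgroupOf D).Normal := inferInstance
    have hNb : N.subgroupOf D ≠ ⊥ := by
      rw [Ne, subgroupOf_eq_bot]
      exact fun h => hND h.eq_bot
    have hinf := CfsgLib.PGroups.inf_center_ne_bot hDp hNb
    obtain ⟨w, hw, hw1⟩ : ∃ w ∈ N.subgroupOf D ⊓ center D, w ≠ 1 := by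
      by_contra h
      exact hinf ((eq_bot_iff_forall _).2 fun w hw => by_contra fun h1 => h ⟨w, hw, h1⟩)
    have hwP : (w : G) ∈ Z0 := hZ0 ▸ hPcenter.le ⟨w, hw.2, rfl⟩
    have hall : Z0 ≤ closure ({s, c} : Set G) := le_rfl
    have hset : ∀ u ∈ Z0, u = 1 ∨ u = s ∨ u = c ∨ u = s * c := by
      intro u hu
      have h1 := hP2 s hsP
      have h2 := hP2 c hcP
      have h3 : c * s = s * c := hPab c hcP s hsP
      have h4 : c * (s * c) = s := by rw [← mul_assoc, h3, mul_assoc, h2, mul_one]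
      have h5 : s * (s * c) = c := by rw [← mul_assoc, h1, one_mul]
      induction hu using closure_induction with
      | mem u hu => rcases hu with rfl | rfl <;> simp
      | one => exact .inl rfl
      | mul u v _ _ ih ih' =>
        rcases ih with rfl | rfl | rfl | rfl <;> rcases ih' with rfl | rfl | rfl | rfl <;>
          simp [h1, h2, h3, h4, h5, mul_assoc]
      | inv u hu ih =>
        rw [inv_eq_of_mul_eq_one_right (hP2 u (hZ0P hu))]
        exact ih
    rcases hset _ hwP with h | h | h | h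
    · exact absurd (Subtype.ext h) hw1
    · refine .inl ?_
      rw [hsdef] at h
      rw [← h]; exact hw.1
    · refine .inr (.inl ?_)
      rw [hcdef] at h
      rw [← h]; exact hw.1
    · refine .inr (.inr ?_)
      rw [hsdef, hcdef] at h
      rw [← h]; exact hw.1

end CfsgLib.Techniques.Order320
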