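import Cfsg.Agent.Lib.Techniques.LeadingConjugate
import Mathlib.GroupTheory.Sylow
import Mathlib.GroupTheory.Nilpotent

/-!
A quadratic subgroup can be replaced, for `p ≥ 5`, by one normal in its normal closure.
-/

set_option autoImplicit false

namespace CfsgLib.Techniques.QuadraticNormal

open Subgroup LeadingConjugate

variable {G : Type*} [Group G] [Finite G] {R : Type*} [Ring R]

/-- `(ρ a - 1) (ρ b - 1) = 0` on `A`. -/
def IsQuad (ρ : G →* R) (A : Subgroup G) : Prop :=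
  ∀ a ∈ A, ∀ b ∈ A, (ρ a - 1) * (ρ b - 1) = 0

/-- The set `{ρ a - 1}` of a quadratic subgroup. -/
def logs {ρ : G →* R} {A : Subgroup G} (hA : IsQuad ρ A) : AddSubgroup R where
  carrier := {x | ∃ a ∈ A, ρ a - 1 = x}
  zero_mem' := ⟨1, A.one_mem, by simp⟩
  add_mem' := by
    rintro _ _ ⟨a, ha, rfl⟩ ⟨b, hb, rfl⟩
    refine ⟨a * b, A.mul_mem ha hb, ?_⟩
    have h := hA a ha b hb
    rw [map_mul]
    calc ρ a * ρ b - 1 = (ρ a - 1) * (ρ b - 1) + ((ρ a - 1) + (ρ b - 1)) := by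
          rw [sub_mul, mul_sub, mul_one, one_mul]; abel
      _ = _ := by rw [h, zero_add]
  neg_mem' := by
    rintro _ ⟨a, ha, rfl⟩
    refine ⟨a⁻¹, A.inv_mem ha, ?_⟩
    have h := hA a⁻¹ (A.inv_mem ha) a ha
    rw [sub_mul, mul_sub, mul_one, one_mul, ← map_mul, inv_mul_cancel, map_one] at h
    rw [eq_neg_iff_add_eq_zero, ← neg_eq_zero, ← h]
    abel

theorem mem_logs {ρ : G →* R} {A : Subgroup G} {hA : IsQuad ρ A} {x : R} :
    x ∈ logs hA ↔ ∃ a ∈ A, ρ a - 1 = x := Iff.rfl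

theorem logs_mul {ρ : G →* R} {A : Subgroup G} (hA : IsQuad ρ A) {x y : R} (hx : x ∈ logs hA)
    (hy : y ∈ logs hA) : x * y = 0 := by
  obtain ⟨a, ha, rfl⟩ := hx
  obtain ⟨b, hb, rfl⟩ := hy
  exact hA a ha b hb

theorem card_logs {ρ : G →* R} (hρ : Function.Injective ρ) {A : Subgroup G} (hA : IsQuad ρ A) :
    Nat.card (logs hA) = Nat.card A := by
  refine (Nat.card_congr (Equiv.ofBijective (fun a : A => (⟨ρ a - 1, a, a.2, rfl⟩ : logs hA))
    ⟨fun a b h => Subtype.ext (hρ (sub_left_injective (congrArg Subtype.val h))), ?_⟩)).symm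
  rintro ⟨_, a, ha, rfl⟩
  exact ⟨⟨a, ha⟩, rfl⟩

/-- Right annihilator. -/
def ann (ρ : G →* R) (A : Subgroup G) : AddSubgroup R where
  carrier := {r | ∀ a ∈ A, (ρ a - 1) * r = 0}
  zero_mem' := fun _ _ => mul_zero _
  add_mem' := fun {r s} hr hs a ha => by rw [mul_add, hr a ha, hs a ha, add_zero]
  neg_mem' := fun {r} hr a ha => by rw [mul_neg, hr a ha, neg_zero]

theorem mem_normalizer_of_conj {A : Subgroup G} {g : G} (h : ∀ a ∈ A, g * a * g⁻¹ ∈ A) :
    g ∈ normalizer (A : Set G) := by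
  have hmap : A.map (MulAut.conj g).toMonoidHom = A := by
    refine eq_of_le_of_card_ge (by rintro _ ⟨a, ha, rfl⟩; exact h a ha) ?_
    rw [card_map_of_injective (MulEquiv.injective _)]
  refine mem_normalizer_iff.mpr fun x => ⟨h x, fun hx => ?_⟩
  obtain ⟨a, ha, hax⟩ := hmap.ge hx
  exact (MulEquiv.injective (MulAut.conj g) (hax : MulAut.conj g a = MulAut.conj g x)) ▸ ha

/-- A set of generators of a subgroup of a nilpotent group leaves any smaller subgroup it generates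
by an element of the normalizer. -/
theorem exists_gen_normalizer {p : ℕ} [Fact p.Prime] (hG : IsPGroup p G) {M T : Subgroup G} {𝒮 : Set G}
    (hM : closure 𝒮 = M) (hconj : ∀ g ∈ M, ∀ s ∈ 𝒮, g * s * g⁻¹ ∈ 𝒮) {S : Set G} (hS : S ⊆ 𝒮)
    (hT : closure S = T) (hne : T ≠ M) : ∃ c ∈ 𝒮, c ∈ normalizer (T : Set G) ∧ c ∉ T := by
  by_contra hcon
  push Not at hcon
  haveI := (hG.to_subgroup M).isNilpotent
  have grow : ∀ X : Subgroup G, X < M → ∃ n ∈ M, n ∈ normalizer (X : Set G) ∧ n ∉ X := by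
    intro X hX
    have hlt := Group.normalizerCondition_of_isNilpotent (G := M) (X.subgroupOf M)
      (lt_top_iff_ne_top.2 fun h => hX.not_ge (subgroupOf_eq_top.mp h))
    obtain ⟨n, hn, hnX⟩ := SetLike.exists_of_lt hlt
    refine ⟨n, n.2, mem_normalizer_of_conj fun a ha => ?_, hnX⟩
    exact (mem_normalizer_iff.mp hn ⟨a, hX.le ha⟩).mp ha
  have hTM : T ≤ M := hT ▸ (closure_mono hS).trans hM.le
  set T' := M ⊓ normalizer (T : Set G) with hT'
  have hT'lt : T' < M := by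
    refine lt_of_le_of_ne inf_le_left fun h => hne (le_antisymm hTM ?_)
    rw [← hM, closure_le]
    exact fun s hs => hcon s hs ((h ▸ inf_le_right : M ≤ normalizer (T : Set G)) (hM ▸ subset_closure hs))
  obtain ⟨n, hnM, hnN, hnT'⟩ := grow T' hT'lt
  refine hnT' ⟨hnM, mem_normalizer_of_conj ?_⟩
  have : T ≤ T.comap (MulAut.conj n).toMonoidHom := by
    nth_rw 1 [← hT]
    rw [closure_le]
    intro s hs
    refine hcon _ (hconj n hnM s (hS hs)) ?_
    exact ((mem_normalizer_iff.mp hnN s).mp ⟨hTM (hT ▸ subset_closure hs), le_normalizer (hT ▸ subset_closure hs)⟩).2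
  exact fun a ha => this ha

section Step

variable {p : ℕ} [hp : Fact p.Prime] {ρ : G →* R}

theorem half_smul (hpR : (p : R) = 0) (hp2 : p ≠ 2) (z : R) : ((p + 1) / 2) • (2 • z) = z := by
  rw [← mul_smul]
  have h : (p + 1) / 2 * 2 = p + 1 := by
    obtain ⟨k, hk⟩ := hp.out.eq_two_or_odd'.resolve_left hp2
    omega
  rw [h, add_smul, one_smul, nsmul_eq_mul, hpR, zero_mul, zero_add]

theorem mem_of_two_smul (hpR : (p : R) = 0) (hp2 : p ≠ 2) {A : AddSubgroup R} {z : R} (h : 2 • z ∈ A) :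
    z ∈ A := half_smul hpR hp2 z ▸ A.nsmul_mem h _

theorem commutator_mem_logs (hpR : (p : R) = 0) (hp2 : p ≠ 2) {P Q : Subgroup G} (hP : IsQuad ρ P)
    (hQ : IsQuad ρ Q) (hPQ : P ≤ normalizer (Q : Set G)) {x v : R} (hx : x ∈ logs hP) (hv : v ∈ logs hQ) :
    x * v - v * x ∈ logs hQ := by
  have key : ∀ x ∈ logs hP, v + (x * v - v * x) - x * v * x ∈ logs hQ := by
    rintro x hx
    obtain ⟨a, ha, hax⟩ := hx
    obtain ⟨b, hb, hbv⟩ := hv
    obtain ⟨a', ha', ha'x⟩ := (logs hP).neg_mem (⟨a, ha, hax⟩ : x ∈ logs hP)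
    refine ⟨a * b * a⁻¹, (mem_normalizer_iff.mp (hPQ ha) b).mp hb, ?_⟩
    have e1 : ρ a = 1 + x := by rw [← hax]; abel
    have e2 : ρ b = 1 + v := by rw [← hbv]; abel
    have e3 : ρ a⁻¹ = 1 - x := by
      have hxx : x * x = 0 := logs_mul hP ⟨a, ha, hax⟩ ⟨a, ha, hax⟩
      have h1 : ρ a⁻¹ * ρ a = 1 := by rw [← map_mul, inv_mul_cancel, map_one]
      refine left_inv_eq_right_inv h1 ?_
      rw [e1, mul_sub, mul_one, add_mul, one_mul, hxx, add_zero, add_sub_cancel_right]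
    have hxx : x * x = 0 := logs_mul hP ⟨a, ha, hax⟩ ⟨a, ha, hax⟩
    rw [map_mul, map_mul, e1, e2, e3]
    simp only [mul_add, add_mul, mul_sub, one_mul, mul_one, hxx]
    abel
  have h1 := key x hx
  have h2 := key (-x) ((logs hP).neg_mem hx)
  refine mem_of_two_smul hpR hp2 ?_
  have h3 := (logs hQ).sub_mem h1 h2
  convert h3 using 1
  simp only [neg_mul, mul_neg, two_smul]
  abel

variable (hρ : Function.Injective ρ) (hpR : (p : R) = 0) (hp5 : 5 ≤ p)
include hρ hpR hp5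

/-- The replacement step. -/
theorem step [Finite R] {A : Subgroup G} (hA : IsQuad ρ A) {S : Set G} (hAS : (A : Set G) ⊆ S)
    (hS : closure S ≤ normalizer (A : Set G)) {c : G} (hc : (ρ c - 1) * (ρ c - 1) = 0)
    (hcT : c ∈ normalizer ((closure S : Subgroup G) : Set G)) {M : Subgroup G} [M.Normal] (hAM : A ≤ M) :
    ∃ B : Subgroup G, B ≤ M ∧ IsQuad ρ B ∧ Nat.card A ≤ Nat.card B ∧
      Nat.card (ann ρ A) ≤ Nat.card (ann ρ B) ∧ c ∈ normalizer (B : Set G) ∧
      ∀ h ∈ S, h ∈ normalizer (B : Set G) := by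
  have hp2 : p ≠ 2 := by omega
  set y := ρ c - 1 with hy
  set T := closure S
  have hcpow : ∀ i : ℕ, ρ (c ^ i) = 1 + i • y := by
    intro i
    induction i with
    | zero => simp
    | succ i ih =>
      rw [pow_succ, map_mul, ih, show ρ c = 1 + y by rw [hy]; abel, add_mul, one_mul, mul_add, mul_one,
        smul_mul_assoc, hc, smul_zero, add_zero, succ_nsmul]
      abel
  have hprod : ∀ i j : ℕ, (1 - i • y) * (1 + j • y) = 1 + (j • y - i • y) := fun i j => by
    rw [sub_mul, one_mul, mul_add, mul_one, smul_mul_assoc i y, mul_smul_comm j y, hc, smul_zero, smul_zero,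
      add_zero]
    abel
  have hcinv : ∀ i : ℕ, ρ (c ^ i)⁻¹ = 1 - i • y := by
    intro i
    have h1 : ρ (c ^ i) * ρ (c ^ i)⁻¹ = 1 := by rw [← map_mul, mul_inv_cancel, map_one]
    refine (left_inv_eq_right_inv ?_ h1).symm
    rw [hcpow, hprod, sub_self, add_zero]
  -- the conjugates
  let Aj : ℕ → Subgroup G := fun j => A.map (MulAut.conj (c ^ j)).toMonoidHom
  have hAj : ∀ j, IsQuad ρ (Aj j) := by
    rintro j _ ⟨a, ha, rfl⟩ _ ⟨b, hb, rfl⟩
    have e : ∀ a, ρ (c ^ j * a * (c ^ j)⁻¹) - 1 = ρ (c ^ j) * (ρ a - 1) * ρ (c ^ j)⁻¹ := fun a => by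
      rw [mul_sub, sub_mul, mul_one, ← map_mul, ← map_mul, ← map_mul, mul_inv_cancel, map_one]
    show (ρ (c ^ j * a * (c ^ j)⁻¹) - 1) * (ρ (c ^ j * b * (c ^ j)⁻¹) - 1) = 0
    rw [e, e, show ρ (c ^ j) * (ρ a - 1) * ρ (c ^ j)⁻¹ * (ρ (c ^ j) * (ρ b - 1) * ρ (c ^ j)⁻¹) =
      ρ (c ^ j) * (ρ a - 1) * (ρ (c ^ j)⁻¹ * ρ (c ^ j)) * (ρ b - 1) * ρ (c ^ j)⁻¹ by simp only [mul_assoc],
      ← map_mul, inv_mul_cancel, map_one, mul_one, mul_assoc (ρ (c ^ j)), hA a ha b hb, mul_zero, zero_mul]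
  have hlog : ∀ j, ∀ x ∈ logs (hAj j), ∃ x₀ ∈ logs hA, x = (1 + j • y) * x₀ * (1 - j • y) := by
    rintro j _ ⟨_, ⟨a, ha, rfl⟩, rfl⟩
    refine ⟨_, ⟨a, ha, rfl⟩, ?_⟩
    rw [← hcpow, ← hcinv, mul_sub, sub_mul, mul_one, ← map_mul, ← map_mul, ← map_mul, mul_inv_cancel, map_one]
    rfl
  have hlog' : ∀ j, ∀ x₀ ∈ logs hA, (1 + j • y) * x₀ * (1 - j • y) ∈ logs (hAj j) := by
    rintro j _ ⟨a, ha, rfl⟩
    refine ⟨_, ⟨a, ha, rfl⟩, ?_⟩
    rw [← hcpow, ← hcinv, mul_sub, sub_mul, mul_one, ← map_mul, ← map_mul, ← map_mul, mul_inv_cancel, map_one]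
    rfl
  have hA0 : Aj 0 = A := by
    ext g
    simp [Aj, Subgroup.mem_map]
  have hAT : A ≤ T := fun a ha => subset_closure (hAS ha)
  have hcjT : ∀ j : ℕ, c ^ j ∈ normalizer (T : Set G) := fun j => pow_mem hcT j
  have hAjT : ∀ j, Aj j ≤ T := by
    rintro j _ ⟨a, ha, rfl⟩
    exact (mem_normalizer_iff.mp (hcjT j) a).mp (hAT ha)
  have hTAj : ∀ j, T ≤ normalizer (Aj j : Set G) := by
    intro j t ht
    refine mem_normalizer_of_conj ?_
    rintro _ ⟨a, ha, rfl⟩
    have ht' : (c ^ j)⁻¹ * t * c ^ j ∈ T := by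
      simpa using (mem_normalizer_iff.mp (inv_mem (hcjT j)) t).mp ht
    refine ⟨_, (mem_normalizer_iff.mp (hS ht') a).mp ha, ?_⟩
    show c ^ j * _ * (c ^ j)⁻¹ = t * (c ^ j * a * (c ^ j)⁻¹) * t⁻¹
    group
  have hAjM : ∀ j, Aj j ≤ M := by
    rintro j _ ⟨a, ha, rfl⟩
    exact (inferInstance : M.Normal).conj_mem a (hAM ha) _
  have hbr : ∀ i j, ∀ x ∈ logs (hAj i), ∀ v ∈ logs (hAj j), x * v - v * x ∈ logs (hAj j) := fun i j x hx v hv =>
    commutator_mem_logs hpR hp2 (hAj i) (hAj j) ((hAjT i).trans (hTAj j)) hx hv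
  -- products of three
  have h5 : ∀ x ∈ logs hA, ∀ x' ∈ logs hA, ∀ x'' ∈ logs hA, x * y * x' * y * x'' = 0 := by
    intro x hx x' hx' x'' hx''
    have hxA : x ∈ logs (hAj 0) := by
      have := hlog' 0 x hx
      simpa using this
    have hx''A : x'' ∈ logs (hAj 0) := by
      have := hlog' 0 x'' hx''
      simpa using this
    have hv := hlog' 1 x' hx'
    rw [one_smul] at hv
    have h := hbr 1 0 _ hv x hxA
    have h0 : ((1 + y) * x' * (1 - y) * x - x * ((1 + y) * x' * (1 - y))) * x'' = 0 :=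
      logs_mul (hAj 0) h hx''A
    have h1 : x * x'' = 0 := logs_mul hA hx hx''
    have h2 : x' * x'' = 0 := logs_mul hA hx' hx''
    have h3 : x * x' = 0 := logs_mul hA hx hx'
    have h3' : ∀ r, x * (x' * r) = 0 := fun r => by rw [← mul_assoc, h3, zero_mul]
    simp only [sub_mul, mul_assoc, h1, mul_zero, zero_sub, add_mul, one_mul, mul_sub, mul_add, mul_one,
      h2, h3', sub_zero, zero_add, neg_neg] at h0
    simpa only [mul_assoc] using h0
  have htri : ∀ i j k, ∀ u ∈ logs (hAj i), ∀ v ∈ logs (hAj j), ∀ w ∈ logs (hAj k), u * v * w = 0 := by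
    intro i j k u hu v hv w hw
    obtain ⟨x, hx, rfl⟩ := hlog i u hu
    obtain ⟨x', hx', rfl⟩ := hlog j v hv
    obtain ⟨x'', hx'', rfl⟩ := hlog k w hw
    have h2 : x' * x'' = 0 := logs_mul hA hx' hx''
    have h3 : x * x' = 0 := logs_mul hA hx hx'
    have h5' : x * y * x' * y * x'' = 0 := h5 x hx x' hx' x'' hx''
    calc (1 + i • y) * x * (1 - i • y) * ((1 + j • y) * x' * (1 - j • y)) * ((1 + k • y) * x'' * (1 - k • y))
        = (1 + i • y) * (x * ((1 - i • y) * (1 + j • y)) * x' * ((1 - j • y) * (1 + k • y)) * x'') * (1 - k • y) := by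
          simp only [mul_assoc]
      _ = 0 := by
        rw [hprod, hprod]
        simp only [mul_add, mul_sub, mul_one, add_mul, sub_mul, mul_smul_comm, smul_mul_assoc, h3, zero_mul,
          zero_add]
        simp only [mul_assoc, h2, mul_zero, smul_zero, sub_self, zero_add]
        simp only [← mul_assoc, h5', smul_zero, sub_self, mul_zero, zero_mul, add_zero]
  set L := AddSubgroup.closure (⋃ j : ℕ, (logs (hAj j) : Set R))
  have hmemL : ∀ j, ∀ x ∈ logs (hAj j), x ∈ L := fun j x hx =>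
    AddSubgroup.subset_closure (Set.mem_iUnion.2 ⟨j, hx⟩)
  have htriL : ∀ u ∈ L, ∀ v ∈ L, ∀ w ∈ L, u * v * w = 0 := by
    intro u hu v hv w hw
    induction hu using AddSubgroup.closure_induction with
    | mem u hu =>
      obtain ⟨i, hu⟩ := Set.mem_iUnion.1 hu
      induction hv using AddSubgroup.closure_induction with
      | mem v hv =>
        obtain ⟨j, hv⟩ := Set.mem_iUnion.1 hv
        induction hw using AddSubgroup.closure_induction with
        | mem w hw =>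
          obtain ⟨k, hw⟩ := Set.mem_iUnion.1 hw
          exact htri i j k u hu v hv w hw
        | zero => exact mul_zero _
        | add a b _ _ ha hb => rw [mul_add, ha, hb, add_zero]
        | neg a _ ha => rw [mul_neg, ha, neg_zero]
      | zero => rw [mul_zero, zero_mul]
      | add a b _ _ ha hb => rw [mul_add, add_mul, ha, hb, add_zero]
      | neg a _ ha => rw [mul_neg, neg_mul, ha, neg_zero]
    | zero => rw [zero_mul, zero_mul]
    | add a b _ _ ha hb => rw [add_mul, add_mul, ha, hb, add_zero]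
    | neg a _ ha => rw [neg_mul, neg_mul, ha, neg_zero]
  have hbrL : ∀ z ∈ L, ∀ j, ∀ x ∈ logs (hAj j), z * x - x * z ∈ logs (hAj j) := by
    intro z hz j x hx
    induction hz using AddSubgroup.closure_induction with
    | mem z hz =>
      obtain ⟨i, hz⟩ := Set.mem_iUnion.1 hz
      exact hbr i j z hz x hx
    | zero => simp [zero_mem]
    | add a b _ _ ha hb =>
      rw [add_mul, mul_add, add_sub_add_comm]
      exact add_mem ha hb
    | neg a _ ha =>
      rw [neg_mul, mul_neg, ← neg_sub']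
      exact neg_mem ha
  -- exponentials of `L` lie in `M`
  set k := (p + 1) / 2
  have hk : ∀ z : R, k • z + k • z = z := fun z => by rw [← smul_add, ← two_smul ℕ z]; exact half_smul hpR hp2 z
  have hE : ∀ z ∈ L, ∃ g ∈ M, ρ g = 1 + z + k • (z * z) := by
    have hstep : ∀ j, ∀ x ∈ logs (hAj j), ∀ z ∈ L, (∃ g ∈ M, ρ g = 1 + z + k • (z * z)) →
        ∃ g ∈ M, ρ g = 1 + (x + z) + k • ((x + z) * (x + z)) := by
      rintro j x hx z hz ⟨g, hg, hgz⟩
      obtain ⟨a, ha, hax⟩ := hx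
      obtain ⟨b, hb, hbw⟩ := (logs (hAj j)).nsmul_mem (hbrL z hz j x ⟨a, ha, hax⟩) k
      refine ⟨a * g * b, mul_mem (mul_mem (hAjM j ha) hg) (hAjM j hb), ?_⟩
      have hxL := hmemL j x ⟨a, ha, hax⟩
      rw [map_mul, map_mul, show ρ a = 1 + x by rw [← hax]; abel, hgz,
        show ρ b = 1 + k • (z * x - x * z) by rw [← hbw]; abel]
      have t1 : x * (z * z) = 0 := by rw [← mul_assoc]; exact htriL x hxL z hz z hz
      have t2 : x * (z * x) = 0 := by rw [← mul_assoc]; exact htriL x hxL z hz x hxL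
      have t3 : z * (z * x) = 0 := by rw [← mul_assoc]; exact htriL z hz z hz x hxL
      have t4 : z * (x * z) = 0 := by rw [← mul_assoc]; exact htriL z hz x hxL z hz
      have t5 : x * x = 0 := logs_mul (hAj j) ⟨a, ha, hax⟩ ⟨a, ha, hax⟩
      have t5' : ∀ r, x * (x * r) = 0 := fun r => by rw [← mul_assoc, t5, zero_mul]
      simp only [mul_add, add_mul, mul_sub, sub_mul, one_mul, mul_one, mul_assoc, smul_add, smul_sub,
        mul_smul_comm, smul_mul_assoc, t1, t2, t3, t4, t5, t5', mul_zero, smul_zero, sub_zero, add_zero,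
        zero_add, sub_self]
      have h5' := hk (x * z)
      generalize k • (x * z) = b at h5'
      rw [← h5']
      abel
    intro z hz
    induction hz using AddSubgroup.closure_induction_left with
    | zero => exact ⟨1, one_mem M, by simp⟩
    | add_left x hx z hz ih =>
      obtain ⟨j, hx⟩ := Set.mem_iUnion.1 hx
      exact hstep j x hx z hz ih
    | neg_add_cancel x hx z hz ih =>
      obtain ⟨j, hx⟩ := Set.mem_iUnion.1 hx
      exact hstep j (-x) (neg_mem hx) z hz ih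
  have hLlim : limit y (logs hA) ≤ L := by
    refine limit_le hc ?_ ?_ ?_
    · intro x hx
      have := hmemL 0 _ (hlog' 0 x hx)
      simpa using this
    all_goals
      intro x hx
      have e0 := hmemL 0 _ (hlog' 0 x hx)
      have e1 := hmemL 1 _ (hlog' 1 x hx)
      have e2 := hmemL 2 _ (hlog' 2 x hx)
      refine mem_of_two_smul hpR hp2 ?_
    · have := add_mem (sub_mem (L.nsmul_mem e1 4) e2) (neg_mem (L.nsmul_mem e0 3))
      convert this using 1
      simp only [mul_add, add_mul, mul_sub, one_mul, mul_one, smul_mul_assoc, mul_smul_comm, zero_smul,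
        smul_add, smul_sub, sub_zero, add_zero, one_smul, mul_assoc, zero_mul, mul_zero]
      abel
    · have := sub_mem (sub_mem (L.nsmul_mem e1 2) e2) e0
      convert this using 1
      simp only [mul_add, add_mul, mul_sub, one_mul, mul_one, smul_mul_assoc, mul_smul_comm, zero_smul,
        smul_add, smul_sub, sub_zero, add_zero, one_smul, mul_assoc, zero_mul, mul_zero]
      abel
  -- the new subgroup
  have hlim2 : ∀ z ∈ limit y (logs hA), ∀ w ∈ limit y (logs hA), z * w = 0 := fun z hz w hw =>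
    limit_mul_limit hc (fun a ha b hb => logs_mul hA ha hb) hz hw
  let B : Subgroup G :=
    { carrier := {g | g ∈ M ∧ ρ g - 1 ∈ limit y (logs hA)}
      one_mem' := ⟨one_mem M, by simp [zero_mem]⟩
      mul_mem' := fun {a b} ha hb => ⟨mul_mem ha.1 hb.1, by
        have h := hlim2 _ ha.2 _ hb.2
        rw [map_mul, show ρ a * ρ b - 1 = (ρ a - 1) * (ρ b - 1) + ((ρ a - 1) + (ρ b - 1)) by
          rw [sub_mul, mul_sub, mul_one, one_mul]; abel, h, zero_add]
        exact add_mem ha.2 hb.2⟩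
      inv_mem' := fun {a} ha => ⟨inv_mem ha.1, by
        have h := hlim2 _ ha.2 _ ha.2
        have h1 : ρ a⁻¹ * ρ a = 1 := by rw [← map_mul, inv_mul_cancel, map_one]
        have h2 : ρ a * (1 - (ρ a - 1)) = 1 := by
          rw [show ρ a * (1 - (ρ a - 1)) = 1 - (ρ a - 1) * (ρ a - 1) by
            rw [mul_sub, mul_sub, mul_one, sub_mul, mul_sub, one_mul, mul_one]; abel, h, sub_zero]
        rw [left_inv_eq_right_inv h1 h2, show (1 : R) - (ρ a - 1) - 1 = -(ρ a - 1) by abel]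
        exact neg_mem ha.2⟩ }
  have hreal : ∀ z ∈ limit y (logs hA), ∃ g ∈ B, ρ g - 1 = z := by
    intro z hz
    obtain ⟨g, hg, hgz⟩ := hE z (hLlim hz)
    rw [hlim2 z hz z hz, smul_zero, add_zero] at hgz
    exact ⟨g, ⟨hg, by rw [hgz, add_sub_cancel_left]; exact hz⟩, by rw [hgz, add_sub_cancel_left]⟩
  have hBq : IsQuad ρ B := fun a ha b hb => hlim2 _ ha.2 _ hb.2
  refine ⟨B, fun g hg => hg.1, hBq, ?_, ?_, ?_, ?_⟩
  · rw [← card_logs hρ hA, ← card_logs hρ hBq]
    refine (card_le_limit hc (logs hA)).trans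
      (Nat.card_le_card_of_injective (fun z => ⟨z.1, ?_⟩) fun a b h => Subtype.ext (congrArg (fun t => t.1) h :))
    obtain ⟨g, hg, hgz⟩ := hreal z.1 z.2
    exact ⟨g, hg, hgz⟩
  · refine (card_le_limitLeft hc (ann ρ A)).trans
      (Nat.card_le_card_of_injective (fun z => ⟨z.1, fun b hb => ?_⟩) fun a b h => Subtype.ext (congrArg (fun t => t.1) h :))
    exact limit_mul_limitLeft hc (A := logs hA) (B := ann ρ A) (fun x ⟨a, ha, hax⟩ r hr => hax ▸ hr a ha) hb.2 z.2
  · refine mem_normalizer_of_conj fun b hb => ⟨(inferInstance : M.Normal).conj_mem b hb.1 c, ?_⟩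
    have h := conj_mem_limit hc hb.2
    have e1 : ρ c = 1 + y := by rw [hy]; abel
    have e2 : ρ c⁻¹ = 1 - y := by
      have := hcinv 1
      rwa [pow_one, one_smul] at this
    rw [← e1, ← e2] at h
    rw [mul_sub, sub_mul, mul_one, ← map_mul ρ c c⁻¹, mul_inv_cancel, map_one] at h
    rwa [map_mul, map_mul]
  · intro g hg
    refine mem_normalizer_of_conj fun b hb => ⟨(inferInstance : M.Normal).conj_mem b hb.1 g, ?_⟩
    have h : ρ g * (ρ b - 1) * ρ g⁻¹ ∈ limit y (logs hA) := by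
      refine conj_mem_limit_of_normalizes hc hp.out hp5 hpR (fun i x hx => ?_) hb.2
      obtain ⟨a, ha, rfl⟩ := hx
      have hg' : (c ^ i)⁻¹ * g * c ^ i ∈ T := by
        simpa using (mem_normalizer_iff.mp (inv_mem (hcjT i)) g).mp (subset_closure hg)
      refine ⟨_, (mem_normalizer_iff.mp (hS hg') a).mp ha, ?_⟩
      rw [show ((c ^ i)⁻¹ * g * c ^ i)⁻¹ = (c ^ i)⁻¹ * g⁻¹ * c ^ i by group]
      simp only [← hcinv, ← hcpow, ← map_mul, mul_sub, sub_mul, mul_one]
      rw [show (c ^ i)⁻¹ * g * c ^ i * ((c ^ i)⁻¹ * g⁻¹ * c ^ i) = 1 by group, map_one]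
    rw [mul_sub, sub_mul, mul_one, ← map_mul ρ g g⁻¹, mul_inv_cancel, map_one] at h
    rwa [map_mul, map_mul]

/-- The main theorem. -/
theorem exists_normal_in_closure [Finite R] (hG : IsPGroup p G) {A₀ : Subgroup G} (hA₀ : IsQuad ρ A₀) :
    ∃ A : Subgroup G, IsQuad ρ A ∧ Nat.card A₀ ≤ Nat.card A ∧ Nat.card (ann ρ A₀) ≤ Nat.card (ann ρ A) ∧
      normalClosure (A : Set G) ≤ normalizer (A : Set G) := by
  classical
  let Sd : Subgroup G → Set G := fun A =>
    {g | g ∈ normalClosure (A : Set G) ∧ (ρ g - 1) * (ρ g - 1) = 0 ∧ g ∈ normalizer (A : Set G)}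
  let Φ : Subgroup G → ℕ := fun A =>
    Nat.card (normalClosure (A : Set G)) * (Nat.card G + 1) + (Nat.card G - Nat.card (Sd A))
  obtain ⟨A, ⟨hA, hcA, haA⟩, hmin⟩ := Set.exists_min_image
    {A : Subgroup G | IsQuad ρ A ∧ Nat.card A₀ ≤ Nat.card A ∧ Nat.card (ann ρ A₀) ≤ Nat.card (ann ρ A)} Φ
    (Set.toFinite _) ⟨A₀, hA₀, le_rfl, le_rfl⟩
  refine ⟨A, hA, hcA, haA, ?_⟩
  by_contra hnot
  set M := normalClosure (A : Set G) with hMdef
  haveI : M.Normal := normalClosure_normal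
  set 𝒮 : Set G := {g | g ∈ M ∧ (ρ g - 1) * (ρ g - 1) = 0}
  have hconj : ∀ g s : G, s ∈ 𝒮 → g * s * g⁻¹ ∈ 𝒮 := by
    rintro g s ⟨hs, hq⟩
    refine ⟨(inferInstance : M.Normal).conj_mem s hs g, ?_⟩
    have e : ρ (g * s * g⁻¹) - 1 = ρ g * (ρ s - 1) * ρ g⁻¹ := by
      rw [mul_sub, sub_mul, mul_one, ← map_mul ρ g g⁻¹, mul_inv_cancel, map_one, map_mul, map_mul]
    rw [e, show ρ g * (ρ s - 1) * ρ g⁻¹ * (ρ g * (ρ s - 1) * ρ g⁻¹) =
      ρ g * (ρ s - 1) * (ρ g⁻¹ * ρ g) * (ρ s - 1) * ρ g⁻¹ by simp only [mul_assoc], ← map_mul ρ g⁻¹ g,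
      inv_mul_cancel, map_one, mul_one, mul_assoc (ρ g), hq, mul_zero, zero_mul]
  have hAM : A ≤ M := le_normalClosure
  have hgen : closure 𝒮 = M := by
    refine le_antisymm ((closure_le _).2 fun g hg => hg.1) ?_
    refine closure_mono fun g hg => ?_
    obtain ⟨a, ha, hag⟩ := Group.mem_conjugatesOfSet_iff.1 hg
    obtain ⟨h, rfl⟩ := isConj_iff.1 hag
    exact hconj h a ⟨hAM ha, hA a ha a ha⟩
  have hSsub : Sd A ⊆ 𝒮 := fun g hg => ⟨hg.1, hg.2.1⟩
  have hAS : (A : Set G) ⊆ Sd A := fun a ha => ⟨hAM ha, hA a ha a ha, le_normalizer ha⟩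
  have hSN : closure (Sd A) ≤ normalizer (A : Set G) := (closure_le _).2 fun g hg => hg.2.2
  obtain ⟨c, hc, hcN, hcT⟩ := exists_gen_normalizer hG hgen (fun g _ s hs => hconj g s hs) hSsub rfl
    (fun h => hnot (h ▸ hSN))
  have hcA' : c ∉ normalizer (A : Set G) := fun h => hcT (subset_closure ⟨hc.1, hc.2, h⟩)
  obtain ⟨B, hBM, hB, hcard, hann, hcB, hSB⟩ := step hρ hpR hp5 hA hAS hSN hc.2 hcN hAM
  have hle : normalClosure (B : Set G) ≤ M := normalClosure_le_normal hBM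
  have hΦ := hmin B ⟨hB, hcA.trans hcard, haA.trans hann⟩
  have hS1 : Nat.card (Sd A) ≤ Nat.card G := Finite.card_subtype_le _
  have hS2 : Nat.card (Sd B) ≤ Nat.card G := Finite.card_subtype_le _
  rcases lt_or_eq_of_le hle with hlt | heq
  · have hc1 : Nat.card (normalClosure (B : Set G)) < Nat.card M :=
      Set.Finite.card_lt_card (Set.toFinite _) (SetLike.coe_ssubset_coe.2 hlt)
    simp only [Φ, ← hMdef] at hΦ
    nlinarith [Nat.sub_le (Nat.card G) (Nat.card (Sd B))]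
  · have hsub : Sd A ⊂ Sd B := by
      refine ⟨fun g hg => ⟨heq ▸ hg.1, hg.2.1, hSB g hg⟩, fun h => ?_⟩
      exact hcA' (h (show c ∈ Sd B from ⟨heq ▸ hc.1, hc.2, hcB⟩)).2.2
    have := Set.Finite.card_lt_card (Set.toFinite _) hsub
    simp only [Φ, heq, ← hMdef] at hΦ
    omega

end Step

end CfsgLib.Techniques.QuadraticNormal
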