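import Cfsg.Prelude.Def_CaseTheorems
import Cfsg.Agent.Lib.Transfer.CoprimeAut
import Cfsg.Agent.Lib.PGroups.ClassTwo
import Cfsg.Agent.Lib.PLocal.PConstrained
import Cfsg.Agent.Lib.Core.Nilpotent

/-!
The `p`-chief factors of a `p`-solvable group of `p`-rank at most two, `p` odd.
-/

set_option autoImplicit false

namespace CfsgLib.Techniques

open Subgroup Cfsg
open scoped commutatorElement

/-- In a `p`-group, `p` odd, in which all elements of order `p` are central, the elements of order
dividing `p²` are central modulo those of order dividing `p`. -/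
theorem comm_pow_eq_one_of_central.{u} {p : ℕ} [Fact p.Prime] (hp2 : p ≠ 2) :
    ∀ (n : ℕ) (Q : Type u) [Group Q] [Finite Q], Nat.card Q ≤ n → IsPGroup p Q →
      (∀ x : Q, x ^ p = 1 → x ∈ center Q) →
      ∀ x y : Q, (x ^ p) ^ p = 1 → ⁅y, x⁆ ^ p = 1 := by
  intro n
  induction n with
  | zero => intro Q _ _ h; exact absurd h (by have := Nat.card_pos (α := Q); omega)
  | succ n ih =>
    intro Q _ _ hcard hQ hcen x y hx
    set x' := y * x * y⁻¹ with hx'
    by_cases htop : closure ({x, x'} : Set Q) = ⊤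
    · have hle : closure ({x, x'} : Set Q) ≤ zpowers x ⊔ frattini Q := by
        rw [closure_le]
        rintro z (rfl | rfl)
        · exact mem_sup_left (mem_zpowers z)
        · rw [show x' = ⁅y, x⁆ * x by rw [hx', commutatorElement_def]; group]
          exact mul_mem (mem_sup_right (CfsgLib.PGroups.commutator_le_frattini' hQ
            (show ⁅y, x⁆ ∈ _root_.commutator Q from commutator_mem_commutator (mem_top y) (mem_top x))))
            (mem_sup_left (mem_zpowers x))
      have h1 : zpowers x = ⊤ := frattini_nongenerating (top_le_iff.1 (htop ▸ hle))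
      obtain ⟨i, hi⟩ := mem_zpowers_iff.1 (show y ∈ zpowers x by rw [h1]; exact mem_top y)
      rw [← hi, commutatorElement_def]
      group
    · have hlt : Nat.card (closure ({x, x'} : Set Q)) ≤ n := by
        have hne : Nat.card (closure ({x, x'} : Set Q)) ≠ Nat.card Q :=
          fun h => htop (eq_top_of_card_eq _ h)
        have hle := Nat.card_le_card_of_injective _ (closure ({x, x'} : Set Q)).subtype_injective
        omega
      have h1 := ih (closure ({x, x'} : Set Q)) hlt (hQ.to_subgroup _)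
        (fun z hz => mem_center_iff.2 fun w =>
          Subtype.ext (mem_center_iff.1 (hcen z (congrArg Subtype.val hz)) w))
        ⟨x, subset_closure (Or.inl rfl)⟩ ⟨x', subset_closure (Or.inr rfl)⟩ (Subtype.ext hx)
      have hc : ⁅x', x⁆ ^ p = 1 := congrArg Subtype.val h1
      have hxc : x ^ p ∈ center Q := hcen _ hx
      have hxp : x' ^ p = x ^ p := by
        rw [hx', conj_pow, mem_center_iff.1 hxc y, mul_inv_cancel_right]
      rw [show ⁅y, x⁆ = x' * x⁻¹ by rw [hx', commutatorElement_def]]
      have hinv : ⁅x⁻¹, x'⁆ = ⁅x', x⁆ := by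
        have hcm := hcen _ hc
        have e : ⁅x⁻¹, x'⁆ = x⁻¹ * ⁅x', x⁆ * x := by
          simp only [commutatorElement_def]; group
        rw [e, mem_center_iff.1 hcm x⁻¹, inv_mul_cancel_right]
      rw [CfsgLib.PGroups.mul_pow_of_central_odd (hinv ▸ hcen _ hc)
        ((Fact.out : p.Prime).odd_of_ne_two hp2) (hinv ▸ hc), hxp, inv_pow, mul_inv_cancel]

section Factor

variable {G : Type*} [Group G] {H K : Subgroup G} [H.Normal] [K.Normal]

theorem chief_cases (hKH : K ≤ H)
    (hchief : ∀ L : Subgroup G, L.Normal → K ≤ L → L ≤ H → L = K ∨ L = H)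
    (N : Subgroup G) [N.Normal] : H ⊓ N ≤ K ∨ (H ⊓ N) ⊔ K = H := by
  rcases hchief ((H ⊓ N) ⊔ K) inferInstance le_sup_right (sup_le inf_le_left hKH) with h | h
  · exact Or.inl (sup_eq_right.1 h)
  · exact Or.inr h

theorem chief_step [Finite G] {M M' : Subgroup G} [M.Normal] (hM : H ⊓ M ≤ K)
    (hM' : (H ⊓ M') ⊔ K = H) : K.relIndex H ∣ M.relIndex M' := by
  have h1 : K.relIndex H = K.relIndex (H ⊓ M') := by
    conv_lhs => rw [← hM', relIndex_sup_right]
  have h2 : (H ⊓ M).relIndex (H ⊓ M') = M.relIndex (H ⊓ M') := by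
    rw [← inf_relIndex_right M (H ⊓ M'), ← inf_relIndex_right (H ⊓ M) (H ⊓ M')]
    congr 1
    refine le_antisymm (inf_le_inf_right _ inf_le_right) ?_
    exact le_inf (le_inf (inf_le_right.trans inf_le_left) inf_le_left) inf_le_right
  rw [h1]
  exact (relIndex_dvd_of_le_left _ hM).trans
    (h2 ▸ CfsgLib.PLocal.relIndex_dvd_of_normal_le _ inf_le_right)

theorem relIndex_map_of_inf_le (hKH : K ≤ H) {N : Subgroup G} [N.Normal] (hN : H ⊓ N ≤ K) :
    (K.map (QuotientGroup.mk' N)).relIndex (H.map (QuotientGroup.mk' N)) = K.relIndex H := by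
  rw [relIndex_map_map, QuotientGroup.ker_mk',
    show H ⊔ N = H ⊔ (K ⊔ N) by rw [← sup_assoc, sup_eq_left.2 hKH], relIndex_sup_right,
    ← inf_relIndex_right]
  congr 1
  refine le_antisymm ?_ (le_inf le_sup_left hKH)
  rintro z ⟨hz, hzH⟩
  obtain ⟨k, hk, m, hm, rfl⟩ := mem_sup_of_normal_right.1 hz
  have : m ∈ H := by
    have := mul_mem (inv_mem (hKH hk)) hzH
    rwa [inv_mul_cancel_left] at this
  exact mul_mem hk (hN ⟨this, hm⟩)

theorem chief_map (hKH : K ≤ H)
    (hchief : ∀ L : Subgroup G, L.Normal → K ≤ L → L ≤ H → L = K ∨ L = H)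
    (N : Subgroup G) [N.Normal] :
    ∀ L : Subgroup (G ⧸ N), L.Normal → K.map (QuotientGroup.mk' N) ≤ L →
      L ≤ H.map (QuotientGroup.mk' N) →
      L = K.map (QuotientGroup.mk' N) ∨ L = H.map (QuotientGroup.mk' N) := by
  intro L hL h1 h2
  haveI := hL
  rcases hchief (L.comap (QuotientGroup.mk' N) ⊓ H) inferInstance
    (le_inf (map_le_iff_le_comap.1 h1) hKH) inf_le_right with h | h
  · refine Or.inl (le_antisymm ?_ h1)
    intro z hz
    obtain ⟨x, hx, rfl⟩ := h2 hz
    exact mem_map_of_mem _ (h ▸ (⟨hz, hx⟩ : x ∈ L.comap (QuotientGroup.mk' N) ⊓ H))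
  · exact Or.inr (le_antisymm h2 (map_le_iff_le_comap.2 (h.ge.trans inf_le_left)))

end Factor

theorem relIndex_le_of_central.{u} {p : ℕ} [Fact p.Prime] (hp2 : p ≠ 2) :
    ∀ (n : ℕ) (G : Type u) [Group G] [Finite G], Nat.card G ≤ n →
      ∀ (D : Subgroup G) [D.Normal], IsPGroup p D →
        (∀ x ∈ D, x ^ p = 1 → ∀ y ∈ D, y * x = x * y) →
        Nat.card {x : G // x ∈ D ∧ x ^ p = 1} ≤ p ^ 2 →
        ∀ (H K : Subgroup G) [H.Normal] [K.Normal], K ≤ H →
          (∀ L : Subgroup G, L.Normal → K ≤ L → L ≤ H → L = K ∨ L = H) →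
          (H ⊓ D) ⊔ K = H → K.relIndex H ≤ p ^ 2 := by
  intro n
  induction n with
  | zero => intro G _ _ h; exact absurd h (by have := Nat.card_pos (α := G); omega)
  | succ n ih =>
    intro G _ _ hcard D _ hDp hcen hcount H K _ _ hKH hchief hHD
    let E : Subgroup G :=
      { carrier := {x | x ∈ D ∧ x ^ p = 1}
        one_mem' := ⟨one_mem D, one_pow p⟩
        mul_mem' := fun {a b} ha hb => ⟨mul_mem ha.1 hb.1, by
          rw [Commute.mul_pow (hcen b hb.1 hb.2 a ha.1), ha.2, hb.2, one_mul]⟩
        inv_mem' := fun {a} ha => ⟨inv_mem ha.1, by rw [inv_pow, ha.2, inv_one]⟩ }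
    have hmemE : ∀ x, x ∈ E ↔ x ∈ D ∧ x ^ p = 1 := fun _ => Iff.rfl
    haveI : E.Normal := ⟨fun x hx g => ⟨‹D.Normal›.conj_mem x hx.1 g,
      by rw [conj_pow, hx.2, mul_one, mul_inv_cancel]⟩⟩
    have hEc : Nat.card E ≤ p ^ 2 := hcount
    rcases chief_cases hKH hchief E with hle | heq
    · by_cases hE : E = ⊥
      · have hD : D = ⊥ := by
          by_contra hne
          haveI : Nontrivial D := D.nontrivial_iff_ne_bot.2 hne
          obtain ⟨k, hk⟩ := IsPGroup.iff_card.1 hDp
          have hk0 : k ≠ 0 := fun h => hne (eq_bot_of_card_eq D (by rw [hk, h, pow_zero]))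
          obtain ⟨x, hx⟩ := exists_prime_orderOf_dvd_card' p
            (show p ∣ Nat.card D from hk ▸ dvd_pow_self p hk0)
          have : (x : G) ∈ E := ⟨x.2, by rw [← hx, ← Subgroup.orderOf_coe, pow_orderOf_eq_one]⟩
          rw [hE, mem_bot] at this
          rw [← Subgroup.orderOf_coe, this, orderOf_one] at hx
          exact (Fact.out : p.Prime).one_lt.ne hx
        rw [hD, inf_bot_eq, bot_sup_eq] at hHD
        rw [hHD, relIndex_self]
        exact Nat.one_le_pow _ _ (Fact.out : p.Prime).pos
      · set f := QuotientGroup.mk' E with hf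
        have hfs : Function.Surjective f := QuotientGroup.mk'_surjective _
        have hlt : Nat.card (G ⧸ E) ≤ n := by
          have h1 := E.card_eq_card_quotient_mul_card_subgroup
          have h2 : 2 ≤ Nat.card E := (one_lt_card_iff_ne_bot E).2 hE
          have h3 := Nat.card_pos (α := G ⧸ E)
          nlinarith
        haveI : (D.map f).Normal := ‹D.Normal›.map f hfs
        haveI : (H.map f).Normal := ‹H.Normal›.map f hfs
        haveI : (K.map f).Normal := ‹K.Normal›.map f hfs
        have hmk : ∀ x, f x = 1 ↔ x ∈ E := fun x => QuotientGroup.eq_one_iff x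
        have hlift : ∀ z ∈ D.map f, z ^ p = 1 → ∃ x ∈ D, x ^ p ∈ E ∧ f x = z := by
          rintro _ ⟨x, hx, rfl⟩ hz
          exact ⟨x, hx, (hmk _).1 (by rw [map_pow]; exact hz), rfl⟩
        have hcomm : ∀ x ∈ D, x ^ p ∈ E → ∀ y ∈ D, ⁅y, x⁆ ∈ E := by
          intro x hx hxE y hy
          refine ⟨mul_mem (mul_mem (mul_mem hy hx) (inv_mem hy)) (inv_mem hx), ?_⟩
          exact congrArg Subtype.val (comm_pow_eq_one_of_central hp2 _ D le_rfl hDp
            (fun z hz => mem_center_iff.2 fun w =>
              Subtype.ext (hcen z z.2 (congrArg Subtype.val hz) w w.2))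
            ⟨x, hx⟩ ⟨y, hy⟩ (Subtype.ext hxE.2))
        have hmul : ∀ x ∈ D, ∀ y ∈ D, x ^ p ∈ E → y ^ p ∈ E → (x * y) ^ p = x ^ p * y ^ p := by
          intro x hx y hy hxE _
          have hc := hcomm x hx hxE y hy
          have h1 : ⁅(⟨y, hy⟩ : D), (⟨x, hx⟩ : D)⁆ ∈ center D := mem_center_iff.2 fun w =>
            Subtype.ext (hcen _ hc.1 hc.2 w w.2)
          exact congrArg Subtype.val (CfsgLib.PGroups.mul_pow_of_central_odd (x := (⟨x, hx⟩ : D))
            (y := ⟨y, hy⟩) h1 ((Fact.out : p.Prime).odd_of_ne_two hp2) (Subtype.ext hc.2))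
        refine (relIndex_map_of_inf_le hKH hle).symm.le.trans (ih (G ⧸ E) hlt (D.map f) (hDp.map f)
          ?_ ?_ (H.map f) (K.map f) (map_mono hKH) (chief_map hKH hchief E) ?_)
        · rintro z hz hzp _ ⟨y, hy, rfl⟩
          obtain ⟨x, hx, hxE, rfl⟩ := hlift z hz hzp
          have := (hmk _).2 (hcomm x hx hxE y hy)
          rw [map_commutatorElement, commutatorElement_eq_one_iff_mul_comm] at this
          exact this
        · -- counting by the `p`-th power map
          classical
          refine le_trans ?_ hEc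
          let F : {z : G ⧸ E // z ∈ D.map f ∧ z ^ p = 1} → E := fun z =>
            ⟨(hlift z.1 z.2.1 z.2.2).choose ^ p, (hlift z.1 z.2.1 z.2.2).choose_spec.2.1⟩
          refine Nat.card_le_card_of_injective F fun z w h => ?_
          obtain ⟨hx, hxE, hxz⟩ := (hlift z.1 z.2.1 z.2.2).choose_spec
          obtain ⟨hy, hyE, hyw⟩ := (hlift w.1 w.2.1 w.2.2).choose_spec
          have h' : (hlift z.1 z.2.1 z.2.2).choose ^ p = (hlift w.1 w.2.1 w.2.2).choose ^ p :=
            congrArg Subtype.val h
          apply Subtype.ext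
          rw [← hxz, ← hyw, ← div_eq_one, ← map_div, hmk, div_eq_mul_inv]
          refine ⟨mul_mem hx (inv_mem hy), ?_⟩
          rw [hmul _ hx _ (inv_mem hy) hxE (by rw [inv_pow]; exact inv_mem hyE), h', inv_pow,
            mul_inv_cancel]
        · refine le_antisymm (sup_le inf_le_left (map_mono hKH)) ?_
          conv_lhs => rw [← hHD, Subgroup.map_sup]
          exact sup_le_sup_right (le_inf (map_mono inf_le_left) (map_mono inf_le_right)) _
    · rw [← heq, relIndex_sup_right]
      exact (Nat.le_of_dvd Nat.card_pos (relIndex_dvd_card K (H ⊓ E))).trans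
        ((Nat.le_of_dvd Nat.card_pos (card_dvd_of_le inf_le_right)).trans hEc)

/-- A `p`-group acting faithfully on a `p`-group with at most `p ^ 2` elements has order at most `p`. -/
theorem card_le_of_pGroup_action {p : ℕ} [Fact p.Prime] {V : Type*} [Group V] [Finite V]
    (hV : Nat.card V ∣ p ^ 2) (S : Subgroup (MulAut V)) (hS : IsPGroup p S) : Nat.card S ≤ p := by
  classical
  have hp : p.Prime := Fact.out
  obtain ⟨j, hj, hje⟩ := (Nat.dvd_prime_pow hp).1 hV
  rcases Nat.eq_zero_or_pos j with rfl | hj0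
  · haveI := (Nat.card_eq_one_iff_unique.1 (by simpa using hje)).1
    haveI : Subsingleton S := ⟨fun a b => Subtype.ext (MulEquiv.ext fun x => Subsingleton.elim _ _)⟩
    exact (Finite.card_le_one_iff_subsingleton.2 inferInstance).trans hp.one_lt.le
  · obtain ⟨v, hv, hv1⟩ : ∃ v ∈ MulAction.fixedPoints S V, (1 : V) ≠ v := by
      refine hS.exists_fixed_point_of_prime_dvd_card_of_fixed_point V ?_ (fun s => ?_)
      · rw [hje]; exact dvd_pow_self p hj0.ne'
      · exact map_one (s : MulAut V)
    have hvfix : ∀ s : S, (s : MulAut V) v = v := fun s => hv s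
    set Z := zpowers v with hZ
    have hZfix : ∀ s : S, ∀ z ∈ Z, (s : MulAut V) z = z := by
      rintro s z ⟨i, rfl⟩
      show (s : MulAut V) (v ^ i) = v ^ i
      rw [map_zpow, hvfix]
    have hVp : IsPGroup p V := IsPGroup.of_card hje
    have hab : ∀ a b : V, a * b = b * a := by
      interval_cases j
      · haveI := isCyclic_of_prime_card (α := V) (by simpa using hje)
        exact fun a b => (IsCyclic.commGroup (α := V)).mul_comm a b
      · exact IsPGroup.commutative_of_card_eq_prime_sq hje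
    haveI : Z.Normal := ⟨fun z hz g => by rwa [hab g z, mul_inv_cancel_right]⟩
    have hZc : ∃ i, 1 ≤ i ∧ i ≤ j ∧ Nat.card Z = p ^ i := by
      obtain ⟨i, hi, hie⟩ := (Nat.dvd_prime_pow hp).1 (hje ▸ card_subgroup_dvd_card Z)
      refine ⟨i, ?_, hi, hie⟩
      by_contra h0
      rw [show i = 0 by omega, pow_zero, card_eq_one, hZ, zpowers_eq_bot] at hie
      exact hv1 hie.symm
    obtain ⟨i, hi1, hij, hie⟩ := hZc
    rcases eq_or_lt_of_le hij with rfl | hlt
    · have htop : Z = ⊤ := eq_top_of_card_eq Z (hie.trans hje.symm)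
      haveI : Subsingleton S := ⟨fun a b => Subtype.ext (MulEquiv.ext fun x => by
        rw [hZfix a x (htop ▸ mem_top x), hZfix b x (htop ▸ mem_top x)])⟩
      exact (Finite.card_le_one_iff_subsingleton.2 inferInstance).trans hp.one_lt.le
    · have hi' : i = 1 := by omega
      have hj' : j = 2 := by omega
      subst hi' hj'
      obtain ⟨w, -, hw⟩ := SetLike.exists_of_lt (show Z < ⊤ from lt_top_iff_ne_top.2 fun h => by
        rw [h, Subgroup.card_top, hje] at hie
        exact absurd (Nat.pow_right_injective hp.two_le hie) (by omega))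
      have hidx : Z.index = p := by
        have := Z.card_mul_index
        rw [hie, hje, pow_one, sq] at this
        exact Nat.eq_of_mul_eq_mul_left hp.pos this
      -- each `s` is trivial on `V ⧸ Z`
      have hq : ∀ s : S, w⁻¹ * (s : MulAut V) w ∈ Z := by
        intro s
        let φ : (V ⧸ Z) →* (V ⧸ Z) := QuotientGroup.map Z Z ((s : MulAut V) : V ≃* V).toMonoidHom
          (fun z hz => by rw [mem_comap]; show (s : MulAut V) z ∈ Z; rwa [hZfix s z hz])
        have hfix : ∀ q : V ⧸ Z, φ q = q := by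
          intro q
          have hc : Nat.card (V ⧸ Z) = p := hidx
          have : ∃ r : V ⧸ Z, r ≠ 1 ∧ φ r = r := by
            let act : MulAction S (V ⧸ Z) :=
              { smul := fun t r => QuotientGroup.map Z Z ((t : MulAut V) : V ≃* V).toMonoidHom
                  (fun z hz => by rw [mem_comap]; show (t : MulAut V) z ∈ Z; rwa [hZfix t z hz]) r
                one_smul := fun r => by
                  obtain ⟨x, rfl⟩ := QuotientGroup.mk'_surjective Z r; rfl
                mul_smul := fun a b r => by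
                  obtain ⟨x, rfl⟩ := QuotientGroup.mk'_surjective Z r; rfl }
            obtain ⟨r, hr, hr1⟩ := hS.exists_fixed_point_of_prime_dvd_card_of_fixed_point (V ⧸ Z)
              (by rw [hc]) (a := 1) (fun t => map_one _)
            exact ⟨r, hr1.symm, hr s⟩
          obtain ⟨r, hr1, hr⟩ := this
          obtain ⟨k, rfl⟩ := mem_zpowers_iff.1
            ((zpowers_eq_top_of_prime_card hc hr1).symm ▸ mem_top q)
          rw [map_zpow, hr]
        exact QuotientGroup.eq.1 (hfix (w : V ⧸ Z)).symm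
      have hsup : Z ⊔ zpowers w = ⊤ := by
        by_contra hne
        have h1 := relIndex_mul_index (le_sup_left : Z ≤ Z ⊔ zpowers w)
        rw [hidx] at h1
        rcases (Nat.dvd_prime hp).1 ⟨_, h1.symm⟩ with h2 | h2
        · exact hw (relIndex_eq_one.1 h2 (mem_sup_right (mem_zpowers w)))
        · rw [h2] at h1
          exact hne (index_eq_one.1 (Nat.eq_of_mul_eq_mul_left hp.pos (h1.trans (mul_one p).symm)))
      let F : S → Z := fun s => ⟨_, hq s⟩
      refine (Nat.card_le_card_of_injective F fun a b h => ?_).trans (hie.trans (pow_one p)).le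
      refine Subtype.ext (MulEquiv.ext fun x => ?_)
      obtain ⟨z, hz, u, hu, rfl⟩ := mem_sup_of_normal_left.1
        (hsup.symm ▸ mem_top x : x ∈ Z ⊔ zpowers w)
      obtain ⟨k, rfl⟩ := hu
      have hab' : (a : MulAut V) w = (b : MulAut V) w := mul_left_cancel (congrArg Subtype.val h)
      simp only [map_mul, map_zpow, hZfix a z hz, hZfix b z hz, hab']

theorem le_center_of_card_prime {Q : Type*} [Group Q] [Finite Q] {p : ℕ} [Fact p.Prime]
    (hQ : IsPGroup p Q) {N : Subgroup Q} [N.Normal] (hc : Nat.card N = p) : N ≤ center Q := by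
  have hne : N ≠ ⊥ := fun h => by
    rw [h, card_bot] at hc
    exact (Fact.out : p.Prime).one_lt.ne hc
  have h1 : N ⊓ center Q ≠ ⊥ := CfsgLib.PGroups.inf_center_ne_bot hQ hne
  rcases (Nat.dvd_prime (Fact.out : p.Prime)).1
    (hc ▸ card_dvd_of_le (inf_le_left : N ⊓ center Q ≤ N)) with h | h
  · exact absurd (eq_bot_of_card_eq _ h) h1
  · exact (eq_of_le_of_card_ge inf_le_left (h.trans hc.symm).ge).symm.le.trans inf_le_right

section Main

variable {G : Type*} [Group G] [Finite G] {p : ℕ} [hp : Fact p.Prime]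

/-- An elementary abelian subgroup of order at least `p²` cannot be enlarged in `p`-rank two. -/
theorem mem_of_commute_rank_two (hr : PRankLE p 2 G) {A : Subgroup G}
    (hA : IsElementaryAbelian p A) (hcard : p ^ 2 ≤ Nat.card A) {x : G} (hx : x ^ p = 1)
    (hxA : ∀ a ∈ A, x * a = a * x) : x ∈ A := by
  by_contra hxn
  have hc : IsMulCommutative ↥(A ⊔ zpowers x) := by
    rw [← le_centralizer_iff_isMulCommutative]
    refine sup_le (le_centralizer_iff.1 (sup_le ?_ ?_)) (le_centralizer_iff.1 (sup_le ?_ ?_))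
    · haveI := hA.1
      exact le_centralizer A
    · exact zpowers_le.2 (mem_centralizer_iff.2 fun a ha => (hxA a ha).symm)
    · exact fun a ha => mem_centralizer_iff.2 fun y hy => by
        obtain ⟨i, rfl⟩ := hy
        exact (Commute.zpow_left (hxA a ha) i).eq
    · exact zpowers_le.2 (mem_centralizer_iff.2 fun y hy => by
        obtain ⟨i, rfl⟩ := hy
        exact ((Commute.refl x).zpow_left i).eq)
  have hexp : ∀ z ∈ A ⊔ zpowers x, z ^ p = 1 := by
    intro z hz
    have hn : zpowers x ≤ normalizer (A : Set G) := zpowers_le.2 (mem_normalizer_iff.2 fun a => by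
      constructor
      · intro ha; rwa [hxA a ha, mul_inv_cancel_right]
      · intro ha
        have h := hxA _ ha
        have : a = x * a * x⁻¹ := by
          calc a = x⁻¹ * (x * a * x⁻¹ * x) := by group
            _ = x⁻¹ * (x * (x * a * x⁻¹)) := by rw [h]
            _ = x * a * x⁻¹ := by group
        rwa [← this] at ha)
    rw [← SetLike.mem_coe, coe_mul_of_right_le_normalizer_left _ _ hn] at hz
    obtain ⟨a, ha, b, ⟨i, rfl⟩, rfl⟩ := hz
    have hcomm : Commute a (x ^ i) := ((show Commute x a from hxA a ha).zpow_left i).symm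
    show (a * x ^ i) ^ p = 1
    rw [hcomm.mul_pow, hA.2 a ha, one_mul, ← zpow_natCast, ← zpow_mul, mul_comm, zpow_mul,
      zpow_natCast, hx, one_zpow]
  have hle := hr _ hc hexp
  have hlt : A < A ⊔ zpowers x := lt_of_le_of_ne le_sup_left fun h =>
    hxn (h.symm ▸ mem_sup_right (mem_zpowers x))
  have : Nat.card A < Nat.card ↥(A ⊔ zpowers x) :=
    lt_of_le_of_ne (Nat.le_of_dvd Nat.card_pos (card_dvd_of_le hlt.le)) fun h =>
      hlt.ne (eq_of_le_of_card_ge hlt.le h.ge)
  omega

theorem chief_le_sq (hp2 : p ≠ 2) (hsol : IsPSolvable p G) (hO : pPrimeCore p G = ⊥)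
    (hr : PRankLE p 2 G) (H K : Subgroup G) [H.Normal] [K.Normal] (hKH : K ≤ H)
    (hpow : ∃ n : ℕ, K.relIndex H = p ^ n)
    (hchief : ∀ L : Subgroup G, L.Normal → K ≤ L → L ≤ H → L = K ∨ L = H) :
    K.relIndex H ≤ p ^ 2 := by
  classical
  have hPpr : p.Prime := hp.out
  have hodd : Odd p := hPpr.odd_of_ne_two hp2
  set P := pCore p G with hP
  have hPp : IsPGroup p P := CfsgLib.Core.isPGroup_pCore p G
  have hCP : centralizer (P : Set G) ≤ P := CfsgLib.PLocal.centralizer_pCore_le hsol hO
  obtain ⟨C₁, hchar, hfrat, hcomm, hself⟩ := CfsgLib.Transfer.exists_critical (p := p) hPp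
  haveI := hchar
  set C := C₁.map P.subtype with hC
  have hCle : C ≤ P := map_subtype_le _
  haveI hCn : C.Normal := inferInstance
  have hCp : IsPGroup p C := hPp.to_le hCle
  have hself' : ∀ x ∈ P, (∀ c ∈ C, x * c = c * x) → x ∈ C := fun x hx h =>
    ⟨⟨x, hx⟩, hself (mem_centralizer_iff.2 fun c hc => Subtype.ext (h _ ⟨c, hc, rfl⟩).symm), rfl⟩
  have hclass : ∀ x ∈ C, ∀ y ∈ C, ∀ z ∈ C, z * ⁅x, y⁆ = ⁅x, y⁆ * z := by
    rintro _ ⟨a, ha, rfl⟩ _ ⟨b, hb, rfl⟩ _ ⟨c, hc, rfl⟩
    exact congrArg Subtype.val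
      (mem_centralizer_iff.1 (hcomm (commutator_mem_commutator ha (mem_top b))).2 c hc)
  have hfrat' : ∀ x ∈ C, ∀ z ∈ C, z * x ^ p = x ^ p * z := by
    rintro _ ⟨a, ha, rfl⟩ _ ⟨c, hc, rfl⟩
    have := CfsgLib.PGroups.pow_mem_frattini (hPp.to_subgroup C₁) (⟨a, ha⟩ : C₁)
    exact congrArg Subtype.val (mem_centralizer_iff.1 (hfrat ⟨_, this, rfl⟩) c hc)
  have hcpow : ∀ x ∈ C, ∀ y ∈ C, ⁅y, x⁆ ^ p = ⁅y ^ p, x⁆ := by
    intro x hx y hy
    exact congrArg Subtype.val (CfsgLib.PGroups.comm_pow_left_of_central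
      (x := (⟨y, hy⟩ : C)) (y := ⟨x, hx⟩)
      (mem_center_iff.2 fun z => Subtype.ext (hclass y hy x hx z z.2)) p).symm
  have hcenC : ∀ x ∈ C, ∀ y ∈ C, ⁅y, x⁆ ^ p = 1 := by
    intro x hx y hy
    rw [hcpow x hx y hy, commutatorElement_eq_one_iff_mul_comm]
    exact (hfrat' y hy x hx).symm
  have hmulC : ∀ x ∈ C, ∀ y ∈ C, (x * y) ^ p = x ^ p * y ^ p := by
    intro x hx y hy
    exact congrArg Subtype.val (CfsgLib.PGroups.mul_pow_of_central_odd
      (x := (⟨x, hx⟩ : C)) (y := ⟨y, hy⟩)
      (mem_center_iff.2 fun z => Subtype.ext (hclass y hy x hx z z.2)) hodd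
      (Subtype.ext (hcenC x hx y hy)))
  let E : Subgroup G :=
    { carrier := {x | x ∈ C ∧ x ^ p = 1}
      one_mem' := ⟨one_mem C, one_pow p⟩
      mul_mem' := fun {a b} ha hb => ⟨mul_mem ha.1 hb.1, by
        rw [hmulC a ha.1 b hb.1, ha.2, hb.2, one_mul]⟩
      inv_mem' := fun {a} ha => ⟨inv_mem ha.1, by rw [inv_pow, ha.2, inv_one]⟩ }
  haveI hEn : E.Normal := ⟨fun x hx g => ⟨hCn.conj_mem x hx.1 g,
    by rw [conj_pow, hx.2, mul_one, mul_inv_cancel]⟩⟩
  have hEle : E ≤ C := fun x hx => hx.1
  have hpart : ∀ g : G, ∀ u : ℕ, g ^ p ^ u = 1 → IsPGroup p (zpowers g) := fun g u hu => by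
    obtain ⟨i, -, hi⟩ := (Nat.dvd_prime_pow hPpr).1 (orderOf_dvd_of_pow_eq_one hu)
    exact IsPGroup.of_card (n := i) (by rw [Nat.card_zpowers, hi])
  -- coprime elements centralizing `E` are trivial
  have hcop : ∀ g : G, (orderOf g).Coprime p → (∀ e ∈ E, g * e = e * g) → g = 1 := by
    intro g hg hfix
    let a : MulAut C := MulAut.conjNormal g
    have ha : a ^ orderOf g = 1 := by rw [← map_pow, pow_orderOf_eq_one, map_one]
    have hgC : ∀ c : C, a c = c := fun c => by
      rw [CfsgLib.Transfer.eq_one_of_fixes_order_p hp2 _ C le_rfl hCp a _ hg ha fun x hx => by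
        apply Subtype.ext
        rw [MulAut.conjNormal_apply, hfix _ ⟨x.2, congrArg Subtype.val hx⟩, mul_inv_cancel_right]]
      rfl
    let b : MulAut P := MulAut.conjNormal g
    have hb : b = 1 := CfsgLib.Transfer.eq_one_of_fixes_centralizer_le hPp b hg
      (by rw [← map_pow, pow_orderOf_eq_one, map_one]) hself fun x hx => by
        apply Subtype.ext
        rw [MulAut.conjNormal_apply]
        have := congrArg Subtype.val (hgC ⟨_, ⟨x, hx, rfl⟩⟩)
        rwa [MulAut.conjNormal_apply] at this
    have hgP : g ∈ P := hCP (mem_centralizer_iff.2 fun x hx => by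
      have := congrArg (fun f : MulAut P => ((f ⟨x, hx⟩ : P) : G)) hb
      simp only [b, MulAut.conjNormal_apply, MulAut.one_apply] at this
      exact (mul_inv_eq_iff_eq_mul.1 this).symm)
    obtain ⟨k, hk⟩ := IsPGroup.iff_orderOf.1 hPp ⟨g, hgP⟩
    rw [Subgroup.orderOf_mk] at hk
    refine orderOf_eq_one_iff.1 (Nat.eq_one_of_dvd_coprimes (hg.pow_right k) dvd_rfl ?_)
    rw [← hk]
  -- a normal subgroup whose coprime elements centralize `E` lies in `P`
  have hinP : ∀ N : Subgroup G, N.Normal →
      (∀ g ∈ N, (orderOf g).Coprime p → ∀ e ∈ E, g * e = e * g) → N ≤ P := by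
    intro N hN h
    haveI := hN
    refine CfsgLib.Core.le_pCore fun z => ?_
    obtain ⟨k, m, hm, hkm⟩ := Nat.exists_eq_pow_mul_and_not_dvd (orderOf_pos z).ne' p hPpr.ne_one
    refine ⟨k, ?_⟩
    have h1 : (orderOf ((z : G) ^ p ^ k)).Coprime p := by
      refine Nat.Coprime.coprime_dvd_left (orderOf_dvd_of_pow_eq_one (n := m) ?_)
        (hPpr.coprime_iff_not_dvd.2 hm).symm
      rw [← pow_mul, ← hkm, ← Subgroup.orderOf_coe, pow_orderOf_eq_one]
    exact Subtype.ext (hcop _ h1 (h _ (pow_mem z.2 _) h1))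
  by_cases hsmall : Nat.card E ≤ p
  · -- `C` is cyclic and `G ⧸ C` is abelian
    have hEcen : ∀ e ∈ E, ∀ c ∈ C, c * e = e * c := by
      intro e he c hc
      rcases subsingleton_or_nontrivial E with hs | hnt
      · rw [show e = 1 from congrArg Subtype.val (Subsingleton.elim (⟨e, he⟩ : E) 1), mul_one,
          one_mul]
      · have hEc : Nat.card (E.subgroupOf C) = p := by
          rw [Nat.card_congr (Subgroup.subgroupOfEquivOfLe hEle).toEquiv]
          obtain ⟨j, hj⟩ := IsPGroup.iff_card.1 (hCp.to_le hEle)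
          have := Finite.one_lt_card (α := E)
          rcases j with _ | _ | j
          · rw [hj] at this; simp at this
          · simpa using hj
          · rw [hj] at hsmall
            have := Nat.pow_le_pow_right hPpr.pos (show 2 ≤ j + 1 + 1 by omega)
            have := hPpr.two_le
            nlinarith
        exact congrArg Subtype.val (mem_center_iff.1 (le_center_of_card_prime hCp
          (N := E.subgroupOf C) hEc (show (⟨e, hEle he⟩ : C) ∈ E.subgroupOf C from he)) ⟨c, hc⟩)
    have hcyc : ∀ A : Subgroup G, A ≤ C → IsMulCommutative A → IsCyclic A := by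
      intro A hAC hA
      by_contra hn
      obtain ⟨q, hq, F, hFA, hFe, hFc⟩ := CfsgLib.Core.exists_elementary_of_not_isCyclic A hn
      by_cases hqp : q = p
      · subst hqp
        have h1 : F ≤ E := fun x hx => ⟨hAC (hFA hx), hFe x hx⟩
        have := Nat.le_of_dvd Nat.card_pos (card_dvd_of_le h1)
        have := hPpr.two_le
        nlinarith
      · have hF : F = ⊥ := (eq_bot_iff_forall _).2 fun x hx => by
          obtain ⟨k, hk⟩ := IsPGroup.iff_orderOf.1 hCp ⟨x, hAC (hFA hx)⟩
          rw [Subgroup.orderOf_mk] at hk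
          exact orderOf_eq_one_iff.1 (Nat.eq_one_of_dvd_coprimes
            (((Nat.coprime_primes hPpr hq).2 (Ne.symm hqp)).pow_left k) hk.dvd
            (orderOf_dvd_of_pow_eq_one (hFe x hx)))
        rw [hF, card_bot] at hFc
        have := hq.two_le
        nlinarith
    have hCab : IsMulCommutative C := by
      let f : C →* G :=
        { toFun := fun x => (x : G) ^ p
          map_one' := one_pow p
          map_mul' := fun x y => hmulC x x.2 y y.2 }
      have hfr : IsMulCommutative f.range := by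
        refine ⟨⟨?_⟩⟩
        rintro ⟨_, x, rfl⟩ ⟨_, y, rfl⟩
        exact Subtype.ext ((hfrat' y y.2 _ (pow_mem x.2 p)))
      haveI : IsCyclic f.range := hcyc _ (by rintro _ ⟨x, rfl⟩; exact pow_mem x.2 p) hfr
      exact ⟨⟨commutative_of_cyclic_center_quotient f.rangeRestrict fun x hx =>
        mem_center_iff.2 fun y => Subtype.ext (hEcen _ ⟨x.2, congrArg Subtype.val hx⟩ y y.2)⟩⟩
    haveI : IsCyclic C := hcyc C le_rfl hCab
    obtain ⟨c₀, hc₀⟩ := IsCyclic.exists_generator (α := C)
    have hcentC : centralizer (C : Set G) ≤ C := by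
      have h1 : centralizer (C : Set G) ≤ P := hinP _ inferInstance fun g hg _ e he =>
        (mem_centralizer_iff.1 hg e (hEle he)).symm
      exact fun x hx => hself' x (h1 hx) fun c hc => (mem_centralizer_iff.1 hx c hc).symm
    have hcomG : ∀ g h : G, ⁅g, h⁆ ∈ C := by
      intro g h
      refine hcentC (mem_centralizer_iff.2 fun c hc => ?_)
      have hz : ∀ u : G, ∃ i : ℤ, ∀ c : C, MulAut.conjNormal u c = c ^ i := by
        intro u
        obtain ⟨i, hi⟩ := mem_zpowers_iff.1 (hc₀ (MulAut.conjNormal u c₀))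
        refine ⟨i, fun c => ?_⟩
        obtain ⟨j, rfl⟩ := mem_zpowers_iff.1 (hc₀ c)
        rw [map_zpow, ← hi, ← zpow_mul, ← zpow_mul, mul_comm]
      obtain ⟨i, hi⟩ := hz g
      obtain ⟨j, hj⟩ := hz h
      have hab : MulAut.conjNormal (g * h) (⟨c, hc⟩ : C) = MulAut.conjNormal (h * g) ⟨c, hc⟩ := by
        rw [map_mul, map_mul, MulAut.mul_apply, MulAut.mul_apply, hj, hi, hi, hj, ← zpow_mul,
          ← zpow_mul, mul_comm]
      have hfix : ∀ c ∈ C, g * h * c * (g * h)⁻¹ = h * g * c * (h * g)⁻¹ := fun c hc => by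
        have hab : MulAut.conjNormal (g * h) (⟨c, hc⟩ : C) = MulAut.conjNormal (h * g) ⟨c, hc⟩ := by
          rw [map_mul, map_mul, MulAut.mul_apply, MulAut.mul_apply, hj, hi, hi, hj, ← zpow_mul,
            ← zpow_mul, mul_comm]
        have := congrArg Subtype.val hab
        simpa only [MulAut.conjNormal_apply] using this
      have h2 := hfix ((h * g)⁻¹ * c * (h * g)) (by
        have := hCn.conj_mem c hc (h * g)⁻¹
        rwa [inv_inv] at this)
      have h3 : ⁅g, h⁆ * c * ⁅g, h⁆⁻¹ = c := by
        rw [commutatorElement_def]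
        calc g * h * g⁻¹ * h⁻¹ * c * (g * h * g⁻¹ * h⁻¹)⁻¹
            = g * h * ((h * g)⁻¹ * c * (h * g)) * (g * h)⁻¹ := by group
          _ = h * g * ((h * g)⁻¹ * c * (h * g)) * (h * g)⁻¹ := h2
          _ = c := by group
      exact (mul_inv_eq_iff_eq_mul.1 h3).symm
    rcases chief_cases hKH hchief C with hle | heq
    · rcases eq_or_lt_of_le hKH with rfl | hlt
      · rw [relIndex_self]; exact Nat.one_le_pow _ _ hPpr.pos
      obtain ⟨x, hxH, hxK⟩ := SetLike.exists_of_lt hlt
      set f := QuotientGroup.mk' K with hf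
      have hcardmap : Nat.card (H.map f) = K.relIndex H := by
        rw [← relIndex_ker, QuotientGroup.ker_mk']
      obtain ⟨n, hn⟩ := hpow
      have hn0 : n ≠ 0 := fun h => hxK (relIndex_eq_one.1 (by rw [hn, h, pow_zero]) hxH)
      obtain ⟨⟨_, y, hy, rfl⟩, hz⟩ := exists_prime_orderOf_dvd_card' (G := H.map f) p
        (by rw [hcardmap, hn]; exact dvd_pow_self p hn0)
      replace hz : orderOf (f y) = p := by rwa [← Subgroup.orderOf_coe] at hz
      have hyK : y ∉ K := fun h => by
        rw [show f y = 1 from (QuotientGroup.eq_one_iff y).2 h, orderOf_one] at hz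
        exact hPpr.one_lt.ne hz
      have hLn : (K ⊔ zpowers y).Normal := ⟨fun z hz g => by
        have hzH : z ∈ H := sup_le hKH (zpowers_le.2 hy) hz
        rw [show g * z * g⁻¹ = ⁅g, z⁆ * z by rw [commutatorElement_def]; group]
        refine mul_mem (mem_sup_left (hle (Subgroup.mem_inf.2 ⟨?_, hcomG g z⟩))) hz
        rw [commutatorElement_def]
        exact mul_mem (‹H.Normal›.conj_mem z hzH g) (inv_mem hzH)⟩
      rcases hchief _ hLn le_sup_left (sup_le hKH (zpowers_le.2 hy)) with h | h
      · exact absurd (h ▸ mem_sup_right (mem_zpowers y)) hyK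
      · rw [← hcardmap, ← h, Subgroup.map_sup, show K.map f = ⊥ from QuotientGroup.map_mk'_self K,
          bot_sup_eq, MonoidHom.map_zpowers, Nat.card_zpowers, hz]
        exact Nat.le_self_pow two_ne_zero p
    · refine relIndex_le_of_central hp2 _ G le_rfl C hCp
        (fun x hx _ y hy => congrArg Subtype.val (hCab.is_comm.comm ⟨y, hy⟩ ⟨x, hx⟩)) ?_ H K hKH
        hchief heq
      exact hsmall.trans (Nat.le_self_pow two_ne_zero p)
  · push Not at hsmall
    have hEp : IsPGroup p E := hCp.to_le hEle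
    have hE2 : p ^ 2 ≤ Nat.card E := by
      obtain ⟨j, hj⟩ := IsPGroup.iff_card.1 hEp
      rw [hj] at hsmall ⊢
      refine Nat.pow_le_pow_right hPpr.pos ?_
      by_contra h
      have := Nat.pow_le_pow_right hPpr.pos (show j ≤ 1 by omega)
      rw [pow_one] at this
      omega
    -- the data attached to `E`
    obtain ⟨N, hNn, hNE, hNcard, hNcen, hNab, hNfix, hOmega, hD⟩ : ∃ N : Subgroup G, N.Normal ∧
        N ≤ E ∧ Nat.card E ∣ Nat.card N * p ^ 2 ∧ (∀ z ∈ N, ∀ e ∈ E, e * z = z * e) ∧
        (∀ a ∈ E, ∀ b ∈ E, ⁅a, b⁆ ∈ N) ∧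
        (∀ g : G, (∀ e ∈ E, ⁅g, e⁆ ∈ N) → ∀ z ∈ N, g * z = z * g) ∧
        (∀ x : G, x ^ p = 1 → (∀ e ∈ E, x * e = e * x) → x ∈ E) ∧
        ∀ K₀ : Subgroup G, K₀ ≤ P → (∀ g ∈ K₀, ∀ e ∈ E, ⁅g, e⁆ ∈ N) →
          ∀ D : Subgroup G, (∀ g ∈ K₀, (∀ e ∈ E, g * e = e * g) → g ∈ D) →
            D.relIndex K₀ ≤ p ^ 2 := by
      by_cases hab : IsMulCommutative E
      · refine ⟨⊥, inferInstance, bot_le, ?_, ?_, fun a ha b hb => ?_, ?_, fun x hx h => ?_, ?_⟩
        · obtain ⟨j, hj⟩ := IsPGroup.iff_card.1 hEp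
          have := hr E hab fun a ha => ha.2
          rw [hj] at this ⊢
          rw [card_bot, one_mul]
          exact pow_dvd_pow p ((Nat.pow_le_pow_iff_right hPpr.one_lt).1 this)
        · intro z hz e _; rw [mem_bot.1 hz, mul_one, one_mul]
        · rw [mem_bot, commutatorElement_eq_one_iff_mul_comm]
          exact congrArg Subtype.val (hab.is_comm.comm ⟨a, ha⟩ ⟨b, hb⟩)
        · intro g _ z hz; rw [mem_bot.1 hz, mul_one, one_mul]
        · exact mem_of_commute_rank_two hr ⟨hab, fun a ha => ha.2⟩ hE2 hx h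
        · intro K₀ _ h D hD
          rw [relIndex_eq_one.2 fun g hg => hD g hg fun e he => by
            have := mem_bot.1 (h g hg e he)
            rwa [commutatorElement_eq_one_iff_mul_comm] at this]
          exact Nat.one_le_pow _ _ hPpr.pos
      · set Z := E ⊓ centralizer (E : Set G) with hZ
        obtain ⟨e₁, he₁, e₂, he₂, hne⟩ : ∃ a ∈ E, ∃ b ∈ E, a * b ≠ b * a := by
          by_contra h
          push Not at h
          exact hab ⟨⟨fun a b => Subtype.ext (h a a.2 b b.2)⟩⟩
        have hcz : ∀ a ∈ E, ∀ b ∈ E, ⁅a, b⁆ ∈ Z := fun a ha b hb =>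
          Subgroup.mem_inf.2 ⟨mul_mem (mul_mem (mul_mem ha hb) (inv_mem ha)) (inv_mem hb),
            mem_centralizer_iff.2 fun e he => hclass a ha.1 b hb.1 e he.1⟩
        have hc1 : ⁅e₁, e₂⁆ ≠ 1 := fun h => hne (commutatorElement_eq_one_iff_mul_comm.1 h)
        have hZelem : ∀ T : Subgroup G, T ≤ E → IsMulCommutative T → Nat.card T ≤ p ^ 2 :=
          fun T hTE hT => hr T hT fun a ha => (hTE ha).2
        set A := Z ⊔ zpowers e₁ with hA
        have hAE : A ≤ E := sup_le inf_le_left (zpowers_le.2 he₁)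
        have hAab : IsMulCommutative A := by
          rw [← le_centralizer_iff_isMulCommutative]
          have hz : Z ≤ centralizer (A : Set G) := fun z hz => mem_centralizer_iff.2 fun a ha =>
            mem_centralizer_iff.1 hz.2 a (hAE ha)
          refine sup_le hz (zpowers_le.2 (mem_centralizer_iff.2 fun a ha => ?_))
          have : zpowers e₁ ⊔ Z ≤ centralizer ({e₁} : Set G) := sup_le
            (zpowers_le.2 (mem_centralizer_singleton_iff.2 rfl))
            (fun z hz => mem_centralizer_singleton_iff.2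
              (mem_centralizer_iff.1 hz.2 e₁ he₁).symm)
          rw [sup_comm] at this
          exact mem_centralizer_singleton_iff.1 (this ha)
        have he₁Z : e₁ ∉ Z := fun h => hne (mem_centralizer_iff.1 h.2 e₂ he₂).symm
        have hZc : Nat.card Z = p := by
          obtain ⟨j, hj⟩ := IsPGroup.iff_card.1 (hEp.to_le (inf_le_left : Z ≤ E))
          have hlt : Nat.card Z < Nat.card A :=
            lt_of_le_of_ne (Nat.le_of_dvd Nat.card_pos (card_dvd_of_le le_sup_left)) fun h =>
              he₁Z ((eq_of_le_of_card_ge (le_sup_left : Z ≤ A) h.ge).symm ▸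
                mem_sup_right (mem_zpowers e₁))
          have hle := hZelem A hAE hAab
          rw [hj] at hlt ⊢
          have hj2 : j < 2 := (Nat.pow_lt_pow_iff_right hPpr.one_lt).1 (hlt.trans_le hle)
          rcases Nat.eq_zero_or_pos j with rfl | hj0
          · have := card_eq_one.1 (hj.trans (pow_zero p))
            exact absurd (mem_bot.1 (this ▸ hcz e₁ he₁ e₂ he₂)) hc1
          · rw [show j = 1 by omega, pow_one]
        have hA2 : p ^ 2 = Nat.card A := by
          obtain ⟨j, hj⟩ := IsPGroup.iff_card.1 (hEp.to_le hAE)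
          have hle := hZelem A hAE hAab
          have hlt : Nat.card Z < Nat.card A :=
            lt_of_le_of_ne (Nat.le_of_dvd Nat.card_pos (card_dvd_of_le le_sup_left)) fun h =>
              he₁Z ((eq_of_le_of_card_ge (le_sup_left : Z ≤ A) h.ge).symm ▸
                mem_sup_right (mem_zpowers e₁))
          rw [hj] at hle hlt ⊢
          rw [hZc] at hlt
          have h1 : j ≤ 2 := (Nat.pow_le_pow_iff_right hPpr.one_lt).1 hle
          have h2 : 1 < j := by
            by_contra h
            have := Nat.pow_le_pow_right hPpr.pos (show j ≤ 1 by omega)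
            rw [pow_one] at this
            omega
          rw [show j = 2 by omega]
        have hAel : IsElementaryAbelian p A := ⟨hAab, fun a ha => (hAE ha).2⟩
        have hcenA : E ⊓ centralizer ({e₁} : Set G) ≤ A := fun x hx =>
          mem_of_commute_rank_two hr hAel hA2.le hx.1.2 fun a ha => by
            have : A ≤ centralizer ({x} : Set G) := sup_le
              (fun z hz => mem_centralizer_singleton_iff.2 (mem_centralizer_iff.1 hz.2 x hx.1).symm)
              (zpowers_le.2 (mem_centralizer_singleton_iff.2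
                (mem_centralizer_singleton_iff.1 hx.2).symm))
            exact (mem_centralizer_singleton_iff.1 (this ha)).symm
        have hEA : Nat.card E ≤ Nat.card A * p := by
          have h1 : (A.subgroupOf E).index ≤ p := by
            let F : E ⧸ A.subgroupOf E → Z := fun q =>
              ⟨⁅e₁, (q.out : G)⁆, hcz e₁ he₁ _ q.out.2⟩
            refine (Nat.card_le_card_of_injective F fun q q' h => ?_).trans hZc.le
            rw [← QuotientGroup.out_eq' q, ← QuotientGroup.out_eq' q', QuotientGroup.eq, mem_subgroupOf]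
            refine hcenA ⟨(q.out⁻¹ * q'.out).2, mem_centralizer_singleton_iff.2 ?_⟩
            have h' : ⁅e₁, (q.out : G)⁆ = ⁅e₁, (q'.out : G)⁆ := congrArg Subtype.val h
            rw [commutatorElement_def, commutatorElement_def] at h'
            have e1 : e₁ * (q.out : G) * e₁⁻¹ * (q.out : G)⁻¹ * (q'.out : G) =
                e₁ * (q'.out : G) * e₁⁻¹ := by
              rw [h']; group
            show ((q.out : G))⁻¹ * (q'.out : G) * e₁ = e₁ * ((q.out : G)⁻¹ * (q'.out : G))
            calc ((q.out : G))⁻¹ * (q'.out : G) * e₁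
                = e₁ * (q.out : G)⁻¹ * e₁⁻¹ * (e₁ * (q.out : G) * e₁⁻¹ * (q.out : G)⁻¹ * (q'.out : G))
                    * e₁ := by group
              _ = e₁ * ((q.out : G)⁻¹ * (q'.out : G)) := by rw [e1]; group
          have h2 := (A.subgroupOf E).card_mul_index
          rw [Nat.card_congr (subgroupOfEquivOfLe hAE).toEquiv] at h2
          rw [← h2]
          exact Nat.mul_le_mul_left _ h1
        refine ⟨Z, inferInstance, inf_le_left, ?_, fun z hz e he => mem_centralizer_iff.1 hz.2 e he,
          hcz, ?_, ?_, ?_⟩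
        · obtain ⟨j, hj⟩ := IsPGroup.iff_card.1 hEp
          rw [← hA2, hj, ← pow_succ] at hEA
          rw [hj, hZc, ← pow_succ']
          exact pow_dvd_pow p ((Nat.pow_le_pow_iff_right hPpr.one_lt).1 hEA)
        · intro g hg z hz
          have hgen : Z ≤ zpowers ⁅e₁, e₂⁆ := by
            intro w hw
            have h1 : (⟨_, hcz e₁ he₁ e₂ he₂⟩ : Z) ≠ 1 := fun h => hc1 (congrArg Subtype.val h)
            obtain ⟨i, hi⟩ := mem_zpowers_iff.1
              ((zpowers_eq_top_of_prime_card hZc h1).symm ▸ mem_top (⟨w, hw⟩ : Z))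
            exact mem_zpowers_iff.2 ⟨i, congrArg Subtype.val hi⟩
          have hfix : g * ⁅e₁, e₂⁆ = ⁅e₁, e₂⁆ * g := by
            have ha := hg e₁ he₁
            have hb := hg e₂ he₂
            have h2 : g * ⁅e₁, e₂⁆ * g⁻¹ = ⁅e₁, e₂⁆ := by
              rw [conjugate_commutatorElement,
                show g * e₁ * g⁻¹ = ⁅g, e₁⁆ * e₁ by rw [commutatorElement_def]; group,
                show g * e₂ * g⁻¹ = ⁅g, e₂⁆ * e₂ by rw [commutatorElement_def]; group]
              generalize ⁅g, e₁⁆ = u at ha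
              generalize ⁅g, e₂⁆ = w at hb
              have hu1 : u * (w * e₂) = w * e₂ * u :=
                (mem_centralizer_iff.1 ha.2 _ (mul_mem hb.1 he₂)).symm
              have hw1 : e₁ * w = w * e₁ := mem_centralizer_iff.1 hb.2 e₁ he₁
              simp only [commutatorElement_def, mul_inv_rev]
              calc u * e₁ * (w * e₂) * (e₁⁻¹ * u⁻¹) * (e₂⁻¹ * w⁻¹)
                  = u * (e₁ * w) * e₂ * e₁⁻¹ * u⁻¹ * e₂⁻¹ * w⁻¹ := by group
                _ = u * w * (e₁ * e₂ * e₁⁻¹ * e₂⁻¹) * (e₂ * u⁻¹ * e₂⁻¹) * w⁻¹ := by rw [hw1]; group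
                _ = u * w * (e₁ * e₂ * e₁⁻¹ * e₂⁻¹) * u⁻¹ * w⁻¹ := by
                    rw [mem_centralizer_iff.1 (inv_mem ha.2) e₂ he₂, mul_inv_cancel_right]
                _ = e₁ * e₂ * e₁⁻¹ * e₂⁻¹ := by
                    have hk : e₁ * e₂ * e₁⁻¹ * e₂⁻¹ ∈ E := (hcz e₁ he₁ e₂ he₂).1
                    have hku := mem_centralizer_iff.1 (inv_mem ha.2) _ hk
                    rw [mul_assoc (u * w), hku]
                    have huw := mem_centralizer_iff.1 ha.2 w hb.1
                    have hwk := mem_centralizer_iff.1 hb.2 _ hk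
                    rw [← huw]
                    calc w * u * (u⁻¹ * (e₁ * e₂ * e₁⁻¹ * e₂⁻¹)) * w⁻¹
                        = w * (e₁ * e₂ * e₁⁻¹ * e₂⁻¹) * w⁻¹ := by group
                      _ = e₁ * e₂ * e₁⁻¹ * e₂⁻¹ := by rw [← hwk, mul_inv_cancel_right]
            exact mul_inv_eq_iff_eq_mul.1 h2
          have : zpowers ⁅e₁, e₂⁆ ≤ centralizer ({g} : Set G) :=
            zpowers_le.2 (mem_centralizer_singleton_iff.2 hfix.symm)
          exact (mem_centralizer_singleton_iff.1 (this (hgen hz))).symm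
        · intro x hx h
          exact hAE (mem_of_commute_rank_two hr hAel hA2.le hx fun a ha => h a (hAE ha))
        · intro K₀ hK₀P hK₀ D hD
          obtain ⟨e₃, he₃, he₃A⟩ : ∃ e ∈ E, e ∉ A := by
            by_contra h
            push Not at h
            have : IsMulCommutative E := le_antisymm h hAE ▸ hAab
            exact hab this
          have hgen : E ≤ A ⊔ zpowers e₃ := by
            have hle : A ⊔ zpowers e₃ ≤ E := sup_le hAE (zpowers_le.2 he₃)
            obtain ⟨i, hi⟩ := IsPGroup.iff_card.1 (hEp.to_le hle)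
            have hlt : Nat.card A < Nat.card ↥(A ⊔ zpowers e₃) :=
              lt_of_le_of_ne (Nat.le_of_dvd Nat.card_pos (card_dvd_of_le le_sup_left)) fun h =>
                he₃A ((eq_of_le_of_card_ge (le_sup_left : A ≤ A ⊔ zpowers e₃) h.ge).symm ▸
                  mem_sup_right (mem_zpowers e₃))
            rw [← hA2, hi] at hlt
            rw [← hA2, ← pow_succ] at hEA
            refine (eq_of_le_of_card_ge hle (hEA.trans ?_)).ge
            rw [hi]
            exact Nat.pow_le_pow_right hPpr.pos ((Nat.pow_lt_pow_iff_right hPpr.one_lt).1 hlt)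
          let F : ↥K₀ ⧸ D.subgroupOf K₀ → Z × Z := fun q =>
            (⟨_, hK₀ _ q.out.2 e₁ he₁⟩, ⟨_, hK₀ _ q.out.2 e₃ he₃⟩)
          refine (Nat.card_le_card_of_injective F fun q q' h => ?_).trans
            (by rw [Nat.card_prod, hZc, sq])
          rw [← QuotientGroup.out_eq' q, ← QuotientGroup.out_eq' q', QuotientGroup.eq, mem_subgroupOf]
          set a : G := (q.out : G)
          set b : G := (q'.out : G)
          show a⁻¹ * b ∈ D
          have hsame : ∀ e, ⁅a, e⁆ = ⁅b, e⁆ → a⁻¹ * b ∈ centralizer ({e} : Set G) := by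
            intro e he
            rw [mem_centralizer_singleton_iff]
            have h1 : a * e * a⁻¹ = b * e * b⁻¹ := by
              simpa [commutatorElement_def, mul_right_cancel_iff] using he
            calc a⁻¹ * b * e = a⁻¹ * (b * e * b⁻¹) * b := by group
              _ = a⁻¹ * (a * e * a⁻¹) * b := by rw [h1]
              _ = e * (a⁻¹ * b) := by group
          refine hD _ (mul_mem (inv_mem q.out.2) q'.out.2) fun e he => ?_
          have hZfix : ∀ w ∈ K₀, ∀ z ∈ Z, w * z = z * w := by
            intro w hw z hz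
            exact congrArg Subtype.val (mem_center_iff.1
              ((le_center_of_card_prime hPp (N := Z.subgroupOf P) (by
                rw [Nat.card_congr (subgroupOfEquivOfLe
                  ((inf_le_left : Z ≤ E).trans (hEle.trans hCle))).toEquiv, hZc]))
                (show (⟨z, hCle hz.1.1⟩ : P) ∈ Z.subgroupOf P from hz)) ⟨w, hK₀P hw⟩)
          have h1 : A ⊔ zpowers e₃ ≤ centralizer ({a⁻¹ * b} : Set G) :=
            sup_le (sup_le
              (fun z hz => mem_centralizer_singleton_iff.2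
                (hZfix _ (mul_mem (inv_mem q.out.2) q'.out.2) z hz).symm)
              (zpowers_le.2 (mem_centralizer_singleton_iff.2
                (mem_centralizer_singleton_iff.1
                  (hsame e₁ (congrArg Subtype.val (congrArg Prod.fst h)))).symm)))
              (zpowers_le.2 (mem_centralizer_singleton_iff.2
                (mem_centralizer_singleton_iff.1
                  (hsame e₃ (congrArg Subtype.val (congrArg Prod.snd h)))).symm))
          exact (mem_centralizer_singleton_iff.1 (h1 (hgen he))).symm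
    haveI := hNn
    -- the action on `E ⧸ N`
    set V := E.map (QuotientGroup.mk' N) with hV
    haveI : V.Normal := hEn.map _ (QuotientGroup.mk'_surjective _)
    let ρ : G →* MulAut V := MulAut.conjNormal.comp (QuotientGroup.mk' N)
    have hker : ∀ g ∈ ρ.ker, ∀ e ∈ E, ⁅g, e⁆ ∈ N := by
      intro g hg e he
      have h1 := congrArg (fun f : MulAut V => ((f ⟨_, mem_map_of_mem _ he⟩ : V) : G ⧸ N)) hg
      simp only [ρ, MonoidHom.comp_apply, MulAut.conjNormal_apply, MulAut.one_apply,
        QuotientGroup.mk'_apply] at h1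
      rw [← QuotientGroup.eq_one_iff, commutatorElement_def, QuotientGroup.mk_mul,
        QuotientGroup.mk_mul, QuotientGroup.mk_mul, QuotientGroup.mk_inv, QuotientGroup.mk_inv, h1,
        mul_inv_cancel]
    have hKP : ρ.ker ≤ P := by
      refine hinP _ inferInstance fun g hg hgp e he => ?_
      have hc := hker g hg e he
      rw [commutatorElement_def] at hc
      have hfix : g * (g * e * g⁻¹ * e⁻¹) * g⁻¹ = g * e * g⁻¹ * e⁻¹ :=
        mul_inv_eq_iff_eq_mul.2 (hNfix g (hker g hg) _ hc)
      have hpw : ∀ i : ℕ, g ^ i * e * (g ^ i)⁻¹ = (g * e * g⁻¹ * e⁻¹) ^ i * e := by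
        intro i
        induction i with
        | zero => simp
        | succ i ih =>
          have hci : g * (g * e * g⁻¹ * e⁻¹) ^ i * g⁻¹ = (g * e * g⁻¹ * e⁻¹) ^ i := by
            rw [← conj_pow, hfix]
          calc g ^ (i + 1) * e * (g ^ (i + 1))⁻¹ = g * (g ^ i * e * (g ^ i)⁻¹) * g⁻¹ := by
                rw [pow_succ']; group
            _ = (g * (g * e * g⁻¹ * e⁻¹) ^ i * g⁻¹) * (g * e * g⁻¹) := by rw [ih]; group
            _ = (g * e * g⁻¹ * e⁻¹) ^ (i + 1) * e := by rw [hci, pow_succ]; group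
      have h1 := hpw (orderOf g)
      rw [pow_orderOf_eq_one] at h1
      simp only [inv_one, mul_one, one_mul] at h1
      have h5 : g * e * g⁻¹ * e⁻¹ = 1 := orderOf_eq_one_iff.1 (Nat.eq_one_of_dvd_coprimes hgp
        (orderOf_dvd_of_pow_eq_one (mul_eq_right.1 h1.symm))
        (orderOf_dvd_of_pow_eq_one (hNE hc).2))
      exact mul_inv_eq_iff_eq_mul.1 (mul_inv_eq_one.1 h5)
    set D := P ⊓ centralizer (E : Set G) with hDdef
    have hDcen : ∀ x ∈ D, x ^ p = 1 → x ∈ E ⊓ centralizer (E : Set G) := fun x hx hxp =>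
      ⟨hOmega x hxp fun e he => (mem_centralizer_iff.1 hx.2 e he).symm, hx.2⟩
    rcases chief_cases hKH hchief D with hleD | heqD
    · rcases chief_cases hKH hchief ρ.ker with hleK | heqK
      · obtain ⟨n, hn⟩ := hpow
        have hdvd : p ^ n ∣ Nat.card ρ.range := by
          rw [← hn, ← index_ker, ← relIndex_top_right]
          exact chief_step hleK (by rw [inf_top_eq, sup_eq_left.2 hKH])
        have hVc : Nat.card V ∣ p ^ 2 := by
          have h1 : N.relIndex E = Nat.card V := by rw [hV, ← relIndex_ker, QuotientGroup.ker_mk']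
          have h2 := relIndex_mul_relIndex ⊥ N E bot_le hNE
          rw [relIndex_bot_left, relIndex_bot_left, h1] at h2
          exact Nat.dvd_of_mul_dvd_mul_left Nat.card_pos (h2 ▸ hNcard)
        obtain ⟨S⟩ : Nonempty (Sylow p ρ.range) := inferInstance
        have hS := card_le_of_pGroup_action hVc ((S : Subgroup ρ.range).map ρ.range.subtype)
          (S.2.map _)
        rw [← Nat.card_congr (equivMapOfInjective (S : Subgroup ρ.range) _
          ρ.range.subtype_injective).toEquiv] at hS
        have hle := Nat.le_of_dvd Nat.card_pos (S.pow_dvd_card_of_pow_dvd_card hdvd)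
        rw [hn]
        exact (hle.trans hS).trans (Nat.le_self_pow two_ne_zero p)
      · refine (Nat.le_of_dvd (Nat.pos_of_ne_zero (show D.relIndex ρ.ker ≠ 0 from index_ne_zero_of_finite)) (chief_step hleD heqK)).trans
          (hD ρ.ker hKP hker D fun g hg h => ⟨hKP hg, mem_centralizer_iff.2 fun e he => (h e he).symm⟩)
    · refine relIndex_le_of_central hp2 _ G le_rfl D (hPp.to_le inf_le_left) ?_ ?_ H K hKH hchief heqD
      · intro x hx hxp y hy
        exact (mem_centralizer_iff.1 hy.2 x (hDcen x hx hxp).1).symm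
      · have hcard := hr (E ⊓ centralizer (E : Set G))
          ⟨⟨fun a b => Subtype.ext (mem_centralizer_iff.1 b.2.2 a a.2.1)⟩⟩ fun a ha => ha.1.2
        refine le_trans (Nat.card_le_card_of_injective
          (fun x : {x : G // x ∈ D ∧ x ^ p = 1} =>
            (⟨x.1, hDcen x.1 x.2.1 x.2.2⟩ : ↥(E ⊓ centralizer (E : Set G)))) ?_) hcard
        intro x y h
        exact Subtype.ext (congrArg Subtype.val h :)

end Main

end CfsgLib.Techniques
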