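import Cfsg.Agent.Lib.Techniques.SectionFusion
import Cfsg.Agent.Lib.Transfer.Fusion
import Cfsg.Agent.S1960
import Mathlib.GroupTheory.Transfer

/-!
Transfer controlled by a family of section functors: reduction to the sections with
`C(O_p) ≤ O_p`.
-/

namespace CfsgLib.Techniques

open Subgroup
open scoped Pointwise

universe u

section Basic

variable {G : Type u} [Group G]

/-- The part of `S` accounted for by the normalizers of the values `V S`. -/
abbrev transferPart (𝓥 : Set (Subgroup G → Subgroup G)) (S : Subgroup G) : Subgroup G :=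
  ⨆ V ∈ 𝓥, S ⊓ ⁅(⊤ : Subgroup G) ⊓ Subgroup.normalizer ((V S : Subgroup G) : Set G),
    (⊤ : Subgroup G) ⊓ Subgroup.normalizer ((V S : Subgroup G) : Set G)⁆

theorem transferPart_le (𝓥 : Set (Subgroup G → Subgroup G)) (S : Subgroup G) :
    transferPart 𝓥 S ≤ S :=
  iSup₂_le fun _ _ => inf_le_left

theorem transferPart_le_commutator (𝓥 : Set (Subgroup G → Subgroup G)) (S : Subgroup G) :
    transferPart 𝓥 S ≤ ⁅(⊤ : Subgroup G), ⊤⁆ :=
  iSup₂_le fun _ _ => inf_le_right.trans (Subgroup.commutator_mono le_top le_top)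

theorem map_top_inf_normalizer {H : Type u} [Group H] (f : H →* G) (hf : Function.Injective f)
    (V : Subgroup H) :
    ((⊤ : Subgroup H) ⊓ Subgroup.normalizer (V : Set H)).map f =
      f.range ⊓ Subgroup.normalizer ((V.map f : Subgroup G) : Set G) := by
  ext g
  constructor
  · rintro ⟨n, hn, rfl⟩
    exact Subgroup.mem_inf.mpr ⟨⟨n, rfl⟩,
      Subgroup.le_normalizer_map f ⟨n, (Subgroup.mem_inf.mp hn).2, rfl⟩⟩
  · intro hg
    obtain ⟨⟨n, rfl⟩, hn⟩ := Subgroup.mem_inf.mp hg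
    refine ⟨n, Subgroup.mem_inf.mpr ⟨trivial, ?_⟩, rfl⟩
    rw [Subgroup.mem_normalizer_iff] at hn ⊢
    intro v
    have := hn (f v)
    rwa [← map_inv, ← map_mul, ← map_mul, Subgroup.mem_map_iff_mem hf,
      Subgroup.mem_map_iff_mem hf] at this

variable {p : ℕ} {𝓦 : Set (∀ (Q : Type u) [Group Q], Subgroup Q)}

/-- Control of transfer in a group gives control in its isomorphic image. -/
theorem familyTransfer_map (h𝓦 : ∀ W ∈ 𝓦, Cfsg.IsCharPFunctor.{u} p W) {H : Type u} [Group H]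
    [Finite H] (f : H →* G) (hf : Function.Injective f)
    (h : Cfsg.FamilyControlsTransferIn p (inducedSet 𝓦 H) ⊤) :
    Cfsg.FamilyControlsTransferIn p (inducedSet 𝓦 G) f.range := by
  obtain ⟨T, -, hTp, hTi, hctl⟩ := h
  refine ⟨T.map f, (f.range_eq_map ▸ Subgroup.map_mono le_top), hTp.map f, ?_, ?_⟩
  · rwa [f.range_eq_map, Subgroup.relIndex_map_map_of_injective _ _ hf]
  rw [inducedSet, iSup_image] at hctl
  have key := congrArg (Subgroup.map f) hctl
  simp only [Subgroup.map_iSup, Subgroup.map_inf _ _ f hf, Subgroup.map_commutator,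
    ← f.range_eq_map] at key
  rw [key, inducedSet, iSup_image]
  refine iSup_congr fun W => iSup_congr fun hW => ?_
  rw [inducedFunctor_map (h𝓦 W hW) hTp f hf.injOn, ← map_top_inf_normalizer f hf,
    Subgroup.map_inf _ _ f hf, ← f.range_eq_map]

/-- Control of transfer transports along isomorphisms. -/
theorem familyTransfer_congr (h𝓦 : ∀ W ∈ 𝓦, Cfsg.IsCharPFunctor.{u} p W) {H : Type u} [Group H]
    [Finite H] (e : H ≃* G) (h : Cfsg.FamilyControlsTransferIn p (inducedSet 𝓦 H) ⊤) :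
    Cfsg.FamilyControlsTransferIn p (inducedSet 𝓦 G) ⊤ := by
  have := familyTransfer_map h𝓦 e.toMonoidHom e.injective h
  rwa [MonoidHom.range_eq_top.mpr e.surjective] at this

theorem commutator_le_self (J : Subgroup G) : ⁅J, J⁆ ≤ J :=
  (map_subtype_commutator J).symm.le.trans (Subgroup.map_subtype_le _)

end Basic

section Transfer

variable {G : Type u} [Group G] [Finite G] {p : ℕ} [Fact p.Prime]

omit [Fact p.Prime] in
/-- Transfer of an element of a normal subgroup `N ≤ H`: the product over the cosets. -/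
theorem transfer_eq_prod_of_mem_normal {H N : Subgroup G} [N.Normal] {A : Type*} [CommGroup A]
    (φ : H →* A) (hNH : N ≤ H) [Fintype (G ⧸ H)] {x : G} (hx : x ∈ N) :
    MonoidHom.transfer φ x =
      ∏ c : G ⧸ H, φ ⟨c.out⁻¹ * x * c.out,
        hNH (by simpa using (‹N.Normal›).conj_mem x hx c.out⁻¹)⟩ := by
  classical
  have hfix : ∀ c : G ⧸ H, x • c = c := by
    intro c
    induction c using QuotientGroup.induction_on with
    | _ g =>
      rw [MulAction.Quotient.smul_coe, QuotientGroup.eq]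
      refine hNH ?_
      simpa [mul_assoc] using (‹N.Normal›).conj_mem x⁻¹ (inv_mem hx) g⁻¹
  haveI : Fintype (Quotient (MulAction.orbitRel (Subgroup.zpowers x) (G ⧸ H))) :=
    Fintype.ofFinite _
  rw [MonoidHom.transfer_eq_prod_quotient_orbitRel_zpowers_quot]
  have hmin : ∀ c : G ⧸ H, Function.minimalPeriod (x • ·) c = 1 := fun c =>
    Function.minimalPeriod_eq_one_iff_isFixedPt.mpr (hfix c)
  refine Fintype.prod_bijective (fun q => q.out) ⟨Quotient.out_injective, fun c => ?_⟩ _ _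
    fun q => ?_
  · refine ⟨Quotient.mk'' c, ?_⟩
    obtain ⟨⟨_, k, rfl⟩, hk⟩ :=
      (Quotient.mk_out (s := MulAction.orbitRel (Subgroup.zpowers x) (G ⧸ H)) c :)
    refine hk.symm.trans ?_
    exact MulAction.mem_stabilizer_iff.mp
      (zpow_mem (MulAction.mem_stabilizer_iff.mpr (hfix c)) k)
  · congr 1
    ext
    simp [hmin]

/-- An element of a normal subgroup of `S` with a single `S`-image of its conjugates. -/
theorem hom_eq_one_of_mem_commutator (S : Sylow p G) {N : Subgroup G} [N.Normal]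
    (hNS : N ≤ (S : Subgroup G)) {A : Type*} [CommGroup A] (φ : (S : Subgroup G) →* A) {q : G}
    (hq : q ∈ N) (hq' : q ∈ commutator G)
    (hφ : ∀ g : G, φ ⟨g⁻¹ * q * g, hNS (by simpa using (‹N.Normal›).conj_mem q hq g⁻¹)⟩ =
      φ ⟨q, hNS hq⟩) : φ ⟨q, hNS hq⟩ = 1 := by
  haveI : Fintype (G ⧸ (S : Subgroup G)) := Fintype.ofFinite _
  have h1 : MonoidHom.transfer φ q = 1 := Abelianization.commutator_subset_ker _ hq'
  rw [transfer_eq_prod_of_mem_normal φ hNS hq] at h1
  simp only [hφ, Finset.prod_const, Finset.card_univ, ← Nat.card_eq_fintype_card,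
    ← Subgroup.index_eq_card] at h1
  refine orderOf_eq_one_iff.mp (Nat.eq_one_of_dvd_coprimes ?_ dvd_rfl
    (orderOf_dvd_of_pow_eq_one h1))
  obtain ⟨k, hk⟩ := isPGroup_iff_orderOf_dvd_pow.mp S.2 ⟨q, hNS hq⟩
  refine Nat.Coprime.coprime_dvd_left ((orderOf_map_dvd φ _).trans hk) ?_
  exact ((Nat.Prime.coprime_iff_not_dvd Fact.out).mpr S.not_dvd_index).pow_left k

variable {𝓦 : Set (∀ (Q : Type u) [Group Q], Subgroup Q)}
  (h𝓦 : ∀ W ∈ 𝓦, Cfsg.IsCharPFunctor.{u} p W)

include h𝓦 in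
/-- A controlled subgroup containing `S` contributes only to the transfer part. -/
theorem inf_commutator_le_transferPart (S : Sylow p G) {L : Subgroup G}
    (hL : Cfsg.FamilyControlsTransferIn p (inducedSet 𝓦 G) L) (hSL : (S : Subgroup G) ≤ L) :
    (S : Subgroup G) ⊓ ⁅L, L⁆ ≤ transferPart (inducedSet 𝓦 G) (S : Subgroup G) := by
  rw [familyControlsTransfer_at (inducedSet_conjugacy h𝓦 G) hL
    ((isSylowSub_sylow S).of_le hSL le_top)]
  exact iSup₂_mono fun V _ => inf_le_inf le_rfl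
    (Subgroup.commutator_mono (inf_le_inf le_top le_rfl) (inf_le_inf le_top le_rfl))

omit [Fact p.Prime] in
theorem familyControlsTransfer_of_le [Fact p.Prime] (S : Sylow p G)
    {𝓥 : Set (Subgroup G → Subgroup G)}
    (h : (S : Subgroup G) ⊓ ⁅(⊤ : Subgroup G), ⊤⁆ ≤ transferPart 𝓥 (S : Subgroup G)) :
    Cfsg.FamilyControlsTransferIn p 𝓥 ⊤ :=
  ⟨(S : Subgroup G), le_top, S.2, (isSylowSub_sylow S).2.2,
    le_antisymm h (le_inf (transferPart_le _ _) (transferPart_le_commutator _ _))⟩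

include h𝓦 in
/-- Transfer modulo a normal `p'`-subgroup. -/
theorem transfer_of_quotient_coprime (N : Subgroup G) [N.Normal] (hN : (Nat.card N).Coprime p)
    (hq : Cfsg.FamilyControlsTransferIn p (inducedSet 𝓦 (G ⧸ N)) ⊤) (S : Sylow p G) :
    (S : Subgroup G) ⊓ ⁅(⊤ : Subgroup G), ⊤⁆ ≤ transferPart (inducedSet 𝓦 G) (S : Subgroup G) := by
  set π := QuotientGroup.mk' N with hπ
  have hinj : Set.InjOn π ((S : Subgroup G) : Set G) := injOn_mk' (inf_eq_bot_of_coprime S.2 hN)
  have hS' : IsSylowSub p ((S : Subgroup G).map π) ⊤ := by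
    have h := isSylowSub_sylow (S.mapSurjective (QuotientGroup.mk'_surjective N))
    rwa [Sylow.coe_mapSurjective] at h
  have hbar : (S : Subgroup G).map π ⊓ ⁅(⊤ : Subgroup (G ⧸ N)), ⊤⁆ ≤
      (transferPart (inducedSet 𝓦 G) (S : Subgroup G)).map π := by
    rw [familyControlsTransfer_at (inducedSet_conjugacy h𝓦 _) hq hS']
    refine iSup₂_le ?_
    rintro _ ⟨W, hW, rfl⟩
    set J := Subgroup.normalizer ((Cfsg.inducedFunctor W (S : Subgroup G) : Subgroup G) : Set G)
      with hJ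
    have hVp : IsPGroup p (Cfsg.inducedFunctor W (S : Subgroup G) : Subgroup G) :=
      S.2.to_le (Subgroup.map_subtype_le _)
    have hSJ : (S : Subgroup G) ≤ J :=
      le_normalizer_functor (inducedFunctor_isConjugacyFunctor (h𝓦 W hW) G) S.2
    intro y hy
    obtain ⟨⟨s, hs, rfl⟩, hy2⟩ := Subgroup.mem_inf.mp hy
    dsimp only at hy2
    rw [top_inf_eq, inducedFunctor_map (h𝓦 W hW) S.2 π hinj, hπ,
      ← CfsgLib.PLocal.map_normalizer_eq N hN hVp, ← Subgroup.map_commutator] at hy2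
    obtain ⟨l, hl, hls⟩ := hy2
    refine ⟨s, Subgroup.mem_iSup_of_mem _ (Subgroup.mem_iSup_of_mem ⟨W, hW, rfl⟩
      (Subgroup.mem_inf.mpr ⟨hs, ?_⟩)), rfl⟩
    rw [top_inf_eq, ← hJ]
    have hlJ : l ∈ J := commutator_le_self J hl
    set o : J := (⟨l, hlJ⟩ : J)⁻¹ * ⟨s, hSJ hs⟩ with ho
    have hoN : (o : G) ∈ N := QuotientGroup.eq.mp hls
    rw [← map_subtype_commutator] at hl ⊢
    refine ⟨⟨s, hSJ hs⟩, ?_, rfl⟩
    obtain ⟨⟨l', hl'J⟩, hl', rfl⟩ := hl
    rw [SetLike.mem_coe, ← Abelianization.ker_of, MonoidHom.mem_ker] at hl'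
    have hab : Abelianization.of (⟨s, hSJ hs⟩ : J) = Abelianization.of o := by
      rw [ho, map_mul, map_inv, show (⟨_, hlJ⟩ : J) = ⟨l', hl'J⟩ from rfl, hl', inv_one, one_mul]
    rw [SetLike.mem_coe, ← Abelianization.ker_of, MonoidHom.mem_ker]
    refine orderOf_eq_one_iff.mp (Nat.eq_one_of_dvd_coprimes ?_
      (orderOf_map_dvd Abelianization.of (⟨s, hSJ hs⟩ : J)) (hab ▸ orderOf_map_dvd _ o))
    obtain ⟨k, hk⟩ := isPGroup_iff_orderOf_dvd_pow.mp S.2 ⟨s, hs⟩
    refine (Nat.Coprime.coprime_dvd_left ?_ ((hN.symm).pow_left k)).coprime_dvd_right ?_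
    · rwa [← Subgroup.orderOf_coe, Subgroup.coe_mk] at hk ⊢
    · rw [← Subgroup.orderOf_coe]
      exact N.orderOf_dvd_natCard hoN
  intro x hx
  obtain ⟨hxS, hxc⟩ := Subgroup.mem_inf.mp hx
  obtain ⟨z, hz, hzx⟩ := hbar (Subgroup.mem_inf.mpr ⟨⟨x, hxS, rfl⟩, by
    have h := Subgroup.mem_map_of_mem π hxc
    rw [Subgroup.map_commutator] at h
    exact Subgroup.commutator_mono le_top le_top h⟩)
  exact hinj hxS (transferPart_le _ _ hz) hzx.symm ▸ hz

include h𝓦 in
/-- Transfer modulo `O_p`. -/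
theorem transfer_le_sup_pCore
    (ind : ∀ L : Subgroup G, L ≠ ⊤ → Cfsg.FamilyControlsTransferIn p (inducedSet 𝓦 G) L)
    (indq : Cfsg.FamilyControlsTransferIn p (inducedSet 𝓦 (G ⧸ Cfsg.pCore p G)) ⊤)
    (S : Sylow p G) :
    (S : Subgroup G) ⊓ ⁅(⊤ : Subgroup G), ⊤⁆ ≤
      transferPart (inducedSet 𝓦 G) (S : Subgroup G) ⊔
        (Cfsg.pCore p G ⊓ ⁅(⊤ : Subgroup G), ⊤⁆) := by
  set Q := Cfsg.pCore p G with hQdef
  haveI : Q.Normal := CfsgLib.Core.normal_pCore p G
  set Z := transferPart (inducedSet 𝓦 G) (S : Subgroup G) with hZ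
  have hQS : Q ≤ (S : Subgroup G) := CfsgLib.Core.pCore_le_sylow S
  by_cases hSQ : (S : Subgroup G) ≤ Q
  · exact (inf_le_inf_right _ hSQ).trans le_sup_right
  set π := QuotientGroup.mk' Q with hπ
  have hS' : IsSylowSub p ((S : Subgroup G).map π) ⊤ := by
    have h := isSylowSub_sylow (S.mapSurjective (QuotientGroup.mk'_surjective Q))
    rwa [Sylow.coe_mapSurjective] at h
  have hcm : ((S : Subgroup G).map π).comap π = (S : Subgroup G) := by
    rw [Subgroup.comap_map_eq, hπ, QuotientGroup.ker_mk', sup_eq_left.mpr hQS]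
  have hbar : (S : Subgroup G).map π ⊓ ⁅(⊤ : Subgroup (G ⧸ Q)), ⊤⁆ ≤ Z.map π := by
    rw [familyControlsTransfer_at (inducedSet_conjugacy h𝓦 _) indq hS']
    refine iSup₂_le fun V' hV' => ?_
    have hW' := inducedSet_conjugacy h𝓦 _ V' hV'
    set L := (Subgroup.normalizer ((V' ((S : Subgroup G).map π) : Subgroup (G ⧸ Q)) :
      Set (G ⧸ Q))).comap π with hL
    have hne : (S : Subgroup G).map π ≠ ⊥ := fun hb => hSQ (by
      rw [← hcm, hb, MonoidHom.comap_bot, hπ, QuotientGroup.ker_mk'])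
    have hLne : L ≠ ⊤ := fun ht => normalizer_ne_top_of_pCore_bot
      (CfsgLib.Core.pCore_quotient_pCore p G)
      ((S.2.map π).to_le (functor_le hW' (S.2.map π)))
      (functor_ne_bot hW' (S.2.map π) hne) (by
        rw [eq_top_iff, ← Subgroup.map_top_of_surjective π (QuotientGroup.mk'_surjective Q), ← ht]
        exact Subgroup.map_comap_le _ _)
    have hSL : (S : Subgroup G) ≤ L := fun s hs =>
      le_normalizer_functor hW' (S.2.map π) ⟨s, hs, rfl⟩
    rw [top_inf_eq, ← Subgroup.map_comap_eq_self_of_surjective (QuotientGroup.mk'_surjective Q)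
      (Subgroup.normalizer ((V' ((S : Subgroup G).map π) : Subgroup (G ⧸ Q)) : Set (G ⧸ Q))),
      ← hπ, ← hL, ← Subgroup.map_commutator]
    rintro y hy
    obtain ⟨⟨s, hs, rfl⟩, l, hl, hls⟩ := Subgroup.mem_inf.mp hy
    have hlS : l ∈ (S : Subgroup G) := by
      rw [← hcm]
      exact ⟨s, hs, hls.symm⟩
    exact ⟨l, inf_commutator_le_transferPart h𝓦 S (ind L hLne) hSL
      (Subgroup.mem_inf.mpr ⟨hlS, hl⟩), hls⟩
  intro x hx
  obtain ⟨hxS, hxc⟩ := Subgroup.mem_inf.mp hx
  obtain ⟨z, hz, hzx⟩ := hbar (Subgroup.mem_inf.mpr ⟨⟨x, hxS, rfl⟩, by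
    have h := Subgroup.mem_map_of_mem π hxc
    rw [Subgroup.map_commutator] at h
    exact Subgroup.commutator_mono le_top le_top h⟩)
  have h1 : z⁻¹ * x ∈ Q ⊓ ⁅(⊤ : Subgroup G), ⊤⁆ := Subgroup.mem_inf.mpr
    ⟨QuotientGroup.eq.mp hzx, mul_mem (inv_mem (transferPart_le_commutator _ _ hz)) hxc⟩
  have h2 := Subgroup.mul_mem_sup hz h1
  rwa [mul_inv_cancel_left] at h2

include h𝓦 in
/-- The case with no normal `p'`-subgroup and a normal `p`-subgroup not containing its centralizer. -/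
theorem transfer_of_not_constrained (hO : Cfsg.pPrimeCore p G = ⊥)
    (hQ : ¬ Subgroup.centralizer ((Cfsg.pCore p G : Subgroup G) : Set G) ≤ Cfsg.pCore p G)
    (ind : ∀ L : Subgroup G, L ≠ ⊤ → Cfsg.FamilyControlsTransferIn p (inducedSet 𝓦 G) L)
    (indq : Cfsg.FamilyControlsTransferIn p (inducedSet 𝓦 (G ⧸ Cfsg.pCore p G)) ⊤)
    (S : Sylow p G) :
    (S : Subgroup G) ⊓ ⁅(⊤ : Subgroup G), ⊤⁆ ≤ transferPart (inducedSet 𝓦 G) (S : Subgroup G) := by
  set Q := Cfsg.pCore p G with hQdef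
  haveI : Q.Normal := CfsgLib.Core.normal_pCore p G
  set C := Subgroup.centralizer (Q : Set G) with hCdef
  set K := C ⊔ Q with hK
  set R := (S : Subgroup G) ⊓ K with hR
  set Z := transferPart (inducedSet 𝓦 G) (S : Subgroup G) with hZ
  have hQS : Q ≤ (S : Subgroup G) := CfsgLib.Core.pCore_le_sylow S
  have hRs : IsSylowSub p R K := (isSylowSub_sylow S).inf_normal le_top (by
    rw [Subgroup.normalizer_eq_top])
  have hRn : Subgroup.normalizer (R : Set G) ≠ ⊤ := fun ht => by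
    haveI := Subgroup.normalizer_eq_top_iff.mp ht
    have he : R = Q := le_antisymm (CfsgLib.Core.le_pCore (S.2.to_le inf_le_left))
      (le_inf hQS le_sup_right)
    exact hQ (centralizer_le_of_sylow hO (show IsSylowSub p Q K from he ▸ hRs))
  have hSR : (S : Subgroup G) ≤ Subgroup.normalizer (R : Set G) := by
    intro s hs
    rw [Subgroup.mem_normalizer_iff]
    intro r
    simp only [hR, Subgroup.mem_inf]
    rw [Subgroup.mem_normalizer_iff.mp (Subgroup.le_normalizer hs) r,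
      Subgroup.mem_normalizer_iff.mp
        ((Subgroup.normalizer_eq_top K).symm ▸ Subgroup.mem_top s) r]
  have hdiff : ∀ L : Subgroup G, L ≠ ⊤ → (S : Subgroup G) ≤ L → ∀ l ∈ L,
      ∀ a ∈ (S : Subgroup G), l * a * l⁻¹ ∈ (S : Subgroup G) → a⁻¹ * (l * a * l⁻¹) ∈ Z := by
    intro L hL hSL l hl a ha hla
    refine inf_commutator_le_transferPart h𝓦 S (ind L hL) hSL
      (Subgroup.mem_inf.mpr ⟨mul_mem (inv_mem ha) hla, ?_⟩)
    have := Subgroup.commutator_mem_commutator (inv_mem (hSL ha)) hl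
    simpa [commutatorElement_def, mul_assoc] using this
  by_cases hM : C ⊔ (S : Subgroup G) = ⊤
  swap
  · rw [← _root_.commutator_def, inf_comm]
    refine CfsgLib.Transfer.commutator_inf_le_of_fusion S Z fun a ha g hg => ?_
    obtain ⟨k, hk, n, -, hn, rfl⟩ := exists_mul_normalizer hRs (Subgroup.mem_top g)
      (by rw [Subgroup.normalizer_eq_top]) le_top
    have hKM : K ≤ C ⊔ (S : Subgroup G) := sup_le le_sup_left (hQS.trans le_sup_right)
    set M := C ⊔ (S : Subgroup G) with hMdef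
    have hX : Subgroup.zpowers (k⁻¹ * a * k) ≤ M ⊓ Subgroup.normalizer (R : Set G) := by
      rw [Subgroup.zpowers_le]
      refine Subgroup.mem_inf.mpr ⟨mul_mem (mul_mem (inv_mem (hKM hk))
        ((le_sup_right : (S : Subgroup G) ≤ M) ha)) (hKM hk), ?_⟩
      have e : k⁻¹ * a * k = n * ((k * n)⁻¹ * a * (k * n)) * n⁻¹ := by group
      rw [e]
      exact mul_mem (mul_mem hn (hSR hg)) (inv_mem hn)
    have hXp : IsPGroup p (Subgroup.zpowers (k⁻¹ * a * k)) := by
      have h := (isPGroup_zpowers_of_mem S.2 ha).map (MulAut.conj k⁻¹).toMonoidHom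
      rw [MonoidHom.map_zpowers] at h
      have e : (MulAut.conj k⁻¹).toMonoidHom a = k⁻¹ * a * k :=
        (MulAut.conj_apply k⁻¹ a).trans (by rw [inv_inv])
      rwa [e] at h
    obtain ⟨j, hj, hjS⟩ :=
      ((isSylowSub_sylow S).of_le (le_inf le_sup_right hSR) le_top).exists_conj_le hX hXp
    obtain ⟨hjM, hjN⟩ := Subgroup.mem_inf.mp hj
    have hb : j * k⁻¹ * a * (j * k⁻¹)⁻¹ ∈ (S : Subgroup G) := by
      have := hjS ⟨_, Subgroup.mem_zpowers _, rfl⟩
      simpa [MulAut.conj_apply, mul_assoc] using this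
    have h1 := hdiff M hM le_sup_right _ (mul_mem hjM (inv_mem (hKM hk))) a ha hb
    have h2 := hdiff _ hRn hSR (n⁻¹ * j⁻¹) (mul_mem (inv_mem hn) (inv_mem hjN)) _ hb (by
      simpa [mul_assoc] using hg)
    have h3 := Z.mul_mem h1 h2
    simpa [mul_assoc] using h3
  have hSne : (S : Subgroup G) ≠ ⊤ := fun h => by
    have : (S : Subgroup G).Normal := by rw [h]; infer_instance
    have h1 : (S : Subgroup G) ≤ Q := CfsgLib.Core.le_pCore (N := (S : Subgroup G)) S.2
    exact hQ ((le_top.trans h.ge).trans h1)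
  have hS'Z : ⁅(S : Subgroup G), (S : Subgroup G)⁆ ≤ Z :=
    (le_inf (commutator_le_self _) le_rfl).trans
      (inf_commutator_le_transferPart h𝓦 S (ind _ hSne) le_rfl)
  refine (transfer_le_sup_pCore h𝓦 ind indq S).trans (sup_le le_rfl ?_)
  intro q hq
  obtain ⟨hqQ, hqc⟩ := Subgroup.mem_inf.mp hq
  have key := hom_eq_one_of_mem_commutator S hQS
    (Abelianization.of (G := (S : Subgroup G))) hqQ (by rwa [_root_.commutator_def]) fun g => by
      obtain ⟨c, hc, s, hs, rfl⟩ := Subgroup.mem_sup_of_normal_left.mp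
        (hM.symm ▸ Subgroup.mem_top g : g ∈ C ⊔ (S : Subgroup G))
      have e : (c * s)⁻¹ * q * (c * s) = s⁻¹ * q * s := by
        have := Subgroup.mem_centralizer_iff.mp hc q hqQ
        calc (c * s)⁻¹ * q * (c * s) = s⁻¹ * c⁻¹ * (q * c) * s := by group
          _ = s⁻¹ * q * s := by rw [this]; group
      calc Abelianization.of (⟨(c * s)⁻¹ * q * (c * s), _⟩ : (S : Subgroup G))
          = Abelianization.of ((⟨s, hs⟩ : (S : Subgroup G))⁻¹ * ⟨q, hQS hqQ⟩ * ⟨s, hs⟩) :=
            congrArg _ (Subtype.ext e)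
        _ = _ := by rw [map_mul, map_mul, map_inv, mul_right_comm, inv_mul_cancel, one_mul]
  refine hS'Z ?_
  rw [← map_subtype_commutator]
  refine ⟨⟨q, hQS hqQ⟩, ?_, rfl⟩
  rw [SetLike.mem_coe, ← Abelianization.ker_of, MonoidHom.mem_ker]
  exact key

end Transfer

/-- The functors control transfer in every section if they do so in the constrained ones, where
control in the proper subgroups and quotients may be assumed. -/
theorem familyTransfer_of_sections {G : Type u} [Group G] [Finite G] {p : ℕ} [Fact p.Prime]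
    {𝓦 : Set (∀ (Q : Type u) [Group Q], Subgroup Q)}
    (h𝓦 : ∀ W ∈ 𝓦, Cfsg.IsCharPFunctor.{u} p W)
    (hyp : ∀ (H : Type u) [Group H] [Finite H], IsSec G H →
      Subgroup.centralizer ((Cfsg.pCore p H : Subgroup H) : Set H) ≤ Cfsg.pCore p H →
      (∀ L : Subgroup H, L ≠ ⊤ → Cfsg.FamilyControlsTransferIn p (inducedSet 𝓦 H) L) →
      (∀ N : Subgroup H, ∀ [N.Normal], N ≠ ⊥ →
        Cfsg.FamilyControlsTransferIn p (inducedSet 𝓦 (H ⧸ N)) ⊤) →
      Cfsg.FamilyControlsTransferIn p (inducedSet 𝓦 H) ⊤) :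
    ∀ (H : Type u) [Group H] [Finite H], IsSec G H →
      Cfsg.FamilyControlsTransferIn p (inducedSet 𝓦 H) ⊤ := by
  intro H _ _ hsec
  induction hn : Nat.card H using Nat.strong_induction_on generalizing H with
  | _ n ih => ?_
  subst hn
  have ind : ∀ L : Subgroup H, L ≠ ⊤ →
      Cfsg.FamilyControlsTransferIn p (inducedSet 𝓦 H) L := by
    intro L hL
    have hlt : Nat.card L < Nat.card H :=
      lt_of_le_of_ne (Subgroup.card_le_card_group L) fun h => hL (Subgroup.eq_top_of_card_eq L h)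
    have h := familyTransfer_map h𝓦 L.subtype L.subtype_injective
      (ih _ hlt L (hsec.subgroup L) rfl)
    rwa [Subgroup.range_subtype] at h
  have indq : ∀ N : Subgroup H, ∀ [N.Normal], N ≠ ⊥ →
      Cfsg.FamilyControlsTransferIn p (inducedSet 𝓦 (H ⧸ N)) ⊤ := by
    intro N _ hN
    refine ih _ ?_ (H ⧸ N) (hsec.quotient N) rfl
    rw [← Subgroup.index_eq_card, ← Subgroup.card_mul_index N]
    exact lt_mul_left (Nat.pos_of_ne_zero Subgroup.index_ne_zero_of_finite)
      (N.one_lt_card_iff_ne_bot.mpr hN)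
  haveI : (Cfsg.pPrimeCore p H).Normal := CfsgLib.Core.normal_pPrimeCore p H
  haveI : (Cfsg.pCore p H).Normal := CfsgLib.Core.normal_pCore p H
  obtain ⟨S⟩ : Nonempty (Sylow p H) := inferInstance
  by_cases hO : Cfsg.pPrimeCore p H = ⊥
  swap
  · exact familyControlsTransfer_of_le S (transfer_of_quotient_coprime h𝓦 _
      (CfsgLib.Core.coprime_card_pPrimeCore p H) (indq _ hO) S)
  by_cases hQ : Cfsg.pCore p H = ⊥
  · refine Cfsg.Agent.S1960.result S _ (inducedSet_conjugacy h𝓦 H) fun T hT hne _ => ?_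
    exact ind _ (normalizer_ne_top_of_pCore_bot hQ (S.2.to_le hT) hne)
  by_cases hC : Subgroup.centralizer ((Cfsg.pCore p H : Subgroup H) : Set H) ≤ Cfsg.pCore p H
  · exact hyp H hsec hC ind indq
  exact familyControlsTransfer_of_le S
    (transfer_of_not_constrained h𝓦 hO hC ind (indq _ hQ) S)

/-- Hypotheses on the quotients `K / R` extend to all sections. -/
theorem transfer_sections_of_quotients {G : Type u} [Group G] [Finite G] {p : ℕ}
    {𝓦 : Set (∀ (Q : Type u) [Group Q], Subgroup Q)}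
    (h𝓦 : ∀ W ∈ 𝓦, Cfsg.IsCharPFunctor.{u} p W)
    (hloc : ∀ (K R : Subgroup G) [hR : (R.subgroupOf K).Normal],
      Subgroup.centralizer ((Cfsg.pCore p (↥K ⧸ R.subgroupOf K) :
        Subgroup (↥K ⧸ R.subgroupOf K)) : Set (↥K ⧸ R.subgroupOf K)) ≤
          Cfsg.pCore p (↥K ⧸ R.subgroupOf K) →
      Cfsg.FamilyControlsTransferIn p (inducedSet 𝓦 (↥K ⧸ R.subgroupOf K)) ⊤)
    (H : Type u) [Group H] [Finite H] (hs : IsSec G H)
    (hc : Subgroup.centralizer ((Cfsg.pCore p H : Subgroup H) : Set H) ≤ Cfsg.pCore p H) :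
    Cfsg.FamilyControlsTransferIn p (inducedSet 𝓦 H) ⊤ := by
  obtain ⟨K, R, hn, ⟨e⟩⟩ := hs.exists_quotient
  exact familyTransfer_congr h𝓦 e
    (hloc K R (CfsgLib.PLocal.centralizer_pCore_le_congr e.symm hc))

end CfsgLib.Techniques

namespace CfsgLib.Techniques

open Subgroup

universe v

variable {G : Type v} [Group G] {p : ℕ}

/-- Control of transfer by a one-element family. -/
theorem familyTransfer_singleton_iff (W : Subgroup G → Subgroup G) (H : Subgroup G) :
    Cfsg.FamilyControlsTransferIn p {W} H ↔ Cfsg.ControlsTransferIn p W H := by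
  simp only [Cfsg.FamilyControlsTransferIn, Cfsg.ControlsTransferIn, iSup_singleton]

theorem inducedSet_singleton (W : ∀ (Q : Type v) [Group Q], Subgroup Q) (G : Type v) [Group G] :
    inducedSet {W} G = {Cfsg.inducedFunctor (G := G) W} :=
  Set.image_singleton

theorem transferPart_singleton (W : ∀ (Q : Type v) [Group Q], Subgroup Q) (S : Subgroup G) :
    transferPart (inducedSet {W} G) S =
      S ⊓ ⁅(⊤ : Subgroup G) ⊓
          Subgroup.normalizer ((Cfsg.inducedFunctor W S : Subgroup G) : Set G),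
        (⊤ : Subgroup G) ⊓
          Subgroup.normalizer ((Cfsg.inducedFunctor W S : Subgroup G) : Set G)⁆ := by
  rw [inducedSet_singleton]
  exact iSup_singleton

end CfsgLib.Techniques
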