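import Cfsg.Prelude.Def_Transfer
import Cfsg.Agent.Lib.PGroups.Basic
import Cfsg.Agent.Lib.PGroups.MaxAbelian
import Cfsg.Agent.Lib.PGroups.ClassTwo
import Cfsg.Agent.Lib.Techniques.Order320

/-!
`2`-groups without normal abelian subgroups of rank three and with a group of automorphisms of odd
order such that `[X, A] = X`: the Frattini subgroup is central.
-/

set_option autoImplicit false

namespace CfsgLib.Techniques.SmallRankAut

open Subgroup
open scoped commutatorElement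

variable {X : Type*} [Group X]

/-- The hypotheses. -/
structure IsSetup (A : Subgroup (MulAut X)) : Prop where
  pgroup : IsPGroup 2 X
  odd : Odd (Nat.card A)
  gen : closure {g : X | ∃ φ ∈ A, ∃ x : X, g = x⁻¹ * φ x} = ⊤
  rank : ∀ B : Subgroup X, B.Normal → (∀ a ∈ B, ∀ b ∈ B, a * b = b * a) → ∀ e₁ ∈ B, ∀ e₂ ∈ B, ∀ e₃ ∈ B,
    e₁ * e₁ = 1 → e₂ * e₂ = 1 → e₃ * e₃ = 1 → e₁ ≠ 1 → e₂ ≠ 1 → e₂ ≠ e₁ →
    e₃ = 1 ∨ e₃ = e₁ ∨ e₃ = e₂ ∨ e₃ = e₁ * e₂

theorem rank_of_scn [Finite X] (hX : IsPGroup 2 X)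
    (hscn : ¬ ∃ A : Subgroup X, A.Normal ∧ centralizer (A : Set X) = A ∧
      ∃ E : Subgroup X, E ≤ A ∧ Cfsg.IsElementaryAbelian 2 E ∧ Nat.card E = 8)
    (B : Subgroup X) (hBn : B.Normal) (hBc : ∀ a ∈ B, ∀ b ∈ B, a * b = b * a) {e₁ e₂ e₃ : X}
    (h1 : e₁ ∈ B) (h2 : e₂ ∈ B) (h3 : e₃ ∈ B) (s1 : e₁ * e₁ = 1) (s2 : e₂ * e₂ = 1) (s3 : e₃ * e₃ = 1)
    (n1 : e₁ ≠ 1) (n2 : e₂ ≠ 1) (n21 : e₂ ≠ e₁) : e₃ = 1 ∨ e₃ = e₁ ∨ e₃ = e₂ ∨ e₃ = e₁ * e₂ := by
  classical
  haveI : Fact (Nat.Prime 2) := ⟨Nat.prime_two⟩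
  by_contra hne
  push Not at hne
  obtain ⟨ha, hb, hc, hd⟩ := hne
  obtain ⟨A, hBA, hAn, hAc, hAs⟩ := CfsgLib.PGroups.exists_selfCentralizing hX hBn
    ⟨⟨fun a b => Subtype.ext (hBc a a.2 b b.2)⟩⟩
  set E := closure (({e₁, e₂, e₃} : Finset X) : Set X)
  have hEB : E ≤ B := by
    refine (closure_le _).2 fun z hz => ?_
    simp only [Finset.coe_insert, Finset.coe_singleton, Set.mem_insert_iff, Set.mem_singleton_iff] at hz
    rcases hz with rfl | rfl | rfl <;> assumption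
  have hEsq : ∀ a ∈ E, a * a = 1 := by
    intro a ha
    induction ha using closure_induction with
    | mem z hz =>
      simp only [Finset.coe_insert, Finset.coe_singleton, Set.mem_insert_iff, Set.mem_singleton_iff] at hz
      rcases hz with rfl | rfl | rfl <;> assumption
    | one => exact one_mul 1
    | mul a b ha' hb' ia ib =>
      calc a * b * (a * b) = a * (b * a) * b := by group
        _ = (a * a) * (b * b) := by rw [hBc b (hEB hb') a (hEB ha')]; group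
        _ = 1 := by rw [ia, ib, one_mul]
    | inv a _ ia => rw [← mul_inv_rev, ia, inv_one]
  have hle : Nat.card E ≤ 8 := by
    refine (Order320.card_closure_le _ ?_ ?_).trans ?_
    · intro u hu v hv
      exact hBc u (hEB (subset_closure hu)) v (hEB (subset_closure hv))
    · intro u hu; exact hEsq u (subset_closure hu)
    · calc 2 ^ ({e₁, e₂, e₃} : Finset X).card ≤ 2 ^ 3 := Nat.pow_le_pow_right two_pos Finset.card_le_three
        _ = 8 := rfl
  have m1 : e₁ ∈ E := subset_closure (by simp)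
  have m2 : e₂ ∈ E := subset_closure (by simp)
  have m3 : e₃ ∈ E := subset_closure (by simp)
  have hge : 5 ≤ Nat.card E := by
    let S : Finset X := {1, e₁, e₂, e₁ * e₂, e₃}
    have h12a : e₁ * e₂ ≠ 1 := fun h => n21 (mul_left_cancel (h.trans s1.symm))
    have h12b : e₁ * e₂ ≠ e₁ := fun h => n2 (mul_eq_left.1 h)
    have h12c : e₁ * e₂ ≠ e₂ := fun h => n1 (mul_eq_right.1 h)
    have hS : S.card = 5 := by
      simp [S, Ne.symm n1, Ne.symm n2, Ne.symm n21, Ne.symm h12a, Ne.symm h12b, Ne.symm h12c,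
        Ne.symm ha, Ne.symm hb, Ne.symm hc, Ne.symm hd]
    have hSE : (S : Set X) ⊆ E := by
      intro z hz
      simp only [S, Finset.coe_insert, Finset.coe_singleton, Set.mem_insert_iff, Set.mem_singleton_iff] at hz
      rcases hz with rfl | rfl | rfl | rfl | rfl
      exacts [one_mem _, m1, m2, mul_mem m1 m2, m3]
    have := Set.ncard_le_ncard hSE (Set.toFinite _)
    rw [Set.ncard_coe_finset, hS] at this
    rwa [← Nat.card_coe_set_eq] at this
  refine hscn ⟨A, hAn, hAs, E, hEB.trans hBA, ⟨⟨⟨fun a b => Subtype.ext (hBc a (hEB a.2) b (hEB b.2))⟩⟩,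
    fun a ha => by rw [pow_two]; exact hEsq a ha⟩, ?_⟩
  obtain ⟨k, hk⟩ := IsPGroup.iff_card.mp (hX.to_subgroup E)
  rw [hk] at hle hge ⊢
  have : k = 3 := by
    by_contra h
    rcases Nat.lt_or_ge k 3 with h' | h'
    · have := Nat.pow_le_pow_right two_pos (show k ≤ 2 by omega); omega
    · have := Nat.pow_le_pow_right two_pos (show 4 ≤ k by omega); omega
  rw [this]; norm_num

/-- `B` is invariant under `A`. -/
def Inv (A : Subgroup (MulAut X)) (B : Subgroup X) : Prop := ∀ φ ∈ A, ∀ b ∈ B, φ b ∈ B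

theorem map_comm (φ : MulAut X) (x y : X) : φ ⁅x, y⁆ = ⁅φ x, φ y⁆ := by
  simp [commutatorElement_def]

theorem inv_center (A : Subgroup (MulAut X)) : Inv A (center X) := fun φ _ b hb => by
  rw [mem_center_iff] at hb ⊢
  intro g
  obtain ⟨h, rfl⟩ := φ.surjective g
  rw [← map_mul, hb h, map_mul]

theorem inv_of_characteristic (A : Subgroup (MulAut X)) (B : Subgroup X) [hB : B.Characteristic] : Inv A B :=
  fun φ _ b hb => (Subgroup.characteristic_iff_map_eq.1 hB φ).le ⟨b, hb, rfl⟩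

theorem comm_mul_mem {B : Subgroup X} [B.Normal] {x y b : X} :
    ⁅x * y, b⁆ = x * ⁅y, b⁆ * x⁻¹ * ⁅x, b⁆ := by
  simp only [commutatorElement_def]; group

variable {A : Subgroup (MulAut X)}

theorem odd_orderOf [Finite X] (h : IsSetup A) {φ : MulAut X} (hφ : φ ∈ A) : Odd (orderOf φ) := by
  refine h.odd.of_dvd_nat ?_
  rw [show orderOf φ = orderOf (⟨φ, hφ⟩ : A) from (Subgroup.orderOf_mk φ hφ).symm]
  exact orderOf_dvd_natCard _

/-- If the square of `φ` fixes `e`, so does `φ`. -/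
theorem fix_of_sq_fix [Finite X] (h : IsSetup A) {φ : MulAut X} (hφ : φ ∈ A) {e : X} (he : φ (φ e) = e) :
    φ e = e := by
  obtain ⟨k, hk⟩ := odd_orderOf h hφ
  have h2 : ∀ j : ℕ, ((φ ^ 2) ^ j) e = e := by
    intro j
    induction j with
    | zero => rfl
    | succ j ih => rw [pow_succ, MulAut.mul_apply, show (φ ^ 2) e = e by rw [pow_two]; exact he, ih]
  have h3 : φ ^ (2 * k + 1) = 1 := by rw [← hk]; exact pow_orderOf_eq_one φ
  have := DFunLike.congr_fun h3 e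
  rw [pow_succ', pow_mul, MulAut.mul_apply, h2] at this
  simpa using this

theorem invariant_hom_trivial (h : IsSetup A) {Y : Type*} [Group Y] (f : X →* Y)
    (hf : ∀ φ ∈ A, ∀ x, f (φ x) = f x) (x : X) : f x = 1 := by
  have hx : x ∈ closure {g : X | ∃ φ ∈ A, ∃ x : X, g = x⁻¹ * φ x} := h.gen ▸ mem_top x
  induction hx using closure_induction with
  | mem g hg => obtain ⟨φ, hφ, y, rfl⟩ := hg; rw [map_mul, map_inv, hf φ hφ, inv_mul_cancel]
  | one => exact map_one f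
  | mul a b _ _ ha hb => rw [map_mul, ha, hb, one_mul]
  | inv a _ ha => rw [map_inv, ha, inv_one]

theorem central_of_fixed (h : IsSetup A) {B : Subgroup X} [B.Normal] (hfix : ∀ φ ∈ A, ∀ b ∈ B, φ b = b) :
    B ≤ center X := by
  intro b hb
  rw [mem_center_iff]
  intro x
  have hinv : ∀ φ ∈ A, ∀ y, (MulAut.conjNormal (φ y) : MulAut B) = MulAut.conjNormal y := fun φ hφ y => by
    refine MulEquiv.ext fun d => Subtype.ext ?_
    rw [MulAut.conjNormal_apply, MulAut.conjNormal_apply]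
    calc φ y * (d : X) * (φ y)⁻¹ = φ (y * d * y⁻¹) := by rw [map_mul, map_mul, map_inv, hfix φ hφ d d.2]
      _ = _ := hfix φ hφ _ (Subgroup.Normal.conj_mem inferInstance _ d.2 y)
  have := congrArg (fun m : MulAut B => ((m ⟨b, hb⟩ : B) : X))
    (invariant_hom_trivial h (MulAut.conjNormal : X →* MulAut B) hinv x)
  exact mul_inv_eq_iff_eq_mul.1 (by simpa using this)

theorem fixed_mem [Finite X] (h : IsSetup A) {N : Subgroup X} [N.Normal] (hc : commutator X ≤ N)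
    (hN : Inv A N) {x : X} (hx : ∀ φ ∈ A, x⁻¹ * φ x ∈ N) : x ∈ N := by
  classical
  haveI : Fintype A := Fintype.ofFinite A
  haveI := Subgroup.Normal.quotient_commutative_iff_commutator_le.mpr hc
  letI : CommGroup (X ⧸ N) :=
    { (inferInstance : Group (X ⧸ N)) with mul_comm := fun a b => IsMulCommutative.is_comm.comm a b }
  let T : X →* X ⧸ N := MonoidHom.mk' (fun y => ∏ φ : A, ((φ : MulAut X) y : X ⧸ N)) fun a b => by
    rw [← Finset.prod_mul_distrib]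
    exact Finset.prod_congr rfl fun φ _ => by rw [map_mul]; rfl
  have hT : ∀ φ ∈ A, ∀ y, T (φ y) = T y := fun φ hφ y => by
    show ∏ ψ : A, ((ψ : MulAut X) (φ y) : X ⧸ N) = ∏ ψ : A, ((ψ : MulAut X) y : X ⧸ N)
    exact Fintype.prod_equiv (Equiv.mulRight ⟨φ, hφ⟩) _ _ fun ψ => rfl
  have h1 : T x = 1 := invariant_hom_trivial h T hT x
  have h2 : T x = (x : X ⧸ N) ^ Fintype.card A := by
    show ∏ φ : A, ((φ : MulAut X) x : X ⧸ N) = _
    rw [Finset.prod_eq_pow_card (b := (x : X ⧸ N)) fun φ _ => (QuotientGroup.eq.2 (hx _ (SetLike.coe_mem φ))).symm]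
    rfl
  rw [h2] at h1
  obtain ⟨k, hk⟩ := (h.pgroup.to_quotient N) (x : X ⧸ N)
  refine (QuotientGroup.eq_one_iff x).1 (orderOf_eq_one_iff.1 ?_)
  exact Nat.eq_one_of_dvd_coprimes ((Nat.coprime_two_left.2 (by rw [← Nat.card_eq_fintype_card]; exact h.odd)).pow_left k)
    (orderOf_dvd_of_pow_eq_one hk) (orderOf_dvd_of_pow_eq_one h1)

theorem fix_of_fix_omega [Finite X] (h : IsSetup A) {B : Subgroup X} (hBc : ∀ a ∈ B, ∀ b ∈ B, a * b = b * a)
    (hBi : Inv A B) {φ : MulAut X} (hφ : φ ∈ A) (hfix : ∀ e ∈ B, e * e = 1 → φ e = e) :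
    ∀ b ∈ B, φ b = b := by
  suffices hk : ∀ k : ℕ, ∀ b ∈ B, b ^ 2 ^ k = 1 → φ b = b by
    intro b hb
    obtain ⟨k, hk'⟩ := h.pgroup b
    exact hk k b hb hk'
  intro k
  induction k with
  | zero => intro b _ hb1; rw [pow_zero, pow_one] at hb1; rw [hb1, map_one]
  | succ k ih =>
    intro b hb hbk
    set d := φ b * b⁻¹
    have hdB : d ∈ B := mul_mem (hBi φ hφ b hb) (inv_mem hb)
    have hb2 : φ (b * b) = b * b := ih _ (mul_mem hb hb) (by rw [← pow_two, ← pow_mul, ← pow_succ']; exact hbk)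
    have hd2 : d * d = 1 := by
      calc d * d = φ b * (b⁻¹ * φ b) * b⁻¹ := by simp only [d]; group
        _ = φ (b * b) * (b * b)⁻¹ := by rw [← hBc (φ b) (hBi φ hφ b hb) b⁻¹ (inv_mem hb), map_mul]; group
        _ = 1 := by rw [hb2, mul_inv_cancel]
    refine fix_of_sq_fix h hφ ?_
    have e1 : φ b = d * b := by simp [d]
    rw [e1, map_mul, hfix d hdB hd2, e1, ← mul_assoc, hd2, one_mul]

/-- A normal abelian `A`-invariant subgroup on whose involutions `A` acts nontrivially. -/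
structure IsLayered (A : Subgroup (MulAut X)) (B : Subgroup X) (φ₀ : MulAut X) (r : ℕ) : Prop where
  normal : B.Normal
  comm : ∀ a ∈ B, ∀ b ∈ B, a * b = b * a
  inv : Inv A B
  mem : φ₀ ∈ A
  pos : 1 ≤ r
  exp : ∀ b ∈ B, b ^ 2 ^ r = 1
  root : ∀ e ∈ B, e * e = 1 → ∃ b ∈ B, b ^ 2 ^ (r - 1) = e
  central : ∀ e ∈ B, e * e = 1 → e ∈ center X
  moves : ∀ e ∈ B, e * e = 1 → e ≠ 1 → φ₀ e ≠ e
  four : ∀ e ∈ B, e * e = 1 → e ≠ 1 → ∀ f ∈ B, f * f = 1 → f = 1 ∨ f = e ∨ f = φ₀ e ∨ f = e * φ₀ e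
  ex : ∃ e ∈ B, e * e = 1 ∧ e ≠ 1

theorem exists_layered [Finite X] (h : IsSetup A) {B : Subgroup X} (hBn : B.Normal)
    (hBc : ∀ a ∈ B, ∀ b ∈ B, a * b = b * a) (hBi : Inv A B) {φ₀ : MulAut X} (hφ : φ₀ ∈ A)
    (hmove : ∃ e ∈ B, e * e = 1 ∧ φ₀ e ≠ e) : ∃ r, IsLayered A B φ₀ r := by
  classical
  haveI : Fact (Nat.Prime 2) := ⟨Nat.prime_two⟩
  haveI := hBn
  obtain ⟨e₀, he₀, he₀2, he₀m⟩ := hmove
  have he₀1 : e₀ ≠ 1 := fun e => he₀m (by rw [e, map_one])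
  have him : ∀ e : X, e * e = 1 → φ₀ e * φ₀ e = 1 := fun e he => by rw [← map_mul, he, map_one]
  have hne1 : ∀ e : X, e ≠ 1 → φ₀ e ≠ 1 := fun e he hh => he (φ₀.injective (hh.trans (map_one φ₀).symm))
  have four₀ : ∀ f ∈ B, f * f = 1 → f = 1 ∨ f = e₀ ∨ f = φ₀ e₀ ∨ f = e₀ * φ₀ e₀ := fun f hf hf2 =>
    h.rank B hBn hBc e₀ he₀ _ (hBi φ₀ hφ e₀ he₀) f hf he₀2 (him _ he₀2) hf2 he₀1 (hne1 _ he₀1) he₀m
  have moves : ∀ e ∈ B, e * e = 1 → e ≠ 1 → φ₀ e ≠ e := by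
    intro e he he2 he1 hfix
    refine he₀m (fix_of_sq_fix h hφ ?_)
    have hc := hBc (φ₀ e₀) (hBi φ₀ hφ e₀ he₀) e₀ he₀
    rcases four₀ e he he2 with rfl | rfl | rfl | rfl
    · exact absurd rfl he1
    · exact absurd hfix he₀m
    · exact absurd (φ₀.injective hfix) he₀m
    · rw [map_mul] at hfix
      have := hfix.trans hc.symm
      exact mul_left_cancel this
  have four : ∀ e ∈ B, e * e = 1 → e ≠ 1 → ∀ f ∈ B, f * f = 1 → f = 1 ∨ f = e ∨ f = φ₀ e ∨ f = e * φ₀ e :=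
    fun e he he2 he1 f hf hf2 => h.rank B hBn hBc e he _ (hBi φ₀ hφ e he) f hf he2 (him _ he2) hf2 he1 (hne1 _ he1)
      (moves e he he2 he1)
  have hall : ∀ S : Subgroup X, (∀ y ∈ S, φ₀ y ∈ S) → (∃ e ∈ B, e * e = 1 ∧ e ≠ 1 ∧ e ∈ S) →
      ∀ f ∈ B, f * f = 1 → f ∈ S := by
    rintro S hS ⟨e, he, he2, he1, heS⟩ f hf hf2
    rcases four e he he2 he1 f hf hf2 with rfl | rfl | rfl | rfl
    exacts [one_mem _, heS, hS _ heS, mul_mem heS (hS _ heS)]
  obtain ⟨r, hr, hrmin⟩ : ∃ r : ℕ, (∀ b ∈ B, b ^ 2 ^ r = 1) ∧ ∀ m < r, ∃ b ∈ B, b ^ 2 ^ m ≠ 1 := by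
    have hex : ∃ r : ℕ, ∀ b ∈ B, b ^ 2 ^ r = 1 := by
      obtain ⟨k, hk⟩ := IsPGroup.iff_card.1 (h.pgroup.to_subgroup B)
      exact ⟨k, fun b hb => by
        rw [← hk]
        exact congrArg Subtype.val (pow_card_eq_one' (x := (⟨b, hb⟩ : B)))⟩
    exact ⟨Nat.find hex, Nat.find_spec hex, fun m hm => by
      have := Nat.find_min hex hm; push Not at this; exact this⟩
  have hr1 : 1 ≤ r := by
    rcases Nat.eq_zero_or_pos r with rfl | hp
    · exact absurd (by simpa using hr e₀ he₀) he₀1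
    · exact hp
  refine ⟨r, hBn, hBc, hBi, hφ, hr1, hr, ?_, ?_, moves, four, ⟨e₀, he₀, he₀2, he₀1⟩⟩
  · let R : Subgroup X :=
      { carrier := {e | ∃ b ∈ B, b ^ 2 ^ (r - 1) = e}
        one_mem' := ⟨1, one_mem _, one_pow _⟩
        mul_mem' := by
          rintro _ _ ⟨a, ha, rfl⟩ ⟨b, hb, rfl⟩
          exact ⟨a * b, mul_mem ha hb, (show Commute a b from hBc a ha b hb).mul_pow _⟩
        inv_mem' := by rintro _ ⟨a, ha, rfl⟩; exact ⟨a⁻¹, inv_mem ha, inv_pow _ _⟩ }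
    obtain ⟨b, hb, hb1⟩ := hrmin (r - 1) (by omega)
    refine hall R ?_ ⟨_, pow_mem hb _, ?_, hb1, b, hb, rfl⟩
    · rintro _ ⟨a, ha, rfl⟩; exact ⟨φ₀ a, hBi φ₀ hφ a ha, (map_pow φ₀ a _).symm⟩
    · rw [← pow_two, ← pow_mul, ← pow_succ, Nat.sub_add_cancel hr1]; exact hr b hb
  · have hBne : B ≠ ⊥ := fun hb => he₀1 (by rwa [hb, Subgroup.mem_bot] at he₀)
    obtain ⟨⟨z, hz⟩, hz1⟩ := Subgroup.ne_bot_iff_exists_ne_one.1 (CfsgLib.PGroups.inf_center_ne_bot h.pgroup hBne)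
    obtain ⟨hzB, hzC⟩ := Subgroup.mem_inf.1 hz
    obtain ⟨k, hk⟩ := IsPGroup.iff_orderOf.1 h.pgroup z
    have hz' : z ≠ 1 := fun e => hz1 (Subtype.ext e)
    obtain ⟨k, rfl⟩ : ∃ j, k = j + 1 := by
      rcases k with _ | k
      · exact absurd (orderOf_eq_one_iff.1 (by simpa using hk)) hz'
      · exact ⟨k, rfl⟩
    refine hall (center X) (inv_center A φ₀ hφ) ⟨z ^ 2 ^ k, pow_mem hzB _, ?_, ?_, pow_mem hzC _⟩
    · rw [← pow_two, ← pow_mul, ← pow_succ, ← hk, pow_orderOf_eq_one]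
    · intro e
      have := orderOf_dvd_of_pow_eq_one e
      rw [hk] at this
      have := Nat.le_of_dvd (Nat.two_pow_pos k) this
      have := Nat.pow_lt_pow_right (a := 2) one_lt_two (show k < k + 1 by omega)
      omega

namespace IsLayered

variable {B : Subgroup X} {φ₀ : MulAut X} {r : ℕ}

theorem root_pow (hL : IsLayered A B φ₀ r) : ∀ k ≤ r, ∀ b ∈ B, b ^ 2 ^ k = 1 → ∃ c ∈ B, b = c ^ 2 ^ (r - k) := by
  intro k
  induction k with
  | zero => intro _ b _ hb; exact ⟨1, one_mem _, by rw [one_pow]; simpa using hb⟩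
  | succ k ih =>
    intro hk b hb hbk
    obtain ⟨c, hc, hce⟩ := hL.root (b ^ 2 ^ k) (pow_mem hb _) (by rw [← pow_two, ← pow_mul, ← pow_succ]; exact hbk)
    have hm := pow_mem hc (2 ^ (r - (k + 1)))
    obtain ⟨d, hd, hde⟩ := ih (by omega) (b * (c ^ 2 ^ (r - (k + 1)))⁻¹) (mul_mem hb (inv_mem hm)) (by
      rw [(show Commute b (c ^ 2 ^ (r - (k + 1)))⁻¹ from hL.comm b hb _ (inv_mem hm)).mul_pow, inv_pow,
        ← pow_mul, ← pow_add, show r - (k + 1) + k = r - 1 by omega, hce, mul_inv_cancel])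
    refine ⟨d ^ 2 * c, mul_mem (pow_mem hd _) hc, ?_⟩
    rw [(show Commute (d ^ 2) c from hL.comm _ (pow_mem hd _) c hc).mul_pow, ← pow_mul, ← pow_succ',
      show r - (k + 1) + 1 = r - k by omega, ← hde, inv_mul_cancel_right]

theorem omega_pow_sq (hL : IsLayered A B φ₀ r) {b : X} (hb : b ∈ B) :
    b ^ 2 ^ (r - 1) * b ^ 2 ^ (r - 1) = 1 := by
  rw [← pow_two, ← pow_mul, ← pow_succ, Nat.sub_add_cancel hL.pos]; exact hL.exp b hb

theorem comm_mem (hL : IsLayered A B φ₀ r) {x b : X} (hb : b ∈ B) : ⁅x, b⁆ ∈ B := by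
  rw [commutatorElement_def]; exact mul_mem (hL.normal.conj_mem b hb x) (inv_mem hb)

theorem comm_mul_right (hL : IsLayered A B φ₀ r) (x : X) {b c : X} (hb : b ∈ B) (hc : c ∈ B) :
    ⁅x, b * c⁆ = ⁅x, b⁆ * ⁅x, c⁆ := by
  rw [show ⁅x, b * c⁆ = ⁅x, b⁆ * (b * ⁅x, c⁆ * b⁻¹) by simp only [commutatorElement_def]; group,
    hL.comm b hb _ (hL.comm_mem hc), mul_inv_cancel_right]

theorem comm_pow_right (hL : IsLayered A B φ₀ r) (x : X) {b : X} (hb : b ∈ B) :
    ∀ n : ℕ, ⁅x, b ^ n⁆ = ⁅x, b⁆ ^ n := by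
  intro n
  induction n with
  | zero => simp
  | succ n ih => rw [pow_succ, hL.comm_mul_right x (pow_mem hb n) hb, ih, pow_succ]

theorem exists_sq (hL : IsLayered A B φ₀ r) (x : X) {b : X} (hb : b ∈ B) : ∃ u ∈ B, ⁅x, b⁆ = u ^ 2 := by
  obtain ⟨c, hc, e⟩ := hL.root_pow (r - 1) (by omega) ⁅x, b⁆ (hL.comm_mem hb) (by
    rw [← hL.comm_pow_right x hb, commutatorElement_eq_one_iff_mul_comm]
    exact mem_center_iff.1 (hL.central _ (pow_mem hb _) (hL.omega_pow_sq hb)) x)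
  refine ⟨c, hc, ?_⟩
  have := hL.pos
  rwa [show r - (r - 1) = 1 by omega, pow_one] at e

theorem comm_mul_left (hL : IsLayered A B φ₀ r) (x y : X) {b : X} (hb : b ∈ B) :
    ⁅x * y, b⁆ = ⁅x, ⁅y, b⁆⁆ * ⁅y, b⁆ * ⁅x, b⁆ := by
  simp only [commutatorElement_def]; group

theorem inv_mem_iff [Finite X] (hL : IsLayered A B φ₀ r) {φ : MulAut X} (hφ : φ ∈ A) {b : X} :
    φ b ∈ B ↔ b ∈ B := by
  refine ⟨fun h => ?_, hL.inv φ hφ b⟩
  have := hL.inv φ⁻¹ (inv_mem hφ) _ h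
  simpa using this

/-- A subgroup with squaring injective into the involutions of `B` is abelian. -/
theorem abelian_of_small [Finite X] (hL : IsLayered A B φ₀ r) {N : Subgroup X} (hN : ∀ c ∈ N, φ₀ c ∈ N)
    (hBN : ∀ b ∈ B, ∀ c ∈ N, b * c = c * b) (κ : X → X) (hκ : ∀ c ∈ N, κ c ∈ B ∧ κ c * κ c = 1)
    (hκm : ∀ c ∈ N, ∀ d ∈ N, κ (c * d) = κ c * κ d) (hker : ∀ c ∈ N, κ c = 1 → c ∈ B)
    (hcomm : ∀ c ∈ N, ∀ d ∈ N, ⁅c, d⁆ ∈ B ∧ ⁅c, d⁆ * ⁅c, d⁆ = 1) : ∀ c ∈ N, ∀ d ∈ N, c * d = d * c := by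
  intro c hc d hd
  by_contra hne
  set ε := ⁅c, d⁆
  have hε1 : ε ≠ 1 := fun e => hne (commutatorElement_eq_one_iff_mul_comm.1 e)
  obtain ⟨hεB, hε2⟩ := hcomm c hc d hd
  have hκ1 : κ 1 = 1 := mul_eq_left.1 (by rw [← hκm 1 (one_mem _) 1 (one_mem _), mul_one])
  have hκi : ∀ x ∈ N, ∀ y ∈ N, κ x = κ y → x⁻¹ * y ∈ B := fun x hx y hy e => hker _ (mul_mem (inv_mem hx) hy) (by
    rw [hκm _ (inv_mem hx) _ hy, ← e, ← hκm _ (inv_mem hx) _ hx, inv_mul_cancel, hκ1])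
  have hbB : ∀ {x}, x ∈ B → ∀ y ∈ N, ⁅x, y⁆ = 1 := fun hx y hy =>
    commutatorElement_eq_one_iff_mul_comm.2 (hBN _ hx y hy)
  have hc1 : κ c ≠ 1 := fun e => hε1 (hbB (hker c hc e) d hd)
  have hd1 : κ d ≠ 1 := fun e => hε1 (by
    rw [show ε = ⁅d, c⁆⁻¹ from (commutatorElement_inv d c).symm, hbB (hker d hd e) c hc, inv_one])
  have hcd1 : κ d ≠ κ c := fun e => hε1 (by
    have hb := hκi c hc d hd e.symm
    rw [show ε = c * ⁅c, c⁻¹ * d⁆ * c⁻¹ by simp only [ε, commutatorElement_def]; group,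
      show ⁅c, c⁻¹ * d⁆ = ⁅c⁻¹ * d, c⁆⁻¹ from (commutatorElement_inv _ _).symm, hbB hb c hc]
    simp)
  -- every element is congruent to one of `1, c, d, c d`
  have hcl : ∀ x ∈ N, ∃ y, (y = 1 ∨ y = c ∨ y = d ∨ y = c * d) ∧ y⁻¹ * x ∈ B := by
    intro x hx
    obtain ⟨hcB, hc2⟩ := hκ c hc
    have h4 := hL.four _ hcB hc2 hc1
    obtain ⟨hxB, hx2⟩ := hκ x hx
    obtain ⟨hdB, hd2⟩ := hκ d hd
    have hcd : κ (c * d) = κ c * κ d := hκm c hc d hd
    have hcases : κ x = 1 ∨ κ x = κ c ∨ κ x = κ d ∨ κ x = κ (c * d) := by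
      have key : κ d = φ₀ (κ c) ∨ κ d = κ c * φ₀ (κ c) := by
        rcases h4 _ hdB hd2 with e | e | e | e
        exacts [absurd e hd1, absurd e hcd1, .inl e, .inr e]
      rw [hcd]
      rcases h4 _ hxB hx2 with e | e | e | e
      · exact .inl e
      · exact .inr (.inl e)
      · rcases key with k | k
        · exact .inr (.inr (.inl (e.trans k.symm)))
        · exact .inr (.inr (.inr (by rw [e, k, ← mul_assoc, hc2, one_mul])))
      · rcases key with k | k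
        · exact .inr (.inr (.inr (by rw [e, k])))
        · exact .inr (.inr (.inl (e.trans k.symm)))
    rcases hcases with e | e | e | e
    · exact ⟨1, .inl rfl, by simpa using hker x hx e⟩
    · exact ⟨c, .inr (.inl rfl), hκi c hc x hx e.symm⟩
    · exact ⟨d, .inr (.inr (.inl rfl)), hκi d hd x hx e.symm⟩
    · exact ⟨c * d, .inr (.inr (.inr rfl)), hκi _ (mul_mem hc hd) x hx e.symm⟩
  have hbase : ∀ y, (y = 1 ∨ y = c ∨ y = d ∨ y = c * d) → y ∈ N := by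
    rintro y (rfl | rfl | rfl | rfl)
    exacts [one_mem _, hc, hd, mul_mem hc hd]
  have hεinv : ε⁻¹ = ε := inv_eq_of_mul_eq_one_left hε2
  have hεc : c * ε * c⁻¹ = ε := by rw [← hBN ε hεB c hc, mul_inv_cancel_right]
  have hpairs : ∀ x ∈ N, ∀ y ∈ N, ⁅x, y⁆ = 1 ∨ ⁅x, y⁆ = ε := by
    intro x hx y hy
    obtain ⟨x0, hx0, hxb⟩ := hcl x hx
    obtain ⟨y0, hy0, hyb⟩ := hcl y hy
    have hx0N := hbase x0 hx0
    have hy0N := hbase y0 hy0
    have e : ⁅x, y⁆ = ⁅x0, y0⁆ := by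
      obtain ⟨b, hb, rfl⟩ : ∃ b ∈ B, x0 * b = x := ⟨_, hxb, mul_inv_cancel_left _ _⟩
      obtain ⟨b', hb', rfl⟩ : ∃ b' ∈ B, y0 * b' = y := ⟨_, hyb, mul_inv_cancel_left _ _⟩
      rw [show ⁅x0 * b, y0 * b'⁆ = x0 * ⁅b, y0 * b'⁆ * x0⁻¹ * (⁅x0, y0⁆ * (y0 * ⁅x0, b'⁆ * y0⁻¹)) by
        simp only [commutatorElement_def]; group, hbB hb _ hy, ← commutatorElement_inv b' x0, hbB hb' x0 hx0N]
      simp
    rw [e]
    rcases hx0 with hx0 | hx0 | hx0 | hx0 <;> rw [hx0]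
    · simp
    all_goals rcases hy0 with hy0 | hy0 | hy0 | hy0 <;> rw [hy0]
    all_goals first
      | (left; simp; done)
      | (right; rfl)
      | (right; rw [← commutatorElement_inv]; exact hεinv)
      | skip
    · right
      rw [show ⁅c, c * d⁆ = c * ε * c⁻¹ by simp only [ε, commutatorElement_def]; group, hεc]
    · right
      rw [show ⁅d, c * d⁆ = ε⁻¹ by simp only [ε, commutatorElement_def]; group, hεinv]
    · right
      rw [show ⁅c * d, c⁆ = c * ⁅d, c⁆ * c⁻¹ by simp only [commutatorElement_def]; group,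
        ← commutatorElement_inv c d, hεinv, hεc]
    · right
      rw [show ⁅c * d, d⁆ = c * ⁅d, d⁆ * c⁻¹ * ε by simp only [ε, commutatorElement_def]; group]
      simp
  rcases hpairs _ (hN c hc) _ (hN d hd) with e | e <;> rw [← map_comm] at e
  · exact hε1 (φ₀.injective (e.trans (map_one φ₀).symm))
  · exact hL.moves ε hεB hε2 hε1 e

end IsLayered

theorem exists_move [Finite X] (h : IsSetup A) {B : Subgroup X} (hBn : B.Normal)
    (hBc : ∀ a ∈ B, ∀ b ∈ B, a * b = b * a) (hBi : Inv A B) (hne : ¬ B ≤ center X) :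
    ∃ φ ∈ A, ∃ e ∈ B, e * e = 1 ∧ φ e ≠ e := by
  by_contra hno
  push Not at hno
  haveI := hBn
  exact hne (central_of_fixed h fun φ hφ b hb => fix_of_fix_omega h hBc hBi hφ (hno φ hφ) b hb)

/-- A noncentral abelian normal invariant subgroup. -/
theorem exists_noncentral [Finite X] (h : IsSetup A) (hne : ¬ frattini X ≤ center X) :
    ∃ B : Subgroup X, B.Normal ∧ (∀ a ∈ B, ∀ b ∈ B, a * b = b * a) ∧ Inv A B ∧ ¬ B ≤ center X := by
  classical
  haveI : Fact (Nat.Prime 2) := ⟨Nat.prime_two⟩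
  let W : Subgroup X :=
    { carrier := {w | w ∈ frattini X ∧ w * w ∈ center X ∧ ∀ x, ⁅w, x⁆ ∈ center X}
      one_mem' := ⟨one_mem _, by simp, fun x => by simp⟩
      mul_mem' := fun {v w} hv hw => by
        refine ⟨mul_mem hv.1 hw.1, ?_, fun x => ?_⟩
        · rw [show v * w * (v * w) = v * ⁅w, v⁆ * (v * (w * w)) by simp only [commutatorElement_def]; group,
            mem_center_iff.1 (hw.2.2 v) v, show ⁅w, v⁆ * v * (v * (w * w)) = ⁅w, v⁆ * ((v * v) * (w * w)) by group]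
          exact mul_mem (hw.2.2 v) (mul_mem hv.2.1 hw.2.1)
        · rw [show ⁅v * w, x⁆ = v * ⁅w, x⁆ * v⁻¹ * ⁅v, x⁆ by simp only [commutatorElement_def]; group,
            mem_center_iff.1 (hw.2.2 x) v, mul_inv_cancel_right]
          exact mul_mem (hw.2.2 x) (hv.2.2 x)
      inv_mem' := fun {v} hv => by
        refine ⟨inv_mem hv.1, by rw [← mul_inv_rev]; exact inv_mem hv.2.1, fun x => ?_⟩
        rw [show ⁅v⁻¹, x⁆ = v⁻¹ * ⁅v, x⁆⁻¹ * v by simp only [commutatorElement_def]; group,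
          mem_center_iff.1 (inv_mem (hv.2.2 x)) v⁻¹, inv_mul_cancel_right]
        exact inv_mem (hv.2.2 x) }
  have hWmem : ∀ {w}, w ∈ W ↔ w ∈ frattini X ∧ w * w ∈ center X ∧ ∀ x, ⁅w, x⁆ ∈ center X := Iff.rfl
  refine ⟨W, ⟨fun w hw g => ?_⟩, fun v hv w hw => ?_, fun φ hφ w hw => ?_, ?_⟩
  · have hgw : g * w * g⁻¹ = ⁅g, w⁆ * w := by rw [commutatorElement_def]; group
    have hc : ⁅g, w⁆ ∈ center X := by rw [← commutatorElement_inv]; exact inv_mem (hw.2.2 g)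
    refine hWmem.2 ⟨Subgroup.Normal.conj_mem inferInstance w hw.1 g, ?_, fun x => ?_⟩
    · rw [show g * w * g⁻¹ * (g * w * g⁻¹) = g * (w * w) * g⁻¹ by group, mem_center_iff.1 hw.2.1 g,
        mul_inv_cancel_right]
      exact hw.2.1
    · rw [hgw, show ⁅⁅g, w⁆ * w, x⁆ = ⁅g, w⁆ * ⁅w, x⁆ * ⁅g, w⁆⁻¹ * ⁅⁅g, w⁆, x⁆ by
        simp only [commutatorElement_def]; group,
        commutatorElement_eq_one_iff_mul_comm.2 (mem_center_iff.1 hc x).symm, mul_one]
      exact mul_mem (mul_mem hc (hw.2.2 x)) (inv_mem hc)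
  · -- `W` centralizes the Frattini subgroup
    let g : X →* center X := MonoidHom.mk' (fun x => ⟨⁅v, x⁆, hv.2.2 x⟩) fun a b => Subtype.ext
      (CfsgLib.PGroups.comm_mul_right_of_central (hv.2.2 b))
    have hker : frattini X ≤ g.ker := by
      have hcg : _root_.commutator X ≤ g.ker := by
        rw [_root_.commutator_def, Subgroup.commutator_le]
        intro a _ b _
        rw [MonoidHom.mem_ker, map_commutatorElement, commutatorElement_eq_one_iff_mul_comm]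
        exact Subtype.ext (mem_center_iff.1 (g b).2 (g a))
      refine CfsgLib.PGroups.frattini_le_of_elementary (p := 2) hcg fun x => ?_
      rw [MonoidHom.mem_ker]
      refine Subtype.ext ?_
      show ⁅v, x ^ 2⁆ = 1
      rw [CfsgLib.PGroups.comm_pow_right_of_central (hv.2.2 x), ← CfsgLib.PGroups.comm_pow_left_of_central (hv.2.2 x),
        pow_two, commutatorElement_eq_one_iff_mul_comm]
      exact (mem_center_iff.1 hv.2.1 x).symm
    exact commutatorElement_eq_one_iff_mul_comm.1 (congrArg Subtype.val (hker hw.1))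
  · refine hWmem.2 ⟨inv_of_characteristic A _ φ hφ w hw.1, by rw [← map_mul]; exact inv_center A φ hφ _ hw.2.1,
      fun x => ?_⟩
    obtain ⟨y, rfl⟩ := φ.surjective x
    rw [← map_comm]
    exact inv_center A φ hφ _ (hw.2.2 y)
  · intro hWle
    set Z := center X
    have hne' : (frattini X).map (QuotientGroup.mk' Z) ≠ ⊥ := by
      intro h0
      refine hne fun x hx => (QuotientGroup.eq_one_iff x).1 ?_
      have : QuotientGroup.mk' Z x ∈ (frattini X).map (QuotientGroup.mk' Z) := mem_map_of_mem _ hx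
      rw [h0, Subgroup.mem_bot] at this
      exact this
    haveI : ((frattini X).map (QuotientGroup.mk' Z)).Normal :=
      Subgroup.Normal.map inferInstance _ (QuotientGroup.mk'_surjective _)
    obtain ⟨⟨q, hq⟩, hq1'⟩ := Subgroup.ne_bot_iff_exists_ne_one.1
      (CfsgLib.PGroups.inf_center_ne_bot (h.pgroup.to_quotient Z) hne')
    obtain ⟨k, hk⟩ := IsPGroup.iff_orderOf.1 (h.pgroup.to_quotient Z) q
    obtain ⟨k, rfl⟩ : ∃ j, k = j + 1 := by
      rcases k with _ | k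
      · exact absurd (Subtype.ext (orderOf_eq_one_iff.1 (by simpa using hk))) hq1'
      · exact ⟨k, rfl⟩
    obtain ⟨⟨w, hw, hwq⟩, hqc⟩ := Subgroup.mem_inf.1
      (pow_mem hq (2 ^ k) : q ^ 2 ^ k ∈ (frattini X).map (QuotientGroup.mk' Z) ⊓ center (X ⧸ Z))
    rw [QuotientGroup.mk'_apply] at hwq
    have hwZ : w ∉ Z := by
      intro hwZ
      rw [(QuotientGroup.eq_one_iff w).2 hwZ] at hwq
      have := Nat.le_of_dvd (Nat.two_pow_pos k) (hk ▸ orderOf_dvd_of_pow_eq_one hwq.symm)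
      have := Nat.pow_lt_pow_right (a := 2) one_lt_two (show k < k + 1 by omega)
      omega
    refine hwZ (hWle (hWmem.2 ⟨hw, ?_, fun x => ?_⟩))
    · rw [← QuotientGroup.eq_one_iff, QuotientGroup.mk_mul, hwq, ← pow_two, ← pow_mul, ← pow_succ, ← hk,
        pow_orderOf_eq_one]
    · rw [← QuotientGroup.eq_one_iff]
      show QuotientGroup.mk' Z ⁅w, x⁆ = 1
      rw [map_commutatorElement, commutatorElement_eq_one_iff_mul_comm, QuotientGroup.mk'_apply, hwq]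
      exact (mem_center_iff.1 hqc _).symm

namespace IsLayered

variable {B : Subgroup X} {φ : MulAut X} {r : ℕ}

theorem self_centralizing [Finite X] (h : IsSetup A) (hL : IsLayered A B φ r) (hr2 : 2 ≤ r)
    (hmax : ∀ N : Subgroup X, N.Normal → (∀ a ∈ N, ∀ b ∈ N, a * b = b * a) → Inv A N → B ≤ N → N ≤ B) :
    ∀ x, (∀ b ∈ B, x * b = b * x) → x ∈ B := by
  haveI : Fact (Nat.Prime 2) := ⟨Nat.prime_two⟩
  obtain hBn := hL.normal
  obtain hBc := hL.comm
  obtain hBi := hL.inv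
  obtain hφ := hL.mem
  by_contra hno
  push Not at hno
  obtain ⟨x, hx, hxB⟩ := hno
  set C := centralizer (B : Set X)
  have hxC : x ∈ C := mem_centralizer_iff.2 fun b hb => (hx b hb).symm
  haveI hCn : C.Normal := Subgroup.normal_centralizer
  set π := QuotientGroup.mk' B
  haveI : (C.map π).Normal := hCn.map π (QuotientGroup.mk'_surjective _)
  have hne' : C.map π ≠ ⊥ := by
    intro h0
    have : π x ∈ C.map π := mem_map_of_mem _ hxC
    rw [h0, Subgroup.mem_bot] at this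
    exact hxB ((QuotientGroup.eq_one_iff x).1 this)
  obtain ⟨⟨q, hq⟩, hq1'⟩ := Subgroup.ne_bot_iff_exists_ne_one.1
    (CfsgLib.PGroups.inf_center_ne_bot (h.pgroup.to_quotient B) hne')
  obtain ⟨k, hk⟩ := IsPGroup.iff_orderOf.1 (h.pgroup.to_quotient B) q
  obtain ⟨k, rfl⟩ : ∃ j, k = j + 1 := by
    rcases k with _ | k
    · exact absurd (Subtype.ext (orderOf_eq_one_iff.1 (by simpa using hk))) hq1'
    · exact ⟨k, rfl⟩
  obtain ⟨⟨c, hc, hcq⟩, hqc⟩ := Subgroup.mem_inf.1 (pow_mem hq (2 ^ k) : q ^ 2 ^ k ∈ C.map π ⊓ center (X ⧸ B))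
  have hcB : c ∉ B := by
    intro hcB
    rw [show π c = 1 from (QuotientGroup.eq_one_iff c).2 hcB] at hcq
    have := Nat.le_of_dvd (Nat.two_pow_pos k) (hk ▸ orderOf_dvd_of_pow_eq_one hcq.symm)
    have := Nat.pow_lt_pow_right (a := 2) one_lt_two (show k < k + 1 by omega)
    omega
  have hBCc : ∀ {y}, y ∈ C → ∀ b ∈ B, b * y = y * b := fun hy b hb => mem_centralizer_iff.1 hy b hb
  let N : Subgroup X :=
    { carrier := {y | y ∈ C ∧ y * y ∈ B ∧ ∀ g, ⁅y, g⁆ ∈ B}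
      one_mem' := ⟨one_mem _, by simp, fun g => by simp⟩
      mul_mem' := fun {u v} hu hv => by
        refine ⟨mul_mem hu.1 hv.1, ?_, fun g => ?_⟩
        · rw [show u * v * (u * v) = u * ⁅v, u⁆ * u * (v * v) by simp only [commutatorElement_def]; group,
            ← hBCc hu.1 _ (hv.2.2 u), mul_assoc ⁅v, u⁆]
          exact mul_mem (mul_mem (hv.2.2 u) hu.2.1) hv.2.1
        · rw [show ⁅u * v, g⁆ = u * ⁅v, g⁆ * u⁻¹ * ⁅u, g⁆ by simp only [commutatorElement_def]; group]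
          exact mul_mem (hBn.conj_mem _ (hv.2.2 g) u) (hu.2.2 g)
      inv_mem' := fun {u} hu => by
        refine ⟨inv_mem hu.1, by rw [← mul_inv_rev]; exact inv_mem hu.2.1, fun g => ?_⟩
        rw [show ⁅u⁻¹, g⁆ = u⁻¹ * ⁅u, g⁆⁻¹ * u⁻¹⁻¹ by simp only [commutatorElement_def]; group]
        exact hBn.conj_mem _ (inv_mem (hu.2.2 g)) u⁻¹ }
  have hNmem : ∀ {y}, y ∈ N ↔ y ∈ C ∧ y * y ∈ B ∧ ∀ g, ⁅y, g⁆ ∈ B := Iff.rfl
  have hcN : c ∈ N := by
    refine hNmem.2 ⟨hc, ?_, fun g => ?_⟩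
    · rw [← QuotientGroup.eq_one_iff]
      show π (c * c) = 1
      rw [map_mul, hcq, ← pow_two, ← pow_mul, ← pow_succ, ← hk, pow_orderOf_eq_one]
    · rw [← QuotientGroup.eq_one_iff]
      show π ⁅c, g⁆ = 1
      rw [map_commutatorElement, hcq, commutatorElement_eq_one_iff_mul_comm]
      exact (mem_center_iff.1 hqc _).symm
  have hBN : B ≤ N := fun b hb => hNmem.2 ⟨mem_centralizer_iff.2 fun b' hb' => hBc b' hb' b hb, mul_mem hb hb,
    fun g => by
      rw [commutatorElement_def, mul_assoc, mul_assoc, ← mul_assoc g]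
      exact mul_mem hb (hBn.conj_mem _ (inv_mem hb) g)⟩
  have hNi : Inv A N := fun ψ hψ y hy => by
    refine hNmem.2 ⟨mem_centralizer_iff.2 fun b hb => ?_, by rw [← map_mul]; exact hBi ψ hψ _ hy.2.1, fun g => ?_⟩
    · have hb' : ψ⁻¹ b ∈ B := hBi ψ⁻¹ (inv_mem hψ) b hb
      have := congrArg ψ (hBCc hy.1 _ hb')
      simpa using this
    · obtain ⟨g', rfl⟩ := ψ.surjective g
      rw [← map_comm]
      exact hBi ψ hψ _ (hy.2.2 g')
  have hNn : N.Normal := ⟨fun y hy g => by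
    rw [show g * y * g⁻¹ = ⁅y, g⁆⁻¹ * y by rw [commutatorElement_def]; group]
    exact mul_mem (hBN (inv_mem (hy.2.2 g))) hy⟩
  have hNc : ∀ u ∈ N, ∀ v ∈ N, ⁅u, v⁆ ∈ B ∧ ⁅u, v⁆ * ⁅u, v⁆ = 1 := by
    intro u hu v hv
    refine ⟨hu.2.2 v, ?_⟩
    have h0 : ⁅u * u, v⁆ = 1 := commutatorElement_eq_one_iff_mul_comm.2 (hBCc hv.1 _ hu.2.1)
    rw [show ⁅u * u, v⁆ = u * ⁅u, v⁆ * u⁻¹ * ⁅u, v⁆ by simp only [commutatorElement_def]; group,
      ← hBCc hu.1 _ (hu.2.2 v), mul_inv_cancel_right] at h0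
    exact h0
  have hNab : ∀ u ∈ N, ∀ v ∈ N, u * v = v * u := by
    refine hL.abelian_of_small (κ := fun y => (y * y) ^ 2 ^ (r - 1)) (fun y hy => hNi φ hφ y hy)
      (fun b hb y hy => hBCc hy.1 b hb) (fun y hy => ⟨pow_mem hy.2.1 _, hL.omega_pow_sq hy.2.1⟩) ?_ ?_ hNc
    · intro u hu v hv
      obtain ⟨hεB, hε2⟩ := hNc v hv u hu
      have hεp : ⁅v, u⁆ ^ 2 ^ (r - 1) = 1 := by
        rw [show r - 1 = 1 + (r - 2) by omega, pow_add, pow_mul, pow_one, pow_two, hε2, one_pow]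
      show (u * v * (u * v)) ^ 2 ^ (r - 1) = (u * u) ^ 2 ^ (r - 1) * (v * v) ^ 2 ^ (r - 1)
      rw [show u * v * (u * v) = u * ⁅v, u⁆ * u * (v * v) by simp only [commutatorElement_def]; group,
        ← hBCc hu.1 _ hεB, mul_assoc ⁅v, u⁆,
        (show Commute (⁅v, u⁆ * (u * u)) (v * v) from hBc _ (mul_mem hεB hu.2.1) _ hv.2.1).mul_pow,
        (show Commute ⁅v, u⁆ (u * u) from hBc _ hεB _ hu.2.1).mul_pow, hεp, one_mul]
    · intro y hy hy1
      by_contra hyB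
      obtain ⟨b, hb, hbe⟩ := hL.root_pow (r - 1) (by omega) (y * y) hy.2.1 hy1
      rw [show r - (r - 1) = 1 by omega, pow_one, pow_two] at hbe
      set t := y * b⁻¹
      have htN : t ∈ N := mul_mem hy (hBN (inv_mem hb))
      have ht2 : t * t = 1 := by
        calc t * t = y * (b⁻¹ * y) * b⁻¹ := by simp only [t]; group
          _ = y * y * (b * b)⁻¹ := by rw [hBCc hy.1 _ (inv_mem hb)]; group
          _ = 1 := by rw [hbe, mul_inv_cancel]
      have htB : t ∉ B := fun ht => hyB (by simpa [t] using mul_mem ht hb)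
      let Bt : Subgroup X :=
        { carrier := {z | z ∈ B ∨ t * z ∈ B}
          one_mem' := .inl (one_mem _)
          mul_mem' := by
            have hcm : ∀ b ∈ B, b * t = t * b := fun b hb => hBCc htN.1 b hb
            rintro p q (hp | hp) (hq | hq)
            · exact .inl (mul_mem hp hq)
            · exact .inr (by rw [← mul_assoc, ← hcm p hp, mul_assoc]; exact mul_mem hp hq)
            · exact .inr (by rw [← mul_assoc]; exact mul_mem hp hq)
            · refine .inl ?_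
              have := mul_mem hp hq
              rwa [show t * p * (t * q) = (t * p) * t * q by group, hcm _ hp, ← mul_assoc t t p, ht2, one_mul] at this
          inv_mem' := by
            rintro p (hp | hp)
            · exact .inl (inv_mem hp)
            · refine .inr ?_
              have := inv_mem hp
              rw [mul_inv_rev, inv_eq_of_mul_eq_one_left ht2] at this
              have e := hBCc htN.1 _ this
              rw [mul_assoc, ht2, mul_one, ← mul_assoc] at e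
              rw [show t * p⁻¹ = t * p⁻¹ * (t * t) by rw [ht2, mul_one], show t * p⁻¹ * (t * t) = t * (p⁻¹ * t) * t by group]
              exact hBn.conj_mem _ this t |> fun h' => by rwa [inv_eq_of_mul_eq_one_left ht2] at h' }
      have hBtn : Bt.Normal := ⟨by
        rintro z (hz | hz) g
        · exact .inl (hBn.conj_mem z hz g)
        · refine .inr ?_
          rw [show t * (g * z * g⁻¹) = t * g * t⁻¹ * g⁻¹ * (g * (t * z) * g⁻¹) by group]
          exact mul_mem (by rw [← commutatorElement_def]; exact htN.2.2 g) (hBn.conj_mem _ hz g)⟩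
      have hBtc : ∀ a ∈ Bt, ∀ c ∈ Bt, a * c = c * a := by
        have hBtN : ∀ a ∈ Bt, a ∈ C := by
          rintro a (ha | ha)
          · exact (hBN ha).1
          · rw [show a = t⁻¹ * (t * a) by group]; exact mul_mem (inv_mem htN.1) (hBN ha).1
        rintro a (ha | ha) c hc
        · exact hBCc (hBtN c hc) a ha
        · rcases hc with hc | hc
          · exact (hBCc (hBtN a (.inr ha)) c hc).symm
          · calc a * c = t⁻¹ * (t * a) * (t⁻¹ * (t * c)) := by group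
              _ = t⁻¹ * ((t * a) * t⁻¹) * (t * c) := by group
              _ = t⁻¹ * (t⁻¹ * ((t * a) * (t * c))) := by rw [hBCc (inv_mem htN.1) _ ha]; group
              _ = t⁻¹ * (t⁻¹ * ((t * c) * (t * a))) := by rw [hBc _ ha _ hc]
              _ = t⁻¹ * ((t * c) * t⁻¹) * (t * a) := by rw [hBCc (inv_mem htN.1) _ hc]; group
              _ = c * a := by group
      obtain ⟨e, he, he2, he1⟩ := hL.ex
      rcases h.rank Bt hBtn hBtc e (.inl he) (φ e) (.inl (hBi φ hφ e he)) t (.inr (by rw [ht2]; exact one_mem _))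
        he2 (by rw [← map_mul, he2, map_one]) ht2 he1
        (fun hh => he1 (φ.injective (hh.trans (map_one φ).symm))) (hL.moves e he he2 he1) with hh | hh | hh | hh
      · exact htB (hh ▸ one_mem _)
      · exact htB (hh ▸ he)
      · exact htB (hh ▸ hBi φ hφ e he)
      · exact htB (hh ▸ mul_mem he (hBi φ hφ e he))
  exact hcB (hmax N hNn hNab hNi hBN hcN)

theorem sq_pow_eq_one (hL : IsLayered A B φ r) (hr2 : 2 ≤ r) {u : X} (hu : u ∈ B) :
    ((u ^ 2) ^ 2 ^ (r - 2)) ^ 2 = 1 := by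
  rw [← pow_mul, ← pow_mul, ← pow_succ, ← pow_succ', show r - 2 + 1 + 1 = r by omega]
  exact hL.exp u hu

theorem nu_facts (hL : IsLayered A B φ r) (hr2 : 2 ≤ r) :
    (∀ x : X, ∀ b ∈ B, ⁅x, b⁆ ^ 2 ^ (r - 2) ∈ B ∧ ⁅x, b⁆ ^ 2 ^ (r - 2) * ⁅x, b⁆ ^ 2 ^ (r - 2) = 1) ∧
    (∀ x : X, ∀ b ∈ B, ∀ c ∈ B, ⁅x, b * c⁆ ^ 2 ^ (r - 2) = ⁅x, b⁆ ^ 2 ^ (r - 2) * ⁅x, c⁆ ^ 2 ^ (r - 2)) ∧
    (∀ x : X, ∀ b ∈ B, b ^ 2 ^ (r - 1) = 1 → ⁅x, b⁆ ^ 2 ^ (r - 2) = 1) ∧
    (∀ x y : X, ∀ b ∈ B, ⁅x * y, b⁆ ^ 2 ^ (r - 2) = ⁅x, b⁆ ^ 2 ^ (r - 2) * ⁅y, b⁆ ^ 2 ^ (r - 2)) ∧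
    (∀ x : X, ∀ b ∈ B, ∀ c ∈ B, b ^ 2 ^ (r - 1) = c ^ 2 ^ (r - 1) → ⁅x, b⁆ ^ 2 ^ (r - 2) = ⁅x, c⁆ ^ 2 ^ (r - 2)) := by
  obtain hBn := hL.normal
  obtain hBc := hL.comm
  -- the leading part of the action
  set π : X → X := fun b => b ^ 2 ^ (r - 1) with hπ
  set ν : X → X → X := fun x b => ⁅x, b⁆ ^ 2 ^ (r - 2) with hν
  have hνB : ∀ x, ∀ b ∈ B, ν x b ∈ B ∧ ν x b * ν x b = 1 := by
    intro x b hb
    refine ⟨pow_mem (hL.comm_mem hb) _, ?_⟩
    obtain ⟨u, hu, e⟩ := hL.exists_sq x hb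
    simp only [hν, e]
    rw [← pow_two, ← pow_mul, ← pow_mul, ← pow_succ, ← pow_succ', show r - 2 + 1 + 1 = r by omega]
    exact hL.exp u hu
  have hνr : ∀ x, ∀ b ∈ B, ∀ c ∈ B, ν x (b * c) = ν x b * ν x c := fun x b hb c hc => by
    simp only [hν, hL.comm_mul_right x hb hc]
    exact (show Commute _ _ from hBc _ (hL.comm_mem hb) _ (hL.comm_mem hc)).mul_pow _
  have hνπ : ∀ x, ∀ b ∈ B, π b = 1 → ν x b = 1 := by
    intro x b hb hb1
    obtain ⟨c, hc, rfl⟩ := hL.root_pow (r - 1) (by omega) b hb hb1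
    obtain ⟨u, hu, e⟩ := hL.exists_sq x hc
    simp only [hν, show r - (r - 1) = 1 by omega, pow_one, hL.comm_pow_right x hc, e]
    rw [← pow_mul, ← pow_mul, ← pow_succ', ← pow_succ', show r - 2 + 1 + 1 = r by omega]
    exact hL.exp u hu
  have hνl : ∀ x y, ∀ b ∈ B, ν (x * y) b = ν x b * ν y b := by
    intro x y b hb
    have hy := hL.comm_mem (x := y) hb
    simp only [hν, hL.comm_mul_left x y hb]
    rw [(show Commute (⁅x, ⁅y, b⁆⁆ * ⁅y, b⁆) ⁅x, b⁆ from hBc _ (mul_mem (hL.comm_mem hy) hy) _ (hL.comm_mem hb)).mul_pow,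
      (show Commute ⁅x, ⁅y, b⁆⁆ ⁅y, b⁆ from hBc _ (hL.comm_mem hy) _ hy).mul_pow]
    have h1 : ⁅x, ⁅y, b⁆⁆ ^ 2 ^ (r - 2) = 1 := by
      obtain ⟨u, hu, e⟩ := hL.exists_sq y hb
      obtain ⟨w, hw, e'⟩ := hL.exists_sq x hu
      rw [e, hL.comm_pow_right x hu, e', ← pow_mul, ← pow_mul, ← pow_succ', ← pow_succ',
        show r - 2 + 1 + 1 = r by omega]
      exact hL.exp w hw
    rw [h1, one_mul]
    exact hBc _ (pow_mem hy _) _ (pow_mem (hL.comm_mem hb) _)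
  have hπm : ∀ b ∈ B, ∀ c ∈ B, π (b * c) = π b * π c := fun b hb c hc => (show Commute b c from hBc b hb c hc).mul_pow _
  have hνcongr : ∀ x, ∀ b ∈ B, ∀ c ∈ B, π b = π c → ν x b = ν x c := by
    intro x b hb c hc e
    have h1 : π (b⁻¹ * c) = 1 := by
      rw [hπm _ (inv_mem hb) _ hc, ← e, ← hπm _ (inv_mem hb) _ hb, inv_mul_cancel]; simp [hπ]
    calc ν x b = ν x b * ν x (b⁻¹ * c) := by rw [hνπ x _ (mul_mem (inv_mem hb) hc) h1, mul_one]
      _ = ν x c := by rw [← hνr x b hb _ (mul_mem (inv_mem hb) hc), mul_inv_cancel_left]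
  exact ⟨hνB, hνr, hνπ, hνl, hνcongr⟩

theorem deep_false [Finite X] (h : IsSetup A) (hL : IsLayered A B φ r) (hr3 : 3 ≤ r)
    (hC : ∀ x, (∀ b ∈ B, x * b = b * x) → x ∈ B) {x₁ : X} (hx₁B : x₁ ∉ B)
    (hx₁ : ∀ b ∈ B, ∃ u ∈ B, ⁅x₁, b⁆ = u ^ 2 ^ 2) : False := by
  haveI : Fact (Nat.Prime 2) := ⟨Nat.prime_two⟩
  classical
  obtain hBn := hL.normal
  obtain hBc := hL.comm
  obtain hBi := hL.inv
  obtain hφ := hL.mem
  -- the leading part of the action
  set π : X → X := fun b => b ^ 2 ^ (r - 1) with hπ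
  set ν : X → X → X := fun x b => ⁅x, b⁆ ^ 2 ^ (r - 2) with hν
  have hνφ : ∀ (ψ : MulAut X) x b, ν (ψ x) (ψ b) = ψ (ν x b) := fun ψ x b => by
    simp only [hν, ← map_comm, map_pow]
  have hπφ : ∀ (ψ : MulAut X) b, π (ψ b) = ψ (π b) := fun ψ b => by simp only [hπ, map_pow]
  have hπB : ∀ b ∈ B, π b ∈ B ∧ π b * π b = 1 := fun b hb => ⟨pow_mem hb _, hL.omega_pow_sq hb⟩
  have hπm : ∀ b ∈ B, ∀ c ∈ B, π (b * c) = π b * π c := fun b hb c hc => (show Commute b c from hBc b hb c hc).mul_pow _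
  obtain ⟨hνB, hνr, hνπ, hνl, hνcongr⟩ : (∀ x, ∀ b ∈ B, ν x b ∈ B ∧ ν x b * ν x b = 1) ∧
      (∀ x, ∀ b ∈ B, ∀ c ∈ B, ν x (b * c) = ν x b * ν x c) ∧ (∀ x, ∀ b ∈ B, π b = 1 → ν x b = 1) ∧
      (∀ x y, ∀ b ∈ B, ν (x * y) b = ν x b * ν y b) ∧
      (∀ x, ∀ b ∈ B, ∀ c ∈ B, π b = π c → ν x b = ν x c) := hL.nu_facts (by omega)
  let D : ℕ → X → Prop := fun j x => ∀ b ∈ B, ∃ u ∈ B, ⁅x, b⁆ = u ^ 2 ^ j
  have hdeep : ∃ x, x ∉ B ∧ D 2 x := ⟨x₁, hx₁B, hx₁⟩
  -- reach the last layer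
  have hlast : ∃ x, x ∉ B ∧ D (r - 1) x := by
    obtain ⟨x₀, hx₀B, hx₀⟩ := hdeep
    suffices hstep : ∀ j, 2 ≤ j → j ≤ r - 1 → ∃ x, x ∉ B ∧ D j x from hstep (r - 1) (by omega) le_rfl
    intro j hj
    induction j, hj using Nat.le_induction with
    | base => intro _; exact ⟨x₀, hx₀B, hx₀⟩
    | succ j hj ih =>
      intro hjr
      obtain ⟨x, hxB, hxD⟩ := ih (by omega)
      by_cases hnext : D (j + 1) x
      · exact ⟨x, hxB, hnext⟩
      simp only [D] at hnext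
      push Not at hnext
      obtain ⟨b₀, hb₀, hb₀n⟩ := hnext
      have hsq : ∀ b ∈ B, ∃ u ∈ B, ∃ w ∈ B, ⁅x, b⁆ = u ^ 2 ^ j ∧ ⁅x * x, b⁆ = (u * w ^ 2) ^ 2 ^ (j + 1) := by
        intro b hb
        obtain ⟨u, hu, e⟩ := hxD b hb
        obtain ⟨u', hu', e'⟩ := hxD u hu
        refine ⟨u, hu, u' ^ 2 ^ (2 * j - (j + 2)), pow_mem hu' _, e, ?_⟩
        rw [hL.comm_mul_left x x hb, e, hL.comm_pow_right x hu, e', ← pow_mul, ← pow_add,
          (show Commute u ((u' ^ 2 ^ (2 * j - (j + 2))) ^ 2) from hBc u hu _ (pow_mem (pow_mem hu' _) _)).mul_pow,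
          mul_assoc, ← pow_add, show 2 ^ j + 2 ^ j = 2 ^ (j + 1) by rw [pow_succ]; ring,
          hBc _ (pow_mem hu' _) _ (pow_mem hu _)]
        congr 1
        rw [← pow_mul, ← pow_mul, ← pow_succ', ← pow_add]
        congr 2
        omega
      refine ⟨x * x, fun hxx => ?_, fun b hb => ?_⟩
      · obtain ⟨u, hu, w, hw, e, e2⟩ := hsq b₀ hb₀
        rw [commutatorElement_eq_one_iff_mul_comm.2 (hBc _ hxx b₀ hb₀)] at e2
        obtain ⟨c, hc, hce⟩ := hL.root_pow (j + 1) (by omega) _ (mul_mem hu (pow_mem hw _)) e2.symm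
        have hu2 : u = (c ^ 2 ^ (r - (j + 1) - 1) * w⁻¹) ^ 2 := by
          rw [(show Commute _ w⁻¹ from hBc _ (pow_mem hc _) _ (inv_mem hw)).mul_pow, ← pow_mul, ← pow_succ,
            show r - (j + 1) - 1 + 1 = r - (j + 1) by omega, ← hce, inv_pow, mul_inv_cancel_right]
        refine hb₀n (c ^ 2 ^ (r - (j + 1) - 1) * w⁻¹) (mul_mem (pow_mem hc _) (inv_mem hw)) ?_
        rw [e, hu2, ← pow_mul, ← pow_succ']
      · obtain ⟨u, hu, w, hw, e, e2⟩ := hsq b hb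
        exact ⟨_, mul_mem hu (pow_mem hw _), e2⟩
  obtain ⟨x₀, hx₀B, hx₀⟩ := hlast
  have hlayer : ∀ x, D (r - 1) x → ∀ b ∈ B, ⁅x, b⁆ * ⁅x, b⁆ = 1 := fun x hx b hb => by
    obtain ⟨u, hu, e⟩ := hx b hb
    rw [e]; exact hL.omega_pow_sq hu
  have hcen : ∀ x, D (r - 1) x → ∀ b ∈ B, ⁅x, b⁆ ∈ center X := fun x hx b hb =>
    hL.central _ (hL.comm_mem hb) (hlayer x hx b hb)
  have hker : ∀ x, D (r - 1) x → ∀ b ∈ B, π b = 1 → ⁅x, b⁆ = 1 := fun x hx b hb hb1 => by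
    obtain ⟨c, hc, rfl⟩ := hL.root_pow (r - 1) (by omega) b hb hb1
    rw [show r - (r - 1) = 1 by omega, pow_one, hL.comm_pow_right x hc, pow_two, hlayer x hx c hc]
  have hcongr : ∀ x, D (r - 1) x → ∀ b ∈ B, ∀ c ∈ B, π b = π c → ⁅x, b⁆ = ⁅x, c⁆ := fun x hx b hb c hc e => by
    have h1 : π (b⁻¹ * c) = 1 := by
      rw [hπm _ (inv_mem hb) _ hc, ← e, ← hπm _ (inv_mem hb) _ hb, inv_mul_cancel]; simp [hπ]
    conv_rhs => rw [← mul_inv_cancel_left b c, hL.comm_mul_right x hb (mul_mem (inv_mem hb) hc)]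
    rw [hker x hx _ (mul_mem (inv_mem hb) hc) h1, mul_one]
  obtain ⟨x, hxB, hx, hinj⟩ : ∃ x, x ∉ B ∧ D (r - 1) x ∧ ∀ b ∈ B, ⁅x, b⁆ = 1 → π b = 1 := by
    by_cases hbad : ∀ b ∈ B, ⁅x₀, b⁆ = 1 → π b = 1
    · exact ⟨x₀, hx₀B, hx₀, hbad⟩
    push Not at hbad
    obtain ⟨b₀, hb₀, hb₀c, hb₀π⟩ := hbad
    obtain ⟨b₁, hb₁, hb₁c⟩ : ∃ b ∈ B, ⁅x₀, b⁆ ≠ 1 := by
      by_contra hall
      push Not at hall
      exact hx₀B (hC x₀ fun b hb => commutatorElement_eq_one_iff_mul_comm.1 (hall b hb))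
    set ε := ⁅x₀, b₁⁆
    have hεB : ε ∈ B := hL.comm_mem hb₁
    have hval : ∀ b ∈ B, ⁅x₀, b⁆ = ε ∨ (⁅x₀, b⁆ = 1 ∧ (π b = 1 ∨ π b = π b₀)) := by
      intro b hb
      obtain ⟨hp0, hp02⟩ := hπB b₀ hb₀
      have h4 := hL.four _ hp0 hp02 hb₀π
      obtain ⟨hp1, hp12⟩ := hπB b₁ hb₁
      obtain ⟨hpb, hpb2⟩ := hπB b hb
      have key : π b₁ = φ (π b₀) ∨ π b₁ = π b₀ * φ (π b₀) := by
        rcases h4 _ hp1 hp12 with e | e | e | e
        · exact absurd (hker x₀ hx₀ b₁ hb₁ e) hb₁c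
        · exact absurd ((hcongr x₀ hx₀ b₁ hb₁ b₀ hb₀ e).trans hb₀c) hb₁c
        · exact .inl e
        · exact .inr e
      have hcases : π b = 1 ∨ π b = π b₀ ∨ π b = π b₁ ∨ π b = π (b₀ * b₁) := by
        rw [hπm b₀ hb₀ b₁ hb₁]
        rcases h4 _ hpb hpb2 with e | e | e | e
        · exact .inl e
        · exact .inr (.inl e)
        · rcases key with k | k
          · exact .inr (.inr (.inl (e.trans k.symm)))
          · exact .inr (.inr (.inr (by rw [e, k, ← mul_assoc, hp02, one_mul])))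
        · rcases key with k | k
          · exact .inr (.inr (.inr (by rw [e, k])))
          · exact .inr (.inr (.inl (e.trans k.symm)))
      rcases hcases with e | e | e | e
      · exact .inr ⟨hker x₀ hx₀ b hb e, .inl e⟩
      · exact .inr ⟨(hcongr x₀ hx₀ b hb b₀ hb₀ e).trans hb₀c, .inr e⟩
      · exact .inl (hcongr x₀ hx₀ b hb b₁ hb₁ e)
      · refine .inl ?_
        rw [hcongr x₀ hx₀ b hb _ (mul_mem hb₀ hb₁) e, hL.comm_mul_right x₀ hb₀ hb₁, hb₀c, one_mul]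
    set y := φ x₀
    have hyD : D (r - 1) y := fun b hb => by
      obtain ⟨u, hu, e⟩ := hx₀ (φ⁻¹ b) (hBi φ⁻¹ (inv_mem hφ) b hb)
      refine ⟨φ u, hBi φ hφ u hu, ?_⟩
      rw [← map_pow, ← e, map_comm]; simp [y]
    have hxy : ∀ b ∈ B, ⁅x₀ * y, b⁆ = ⁅x₀, b⁆ * ⁅y, b⁆ := fun b hb => by
      rw [hL.comm_mul_left x₀ y hb, commutatorElement_eq_one_iff_mul_comm.2 (mem_center_iff.1 (hcen y hyD b hb) x₀),
        one_mul, hBc _ (hL.comm_mem hb) _ (hL.comm_mem hb)]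
    have hinj : ∀ b ∈ B, ⁅x₀ * y, b⁆ = 1 → π b = 1 := by
      intro b hb he
      rw [hxy b hb] at he
      have heq : ⁅x₀, b⁆ = ⁅y, b⁆ := by
        rw [eq_inv_of_mul_eq_one_left he]
        exact inv_eq_of_mul_eq_one_left (hlayer y hyD b hb)
      set b' := φ⁻¹ b
      have hb' : b' ∈ B := hBi φ⁻¹ (inv_mem hφ) b hb
      have hyb : ⁅y, b⁆ = φ ⁅x₀, b'⁆ := by rw [map_comm]; simp [y, b']
      have hπb : π b = φ (π b') := by rw [← hπφ]; simp [b']
      rcases hval b' hb' with e' | ⟨e', ep'⟩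
      · rw [hyb, e'] at heq
        rcases hval b hb with e | ⟨e, -⟩ <;> rw [e] at heq
        · exact absurd heq.symm (hL.moves ε hεB (hlayer x₀ hx₀ b₁ hb₁) hb₁c)
        · exact absurd (φ.injective (heq.symm.trans (map_one φ).symm)) hb₁c
      · rcases ep' with ep' | ep'
        · rw [hπb, ep', map_one]
        rw [hyb, e', map_one] at heq
        rcases hval b hb with e | ⟨-, ep⟩
        · exact absurd (e.symm.trans heq) hb₁c
        rcases ep with ep | ep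
        · exact ep
        rw [hπb, ep'] at ep
        obtain ⟨hp0, hp02⟩ := hπB b₀ hb₀
        exact absurd ep (hL.moves _ hp0 hp02 hb₀π)
    refine ⟨x₀ * y, fun hm => hb₀π (hinj b₀ hb₀ (commutatorElement_eq_one_iff_mul_comm.2 (hBc _ hm b₀ hb₀))),
      fun b hb => ?_, hinj⟩
    obtain ⟨u, hu, eu⟩ := hx₀ b hb
    obtain ⟨w, hw, ew⟩ := hyD b hb
    exact ⟨u * w, mul_mem hu hw, by rw [hxy b hb, eu, ew, (show Commute u w from hBc u hu w hw).mul_pow]⟩
  -- `x` squares to a square in `B`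
  have hxx : x * x ∈ B := hC _ fun b hb => commutatorElement_eq_one_iff_mul_comm.1 (by
    rw [hL.comm_mul_left x x hb, commutatorElement_eq_one_iff_mul_comm.2 (mem_center_iff.1 (hcen x hx b hb) x),
      one_mul, hlayer x hx b hb])
  have hxπ : π (x * x) = 1 := hinj _ hxx (commutatorElement_eq_one_iff_mul_comm.2 (by group))
  obtain ⟨c, hc, hce⟩ := hL.root_pow (r - 1) (by omega) _ hxx hxπ
  rw [show r - (r - 1) = 1 by omega, pow_one, pow_two] at hce
  have hdc : ⁅x, c⁻¹⁆ ∈ B := hL.comm_mem (inv_mem hc)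
  obtain ⟨v, hv, hve⟩ := hL.root_pow 1 (by omega) ⁅x, c⁻¹⁆ hdc (by
    rw [pow_one, pow_two]; exact hlayer x hx _ (inv_mem hc))
  set w := v ^ 2 ^ (r - 2)
  have hw : w ∈ B := pow_mem hv _
  have hxw : ⁅x, w⁆ = 1 := hker x hx w hw (by
    simp only [hπ, w, ← pow_mul, ← pow_add]
    rw [show r - 2 + (r - 1) = r + (r - 3) by omega, pow_add, pow_mul, hL.exp v hv, one_pow])
  set b := c⁻¹ * w
  have hb : b ∈ B := mul_mem (inv_mem hc) hw
  have hw2 : w * w = ⁅x, c⁻¹⁆ := by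
    rw [hve, ← pow_two]; simp only [w]; rw [← pow_mul, ← pow_succ, show r - 2 + 1 = r - 1 by omega]
  set t := x * b
  have ht2 : t * t = 1 := by
    have hd := hcen x hx b hb
    have hxbx : x * b * x⁻¹ = ⁅x, b⁆ * b := by rw [commutatorElement_def]; group
    have hb2 : b * b = (c * c)⁻¹ * (w * w) := by
      calc b * b = c⁻¹ * (w * c⁻¹) * w := by simp only [b]; group
        _ = (c * c)⁻¹ * (w * w) := by rw [hBc w hw c⁻¹ (inv_mem hc)]; group
    calc t * t = (x * b * x⁻¹) * (x * x * b) := by simp only [t]; group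
      _ = ⁅x, b⁆ * b * (b * (x * x)) := by rw [hxbx, hBc _ hxx b hb]
      _ = ⁅x, b⁆ * (b * b) * (x * x) := by group
      _ = ⁅x, c⁻¹⁆ * ((c * c)⁻¹ * ⁅x, c⁻¹⁆) * (c * c) := by
        rw [hb2, hw2, hce, show ⁅x, b⁆ = ⁅x, c⁻¹⁆ by rw [hL.comm_mul_right x (inv_mem hc) hw, hxw, mul_one]]
      _ = ⁅x, c⁻¹⁆ * ⁅x, c⁻¹⁆ := by
        rw [hBc (c * c)⁻¹ (inv_mem (mul_mem hc hc)) _ hdc]; group
      _ = 1 := hlayer x hx _ (inv_mem hc)
  have htB : t ∉ B := fun ht => hxB (by simpa [t] using mul_mem ht (inv_mem hb))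
  have htD : ∀ c' ∈ B, ⁅t, c'⁆ = ⁅x, c'⁆ := fun c' hc' => by
    rw [hL.comm_mul_left x b hc', commutatorElement_eq_one_iff_mul_comm.2 (hBc b hb c' hc')]
    simp
  -- `t` is central modulo `B`
  have htg : ∀ g, ⁅t, g⁆ ∈ B := by
    intro g
    refine hC _ fun c' hc' => commutatorElement_eq_one_iff_mul_comm.1 ?_
    set d := g⁻¹ * c' * g
    have hd : d ∈ B := by simpa [d] using hBn.conj_mem c' hc' g⁻¹
    have hπd : π d = π c' := by
      show d ^ 2 ^ (r - 1) = c' ^ 2 ^ (r - 1)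
      rw [show d = MulAut.conj g⁻¹ c' by simp [d], ← map_pow, MulAut.conj_apply,
        mem_center_iff.1 (hL.central _ (pow_mem hc' _) (hL.omega_pow_sq hc')) g⁻¹, mul_inv_cancel_right]
    have hc1 : t * c' * t⁻¹ = ⁅x, c'⁆ * c' := by rw [← htD c' hc', commutatorElement_def]; group
    have hd1 : t * d * t⁻¹ = ⁅x, c'⁆ * d := by
      rw [← hcongr x hx d hd c' hc' hπd, ← htD d hd, commutatorElement_def]; group
    have htinv : t⁻¹ = t := inv_eq_of_mul_eq_one_left ht2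
    have hgc : g * ⁅x, c'⁆ * g⁻¹ = ⁅x, c'⁆ := by
      rw [mem_center_iff.1 (hcen x hx c' hc') g, mul_inv_cancel_right]
    have e1 : ⁅t, g⁆ * c' * ⁅t, g⁆⁻¹ = t * (g * (t * d * t⁻¹) * g⁻¹) * t⁻¹ := by
      rw [show ⁅t, g⁆ * c' * ⁅t, g⁆⁻¹ = t * g * t⁻¹ * g⁻¹ * c' * g * t * g⁻¹ * t⁻¹ by
        rw [commutatorElement_def]; group, show d = g⁻¹ * c' * g from rfl, htinv]
      group
    rw [hd1, show g * (⁅x, c'⁆ * d) * g⁻¹ = (g * ⁅x, c'⁆ * g⁻¹) * c' by simp only [d]; group, hgc,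
      show t * (⁅x, c'⁆ * c') * t⁻¹ = (t * ⁅x, c'⁆ * t⁻¹) * (t * c' * t⁻¹) by group, hc1,
      mem_center_iff.1 (hcen x hx c' hc') t, mul_inv_cancel_right, ← mul_assoc, hlayer x hx c' hc', one_mul] at e1
    rw [commutatorElement_def ⁅t, g⁆ c', e1, mul_inv_cancel]
  -- a normal abelian subgroup of rank three
  let Bt : Subgroup X :=
    { carrier := {z | (z ∈ B ∧ π z = 1) ∨ (t * z ∈ B ∧ π (t * z) = 1)}
      one_mem' := .inl ⟨one_mem _, by simp [hπ]⟩
      mul_mem' := by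
        have hcm : ∀ b ∈ B, π b = 1 → b * t = t * b := fun b hb hb1 =>
          (commutatorElement_eq_one_iff_mul_comm.1 (by rw [htD b hb]; exact hker x hx b hb hb1)).symm
        have hm : ∀ {p q}, p ∈ B → π p = 1 → q ∈ B → π q = 1 → p * q ∈ B ∧ π (p * q) = 1 := fun hp hp1 hq hq1 =>
          ⟨mul_mem hp hq, by rw [hπm _ hp _ hq, hp1, hq1, one_mul]⟩
        rintro p q (⟨hp, hp1⟩ | ⟨hp, hp1⟩) (⟨hq, hq1⟩ | ⟨hq, hq1⟩)
        · exact .inl (hm hp hp1 hq hq1)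
        · exact .inr (by rw [← mul_assoc, ← hcm p hp hp1, mul_assoc]; exact hm hp hp1 hq hq1)
        · exact .inr (by rw [← mul_assoc]; exact hm hp hp1 hq hq1)
        · refine .inl ?_
          have := hm hp hp1 hq hq1
          rwa [show t * p * (t * q) = (t * p) * t * q by group, hcm _ hp hp1, ← mul_assoc t t p, ht2, one_mul] at this
      inv_mem' := by
        have htinv : t⁻¹ = t := inv_eq_of_mul_eq_one_left ht2
        rintro p (⟨hp, hp1⟩ | ⟨hp, hp1⟩)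
        · refine .inl ⟨inv_mem hp, ?_⟩
          simp only [hπ] at hp1 ⊢; rw [inv_pow, hp1, inv_one]
        · refine .inr ?_
          have hi := inv_mem hp
          have hi1 : π (t * p)⁻¹ = 1 := by simp only [hπ] at hp1 ⊢; rw [inv_pow, hp1, inv_one]
          have e : t * p⁻¹ = (t * p)⁻¹ := by
            have hc := commutatorElement_eq_one_iff_mul_comm.1 (show ⁅t, (t * p)⁻¹⁆ = 1 by
              rw [htD _ hi]; exact hker x hx _ hi hi1)
            calc t * p⁻¹ = t * (t * p)⁻¹ * t := by group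
              _ = (t * p)⁻¹ * (t * t) := by rw [hc]; group
              _ = _ := by rw [ht2, mul_one]
          rw [e]; exact ⟨hi, hi1⟩ }
  have hBtn : Bt.Normal := ⟨by
    have hcl : ∀ {z}, z ∈ B → π z = 1 → ∀ g, g * z * g⁻¹ ∈ B ∧ π (g * z * g⁻¹) = 1 := fun {z} hz hz1 g =>
      ⟨hBn.conj_mem z hz g, by
        show (g * z * g⁻¹) ^ 2 ^ (r - 1) = 1
        rw [← MulAut.conj_apply, ← map_pow, show z ^ 2 ^ (r - 1) = 1 from hz1, map_one]⟩
    rintro z (⟨hz, hz1⟩ | ⟨hz, hz1⟩) g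
    · exact .inl (hcl hz hz1 g)
    · refine .inr ?_
      have hfac : t * (g * z * g⁻¹) = ⁅t, g⁆ * (g * (t * z) * g⁻¹) := by
        rw [commutatorElement_def]; group
      -- the commutator lies in the squares of `B`
      have hb' := htg g
      set b' := ⁅t, g⁆
      have hbinv : b' * b' * ⁅x, b'⁆ = 1 := by
        have htgt : t * b' * t⁻¹ = b'⁻¹ := by
          simp only [b', commutatorElement_def]
          have htinv : t⁻¹ = t := inv_eq_of_mul_eq_one_left ht2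
          rw [htinv]
          calc t * (t * g * t * g⁻¹) * t = (t * t) * g * t * g⁻¹ * t := by group
            _ = _ := by rw [ht2]; group; simp [mul_assoc, show t ^ (-1 : ℤ) = t by simp [htinv]]
        have e := htD b' hb'
        rw [commutatorElement_def, htgt] at e
        rw [← e]; group
      have hb'4 : b' ^ 2 ^ 2 = 1 := by
        have : b' * b' = (⁅x, b'⁆)⁻¹ := eq_inv_of_mul_eq_one_left hbinv
        rw [show (2 : ℕ) ^ 2 = 2 * 2 from rfl, pow_mul, pow_two b', this, pow_two, ← mul_inv_rev,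
          hlayer x hx b' hb', inv_one]
      have hb'1 : π b' = 1 := by
        show b' ^ 2 ^ (r - 1) = 1
        rw [show r - 1 = 2 + (r - 3) by omega, pow_add, pow_mul, hb'4, one_pow]
      obtain ⟨hg1, hg2⟩ := hcl hz hz1 g
      rw [hfac]
      exact ⟨mul_mem hb' hg1, by rw [hπm _ hb' _ hg1, hb'1, hg2, one_mul]⟩⟩
  have hBtc : ∀ a ∈ Bt, ∀ c ∈ Bt, a * c = c * a := by
    have hcm : ∀ {b}, b ∈ B → π b = 1 → Commute b t := fun {b} hb hb1 =>
      (commutatorElement_eq_one_iff_mul_comm.1 (by rw [htD b hb]; exact hker x hx b hb hb1)).symm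
    have hsplit : ∀ a ∈ Bt, ∃ b ∈ B, π b = 1 ∧ (a = b ∨ a = t⁻¹ * b) := by
      rintro a (⟨ha, ha1⟩ | ⟨ha, ha1⟩)
      · exact ⟨a, ha, ha1, .inl rfl⟩
      · exact ⟨_, ha, ha1, .inr (inv_mul_cancel_left t a).symm⟩
    intro a ha c hc
    obtain ⟨p, hp, hp1, ea⟩ := hsplit a ha
    obtain ⟨q, hq, hq1, ec⟩ := hsplit c hc
    have hpq : Commute p q := hBc p hp q hq
    have hpt := (hcm hp hp1).inv_right
    have hqt := (hcm hq hq1).inv_right
    rcases ea with rfl | rfl <;> rcases ec with rfl | rfl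
    · exact hpq
    · exact hpt.mul_right hpq
    · exact (hqt.symm).mul_left hpq
    · exact ((Commute.refl t⁻¹).mul_right hqt.symm).mul_left (hpt.mul_right hpq)
  obtain ⟨e, he, he2, he1⟩ := hL.ex
  have hπe : ∀ f ∈ B, f * f = 1 → π f = 1 := fun f _ hf2 => by
    show f ^ 2 ^ (r - 1) = 1
    rw [show r - 1 = 1 + (r - 2) by omega, pow_add, pow_mul, pow_one, pow_two, hf2, one_pow]
  rcases h.rank Bt hBtn hBtc e (.inl ⟨he, hπe e he he2⟩) (φ e)
    (.inl ⟨hBi φ hφ e he, hπe _ (hBi φ hφ e he) (by rw [← map_mul, he2, map_one])⟩) t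
    (.inr (by rw [ht2]; exact ⟨one_mem _, by simp [hπ]⟩))
    he2 (by rw [← map_mul, he2, map_one]) ht2 he1
    (fun hh => he1 (φ.injective (hh.trans (map_one φ).symm))) (hL.moves e he he2 he1) with hh | hh | hh | hh
  · exact htB (hh ▸ one_mem _)
  · exact htB (hh ▸ he)
  · exact htB (hh ▸ hBi φ hφ e he)
  · exact htB (hh ▸ mul_mem he (hBi φ hφ e he))

theorem shallow_false [Finite X] (h : IsSetup A) (hL : IsLayered A B φ r) (hr3 : 3 ≤ r)
    (hC : ∀ x, (∀ b ∈ B, x * b = b * x) → x ∈ B) (hBZ : ¬ B ≤ center X)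
    (hdeep : ∀ x, x ∉ B → ¬ ∀ b ∈ B, ∃ u ∈ B, ⁅x, b⁆ = u ^ 2 ^ 2) : False := by
  haveI : Fact (Nat.Prime 2) := ⟨Nat.prime_two⟩
  classical
  obtain hBn := hL.normal
  obtain hBc := hL.comm
  obtain hBi := hL.inv
  obtain hφ := hL.mem
  -- the leading part of the action
  set π : X → X := fun b => b ^ 2 ^ (r - 1) with hπ
  set ν : X → X → X := fun x b => ⁅x, b⁆ ^ 2 ^ (r - 2) with hν
  have hνφ : ∀ (ψ : MulAut X) x b, ν (ψ x) (ψ b) = ψ (ν x b) := fun ψ x b => by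
    simp only [hν, ← map_comm, map_pow]
  have hπφ : ∀ (ψ : MulAut X) b, π (ψ b) = ψ (π b) := fun ψ b => by simp only [hπ, map_pow]
  have hπB : ∀ b ∈ B, π b ∈ B ∧ π b * π b = 1 := fun b hb => ⟨pow_mem hb _, hL.omega_pow_sq hb⟩
  have hπm : ∀ b ∈ B, ∀ c ∈ B, π (b * c) = π b * π c := fun b hb c hc => (show Commute b c from hBc b hb c hc).mul_pow _
  obtain ⟨hνB, hνr, hνπ, hνl, hνcongr⟩ : (∀ x, ∀ b ∈ B, ν x b ∈ B ∧ ν x b * ν x b = 1) ∧
      (∀ x, ∀ b ∈ B, ∀ c ∈ B, ν x (b * c) = ν x b * ν x c) ∧ (∀ x, ∀ b ∈ B, π b = 1 → ν x b = 1) ∧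
      (∀ x y, ∀ b ∈ B, ν (x * y) b = ν x b * ν y b) ∧
      (∀ x, ∀ b ∈ B, ∀ c ∈ B, π b = π c → ν x b = ν x c) := hL.nu_facts (by omega)
  have hzero : ∀ x, (∀ b ∈ B, ν x b = 1) → x ∈ B := by
    intro x hx
    by_contra hxB
    refine hdeep x hxB fun b hb => ?_
    obtain ⟨c, hc, e⟩ := hL.root_pow (r - 2) (by omega) _ (hL.comm_mem (x := x) hb) (hx b hb)
    exact ⟨c, hc, by rwa [show r - (r - 2) = 2 by omega] at e⟩
  have hsqB : ∀ x, x * x ∈ B := fun x => hzero _ fun b hb => by rw [hνl x x b hb, (hνB x b hb).2]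
  -- idempotency
  have hidem : ∀ x, ∀ b ∈ B, ∃ u ∈ B, π u = ν x b ∧ ν x u = ν x b := by
    intro x b hb
    obtain ⟨u, hu, e⟩ := hL.exists_sq x hb
    have hπu : π u = ν x b := by
      simp only [hπ, hν, e, ← pow_mul, ← pow_succ']; congr 2; omega
    refine ⟨u, hu, hπu, ?_⟩
    have h0 : ⁅x * x, b⁆ = 1 := commutatorElement_eq_one_iff_mul_comm.2 (hBc _ (hsqB x) b hb)
    rw [hL.comm_mul_left x x hb, e, hL.comm_pow_right x hu, mul_assoc, ← pow_add] at h0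
    have h1 : ⁅x, u⁆ ^ 2 = (u ^ (2 + 2))⁻¹ := eq_inv_of_mul_eq_one_left h0
    rw [← hπu]
    have h2 : ν x u = (π u)⁻¹ := by
      simp only [hν, hπ]
      rw [show r - 2 = 1 + (r - 3) by omega, pow_add, pow_mul, pow_one, h1, inv_pow, ← pow_mul,
        show (2 + 2) * 2 ^ (r - 3) = 2 ^ (r - 1) by
          rw [show r - 1 = 2 + (r - 3) by omega, pow_add]; rfl]
    rw [h2, inv_eq_of_mul_eq_one_left (hπB u hu).2]
  have hνπim : ∀ x, ∀ b ∈ B, ∀ u ∈ B, π u = ν x b → ν x u = ν x b := by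
    intro x b hb u hu e
    obtain ⟨u', hu', e1, e2⟩ := hidem x b hb
    rw [hνcongr x u hu u' hu' (e.trans e1.symm), e2]
  haveI hBnorm : B.Normal := hBn
  have hcB : commutator X ≤ B := by
    rw [_root_.commutator_def, Subgroup.commutator_le]
    intro p _ q _
    rw [show ⁅p, q⁆ = (p * p) * ((p⁻¹ * q) * (p⁻¹ * q)) * (q * q)⁻¹ by rw [commutatorElement_def]; group]
    exact mul_mem (mul_mem (hsqB p) (hsqB (p⁻¹ * q))) (inv_mem (hsqB q))
  obtain ⟨x₀, hx₀B, hx₀⟩ : ∃ x, x ∉ B ∧ ∃ b ∈ B, π b ≠ 1 ∧ ν x b = 1 := by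
    by_contra hall
    push Not at hall
    have hid : ∀ x, x ∉ B → ∀ b ∈ B, ν x b = π b := by
      intro x hx b hb
      obtain ⟨u, hu, e1, e2⟩ := hidem x b hb
      have h1 : ν x (u * b) = 1 := by rw [hνr x u hu b hb, e2, (hνB x b hb).2]
      by_contra hne
      have hne' : π (u * b) ≠ 1 := fun hh => hne (by
        rw [hπm u hu b hb, e1] at hh
        exact (eq_inv_of_mul_eq_one_left hh).trans (inv_eq_of_mul_eq_one_left (hπB b hb).2))
      exact hall x hx _ (mul_mem hu hb) hne' h1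
    have hBtop : ¬ ∀ x, x ∈ B := fun hh => hBZ fun b hb => mem_center_iff.2 fun g => hBc g (hh g) b hb
    push Not at hBtop
    obtain ⟨x, hx⟩ := hBtop
    refine hx (fixed_mem h hcB hBi fun ψ hψ => hzero _ fun b hb => ?_)
    have hψx : ψ x ∉ B := fun hh => hx ((hL.inv_mem_iff hψ).1 hh)
    have h1 : ν x b * ν (x⁻¹ * ψ x) b = ν (ψ x) b := by rw [← hνl _ _ b hb, mul_inv_cancel_left]
    rw [hid x hx b hb, hid _ hψx b hb] at h1
    exact mul_eq_left.1 h1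
  obtain ⟨k, hk, hkπ, hkν⟩ := hx₀
  obtain ⟨b₁, hb₁, hb₁ν⟩ : ∃ b ∈ B, ν x₀ b ≠ 1 := by
    by_contra hall
    push Not at hall
    exact hx₀B (hzero x₀ hall)
  obtain ⟨u, hu, hπu, hνu⟩ := hidem x₀ b₁ hb₁
  -- the two vectors
  set U := π u
  set K := π k
  have hU1 : U ≠ 1 := by rw [hπu]; exact hb₁ν
  have hνuU : ν x₀ u = U := hνu.trans hπu.symm
  have hUK : U ≠ K := fun e => hU1 (by rw [← hνuU, hνcongr x₀ u hu k hk e, hkν])
  obtain ⟨hUB, hU2⟩ := hπB u hu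
  obtain ⟨hKB, hK2⟩ := hπB k hk
  have hUinv : U⁻¹ = U := inv_eq_of_mul_eq_one_left hU2
  have h4U := hL.four U hUB hU2 hU1
  set y := φ x₀
  have hyu : ν y (φ u) = φ U := by rw [hνφ, hνuU]
  have hyk : ν y (φ k) = 1 := by rw [hνφ, hkν, map_one]
  have hπu' : π (φ u) = φ U := hπφ φ u
  have hπk' : π (φ k) = φ K := hπφ φ k
  have hu' := hBi φ hφ u hu
  have hk' := hBi φ hφ k hk
  have hKcases : K = φ U ∨ K = U * φ U := by
    rcases h4U K hKB hK2 with e | e | e | e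
    exacts [absurd e hkπ, absurd e.symm hUK, .inl e, .inr e]
  have hφφ : φ (φ U) = U * φ U := by
    have hm : φ U ≠ 1 := fun hh => hU1 (φ.injective (hh.trans (map_one φ).symm))
    rcases h4U _ (hBi φ hφ _ (hBi φ hφ U hUB)) (by rw [← map_mul, ← map_mul, hU2, map_one, map_one]) with e | e | e | e
    · exact absurd (φ.injective (e.trans (map_one φ).symm)) hm
    · exact absurd (fix_of_sq_fix h hφ e) (hL.moves U hUB hU2 hU1)
    · exact absurd (φ.injective e) (hL.moves U hUB hU2 hU1)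
    · exact e
  have hxy : ∀ w ∈ B, ν (x₀ * y) w = ν x₀ w * ν y w := fun w hw => hνl x₀ y w hw
  have hUφ : U * φ U ∈ B := mul_mem hUB (hBi φ hφ U hUB)
  rcases hKcases with hKe | hKe
  · -- `φ U = K`
    have h1 : ν x₀ (φ u) = 1 := (hνcongr x₀ _ hu' k hk (hπu'.trans hKe.symm)).trans hkν
    have hπk'' : π (φ k) = U * K := by rw [hπk', hKe, hφφ]
    have hyu0 : ν y u = K := by
      have hmul := hνr y _ hu' _ hk'
      rw [hyu, hyk, mul_one] at hmul
      rw [hνcongr y u hu (φ u * φ k) (mul_mem hu' hk') (by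
        rw [hπm _ hu' _ hk', hπu', hπk'', ← hKe, hBc U hUB K hKB, ← mul_assoc, hK2, one_mul]), hmul, hKe]
    have hh : ν (x₀ * y) u = U * K := by rw [hxy u hu, hνuU, hyu0]
    have hh2 : ν (x₀ * y) (φ k) = U := by
      rw [hxy _ hk', hyk, mul_one, hνcongr x₀ (φ k) hk' (u * k) (mul_mem hu hk) (by
        rw [hπk'', hπm u hu k hk]), hνr x₀ u hu k hk, hνuU, hkν, mul_one]
    have := hνπim (x₀ * y) u hu (φ k) hk' (hπk''.trans hh.symm)
    rw [hh, hh2] at this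
    exact hkπ (mul_eq_left.1 this.symm)
  · -- `φ U = U K`
    have hφU : φ U = U * K := by rw [hKe, ← mul_assoc, hU2, one_mul]
    have hπk'' : π (φ k) = U := by
      rw [hπk', hKe, map_mul, hφφ, ← mul_assoc, hBc (φ U) (hBi φ hφ U hUB) U hUB, mul_assoc,
        ← map_mul, hU2, map_one, mul_one]
    have hyk0 : ν y u = 1 := (hνcongr y u hu (φ k) hk' hπk''.symm).trans hyk
    have hyk1 : ν y k = U * K := by
      have hmul := hνr y _ hu' _ hk'
      rw [hyu, hyk, mul_one] at hmul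
      rw [hνcongr y k hk (φ u * φ k) (mul_mem hu' hk') (by
        rw [hπm _ hu' _ hk', hπu', hπk'', hφU, hBc U hUB K hKB, mul_assoc, hU2, mul_one]), hmul, hφU]
    have hh : ν (x₀ * y) k = U * K := by rw [hxy k hk, hkν, one_mul, hyk1]
    have hh2 : ν (x₀ * y) (u * k) = K := by
      rw [hxy _ (mul_mem hu hk), hνr x₀ u hu k hk, hνr y u hu k hk, hνuU, hkν, hyk0, hyk1, mul_one, one_mul,
        ← mul_assoc, hU2, one_mul]
    have := hνπim (x₀ * y) k hk (u * k) (mul_mem hu hk) ((hπm u hu k hk).trans hh.symm)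
    rw [hh, hh2] at this
    exact hU1 (mul_eq_right.1 this.symm)

theorem four_false [Finite X] (h : IsSetup A) (hL : IsLayered A B φ 2)
    (hC : ∀ x, (∀ b ∈ B, x * b = b * x) → x ∈ B) (hne : ¬ frattini X ≤ center X) : False := by
  haveI : Fact (Nat.Prime 2) := ⟨Nat.prime_two⟩
  classical
  obtain hBn := hL.normal
  obtain hBc := hL.comm
  obtain hBi := hL.inv
  obtain hφ := hL.mem
  -- the leading part of the action
  set π : X → X := fun b => b ^ 2 ^ (2 - 1) with hπ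
  set ν : X → X → X := fun x b => ⁅x, b⁆ ^ 2 ^ (2 - 2) with hν
  have hνφ : ∀ (ψ : MulAut X) x b, ν (ψ x) (ψ b) = ψ (ν x b) := fun ψ x b => by
    simp only [hν, ← map_comm, map_pow]
  have hπφ : ∀ (ψ : MulAut X) b, π (ψ b) = ψ (π b) := fun ψ b => by simp only [hπ, map_pow]
  have hπB : ∀ b ∈ B, π b ∈ B ∧ π b * π b = 1 := fun b hb => ⟨pow_mem hb _, hL.omega_pow_sq hb⟩
  have hπm : ∀ b ∈ B, ∀ c ∈ B, π (b * c) = π b * π c := fun b hb c hc => (show Commute b c from hBc b hb c hc).mul_pow _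
  obtain ⟨hνB, hνr, hνπ, hνl, hνcongr⟩ : (∀ x, ∀ b ∈ B, ν x b ∈ B ∧ ν x b * ν x b = 1) ∧
      (∀ x, ∀ b ∈ B, ∀ c ∈ B, ν x (b * c) = ν x b * ν x c) ∧ (∀ x, ∀ b ∈ B, π b = 1 → ν x b = 1) ∧
      (∀ x y, ∀ b ∈ B, ν (x * y) b = ν x b * ν y b) ∧
      (∀ x, ∀ b ∈ B, ∀ c ∈ B, π b = π c → ν x b = ν x c) := hL.nu_facts (by omega)
  have hνc : ∀ x b, ν x b = ⁅x, b⁆ := fun x b => by simp [hν]
  have hzero : ∀ x, (∀ b ∈ B, ν x b = 1) → x ∈ B := fun x hx => hC x fun b hb =>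
    commutatorElement_eq_one_iff_mul_comm.1 ((hνc x b).symm.trans (hx b hb))
  have hsqB : ∀ x, x * x ∈ B := fun x => hzero _ fun b hb => by rw [hνl x x b hb, (hνB x b hb).2]
  haveI hBnorm : B.Normal := hBn
  have hcB : commutator X ≤ B := by
    rw [_root_.commutator_def, Subgroup.commutator_le]
    intro p _ q _
    rw [show ⁅p, q⁆ = (p * p) * ((p⁻¹ * q) * (p⁻¹ * q)) * (q * q)⁻¹ by rw [commutatorElement_def]; group]
    exact mul_mem (mul_mem (hsqB p) (hsqB (p⁻¹ * q))) (inv_mem (hsqB q))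
  have hinj : ∀ x, x ∉ B → ∀ b ∈ B, ν x b = 1 → π b = 1 := by
    intro x hxB k hk hkν
    by_contra hkπ
    obtain ⟨hKB, hK2⟩ := hπB k hk
    set K := π k
    have h4K := hL.four K hKB hK2 hkπ
    have hφ2 : φ (φ K) = K * φ K := by
      have hm : φ K ≠ 1 := fun hh => hkπ (φ.injective (hh.trans (map_one φ).symm))
      rcases h4K _ (hBi φ hφ _ (hBi φ hφ K hKB)) (by rw [← map_mul, ← map_mul, hK2, map_one, map_one]) with e | e | e | e
      · exact absurd (φ.injective (e.trans (map_one φ).symm)) hm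
      · exact absurd (fix_of_sq_fix h hφ e) (hL.moves K hKB hK2 hkπ)
      · exact absurd (φ.injective e) (hL.moves K hKB hK2 hkπ)
      · exact e
    have hφ3 : ∀ e ∈ B, e * e = 1 → φ (φ (φ e)) = e := by
      intro e he he2
      have h3 : φ (φ (φ K)) = K := by
        rw [hφ2, map_mul, hφ2, ← mul_assoc, hBc (φ K) (hBi φ hφ K hKB) K hKB, mul_assoc, ← map_mul, hK2, map_one,
          mul_one]
      rcases h4K e he he2 with rfl | rfl | rfl | rfl
      · simp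
      · exact h3
      · rw [h3]
      · simp only [map_mul, h3]
    set y := φ x
    set w := φ y
    have hk1 := hBi φ hφ k hk
    have hk2 := hBi φ hφ _ hk1
    have hπk1 : π (φ k) = φ K := hπφ φ k
    have hπk2 : π (φ (φ k)) = K * φ K := by rw [hπφ, hπk1, hφ2]
    have hy0 : ν y (φ k) = 1 := by rw [hνφ, hkν, map_one]
    have hw0 : ν w (φ (φ k)) = 1 := by rw [hνφ, hy0, map_one]
    set s1 := ν x (φ k)
    obtain ⟨hs1B, hs12⟩ := hνB x _ hk1
    have hs1 : s1 ≠ 1 := fun e => hxB (hzero x fun b hb => by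
      rcases h4K (π b) (hπB b hb).1 (hπB b hb).2 with e' | e' | e' | e'
      · exact hνπ x b hb e'
      · rw [hνcongr x b hb k hk e', hkν]
      · rw [hνcongr x b hb _ hk1 (e'.trans hπk1.symm)]; exact e
      · rw [hνcongr x b hb (k * φ k) (mul_mem hk hk1) (by rw [e', hπm k hk _ hk1, hπk1]), hνr x k hk _ hk1, hkν,
          one_mul]; exact e)
    have hx2 : ν x (φ (φ k)) = s1 := by
      rw [hνcongr x _ hk2 (k * φ k) (mul_mem hk hk1) (by rw [hπk2, hπm k hk _ hk1, hπk1]), hνr x k hk _ hk1, hkν,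
        one_mul]
    have hy2 : ν y (φ (φ k)) = φ s1 := hνφ φ x (φ k)
    set f := x * y * w
    have hfix : ∀ ψ ∈ A, ∀ z, (∀ e ∈ B, e * e = 1 → ψ e = e) → ∀ b ∈ B, ν (ψ z) b = ν z b := by
      intro ψ hψ z hψfix b hb
      have hb' := hBi ψ⁻¹ (inv_mem hψ) b hb
      have e1 : π (ψ⁻¹ b) = π b := by
        have := hψfix _ (hπB _ hb').1 (hπB _ hb').2
        rw [← hπφ] at this
        simpa using this.symm
      calc ν (ψ z) b = ν (ψ z) (ψ (ψ⁻¹ b)) := by simp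
        _ = ψ (ν z b) := by rw [hνφ, hνcongr z _ hb' b hb e1]
        _ = ν z b := hψfix _ (hνB z b hb).1 (hνB z b hb).2
    have hcyc : ∀ b ∈ B, ν (φ f) b = ν f b := by
      intro b hb
      have h3 : ν (φ w) b = ν x b := by
        have := hfix (φ * φ * φ) (mul_mem (mul_mem hφ hφ) hφ) x (fun e he he2 => hφ3 e he he2) b hb
        exact this
      simp only [f, map_mul]
      rw [hνl _ _ b hb, hνl _ _ b hb, hνl _ _ b hb, hνl _ _ b hb, h3,
        show φ x = y from rfl, show φ y = w from rfl]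
      have c1 := (hνB y b hb).1
      have c2 := (hνB w b hb).1
      have c3 := (hνB x b hb).1
      rw [hBc _ (mul_mem c1 c2) _ c3, ← mul_assoc]
    have hfB : f ∈ B := by
      refine fixed_mem h hcB hBi fun ψ hψ => hzero _ fun b hb => ?_
      suffices hψf : ν (ψ f) b = ν f b by
        have : ν f b * ν (f⁻¹ * ψ f) b = ν (ψ f) b := by rw [← hνl _ _ b hb, mul_inv_cancel_left]
        rw [hψf] at this
        exact mul_eq_left.1 this
      have hψpow : (∀ e ∈ B, e * e = 1 → ψ e = e) ∨ (∀ e ∈ B, e * e = 1 → (φ⁻¹ * ψ) e = e) ∨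
          (∀ e ∈ B, e * e = 1 → (φ⁻¹ * φ⁻¹ * ψ) e = e) := by
        have hψK : ψ K * ψ K = 1 := by rw [← map_mul, hK2, map_one]
        have key : ∀ χ ∈ A, χ K = K → ∀ e ∈ B, e * e = 1 → χ e = e := by
          intro χ hχ hχK e he he2
          refine fix_of_sq_fix h hχ ?_
          have hχφ : χ (φ K) * χ (φ K) = 1 := by rw [← map_mul, ← map_mul, hK2, map_one, map_one]
          have hχ2 : χ (χ (φ K)) = φ K := by
            rcases h4K _ (hBi χ hχ _ (hBi φ hφ K hKB)) hχφ with e' | e' | e' | e'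
            · exact absurd (φ.injective ((χ.injective (e'.trans (map_one χ).symm)).trans (map_one φ).symm)) hkπ
            · exact absurd (χ.injective (e'.trans hχK.symm)) (hL.moves K hKB hK2 hkπ)
            · rw [e', e']
            · rw [e', map_mul, hχK, e', ← mul_assoc, hK2, one_mul]
          rcases h4K e he he2 with rfl | rfl | rfl | rfl
          · simp
          · rw [hχK, hχK]
          · exact hχ2
          · simp only [map_mul, hχK, hχ2]
        rcases h4K _ (hBi ψ hψ K hKB) hψK with e' | e' | e' | e'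
        · exact absurd (ψ.injective (e'.trans (map_one ψ).symm)) hkπ
        · exact .inl (key ψ hψ e')
        · exact .inr (.inl (key _ (mul_mem (inv_mem hφ) hψ) (by rw [MulAut.mul_apply, e']; simp)))
        · exact .inr (.inr (key _ (mul_mem (mul_mem (inv_mem hφ) (inv_mem hφ)) hψ) (by
            rw [MulAut.mul_apply, e', ← hφ2]; simp)))
      have hφf : ∀ z, (∀ b ∈ B, ν z b = ν f b) → ∀ b ∈ B, ν (φ z) b = ν f b := fun z hz b hb => by
        have hb' := hBi φ⁻¹ (inv_mem hφ) b hb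
        calc ν (φ z) b = φ (ν z (φ⁻¹ b)) := by rw [← hνφ]; simp
          _ = ν (φ f) b := by rw [hz _ hb', ← hνφ]; simp
          _ = ν f b := hcyc b hb
      rcases hψpow with hp | hp | hp
      · exact hfix ψ hψ f hp b hb
      · rw [show ψ f = φ ((φ⁻¹ * ψ) f) by simp]
        exact hφf _ (fun b' hb' => hfix _ (mul_mem (inv_mem hφ) hψ) f hp b' hb') b hb
      · rw [show ψ f = φ (φ ((φ⁻¹ * φ⁻¹ * ψ) f)) by simp]
        exact hφf _ (fun b' hb' => hφf _ (fun b'' hb'' =>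
          hfix _ (mul_mem (mul_mem (inv_mem hφ) (inv_mem hφ)) hψ) f hp b'' hb'') b' hb') b hb
    have h0 : ν f (φ (φ k)) = 1 := by
      rw [hνc, commutatorElement_eq_one_iff_mul_comm]; exact hBc f hfB _ hk2
    simp only [f, hνl _ _ _ hk2, hx2, hy2, hw0, mul_one] at h0
    have e1 := eq_inv_of_mul_eq_one_right h0
    rw [inv_eq_of_mul_eq_one_left hs12] at e1
    exact hL.moves s1 hs1B hs12 hs1 e1
  have hsq : ∀ x, x * x ∈ center X := by
    intro x
    refine hL.central _ (hsqB x) ?_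
    have hπ2 : π (x * x) = 1 := by
      by_cases hxB : x ∈ B
      · show (x * x) ^ 2 ^ (2 - 1) = 1
        have := hL.exp x hxB
        rw [show (2 : ℕ) ^ (2 - 1) = 2 from rfl, ← pow_two x, ← pow_mul]
        exact this
      · exact hinj x hxB _ (hsqB x) (by rw [hνc, commutatorElement_eq_one_iff_mul_comm]; group)
    show x * x * (x * x) = 1
    have : (x * x) ^ 2 ^ (2 - 1) = 1 := hπ2
    simpa [pow_two] using this
  refine hne (CfsgLib.PGroups.frattini_le_of_elementary (p := 2) ?_ fun x => by rw [pow_two]; exact hsq x)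
  rw [_root_.commutator_def, Subgroup.commutator_le]
  intro p _ q _
  rw [show ⁅p, q⁆ = (p * p) * ((p⁻¹ * q) * (p⁻¹ * q)) * (q * q)⁻¹ by rw [commutatorElement_def]; group]
  exact mul_mem (mul_mem (hsq p) (hsq (p⁻¹ * q))) (inv_mem (hsq q))

end IsLayered

/-- The Frattini subgroup is central. -/
theorem frattini_le_center [Finite X] (h : IsSetup A) : frattini X ≤ center X := by
  classical
  by_contra hne
  obtain ⟨B₀, hB₀⟩ := exists_noncentral h hne
  obtain ⟨B, hB, hmax⟩ := Set.Finite.exists_maximal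
    (Set.toFinite {B : Subgroup X | B.Normal ∧ (∀ a ∈ B, ∀ b ∈ B, a * b = b * a) ∧ Inv A B ∧ ¬ B ≤ center X})
    ⟨B₀, hB₀⟩
  obtain ⟨hBn, hBc, hBi, hBZ⟩ := hB
  haveI := hBn
  obtain ⟨φ, hφ, hmove⟩ := exists_move h hBn hBc hBi hBZ
  obtain ⟨r, hL⟩ := exists_layered h hBn hBc hBi hφ hmove
  have hr2 : 2 ≤ r := by
    by_contra hr
    refine hBZ fun b hb => hL.central b hb ?_
    have := hL.exp b hb
    rwa [show r = 1 by have := hL.pos; omega, pow_one, pow_two] at this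
  have hC := hL.self_centralizing h hr2 fun N h1 h2 h3 h4 => hmax ⟨h1, h2, h3, fun hle => hBZ (h4.trans hle)⟩ h4
  by_cases hr3 : 3 ≤ r
  · by_cases hdeep : ∀ x, x ∉ B → ¬ ∀ b ∈ B, ∃ u ∈ B, ⁅x, b⁆ = u ^ 2 ^ 2
    · exact hL.shallow_false h hr3 hC hBZ hdeep
    · push Not at hdeep
      obtain ⟨x, hx, hx2⟩ := hdeep
      exact hL.deep_false h hr3 hC hx hx2
  · obtain rfl : r = 2 := by omega
    exact hL.four_false h hC hne

end CfsgLib.Techniques.SmallRankAut
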