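import Cfsg.Agent.Lib.Techniques.SmallRankAutCentral
import Cfsg.Agent.Lib.PGroups.QuadraticCount
import Cfsg.Agent.Lib.PGroups.Extraspecial
import Cfsg.Agent.Lib.TwoGroups.Recognition

/-!
`2`-groups without normal abelian subgroups of rank three and with automorphisms of odd order with
`[X, A] = X`: the classification, starting from `Φ(X) ≤ Z(X)`.
-/

set_option autoImplicit false
set_option linter.all false

namespace CfsgLib.Techniques.SmallRankAut

open Subgroup
open scoped commutatorElement

variable {X : Type*} [Group X] [Finite X] {A : Subgroup (MulAut X)}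

theorem sq_mem_center (h : IsSetup A) (x : X) : x * x ∈ center X := by
  haveI : Fact (Nat.Prime 2) := ⟨Nat.prime_two⟩
  rw [← pow_two]
  exact frattini_le_center h (CfsgLib.PGroups.pow_mem_frattini h.pgroup x)

theorem comm_mem_center (h : IsSetup A) (x y : X) : ⁅x, y⁆ ∈ center X := by
  haveI : Fact (Nat.Prime 2) := ⟨Nat.prime_two⟩
  exact frattini_le_center h (CfsgLib.PGroups.commutator_le_frattini' h.pgroup
    (commutator_mem_commutator (mem_top x) (mem_top y)))

theorem comm_sq (h : IsSetup A) (x y : X) : ⁅x, y⁆ * ⁅x, y⁆ = 1 := by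
  rw [← CfsgLib.PGroups.comm_mul_left_of_central (comm_mem_center h x y), commutatorElement_eq_one_iff_mul_comm]
  exact (mem_center_iff.1 (sq_mem_center h x) y).symm

theorem comm_symm (h : IsSetup A) (x y : X) : ⁅y, x⁆ = ⁅x, y⁆ := by
  rw [← commutatorElement_inv]; exact inv_eq_of_mul_eq_one_left (comm_sq h x y)

theorem comm_mul_left (h : IsSetup A) (x y z : X) : ⁅x * y, z⁆ = ⁅x, z⁆ * ⁅y, z⁆ :=
  CfsgLib.PGroups.comm_mul_left_of_central (comm_mem_center h y z)

theorem comm_mul_right (h : IsSetup A) (x y z : X) : ⁅x, y * z⁆ = ⁅x, y⁆ * ⁅x, z⁆ :=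
  CfsgLib.PGroups.comm_mul_right_of_central (comm_mem_center h x z)

theorem normal_of_center_le (h : IsSetup A) {B : Subgroup X} (hB : center X ≤ B) : B.Normal :=
  ⟨fun b hb g => by
    rw [show g * b * g⁻¹ = ⁅g, b⁆ * b by rw [commutatorElement_def]; group]
    exact mul_mem (hB (comm_mem_center h g b)) hb⟩

omit [Finite X] in
/-- Adjoining an element with square in a commutative subgroup. -/
theorem exists_adjoin {S : Subgroup X} (hSc : ∀ a ∈ S, ∀ b ∈ S, a * b = b * a) {t : X}
    (ht : ∀ s ∈ S, s * t = t * s) (htS : t ∉ S) (ht2 : t * t ∈ S) :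
    ∃ L : Subgroup X, S ≤ L ∧ t ∈ L ∧ (∀ a ∈ L, ∀ b ∈ L, a * b = b * a) ∧
      Nat.card L = 2 * Nat.card S ∧ ∀ x, x ∈ L ↔ x ∈ S ∨ x * t ∈ S := by
  have hcom : ∀ x, (x ∈ S ∨ x * t ∈ S) → Commute x t := by
    rintro x (hx | hx)
    · exact ht x hx
    · have := (show Commute (x * t) t from ht _ hx).mul_left (Commute.refl t).inv_left
      rwa [mul_inv_cancel_right] at this
  let L : Subgroup X :=
    { carrier := {x | x ∈ S ∨ x * t ∈ S}
      one_mem' := .inl (one_mem S)
      mul_mem' := by
        intro p q hp hq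
        have hqt := hcom q hq
        rcases hp with hp | hp <;> rcases hq with hq | hq
        · exact .inl (mul_mem hp hq)
        · exact .inr (by rw [mul_assoc]; exact mul_mem hp hq)
        · exact .inr (by rw [mul_assoc, hqt.eq, ← mul_assoc]; exact mul_mem hp hq)
        · refine .inl ?_
          have := mul_mem (mul_mem hp hq) (inv_mem ht2)
          rwa [show p * t * (q * t) * (t * t)⁻¹ = p * (t * q) * t⁻¹ by group, ← hqt.eq,
            show p * (q * t) * t⁻¹ = p * q by group] at this
      inv_mem' := by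
        intro p hp
        rcases hp with hp | hp
        · exact .inl (inv_mem hp)
        · refine .inr ?_
          have := mul_mem (inv_mem hp) ht2
          rwa [show (p * t)⁻¹ * (t * t) = t⁻¹ * (p⁻¹ * t) * t by group,
            ((hcom p (.inr hp)).inv_left.eq : p⁻¹ * t = t * p⁻¹), show t⁻¹ * (t * p⁻¹) * t = p⁻¹ * t by group] at this }
  have hSL : S ≤ L := fun s hs => .inl hs
  have htL : t ∈ L := .inr ht2
  refine ⟨L, hSL, htL, ?_, ?_, fun x => Iff.rfl⟩
  · have hs : ∀ x ∈ L, ∃ s ∈ S, x = s ∨ x = s * t⁻¹ := by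
      rintro x (hx | hx)
      · exact ⟨x, hx, .inl rfl⟩
      · exact ⟨_, hx, .inr (mul_inv_cancel_right x t).symm⟩
    intro a ha b hb
    obtain ⟨p, hp, ea⟩ := hs a ha
    obtain ⟨q, hq, eb⟩ := hs b hb
    have hpq : Commute p q := hSc p hp q hq
    have hpt : Commute p t⁻¹ := (show Commute p t from ht p hp).inv_right
    have hqt : Commute q t⁻¹ := (show Commute q t from ht q hq).inv_right
    rcases ea with rfl | rfl <;> rcases eb with rfl | rfl
    · exact hpq
    · exact hpq.mul_right hpt
    · exact hpq.mul_left hqt.symm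
    · exact (hpq.mul_right hpt).mul_left (hqt.symm.mul_right (Commute.refl _))
  · have hidx : (S.subgroupOf L).index = 2 := by
      refine Subgroup.index_eq_two_iff.2 ⟨⟨t, htL⟩, fun b => ?_⟩
      rw [xor_iff_iff_not]
      simp only [mem_subgroupOf, coe_mul]
      refine ⟨fun hb hb' => htS ?_, fun hb => ?_⟩
      · exact (S.mul_mem_cancel_left hb').1 hb
      · exact (b.2).resolve_left hb
    have := (S.subgroupOf L).card_mul_index
    rw [hidx, Nat.card_congr (subgroupOfEquivOfLe hSL).toEquiv] at this
    omega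

theorem rank_central (h : IsSetup A) {S : Subgroup X} (hS : center X ≤ S) (hSc : ∀ a ∈ S, ∀ b ∈ S, a * b = b * a)
    {e₁ e₂ t : X} (h1 : e₁ ∈ S) (h2 : e₂ ∈ S) (hcomm : ∀ s ∈ S, s * t = t * s) (s1 : e₁ * e₁ = 1)
    (s2 : e₂ * e₂ = 1) (s3 : t * t = 1) (n1 : e₁ ≠ 1) (n2 : e₂ ≠ 1) (n21 : e₂ ≠ e₁) : t ∈ S := by
  by_contra ht
  obtain ⟨L, hSL, htL, hLc, -, -⟩ := exists_adjoin hSc hcomm ht (by rw [s3]; exact one_mem _)
  rcases h.rank L (normal_of_center_le h (hS.trans hSL)) hLc e₁ (hSL h1) e₂ (hSL h2) t htL s1 s2 s3 n1 n2 n21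
    with e | e | e | e
  exacts [ht (e ▸ one_mem _), ht (e ▸ h1), ht (e ▸ h2), ht (e ▸ mul_mem h1 h2)]

theorem center_comm : ∀ a ∈ center X, ∀ b ∈ center X, a * b = b * a := fun _ _ b hb => mem_center_iff.1 hb _

/-- The center is the derived group and is elementary. -/
theorem center_eq (h : IsSetup A) (hna : ¬ IsMulCommutative X) :
    center X = _root_.commutator X ∧ ∀ z ∈ center X, z * z = 1 := by
  have hcZ : _root_.commutator X ≤ center X := by
    rw [_root_.commutator_def, commutator_le]; exact fun x _ y _ => comm_mem_center h x y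
  have hcsq : ∀ z ∈ _root_.commutator X, z * z = 1 := by
    intro z hz
    rw [commutator_eq_closure] at hz
    have key : z ∈ center X ∧ z * z = 1 := by
      induction hz using closure_induction with
      | mem g hg => obtain ⟨x, y, rfl⟩ := hg; exact ⟨comm_mem_center h x y, comm_sq h x y⟩
      | one => exact ⟨one_mem _, one_mul 1⟩
      | mul a b _ _ ia ib =>
        refine ⟨mul_mem ia.1 ib.1, ?_⟩
        rw [show a * b * (a * b) = a * (b * a) * b by group, mem_center_iff.1 ia.1 b,
          show a * (a * b) * b = (a * a) * (b * b) by group, ia.2, ib.2, one_mul]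
      | inv a _ ia => exact ⟨inv_mem ia.1, by rw [← mul_inv_rev, ia.2, inv_one]⟩
    exact key.2
  by_cases hfix : ∀ φ ∈ A, ∀ z ∈ center X, φ z = z
  · haveI := (inferInstance : (_root_.commutator X).Normal)
    have hq : ∀ a b : X ⧸ _root_.commutator X, a * b = b * a := fun a b =>
      (Subgroup.Normal.quotient_commutative_iff_commutator_le.mpr le_rfl).is_comm.comm a b
    let f : X →* X ⧸ _root_.commutator X := MonoidHom.mk' (fun x => ((x * x : X) : X ⧸ _root_.commutator X))
      fun a b => by
        simp only [QuotientGroup.mk_mul]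
        exact Commute.mul_mul_mul_comm (hq _ _) _ _
    have hsq : ∀ x : X, x * x ∈ _root_.commutator X := fun x => (QuotientGroup.eq_one_iff _).1
      (invariant_hom_trivial h f (fun φ hφ y => by
        show ((φ y * φ y : X) : X ⧸ _root_.commutator X) = _
        rw [← map_mul, hfix φ hφ _ (sq_mem_center h y)]; rfl) x)
    have hle : center X ≤ _root_.commutator X := fun z hz =>
      fixed_mem h le_rfl (inv_of_characteristic A _) fun φ hφ => by
        rw [hfix φ hφ z hz, inv_mul_cancel]; exact one_mem _
    exact ⟨le_antisymm hle hcZ, fun z hz => hcsq z (hle hz)⟩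
  push Not at hfix
  obtain ⟨φ, hφ, hfix⟩ := hfix
  obtain ⟨z₀, hz₀, hz₀m⟩ := hfix
  have hmove : ∃ e ∈ center X, e * e = 1 ∧ φ e ≠ e := by
    by_contra hno
    push Not at hno
    exact hz₀m (fix_of_fix_omega h center_comm (inv_center A) hφ hno z₀ hz₀)
  obtain ⟨r, hL⟩ := exists_layered h inferInstance center_comm (inv_center A) hφ hmove
  have hr : r = 1 := by
    by_contra hr
    have hr2 : 2 ≤ r := by have := hL.pos; omega
    refine hna (isMulCommutative_iff.2 fun a b => ?_)
    refine hL.abelian_of_small (N := ⊤) (κ := fun y => (y * y) ^ 2 ^ (r - 1)) (fun c _ => mem_top _)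
      (fun b hb c _ => (mem_center_iff.1 hb c).symm)
      (fun c _ => ⟨pow_mem (sq_mem_center h c) _, hL.omega_pow_sq (sq_mem_center h c)⟩) ?_ ?_
      (fun c _ d _ => ⟨comm_mem_center h c d, comm_sq h c d⟩) a (mem_top a) b (mem_top b)
    · intro c _ d _
      have hp : ⁅d, c⁆ ^ 2 ^ (r - 1) = 1 := by
        rw [show r - 1 = 1 + (r - 2) by omega, pow_add, pow_mul, pow_one, pow_two, comm_sq h d c, one_pow]
      show (c * d * (c * d)) ^ 2 ^ (r - 1) = (c * c) ^ 2 ^ (r - 1) * (d * d) ^ 2 ^ (r - 1)
      rw [show c * d * (c * d) = c * ⁅d, c⁆ * (c * (d * d)) by simp only [commutatorElement_def]; group,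
        mem_center_iff.1 (comm_mem_center h d c) c, show ⁅d, c⁆ * c * (c * (d * d)) = ⁅d, c⁆ * (c * c * (d * d)) by group,
        (show Commute ⁅d, c⁆ (c * c * (d * d)) from (mem_center_iff.1 (comm_mem_center h d c) _).symm).mul_pow, hp,
        one_mul, (show Commute (c * c) (d * d) from mem_center_iff.1 (sq_mem_center h d) _).mul_pow]
    · intro c _ hc
      obtain ⟨b, hb, hbe⟩ := hL.root_pow (r - 1) (by omega) (c * c) (sq_mem_center h c) hc
      rw [show r - (r - 1) = 1 by omega, pow_one, pow_two] at hbe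
      have ht2 : c * b⁻¹ * (c * b⁻¹) = 1 := by
        rw [show c * b⁻¹ * (c * b⁻¹) = c * (b⁻¹ * c) * b⁻¹ by group, ← mem_center_iff.1 (inv_mem hb) c,
          show c * (c * b⁻¹) * b⁻¹ = c * c * (b * b)⁻¹ by group, hbe, mul_inv_cancel]
      obtain ⟨e, he, he2, he1⟩ := hL.ex
      have := rank_central h le_rfl center_comm he (inv_center A φ hφ e he)
        (fun s hs => (mem_center_iff.1 hs _).symm) he2 (by rw [← map_mul, he2, map_one]) ht2 he1
        (fun hh => he1 (φ.injective (hh.trans (map_one φ).symm))) (hL.moves e he he2 he1)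
      simpa using mul_mem this hb
  subst hr
  have hsqZ : ∀ z ∈ center X, z * z = 1 := fun z hz => by simpa [pow_two] using hL.exp z hz
  refine ⟨le_antisymm (fun z hz => ?_) hcZ, hsqZ⟩
  obtain ⟨a, b, hab⟩ : ∃ a b : X, ⁅a, b⁆ ≠ 1 := by
    by_contra hno
    push Not at hno
    exact hna (isMulCommutative_iff.2 fun a b => commutatorElement_eq_one_iff_mul_comm.1 (hno a b))
  have hm : ⁅a, b⁆ ∈ _root_.commutator X := commutator_mem_commutator (mem_top a) (mem_top b)
  have hm' : φ ⁅a, b⁆ ∈ _root_.commutator X := inv_of_characteristic A _ φ hφ _ hm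
  rcases hL.four _ (comm_mem_center h a b) (comm_sq h a b) hab z hz (hsqZ z hz) with rfl | rfl | rfl | rfl
  exacts [one_mem _, hm, hm', mul_mem hm hm']

theorem center_ne_bot (h : IsSetup A) (hna : ¬ IsMulCommutative X) : 2 ≤ Nat.card (center X) := by
  haveI : Fact (Nat.Prime 2) := ⟨Nat.prime_two⟩
  have hne : center X ≠ ⊥ := by
    intro e
    refine hna (isMulCommutative_iff.2 fun a b => commutatorElement_eq_one_iff_mul_comm.1 ?_)
    rw [← Subgroup.mem_bot, ← e]
    exact comm_mem_center h a b
  exact Subgroup.one_lt_card_iff_ne_bot _ |>.2 hne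

theorem card_center (h : IsSetup A) (hna : ¬ IsMulCommutative X) :
    Nat.card (center X) = 2 ∨ (Nat.card (center X) = 4 ∧ ∃ e₁ ∈ center X, ∃ e₂ ∈ center X,
      e₁ ≠ 1 ∧ e₂ ≠ 1 ∧ e₂ ≠ e₁) := by
  classical
  have hsq := (center_eq h hna).2
  obtain ⟨⟨e₁, he₁⟩, h1'⟩ := Subgroup.ne_bot_iff_exists_ne_one.1
    ((Subgroup.one_lt_card_iff_ne_bot _).1 (center_ne_bot h hna))
  have n1 : e₁ ≠ 1 := fun e => h1' (Subtype.ext e)
  haveI : Fact (Nat.Prime 2) := ⟨Nat.prime_two⟩
  obtain ⟨k, hk⟩ := IsPGroup.iff_card.1 (h.pgroup.to_subgroup (center X))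
  have h2 := center_ne_bot h hna
  by_cases hex : ∃ e₂ ∈ center X, e₂ ≠ 1 ∧ e₂ ≠ e₁
  · obtain ⟨e₂, he₂, n2, n21⟩ := hex
    refine .inr ⟨?_, e₁, he₁, e₂, he₂, n1, n2, n21⟩
    have hle : Nat.card (center X) ≤ 4 := by
      have hsub : (center X : Set X) ⊆ (({1, e₁, e₂, e₁ * e₂} : Finset X) : Set X) := fun z hz => by
        have := h.rank (center X) inferInstance center_comm e₁ he₁ e₂ he₂ z hz (hsq _ he₁) (hsq _ he₂) (hsq _ hz)
          n1 n2 n21
        simpa using this
      have := Set.ncard_le_ncard hsub (Finset.finite_toSet _)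
      rw [Set.ncard_coe_finset, ← Nat.card_coe_set_eq] at this
      exact this.trans Finset.card_le_four
    have hge : 2 < Nat.card (center X) := by
      have hsub : (({1, e₁, e₂} : Finset X) : Set X) ⊆ center X := by
        intro z hz
        simp only [Finset.coe_insert, Finset.coe_singleton, Set.mem_insert_iff, Set.mem_singleton_iff] at hz
        rcases hz with rfl | rfl | rfl
        exacts [one_mem _, he₁, he₂]
      have := Set.ncard_le_ncard hsub (Set.toFinite _)
      rw [Set.ncard_coe_finset, ← Nat.card_coe_set_eq] at this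
      have hc : ({1, e₁, e₂} : Finset X).card = 3 := by simp [Ne.symm n1, Ne.symm n2, Ne.symm n21]
      rw [hc] at this
      exact this
    rw [hk] at hle hge ⊢
    have : k = 2 := by
      by_contra hk2
      rcases Nat.lt_or_ge k 2 with h' | h'
      · have := Nat.pow_le_pow_right two_pos (show k ≤ 1 by omega); omega
      · have := Nat.pow_le_pow_right two_pos (show 3 ≤ k by omega); omega
    rw [this]; norm_num
  · push Not at hex
    refine .inl (le_antisymm ?_ h2)
    have hsub : (center X : Set X) ⊆ (({1, e₁} : Finset X) : Set X) := fun z hz => by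
      by_cases hz1 : z = 1
      · simp [hz1]
      · simp [hex z hz hz1]
    have := Set.ncard_le_ncard hsub (Finset.finite_toSet _)
    rw [Set.ncard_coe_finset, ← Nat.card_coe_set_eq] at this
    exact this.trans Finset.card_le_two

/-- A subgroup of `X / Z(X)` on which squaring has no nontrivial zero. -/
theorem card_quot_le (h : IsSetup A) (hna : ¬ IsMulCommutative X) (V : Subgroup (X ⧸ center X))
    (hV : ∀ x : X, (x : X ⧸ center X) ∈ V → x * x = 1 → x ∈ center X) :
    Nat.card V ≤ Nat.card (center X) ^ 2 := by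
  have hsqZ := (center_eq h hna).2
  have hV2 : ∀ v : V, v * v = 1 := by
    intro v
    refine Subtype.ext ?_
    obtain ⟨x, hx⟩ := QuotientGroup.mk_surjective (v : X ⧸ center X)
    show (v : X ⧸ center X) * v = 1
    rw [← hx, ← QuotientGroup.mk_mul, QuotientGroup.eq_one_iff]
    exact sq_mem_center h x
  let rep : V → X := fun v => (v : X ⧸ center X).out
  have hrep : ∀ v : V, ((rep v : X) : X ⧸ center X) = v := fun v => Quotient.out_eq _
  have hcong : ∀ x y : X, (x : X ⧸ center X) = y → ∃ z ∈ center X, y = x * z := fun x y e =>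
    ⟨x⁻¹ * y, QuotientGroup.eq.1 e, (mul_inv_cancel_left x y).symm⟩
  let q : V → center X := fun v => ⟨rep v * rep v, sq_mem_center h _⟩
  let c : V → V → center X := fun u v => ⟨⁅rep v, rep u⁆, comm_mem_center h _ _⟩
  have hq : ∀ u v, q (u * v) = q u * q v * c u v := by
    intro u v
    refine Subtype.ext ?_
    obtain ⟨z, hz, e⟩ := hcong (rep u * rep v) (rep (u * v)) (by
      rw [QuotientGroup.mk_mul, hrep, hrep, hrep]; rfl)
    show rep (u * v) * rep (u * v) = rep u * rep u * (rep v * rep v) * ⁅rep v, rep u⁆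
    rw [e]
    generalize rep u = a
    generalize rep v = b
    rw [show a * b * z * (a * b * z) = a * b * (z * (a * b)) * z by group, ← mem_center_iff.1 hz (a * b),
      show a * b * (a * b * z) * z = a * ⁅b, a⁆ * (a * (b * b)) * (z * z) by
        simp only [commutatorElement_def]; group,
      hsqZ z hz, mul_one, mem_center_iff.1 (comm_mem_center h b a) a,
      mem_center_iff.1 (comm_mem_center h b a) (a * a * (b * b))]
    group
  have hc : ∀ u v w, c (u * v) w = c u w * c v w := by
    intro u v w
    refine Subtype.ext ?_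
    obtain ⟨z, hz, e⟩ := hcong (rep u * rep v) (rep (u * v)) (by
      rw [QuotientGroup.mk_mul, hrep, hrep, hrep]; rfl)
    show ⁅rep w, rep (u * v)⁆ = ⁅rep w, rep u⁆ * ⁅rep w, rep v⁆
    rw [e, comm_mul_right h, comm_mul_right h,
      commutatorElement_eq_one_iff_mul_comm.2 (mem_center_iff.1 hz (rep w)), mul_one]
  have hzero : ∀ v, q v ∈ (⊥ : Subgroup (center X)) ↔ v = 1 := by
    intro v
    rw [Subgroup.mem_bot]
    refine ⟨fun e => Subtype.ext ?_, fun e => ?_⟩
    · have := hV (rep v) (by rw [hrep]; exact v.2) (congrArg Subtype.val e)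
      rw [← hrep v]
      exact (QuotientGroup.eq_one_iff _).2 this
    · subst e
      refine Subtype.ext ?_
      exact hsqZ _ ((QuotientGroup.eq_one_iff _).1 ((hrep 1).trans rfl))
  have := CfsgLib.PGroups.QuadraticCount.card_mul_index_le hV2 (fun a => Subtype.ext (hsqZ a a.2)) hq hc ⊤
    (fun _ _ => mem_top _) ⊥ hzero
  simpa using this

/-- No invariant subgroup of index two contains the center. -/
theorem invariant_index_two_false (h : IsSetup A) {L : Subgroup X} (hZ : center X ≤ L) (hidx : L.index = 2)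
    (hL : Inv A L) : False := by
  haveI := normal_of_center_le h hZ
  obtain ⟨x, hx⟩ := SetLike.exists_not_mem_of_ne_top L (fun e => by rw [e, index_top] at hidx; omega)
  refine hx (fixed_mem h (commutator_def X ▸ (commutator_le.2 fun a _ b _ => hZ (comm_mem_center h a b))) hL
    fun φ hφ => ?_)
  rw [mul_mem_iff_of_index_two hidx, inv_mem_iff]
  refine iff_of_false hx fun hφx => hx ?_
  have := hL φ⁻¹ (inv_mem hφ) _ hφx
  simpa using this

theorem involution_central (h : IsSetup A) (hna : ¬ IsMulCommutative X) (hZ : Nat.card (center X) = 4) {t : X}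
    (ht : t * t = 1) : t ∈ center X := by
  rcases card_center h hna with e | ⟨-, e₁, he₁, e₂, he₂, n1, n2, n21⟩
  · omega
  exact rank_central h le_rfl center_comm he₁ he₂ (fun s hs => (mem_center_iff.1 hs t).symm)
    ((center_eq h hna).2 _ he₁) ((center_eq h hna).2 _ he₂) ht n1 n2 n21

theorem four_case (h : IsSetup A) (hna : ¬ IsMulCommutative X) (hZ : Nat.card (center X) = 4) :
    Nat.card X = 64 := by
  classical
  haveI : Fact (Nat.Prime 2) := ⟨Nat.prime_two⟩
  obtain ⟨hZc, hsqZ⟩ := center_eq h hna
  have hV : Nat.card (⊤ : Subgroup (X ⧸ center X)) ≤ Nat.card (center X) ^ 2 :=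
    card_quot_le h hna ⊤ fun x _ hx => involution_central h hna hZ hx
  rw [Subgroup.card_top, hZ, ← Subgroup.index_eq_card] at hV
  have hprod : Nat.card (center X) * (center X).index = Nat.card X := (center X).card_mul_index
  rw [hZ] at hprod
  obtain ⟨m, hm⟩ := IsPGroup.iff_card.1 h.pgroup
  -- an element with two independent commutators
  obtain ⟨a, b, c, hab, hac⟩ : ∃ a b c : X, ⁅a, b⁆ ≠ 1 ∧ ¬ (⁅a, c⁆ = 1 ∨ ⁅a, c⁆ = ⁅a, b⁆) := by
    by_contra hno
    push Not at hno
    obtain ⟨a, b, hab⟩ : ∃ a b : X, ⁅a, b⁆ ≠ 1 := by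
      by_contra hn
      push Not at hn
      exact hna (isMulCommutative_iff.2 fun x y => commutatorElement_eq_one_iff_mul_comm.1 (hn x y))
    set ε := ⁅a, b⁆
    obtain ⟨c, d, hcd1, hcd2⟩ : ∃ c d : X, ⁅c, d⁆ ≠ 1 ∧ ⁅c, d⁆ ≠ ε := by
      by_contra hn
      push Not at hn
      have hle : center X ≤ zpowers ε := by
        rw [hZc, _root_.commutator_def, commutator_le]
        intro x _ y _
        by_cases hxy : ⁅x, y⁆ = 1
        · rw [hxy]; exact one_mem _
        · rw [hn x y hxy]; exact mem_zpowers _
      have := Subgroup.card_le_of_le hle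
      rw [hZ, Nat.card_zpowers, orderOf_eq_prime (by rw [pow_two]; exact comm_sq h a b) hab] at this
      omega
    have cross : ∀ x y : X, (⁅x, y⁆ = 1 ∨ ⁅x, y⁆ = ε) → (⁅x, y⁆ = 1 ∨ ⁅x, y⁆ = ⁅c, d⁆) → ⁅x, y⁆ = 1 := by
      rintro x y (e | e) (e' | e') <;> first | exact e | exact e' | exact absurd (e'.symm.trans e) hcd2
    have hba : ⁅b, a⁆ = ε := comm_symm h a b
    have hdc : ⁅d, c⁆ = ⁅c, d⁆ := comm_symm h c d
    have one : ∀ x y z : X, ⁅x, y⁆ ≠ 1 → ⁅x, z⁆ = 1 ∨ ⁅x, z⁆ = ⁅x, y⁆ := fun x y z hxy =>
      hno x y z hxy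
    have hac : ⁅a, c⁆ = 1 := cross a c (one a b c hab)
      (by rw [← comm_symm h a c]; exact one c d a hcd1)
    have had : ⁅a, d⁆ = 1 := cross a d (one a b d hab)
      (by rw [← comm_symm h a d]; exact hdc ▸ one d c a (hdc.symm ▸ hcd1))
    have hbc : ⁅b, c⁆ = 1 := cross b c (hba ▸ one b a c (hba.symm ▸ hab))
      (by rw [← comm_symm h b c]; exact one c d b hcd1)
    have h1 : ⁅a * c, b⁆ = ε := by rw [comm_mul_left h, comm_symm h b c, hbc, mul_one]
    have h2 : ⁅a * c, d⁆ = ⁅c, d⁆ := by rw [comm_mul_left h, had, one_mul]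
    rcases one (a * c) b d (h1.symm ▸ hab) with e | e
    · exact hcd1 (h2.symm.trans e)
    · exact hcd2 (h2.symm.trans (e.trans h1))
  set ε := ⁅a, b⁆
  set δ := ⁅a, c⁆
  -- two commuting independent elements
  obtain ⟨u, v, hu, hv, huv⟩ : ∃ u v : X, ⁅a, u⁆ = ε ∧ ⁅a, v⁆ = δ ∧ ⁅u, v⁆ = 1 := by
    have ha1 : ⁅a, a⁆ = 1 := commutatorElement_self a
    have hε2 := comm_sq h a b
    have hδ2 := comm_sq h a c
    have hcases : ⁅b, c⁆ = 1 ∨ ⁅b, c⁆ = ε ∨ ⁅b, c⁆ = δ ∨ ⁅b, c⁆ = ε * δ :=
      h.rank (center X) inferInstance center_comm ε (comm_mem_center h a b) δ (comm_mem_center h a c) _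
        (comm_mem_center h b c) hε2 hδ2 (comm_sq h b c) hab (fun e => hac (.inl e)) (fun e => hac (.inr e))
    rcases hcases with e | e | e | e
    · exact ⟨b, c, rfl, rfl, e⟩
    · refine ⟨b, a * c, rfl, by rw [comm_mul_right h, ha1, one_mul], ?_⟩
      rw [comm_mul_right h, comm_symm h a b, e]; exact hε2
    · refine ⟨a * b, c, by rw [comm_mul_right h, ha1, one_mul], rfl, ?_⟩
      rw [comm_mul_left h, e]; exact hδ2
    · refine ⟨a * b, a * c, by rw [comm_mul_right h, ha1, one_mul], by rw [comm_mul_right h, ha1, one_mul], ?_⟩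
      rw [comm_mul_left h, comm_mul_right h, comm_mul_right h, ha1, one_mul, comm_symm h a b, e]
      calc δ * (ε * (ε * δ)) = δ * ((ε * ε) * δ) := by group
        _ = 1 := by rw [hε2, one_mul, hδ2]
  have huZ : u ∉ center X := fun hz => hab (hu.symm.trans (commutatorElement_eq_one_iff_mul_comm.2 (mem_center_iff.1 hz a)))
  obtain ⟨L₁, hZL₁, huL₁, hL₁c, hL₁card, hL₁mem⟩ := exists_adjoin center_comm
    (fun s hs => (mem_center_iff.1 hs u).symm) huZ (sq_mem_center h u)
  have hvL₁ : v ∉ L₁ := fun hvm => by
    rcases (hL₁mem v).1 hvm with hz | hz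
    · exact hac (.inl (hv.symm.trans (commutatorElement_eq_one_iff_mul_comm.2 (mem_center_iff.1 hz a))))
    · have := commutatorElement_eq_one_iff_mul_comm.2 (mem_center_iff.1 hz a)
      rw [comm_mul_right h, hu, hv] at this
      exact hac (.inr ((eq_inv_of_mul_eq_one_left this).trans (inv_eq_of_mul_eq_one_left (comm_sq h a b))))
  have hcomm : ∀ s ∈ L₁, s * v = v * s := by
    intro s hs
    have huv' : Commute u v := commutatorElement_eq_one_iff_mul_comm.1 huv
    rcases (hL₁mem s).1 hs with hz | hz
    · exact (mem_center_iff.1 hz v).symm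
    · have h1 : Commute (s * u) v := (mem_center_iff.1 hz v).symm
      have := h1.mul_left huv'.inv_left
      rwa [mul_inv_cancel_right] at this
  obtain ⟨L, hL₁L, hvL, hLc, hLcard, -⟩ := exists_adjoin hL₁c hcomm hvL₁ (hZL₁ (sq_mem_center h v))
  rw [hL₁card, hZ] at hLcard
  have hZL : center X ≤ L := hZL₁.trans hL₁L
  have hLtop : L ≠ ⊤ := fun e => hna (isMulCommutative_iff.2 fun x y => hLc x (e ▸ mem_top x) y (e ▸ mem_top y))
  have hLidx : Nat.card L * L.index = Nat.card X := L.card_mul_index
  have hL1 : L.index ≠ 1 := fun e => hLtop (index_eq_one.1 e)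
  have hL0 : L.index ≠ 0 := index_ne_zero_of_finite
  by_contra h64
  have hm5 : m = 5 := by
    by_contra hm5
    rcases Nat.lt_or_ge m 5 with h' | h'
    · have := Nat.pow_le_pow_right two_pos (show m ≤ 4 by omega)
      rw [hm, hLcard] at hLidx
      omega
    · rcases Nat.lt_or_ge m 7 with h'' | h''
      · obtain rfl : m = 6 := by omega
        exact h64 (by rw [hm]; norm_num)
      · have := Nat.pow_le_pow_right two_pos h''
        omega
  subst hm5
  rw [hm, hLcard] at hLidx
  have hidx : L.index = 2 := by omega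
  refine invariant_index_two_false h hZL hidx fun φ hφ x hx => ?_
  set L' := L.map (φ : MulAut X).toMonoidHom
  have hL'c : ∀ p ∈ L', ∀ q ∈ L', p * q = q * p := by
    rintro _ ⟨p, hp, rfl⟩ _ ⟨q, hq, rfl⟩
    rw [← map_mul, ← map_mul, hLc p hp q hq]
  have hZL' : center X ≤ L' := fun z hz => ⟨φ⁻¹ z, hZL (inv_center A φ⁻¹ (inv_mem hφ) z hz), by simp⟩
  have hL'card : Nat.card L' = 16 := by
    rw [Subgroup.card_map_of_injective φ.injective]; omega
  have hxL' : φ x ∈ L' := ⟨x, hx, rfl⟩
  by_contra hxL
  have hint : L ⊓ L' ≤ center X := by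
    intro y hy
    rw [mem_center_iff]
    intro g
    have hg : g ∈ L ∨ g * φ x ∈ L := or_iff_not_imp_left.2 fun hg =>
      (mul_mem_iff_of_index_two hidx).2 (iff_of_false hg hxL)
    rcases hg with hg | hg
    · exact hLc g hg y hy.1
    · have h1 : Commute (g * φ x) y := hLc _ hg y hy.1
      have h2 : Commute (φ x) y := hL'c _ hxL' y hy.2
      have := h1.mul_left h2.inv_left
      rwa [mul_inv_cancel_right] at this
  have h1 := Subgroup.card_le_of_le hint
  have h2 : (L ⊓ L').index ≤ L.index * L'.index := index_inf_le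
  have h3 : Nat.card (L ⊓ L' : Subgroup X) * (L ⊓ L').index = Nat.card X := (L ⊓ L').card_mul_index
  have h4 : Nat.card L' * L'.index = Nat.card X := L'.card_mul_index
  have h5 : L'.index = 2 := by rw [hm, hL'card] at h4; omega
  rw [hm] at h3
  rw [hZ] at h1
  rw [hidx, h5] at h2
  nlinarith

theorem two_case (h : IsSetup A) (hna : ¬ IsMulCommutative X) (hZ : Nat.card (center X) = 2)
    (hE : Cfsg.IsExtraspecial 2 X) :
    Nonempty (X ≃* QuaternionGroup 2) ∨ (Nat.card X = 32 ∧ Nat.card {x : X // orderOf x = 2} = 11) := by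
  classical
  haveI : Fact (Nat.Prime 2) := ⟨Nat.prime_two⟩
  haveI := Fintype.ofFinite X
  obtain ⟨hZc, hsqZ⟩ := center_eq h hna
  obtain ⟨n, hn, hcard, -, -⟩ := CfsgLib.PGroups.IsExtraspecial.exists_card hE
  obtain ⟨⟨z, hzZ⟩, hz1'⟩ := Subgroup.ne_bot_iff_exists_ne_one.1
    ((Subgroup.one_lt_card_iff_ne_bot (center X)).1 (by omega))
  have hz1 : z ≠ 1 := fun e => hz1' (Subtype.ext e)
  have hzmem : ∀ w ∈ center X, w = 1 ∨ w = z := by
    intro w hw
    by_contra hno
    push Not at hno
    have hsub : (({1, z, w} : Finset X) : Set X) ⊆ center X := by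
      intro y hy
      simp only [Finset.coe_insert, Finset.coe_singleton, Set.mem_insert_iff, Set.mem_singleton_iff] at hy
      rcases hy with rfl | rfl | rfl
      exacts [one_mem _, hzZ, hw]
    have := Set.ncard_le_ncard hsub (Set.toFinite _)
    rw [Set.ncard_coe_finset, ← Nat.card_coe_set_eq] at this
    have hc : ({1, z, w} : Finset X).card = 3 := by simp [Ne.symm hz1, Ne.symm hno.1, Ne.symm hno.2]
    rw [hc] at this
    exact absurd (hZ ▸ this : 3 ≤ 2) (by omega)
  have hprod : Nat.card (center X) * (center X).index = Nat.card X := (center X).card_mul_index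
  rw [hZ, hcard] at hprod
  by_cases hinv : ∃ e : X, e * e = 1 ∧ e ∉ center X
  · obtain ⟨e, he2, heZ⟩ := hinv
    obtain ⟨S, hZS, heS, hSc, hScard, hSmem⟩ := exists_adjoin center_comm
      (fun s hs => (mem_center_iff.1 hs e).symm) heZ (by rw [he2]; exact one_mem _)
    have he1 : e ≠ 1 := fun hh => heZ (hh ▸ one_mem _)
    have hze : e ≠ z := fun hh => heZ (hh ▸ hzZ)
    have hinvC : ∀ t, t * t = 1 → ⁅e, t⁆ = 1 → t ∈ S := by
      intro t ht het
      refine rank_central h hZS hSc (hZS hzZ) heS ?_ (hsqZ z hzZ) he2 ht hz1 he1 hze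
      intro s hs
      rcases (hSmem s).1 hs with hh | hh
      · exact (mem_center_iff.1 hh t).symm
      · have h1 : Commute (s * e) t := (mem_center_iff.1 hh t).symm
        have := h1.mul_left (show Commute e t from commutatorElement_eq_one_iff_mul_comm.1 het).inv_left
        rwa [mul_inv_cancel_right] at this
    -- the bound on the order
    have hle : (center X).index ≤ 16 := by
      let C : Subgroup X := centralizer {e}
      have hCidx : C.index ≤ 2 := by
        refine (CfsgLib.PGroups.index_centralizer_le (fun x y => comm_mem_center h x y) e).trans ?_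
        rw [← hZc, hZ]
      have hV2 : ∀ q : X ⧸ center X, q * q = 1 := fun q => by
        obtain ⟨x, rfl⟩ := QuotientGroup.mk_surjective q
        rw [← QuotientGroup.mk_mul, QuotientGroup.eq_one_iff]
        exact sq_mem_center h x
      obtain ⟨H, -, heH, hH⟩ := CfsgLib.PGroups.QuadraticCount.exists_index_two hV2 ⊥ (a := (e : X ⧸ center X))
        (by rw [Subgroup.mem_bot, QuotientGroup.eq_one_iff]; exact heZ)
      set V := H ⊓ C.map (QuotientGroup.mk' (center X))
      have hVle := card_quot_le h hna V fun x hx hx2 => by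
        obtain ⟨hxH, hxC'⟩ := Subgroup.mem_inf.1 hx
        obtain ⟨c, hc, hcx⟩ := hxC'
        rw [QuotientGroup.mk'_apply, QuotientGroup.eq] at hcx
        have hxC : ⁅e, x⁆ = 1 := by
          rw [show x = c * (c⁻¹ * x) by group, comm_mul_right h,
            commutatorElement_eq_one_iff_mul_comm.2 (mem_center_iff.1 hcx e), mul_one,
            commutatorElement_eq_one_iff_mul_comm]
          exact mem_centralizer_singleton_iff.1 hc |>.symm
        rcases (hSmem x).1 (hinvC x hx2 hxC) with hh | hh
        · exact hh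
        · refine absurd ?_ heH
          have h0 : ((x * e : X) : X ⧸ center X) = 1 := (QuotientGroup.eq_one_iff _).2 hh
          rw [QuotientGroup.mk_mul] at h0
          have := inv_mem hxH
          rwa [inv_eq_of_mul_eq_one_right h0] at this
      have h1 : V.index ≤ H.index * (C.map (QuotientGroup.mk' (center X))).index := index_inf_le
      have h2 : (C.map (QuotientGroup.mk' (center X))).index ≤ 2 :=
        (Nat.le_of_dvd (Nat.pos_of_ne_zero index_ne_zero_of_finite)
          (Subgroup.index_map_dvd C (QuotientGroup.mk'_surjective _))).trans hCidx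
      have h3 : Nat.card V * V.index = Nat.card (X ⧸ center X) := V.card_mul_index
      rw [← Subgroup.index_eq_card] at h3
      rw [hH] at h1
      rw [hZ] at hVle
      nlinarith
    have hn2 : n ≤ 2 := by
      by_contra hn2
      have := Nat.pow_le_pow_right two_pos (show 7 ≤ 2 * n + 1 by omega)
      omega
    -- the count
    obtain ⟨x₀, hx₀⟩ : ∃ x₀ : X, ⁅e, x₀⁆ ≠ 1 := by
      by_contra hno
      push Not at hno
      exact heZ (mem_center_iff.2 fun g => (commutatorElement_eq_one_iff_mul_comm.1 (hno g)).symm)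
    have hval : ∀ x, ⁅e, x⁆ = 1 ∨ ⁅e, x⁆ = z := fun x => hzmem _ (comm_mem_center h e x)
    have hflip : ∀ x, ⁅e, x⁆ ≠ 1 → x * e * (x * e) = x * x * z := by
      intro x hx
      have hz' : ⁅e, x⁆ = z := (hval x).resolve_left hx
      calc x * e * (x * e) = x * ⁅e, x⁆ * (x * (e * e)) := by rw [commutatorElement_def]; group
        _ = x * x * z := by rw [hz', he2, mul_one, mul_assoc x z x, ← mem_center_iff.1 hzZ x, ← mul_assoc]
    have hcomm2 : ∀ x, ⁅e, x⁆ ≠ 1 → ⁅e, x * e⁆ ≠ 1 := fun x hx => by
      rwa [comm_mul_right h, commutatorElement_self, mul_one]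
    rcases Nat.lt_or_ge n 2 with hn1 | hn1
    · obtain rfl : n = 1 := by omega
      -- order eight with a noncentral involution
      obtain ⟨c, hc, hcc⟩ : ∃ c, ⁅e, c⁆ ≠ 1 ∧ c * c = z := by
        rcases hzmem _ (sq_mem_center h x₀) with hh | hh
        · exact ⟨x₀ * e, hcomm2 x₀ hx₀, by rw [hflip x₀ hx₀, hh, one_mul]⟩
        · exact ⟨x₀, hx₀, hh⟩
      have hcZ : c ∉ center X := fun hh => hc (commutatorElement_eq_one_iff_mul_comm.2 (mem_center_iff.1 hh e))
      obtain ⟨L, hZL, hcL, hLc, hLcard, hLmem⟩ := exists_adjoin center_comm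
        (fun s hs => (mem_center_iff.1 hs c).symm) hcZ (sq_mem_center h c)
      rw [hZ] at hLcard
      have hidx : L.index = 2 := by
        have := L.card_mul_index
        rw [hLcard, hcard] at this
        omega
      exfalso
      refine invariant_index_two_false h hZL hidx fun φ hφ y hy => ?_
      have key : φ c ∈ L := by
        by_contra hφc
        have hφcc : φ c * φ c = z := by
          rw [← map_mul, hcc]
          rcases hzmem _ (inv_center A φ hφ z hzZ) with hh | hh
          · exact absurd (φ.injective (hh.trans (map_one φ).symm)) hz1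
          · exact hh
        -- all elements with square `z` lie in `L`
        have hesplit : e ∉ L := fun heL => hc (commutatorElement_eq_one_iff_mul_comm.2 (hLc e heL c hcL))
        have hmem : φ c * e ∈ L := (mul_mem_iff_of_index_two hidx).2 (iff_of_false hφc hesplit)
        have hne : ⁅e, φ c⁆ = 1 ∨ ⁅e, φ c⁆ ≠ 1 := em _
        rcases hne with hh | hh
        · have h1 : φ c * e * (φ c * e) = z := by
            rw [show φ c * e * (φ c * e) = φ c * ⁅e, φ c⁆ * (φ c * (e * e)) by rw [commutatorElement_def]; group,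
              hh, he2]
            simpa using hφcc
          rcases (hLmem _).1 hmem with hm | hm
          · exact hz1 (h1.symm.trans (hsqZ _ hm))
          · have hm' : φ c * e * c ∈ center X := hm
            have := commutatorElement_eq_one_iff_mul_comm.2 (mem_center_iff.1 hm' e)
            rw [comm_mul_right h, comm_mul_right h, hh, commutatorElement_self, one_mul, one_mul] at this
            exact hc this
        · have h1 : φ c * e * (φ c * e) = 1 := by rw [hflip _ hh, hφcc, hsqZ z hzZ]
          rcases (hLmem _).1 hmem with hm | hm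
          · have := commutatorElement_eq_one_iff_mul_comm.2 (mem_center_iff.1 hm e)
            rw [comm_mul_right h, commutatorElement_self, mul_one] at this
            exact hh this
          · have h2 := hsqZ _ hm
            have hcm : Commute (φ c * e) c := hLc _ hmem c hcL
            rw [hcm.symm.mul_mul_mul_comm, h1, hcc, one_mul] at h2
            exact hz1 h2
      rcases (hLmem y).1 hy with hh | hh
      · exact hZL (inv_center A φ hφ y hh)
      · have := mul_mem (hZL (inv_center A φ hφ _ hh)) (inv_mem key)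
        rwa [map_mul, mul_inv_cancel_right] at this
    · obtain rfl : n = 2 := by omega
      refine .inr ⟨by rw [hcard]; norm_num, ?_⟩
      have hsq1 : Nat.card {x : X // x * x = 1} = 12 := by
        rw [Nat.card_eq_fintype_card, Fintype.card_subtype]
        rw [← Finset.card_filter_add_card_filter_not (fun x => ⁅e, x⁆ = 1)]
        have hA4 : ((Finset.univ.filter fun x : X => x * x = 1).filter fun x => ⁅e, x⁆ = 1) =
            Finset.univ.filter fun x => x ∈ S := by
          ext x
          simp only [Finset.mem_filter, Finset.mem_univ, true_and]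
          refine ⟨fun hx => hinvC x hx.1 hx.2, fun hx => ⟨?_, commutatorElement_eq_one_iff_mul_comm.2 (hSc e heS x hx)⟩⟩
          rcases (hSmem x).1 hx with hh | hh
          · exact hsqZ x hh
          · have h2 := hsqZ _ hh
            have hcm : Commute x e := hSc x hx e heS
            rwa [hcm.symm.mul_mul_mul_comm, he2, mul_one] at h2
        have hAcard : (Finset.univ.filter fun x : X => x ∈ S).card = 4 := by
          rw [← Fintype.card_subtype, ← Nat.card_eq_fintype_card, hScard, hZ]
        set O := Finset.univ.filter fun x : X => ¬ ⁅e, x⁆ = 1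
        have hOcard : O.card = 16 := by
          have hidx : (centralizer {e} : Subgroup X).index = 2 := by
            refine le_antisymm ((CfsgLib.PGroups.index_centralizer_le (fun x y => comm_mem_center h x y) e).trans
              (by rw [← hZc, hZ])) ?_
            have h0 : (centralizer {e} : Subgroup X).index ≠ 0 := index_ne_zero_of_finite
            have h1 : (centralizer {e} : Subgroup X).index ≠ 1 := fun hh => hx₀ (by
              rw [commutatorElement_eq_one_iff_mul_comm]
              exact (mem_centralizer_singleton_iff.1 (index_eq_one.1 hh ▸ mem_top x₀)).symm)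
            omega
          have hcc' := (centralizer {e} : Subgroup X).card_mul_index
          rw [hidx, hcard] at hcc'
          have hsum := Finset.card_filter_add_card_filter_not (s := (Finset.univ : Finset X)) (fun x => ⁅e, x⁆ = 1)
          have hCcard : (Finset.univ.filter fun x : X => ⁅e, x⁆ = 1).card = Nat.card (centralizer {e} : Subgroup X) := by
            rw [Nat.card_eq_fintype_card, Fintype.card_subtype]
            congr 1
            ext x
            simp [mem_centralizer_singleton_iff, commutatorElement_eq_one_iff_mul_comm, eq_comm]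
          rw [Finset.card_univ, ← Nat.card_eq_fintype_card, hcard, hCcard] at hsum
          have h32 : (2 : ℕ) ^ (2 * 2 + 1) = 32 := by norm_num
          rw [h32] at hsum hcc'
          change _ + O.card = 32 at hsum
          omega
        have hhalf : (O.filter fun x => x * x = 1).card = (O.filter fun x => ¬ x * x = 1).card := by
          refine Finset.card_nbij' (fun x => x * e) (fun x => x * e) ?_ ?_ ?_ ?_
          · intro x hx
            simp only [O, Finset.coe_filter, Finset.mem_filter, Finset.mem_univ, true_and, Set.mem_setOf_eq] at hx ⊢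
            exact ⟨hcomm2 x hx.1, by rw [hflip x hx.1, hx.2, one_mul]; exact hz1⟩
          · intro x hx
            simp only [O, Finset.coe_filter, Finset.mem_filter, Finset.mem_univ, true_and, Set.mem_setOf_eq] at hx ⊢
            refine ⟨hcomm2 x hx.1, ?_⟩
            rw [hflip x hx.1, (hzmem _ (sq_mem_center h x)).resolve_left hx.2, hsqZ z hzZ]
          · intro x _; simp [mul_assoc, he2]
          · intro x _; simp [mul_assoc, he2]
        have hO := Finset.card_filter_add_card_filter_not (s := O) (fun x => x * x = 1)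
        have hswap : ((Finset.univ.filter fun x : X => x * x = 1).filter fun x => ¬ ⁅e, x⁆ = 1) =
            O.filter fun x => x * x = 1 := Finset.filter_comm _ _ _
        rw [hA4, hAcard, hswap]
        omega
      have hord : ∀ x : X, orderOf x = 2 ↔ x * x = 1 ∧ x ≠ 1 := by
        intro x
        rw [orderOf_eq_prime_iff, pow_two]
      rw [Nat.card_eq_fintype_card, Fintype.card_subtype] at hsq1 ⊢
      have : (Finset.univ.filter fun x : X => orderOf x = 2) = (Finset.univ.filter fun x : X => x * x = 1).erase 1 := by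
        ext x
        simp [hord, and_comm]
      rw [this, Finset.card_erase_of_mem (by simp), hsq1]
  · -- no noncentral involution: quaternion
    push Not at hinv
    refine .inl ?_
    have hle : Nat.card (⊤ : Subgroup (X ⧸ center X)) ≤ Nat.card (center X) ^ 2 :=
      card_quot_le h hna ⊤ fun x _ hx => hinv x hx
    rw [Subgroup.card_top, hZ, ← Subgroup.index_eq_card] at hle
    obtain rfl : n = 1 := by
      by_contra hn1
      have := Nat.pow_le_pow_right two_pos (show 5 ≤ 2 * n + 1 by omega)
      omega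
    obtain ⟨a, b, hab⟩ : ∃ a b : X, ⁅b, a⁆ ≠ 1 := by
      by_contra hno
      push Not at hno
      exact hna (isMulCommutative_iff.2 fun a b => commutatorElement_eq_one_iff_mul_comm.1 (hno b a))
    have haZ : a ∉ center X := fun hh => hab (commutatorElement_eq_one_iff_mul_comm.2 (mem_center_iff.1 hh b))
    have hbZ : b ∉ center X := fun hh => hab (commutatorElement_eq_one_iff_mul_comm.2 (mem_center_iff.1 hh a).symm)
    have hsq : ∀ x, x ∉ center X → x * x = z := fun x hx =>
      (hzmem _ (sq_mem_center h x)).resolve_left fun hh => hx (hinv x hh)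
    have ha4 : orderOf a = 2 * 2 := by
      refine orderOf_eq_prime_pow (p := 2) (n := 1) (fun hh => ?_) ?_
      · rw [pow_one, pow_two, hsq a haZ] at hh; exact hz1 hh
      · rw [pow_succ, pow_one, pow_mul, pow_two a, hsq a haZ, pow_two, hsqZ z hzZ]
    refine CfsgLib.TwoGroups.nonempty_mulEquiv_quaternionGroup (n := 2) (a := a) (b := b) ha4 ?_ ?_ ?_ ?_
    · rw [pow_two, hsq a haZ, hsq b hbZ]
    · rintro ⟨k, rfl⟩
      exact hab (commutatorElement_eq_one_iff_mul_comm.2 ((Commute.refl a).zpow_left k))
    · rw [show b * a * b⁻¹ = ⁅b, a⁆ * a by rw [commutatorElement_def]; group,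
        (hzmem _ (comm_mem_center h b a)).resolve_left hab]
      refine eq_inv_of_mul_eq_one_left ?_
      rw [mul_assoc, hsq a haZ, hsqZ z hzZ]
    · rw [hcard]; norm_num

/-- The classification. -/
theorem classification (h : IsSetup A) (hna : ¬ IsMulCommutative X) :
    Nonempty (X ≃* QuaternionGroup 2) ∨
      (Cfsg.IsSpecial 2 X ∧ Nat.card X = 64 ∧ Nat.card {x : X // orderOf x = 2} = 3 ∧
        ∀ x : X, orderOf x = 2 → x ∈ center X) ∨
      (Cfsg.IsExtraspecial 2 X ∧ Nat.card X = 32 ∧ Nat.card {x : X // orderOf x = 2} = 11) := by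
  classical
  haveI : Fact (Nat.Prime 2) := ⟨Nat.prime_two⟩
  obtain ⟨hZc, hsqZ⟩ := center_eq h hna
  have hS : Cfsg.IsSpecial 2 X := ⟨h.pgroup,
    le_antisymm (frattini_le_center h) (hZc.le.trans (CfsgLib.PGroups.commutator_le_frattini' h.pgroup)), hZc.symm⟩
  rcases card_center h hna with hZ | ⟨hZ, -⟩
  · rcases two_case h hna hZ ⟨hS, hZ⟩ with h' | ⟨h1, h2⟩
    · exact .inl h'
    · exact .inr (.inr ⟨⟨hS, hZ⟩, h1, h2⟩)
  · refine .inr (.inl ⟨hS, four_case h hna hZ, ?_, fun x hx => involution_central h hna hZ ?_⟩)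
    · have hequiv : {x : X // orderOf x = 2} ≃ {y : center X // y ≠ 1} :=
        { toFun := fun x => ⟨⟨x.1, involution_central h hna hZ (by
              have := pow_orderOf_eq_one x.1
              rwa [x.2, pow_two] at this)⟩, fun e => by
            have h1 : x.1 = 1 := congrArg Subtype.val e
            have := x.2
            rw [h1, orderOf_one] at this
            exact absurd this (by norm_num)⟩
          invFun := fun y => ⟨y.1.1, orderOf_eq_prime (by rw [pow_two]; exact hsqZ _ y.1.2)
            fun e => y.2 (Subtype.ext e)⟩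
          left_inv := fun x => rfl
          right_inv := fun y => rfl }
      haveI := Fintype.ofFinite X
      rw [Nat.card_congr hequiv, Nat.card_eq_fintype_card, Fintype.card_subtype_compl, Fintype.card_subtype_eq,
        ← Nat.card_eq_fintype_card, hZ]
    · have := pow_orderOf_eq_one x
      rwa [hx, pow_two] at this

end CfsgLib.Techniques.SmallRankAut
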