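import Cfsg.Agent.Lib.PLocal.SLTwo.QdFree
import Cfsg.Agent.Lib.Components.FStar
import Cfsg.Agent.Lib.LocalEven.Qd
import Cfsg.Agent.Lib.Core.Carter
import Cfsg.Agent.Lib.PLocal.PConstrained

/-!
Elements of prime power order, the prime at least 5, acting quadratically on the Fitting subgroup of
a solvable group.
-/

set_option autoImplicit false

namespace CfsgLib.Techniques

open Subgroup Cfsg
open scoped MatrixGroups commutatorElement

variable {X : Type*} [Group X]

theorem noQd_of_isSolvable [Finite X] [Group.IsSolvable X] {p : ℕ} [Fact p.Prime] (h5 : 5 ≤ p) :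
    CfsgLib.PLocal.SLTwo.NoQd p X := by
  rintro ⟨K, R, hR, ⟨e⟩⟩
  let e' : ↥K ⧸ R.subgroupOf K ≃* ↥(Cfsg.qdOver (ZMod p)) := e
  set π : ↥K →* SL(2, ZMod p) :=
    ((CfsgLib.LocalEven.Qd.block (ZMod p)).comp e'.toMonoidHom).comp (QuotientGroup.mk' _) with hπ
  have hπs : Function.Surjective π := fun A => by
    obtain ⟨x, hx⟩ := e'.surjective (CfsgLib.LocalEven.Qd.mkElt (ZMod p) A 0)
    obtain ⟨k, rfl⟩ := QuotientGroup.mk'_surjective _ x
    exact ⟨k, (congrArg _ hx).trans (CfsgLib.LocalEven.Qd.block_mkElt A 0)⟩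
  haveI : Group.IsSolvable SL(2, ZMod p) := solvable_of_surjective hπs
  have hperf : commutator SL(2, ZMod p) = ⊤ := by
    have h3' : ¬ p ∣ 3 := fun h => by have := Nat.le_of_dvd (by norm_num) h; omega
    have h2' : ¬ p ∣ 2 := fun h => by have := Nat.le_of_dvd (by norm_num) h; omega
    refine Matrix.SL2.commutator_eq_top (a := (2 : ZMod p)) ?_ ?_
    · exact fun h0 => h2' ((ZMod.natCast_eq_zero_iff 2 p).1 (by simpa using h0))
    · intro h0
      refine h3' ((ZMod.natCast_eq_zero_iff 3 p).1 ?_)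
      push_cast
      linear_combination h0
  haveI : Nontrivial SL(2, ZMod p) := by
    refine ⟨Matrix.SpecialLinearGroup.transvection (zero_ne_one : (0 : Fin 2) ≠ 1) (1 : ZMod p), 1,
      fun h => ?_⟩
    exact one_ne_zero ((Matrix.SpecialLinearGroup.transvection_mem_center_iff _ _).1
      (h ▸ one_mem _ : Matrix.SpecialLinearGroup.transvection _ (1 : ZMod p) ∈ center SL(2, ZMod p)))
  exact (Group.IsSolvable.commutator_lt_top_of_nontrivial SL(2, ZMod p)).ne hperf

theorem conj_pow_of_fixed {h v : X} (hc : h * (h * v * h⁻¹ * v⁻¹) * h⁻¹ = h * v * h⁻¹ * v⁻¹) :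
    ∀ i : ℕ, h ^ i * v * (h ^ i)⁻¹ = (h * v * h⁻¹ * v⁻¹) ^ i * v := by
  intro i
  induction i with
  | zero => simp
  | succ i ih =>
    have hci : h * (h * v * h⁻¹ * v⁻¹) ^ i * h⁻¹ = (h * v * h⁻¹ * v⁻¹) ^ i := by
      rw [← conj_pow, hc]
    calc h ^ (i + 1) * v * (h ^ (i + 1))⁻¹ = h * (h ^ i * v * (h ^ i)⁻¹) * h⁻¹ := by
          rw [pow_succ']; group
      _ = (h * (h * v * h⁻¹ * v⁻¹) ^ i * h⁻¹) * (h * v * h⁻¹) := by rw [ih]; group
      _ = (h * v * h⁻¹ * v⁻¹) ^ (i + 1) * v := by rw [hci, pow_succ]; group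

/-- In a solvable group an element of `q`-power order, `q ≥ 5`, acting quadratically on the Fitting
subgroup lies in it. -/
theorem mem_fitting_of_quad [Finite X] [Group.IsSolvable X] {q : ℕ} [hq : Fact q.Prime] (h5 : 5 ≤ q)
    {h : X} (hh : IsPGroup q (zpowers h))
    (hquad : ∀ v ∈ fittingSubgroup X, h * (h * v * h⁻¹ * v⁻¹) * h⁻¹ = h * v * h⁻¹ * v⁻¹) :
    h ∈ fittingSubgroup X := by
  set F := fittingSubgroup X
  haveI hFc := CfsgLib.Core.isNilpotent_fittingSubgroup X
  haveI hFn : F.Normal := inferInstance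
  set R := pCore q X with hR
  set V := pPrimeCore q X ⊓ F with hV
  have hRF : R ≤ F := CfsgLib.Core.pCore_le_fittingSubgroup q
  have hFRV : F ≤ R ⊔ V := by
    have h1 := congrArg (Subgroup.map F.subtype)
      (CfsgLib.Core.Carter.pCore_sup_pPrimeCore (G := F) q hq.out)
    rw [Subgroup.map_sup, ← MonoidHom.range_eq_map, Subgroup.range_subtype] at h1
    rw [← h1]
    exact sup_le_sup (CfsgLib.Core.map_subtype_pCore_le F)
      (le_inf (CfsgLib.Core.map_subtype_pPrimeCore_le F) (map_subtype_le _))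
  obtain ⟨k, hk⟩ := IsPGroup.iff_card.1 hh
  rw [Nat.card_zpowers] at hk
  have hcV : h ∈ centralizer (V : Set X) := by
    rw [mem_centralizer_iff]
    intro v hv
    have h1 := conj_pow_of_fixed (hquad v hv.2) (q ^ k)
    rw [← hk, pow_orderOf_eq_one] at h1
    simp only [inv_one, mul_one, one_mul] at h1
    have h2 : h * v * h⁻¹ * v⁻¹ ∈ V :=
      mul_mem ((inferInstance : V.Normal).conj_mem _ hv h) (inv_mem hv)
    have h4 : (Nat.card V).Coprime q :=
      (CfsgLib.Core.coprime_card_pPrimeCore q X).coprime_dvd_left (card_dvd_of_le inf_le_left)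
    have h3 : (orderOf (h * v * h⁻¹ * v⁻¹)).Coprime (orderOf h) :=
      hk ▸ (h4.coprime_dvd_left (Subgroup.orderOf_dvd_natCard _ h2)).pow_right k
    have h5 : h * v * h⁻¹ * v⁻¹ = 1 := orderOf_eq_one_iff.1 (Nat.eq_one_of_dvd_coprimes h3 dvd_rfl
      (orderOf_dvd_of_pow_eq_one (mul_eq_right.1 h1.symm)))
    exact (mul_inv_eq_iff_eq_mul.1 (mul_inv_eq_one.1 h5)).symm
  have hqR : ⁅⁅R, zpowers h⁆, zpowers h⁆ = ⊥ := by
    rw [commutator_eq_bot_iff_le_centralizer, commutator_le]
    intro v hv g hg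
    obtain ⟨i, rfl⟩ := Submonoid.mem_powers_iff _ _ |>.1 (mem_powers_iff_mem_zpowers.2 hg)
    have hi := conj_pow_of_fixed (hquad v (hRF hv)) i
    have hfix : h * ((h * v * h⁻¹ * v⁻¹) ^ i)⁻¹ * h⁻¹ = ((h * v * h⁻¹ * v⁻¹) ^ i)⁻¹ := by
      rw [← conj_inv, ← conj_pow, hquad v (hRF hv)]
    have he : ⁅v, h ^ i⁆ = ((h * v * h⁻¹ * v⁻¹) ^ i)⁻¹ := by
      rw [commutatorElement_def, eq_inv_iff_mul_eq_one, mul_assoc, mul_assoc,
        show v⁻¹ * ((h ^ i)⁻¹ * (h * v * h⁻¹ * v⁻¹) ^ i)
          = v⁻¹ * (h ^ i)⁻¹ * ((h * v * h⁻¹ * v⁻¹) ^ i * v) * v⁻¹ by group, ← hi]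
      group
    rw [he]
    exact mem_centralizer_iff.2 fun z hz => by
      have hle : zpowers h ≤ centralizer ({((h * v * h⁻¹ * v⁻¹) ^ i)⁻¹} : Set X) :=
        zpowers_le.2 (mem_centralizer_singleton_iff.2 (mul_inv_eq_iff_eq_mul.1 hfix))
      exact mem_centralizer_singleton_iff.1 (hle hz)
  have hmem := CfsgLib.PLocal.SLTwo.mem_pCore_of_noQd (by omega : q ≠ 2) (noQd_of_isSolvable h5) R
    (CfsgLib.Core.isPGroup_pCore q X) hqR
  set ψ := QuotientGroup.mk' (centralizer (R : Set X)) with hψ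
  set L := centralizer (V : Set X) ⊓ (pCore q (X ⧸ centralizer (R : Set X))).comap ψ with hL
  haveI hLn : L.Normal := inferInstance
  have hLC : L ⊓ centralizer (R : Set X) ≤ centralizer (F : Set X) := by
    intro z hz
    rw [mem_centralizer_iff]
    intro f hf
    have h1 : R ⊔ V ≤ centralizer ({z} : Set X) := sup_le
      (fun r hr => mem_centralizer_singleton_iff.2 (mem_centralizer_iff.1 hz.2 r hr))
      (fun r hr => mem_centralizer_singleton_iff.2 (mem_centralizer_iff.1 hz.1.1 r hr))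
    exact mem_centralizer_singleton_iff.1 (h1 (hFRV hf))
  have hCF : centralizer (F : Set X) ≤ F :=
    CfsgLib.Components.centralizer_fitting_le_of_isSolvable
  set Z := L ⊓ centralizer (R : Set X)
  have hZF : Z ≤ F := hLC.trans hCF
  haveI hZn : Z.Normal := inferInstance
  -- the relative index of `Z` in `L` is a power of `q`
  have hidx : ∃ j, Z.relIndex L = q ^ j := by
    obtain ⟨j, hj⟩ := IsPGroup.iff_card.1 ((CfsgLib.Core.isPGroup_pCore q
      (X ⧸ centralizer (R : Set X))).to_le (show L.map ψ ≤ _ from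
        map_le_iff_le_comap.2 inf_le_right))
    refine ⟨j, ?_⟩
    rw [← hj, ← relIndex_ker, hψ, QuotientGroup.ker_mk', inf_relIndex_left]
  obtain ⟨Q⟩ : Nonempty (Sylow q L) := inferInstance
  set Q' := (Q : Subgroup L).map L.subtype
  have hsup : Q' ⊔ Z = L := CfsgLib.PLocal.sup_eq_of_coprime_relIndex (map_subtype_le _) inf_le_left
    (by
      rw [relIndex, subgroupOf, comap_map_eq_self_of_injective (subtype_injective _)]
      exact Q.not_dvd_index) hidx
  have hRV : ∀ r ∈ R, ∀ w ∈ V, r * w = w * r := fun r hr w hw => by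
    have hd : Disjoint R V := disjoint_of_coprime_natCard (by
      obtain ⟨j, hj⟩ := IsPGroup.iff_card.1 (CfsgLib.Core.isPGroup_pCore q X)
      rw [show Nat.card R = q ^ j from hj]
      exact (((CfsgLib.Core.coprime_card_pPrimeCore q X).coprime_dvd_left
        (card_dvd_of_le inf_le_left)).symm).pow_left j)
    exact (commute_of_normal_of_disjoint R V inferInstance inferInstance hd r w hr hw).eq
  have hLeq : L ≤ Q' ⊔ (L ⊓ V) := by
    refine hsup.ge.trans (sup_le le_sup_left fun z hz => ?_)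
    obtain ⟨r, hr, w, hw, rfl⟩ := mem_sup_of_normal_right.1 (hFRV (hZF hz))
    have hrC : r ∈ centralizer (R : Set X) := by
      have hwC : w ∈ centralizer (R : Set X) :=
        mem_centralizer_iff.2 fun r' hr' => hRV r' hr' w hw
      have := mul_mem (show r * w ∈ centralizer (R : Set X) from hz.2) (inv_mem hwC)
      rwa [mul_inv_cancel_right] at this
    have hrL : r ∈ L := by
      refine Subgroup.mem_inf.2
        ⟨mem_centralizer_iff.2 fun v hv => (hRV r hr v hv).symm, mem_comap.2 ?_⟩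
      rw [hψ, QuotientGroup.mk'_apply, (QuotientGroup.eq_one_iff r).2 hrC]
      exact one_mem _
    have hrQ : r ∈ Q' := by
      have hRL : IsPGroup q (R.subgroupOf L) := (CfsgLib.Core.isPGroup_pCore q X).comap_subtype
      exact ⟨⟨r, hrL⟩, CfsgLib.Core.pCore_le_sylow Q (CfsgLib.Core.le_pCore hRL hr), rfl⟩
    have hwL : w ∈ L := by
      have := mul_mem (inv_mem hrL) (show r * w ∈ L from hz.1)
      rwa [inv_mul_cancel_left] at this
    exact mul_mem (mem_sup_left hrQ) (mem_sup_right ⟨hwL, hw⟩)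
  have hLnil : Group.IsNilpotent L := by
    haveI : Group.IsNilpotent Q' := (Q.2.map L.subtype).isNilpotent
    haveI : Group.IsNilpotent (L ⊓ V : Subgroup X) :=
      CfsgLib.Core.isNilpotent_of_le (inf_le_right.trans (inf_le_right : V ≤ F))
    haveI := CfsgLib.Core.isNilpotent_sup_of_commute Q' (L ⊓ V) fun x hx y hy =>
      (mem_centralizer_iff.1 ((map_subtype_le _ hx : x ∈ L)).1 y hy.2).symm
    exact CfsgLib.Core.isNilpotent_of_le hLeq
  exact CfsgLib.Core.le_fittingSubgroup hLnil ⟨hcV, hmem⟩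

end CfsgLib.Techniques
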