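import Mathlib.GroupTheory.Index
import Mathlib.GroupTheory.OrderOfElement
import Mathlib.Tactic.Group

/-!
An involution whose centralizer has a large `2`-group of symplectic type and exponent four: a conjugate
lying in that subgroup has the first one in its own.
-/

set_option autoImplicit false

namespace CfsgLib.Techniques

open Subgroup

variable {G : Type*} [Group G] [Finite G]

/-- The properties of `Q` used: normal in `C(z)`, self-centralizing there, commutators and squares in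
`⟨z⟩`, central involutions only `z`, and everything once `C(z)` is a `2`-group. -/
structure LargeSymplectic (z : G) (Q : Subgroup G) : Prop where
  sq_z : z * z = 1
  ne_one : z ≠ 1
  mem : z ∈ Q
  le : ∀ q ∈ Q, q * z = z * q
  normal : ∀ c : G, c * z = z * c → ∀ q ∈ Q, c * q * c⁻¹ ∈ Q
  self_cent : ∀ c : G, c * z = z * c → (∀ q ∈ Q, c * q = q * c) → c ∈ Q
  comm : ∀ a ∈ Q, ∀ b ∈ Q, a * b * a⁻¹ = b ∨ a * b * a⁻¹ = b * z
  square : ∀ a ∈ Q, a * a = 1 ∨ a * a = z
  central : ∀ a ∈ Q, a * a = 1 → (∀ b ∈ Q, b * a = a * b) → a = 1 ∨ a = z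
  two_group : (∀ c : G, c * z = z * c → Odd (orderOf c) → c = 1) → ∀ c : G, c * z = z * c → c ∈ Q

theorem LargeSymplectic.conj {z : G} {Q : Subgroup G} (H : LargeSymplectic z Q) (g : G) :
    LargeSymplectic (g * z * g⁻¹) (Q.map (MulAut.conj g).toMonoidHom) := by
  have hmem : ∀ x : G, x ∈ Q.map (MulAut.conj g).toMonoidHom ↔ g⁻¹ * x * g ∈ Q := by
    intro x
    refine ⟨?_, fun h => ⟨g⁻¹ * x * g, h, by show g * (g⁻¹ * x * g) * g⁻¹ = x; group⟩⟩
    rintro ⟨h, hh, rfl⟩
    rw [show g⁻¹ * (MulAut.conj g).toMonoidHom h * g = h by show g⁻¹ * (g * h * g⁻¹) * g = h; group]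
    exact hh
  have hc : ∀ c : G, c * (g * z * g⁻¹) = g * z * g⁻¹ * c → g⁻¹ * c * g * z = z * (g⁻¹ * c * g) := fun c h => by
    calc g⁻¹ * c * g * z = g⁻¹ * (c * (g * z * g⁻¹)) * g := by group
      _ = g⁻¹ * (g * z * g⁻¹ * c) * g := by rw [h]
      _ = _ := by group
  refine ⟨by rw [conj_mul, H.sq_z]; group, fun h => H.ne_one (conj_eq_one_iff.1 h), ⟨z, H.mem, rfl⟩,
    fun q hq => ?_, fun c hcz q hq => ?_, fun c hcz hcomm => ?_, fun a ha b hb => ?_, fun a ha => ?_,
    fun a ha haa hab => ?_, fun h c hcz => ?_⟩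
  · obtain ⟨q, hq', rfl⟩ := hq
    show g * q * g⁻¹ * (g * z * g⁻¹) = g * z * g⁻¹ * (g * q * g⁻¹)
    rw [conj_mul, conj_mul, H.le q hq']
  · rw [hmem] at hq ⊢
    rw [show g⁻¹ * (c * q * c⁻¹) * g = g⁻¹ * c * g * (g⁻¹ * q * g) * (g⁻¹ * c * g)⁻¹ by group]
    exact H.normal _ (hc c hcz) _ hq
  · rw [hmem]
    refine H.self_cent _ (hc c hcz) fun q hq => ?_
    calc g⁻¹ * c * g * q = g⁻¹ * (c * (g * q * g⁻¹)) * g := by group
      _ = g⁻¹ * (g * q * g⁻¹ * c) * g := by
        rw [show c * (g * q * g⁻¹) = g * q * g⁻¹ * c from hcomm _ ⟨q, hq, rfl⟩]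
      _ = _ := by group
  · obtain ⟨a, ha', rfl⟩ := ha
    obtain ⟨b, hb', rfl⟩ := hb
    show g * a * g⁻¹ * (g * b * g⁻¹) * (g * a * g⁻¹)⁻¹ = g * b * g⁻¹ ∨
      g * a * g⁻¹ * (g * b * g⁻¹) * (g * a * g⁻¹)⁻¹ = g * b * g⁻¹ * (g * z * g⁻¹)
    rw [conj_inv, conj_mul, conj_mul, conj_mul]
    rcases H.comm a ha' b hb' with h | h <;> rw [h]
    · exact Or.inl rfl
    · exact Or.inr rfl
  · obtain ⟨a, ha', rfl⟩ := ha
    show g * a * g⁻¹ * (g * a * g⁻¹) = 1 ∨ g * a * g⁻¹ * (g * a * g⁻¹) = g * z * g⁻¹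
    rw [conj_mul]
    rcases H.square a ha' with h | h <;> rw [h]
    · exact Or.inl (by group)
    · exact Or.inr rfl
  · obtain ⟨a, ha', rfl⟩ := ha
    rcases H.central a ha' ((conj_eq_one_iff (a := g)).1 (by rw [← conj_mul]; exact haa)) fun b hb => by
        have h := hab _ ⟨b, hb, rfl⟩
        exact mul_left_cancel (mul_right_cancel (show g * (b * a) * g⁻¹ = g * (a * b) * g⁻¹ by
          rw [← conj_mul, ← conj_mul]; exact h)) with e | e
    · exact Or.inl (by rw [e, map_one])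
    · exact Or.inr (by rw [e]; rfl)
  · rw [hmem]
    refine H.two_group (fun d hd ho => ?_) _ (hc c hcz)
    have h1 := h (g * d * g⁻¹) (by rw [conj_mul, conj_mul, hd]) (by
      rw [show g * d * g⁻¹ = MulAut.conj g d from rfl, MulEquiv.orderOf_eq]; exact ho)
    exact conj_eq_one_iff.1 h1

theorem eq_one_of_conj_eq_mul {x u k : G} (ho : Odd (orderOf x)) (h : x * u * x⁻¹ = u * k)
    (hxk : x * k * x⁻¹ = k) (hk : k ^ 4 = 1) : k = 1 := by
  have key : ∀ n : ℕ, x ^ n * u * (x ^ n)⁻¹ = u * k ^ n := by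
    intro n
    induction n with
    | zero => simp
    | succ n ih =>
      rw [pow_succ', mul_inv_rev, show x * x ^ n * u * ((x ^ n)⁻¹ * x⁻¹) = x * (x ^ n * u * (x ^ n)⁻¹) * x⁻¹ by group,
        ih, show x * (u * k ^ n) * x⁻¹ = x * u * x⁻¹ * (x * k ^ n * x⁻¹) by group, h, ← conj_pow, hxk, mul_assoc,
        ← pow_succ']
  have h1 := key (orderOf x)
  rw [pow_orderOf_eq_one, one_mul, inv_one, mul_one] at h1
  have h2 : k ^ orderOf x = 1 := mul_eq_left.1 h1.symm
  have h3 : orderOf k ∣ Nat.gcd 4 (orderOf x) :=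
    Nat.dvd_gcd (orderOf_dvd_of_pow_eq_one hk) (orderOf_dvd_of_pow_eq_one h2)
  have h4 : Nat.gcd 4 (orderOf x) = 1 := by
    have : Nat.Coprime (2 ^ 2) (orderOf x) := (Nat.coprime_two_left.2 ho).pow_left 2
    simpa using this
  rw [h4, Nat.dvd_one, orderOf_eq_one_iff] at h3
  exact h3

theorem LargeSymplectic.exists_move {z : G} {Q : Subgroup G} (H : LargeSymplectic z Q) {t : G} (ht : t ∈ Q)
    (htt : t * t = 1) (ht1 : t ≠ 1) (htz : t ≠ z) : ∃ q ∈ Q, q * t * q⁻¹ = t * z := by
  by_contra hno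
  push Not at hno
  rcases H.central t ht htt fun b hb => mul_inv_eq_iff_eq_mul.1 ((H.comm b hb t ht).resolve_right (hno b hb)) with e | e
  · exact ht1 e
  · exact htz e

/-- The conjugate `t` of `z` lies in `Q`; then `z` lies in the subgroup `Q'` of `t`. -/
theorem LargeSymplectic.mem_of_conj_mem {z t h₀ : G} {Q Q' : Subgroup G} (H : LargeSymplectic z Q)
    (H' : LargeSymplectic t Q') (ht : t ∈ Q) (htz : t ≠ z) (hh₀ : h₀ * z * h₀⁻¹ = t)
    (hQ' : ∀ h : G, h * z * h⁻¹ = t → Q.map (MulAut.conj h).toMonoidHom = Q') : z ∈ Q' := by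
  by_contra hz'
  have hzz := H.sq_z
  have htt := H'.sq_z
  have hct : t * z = z * t := H.le t ht
  obtain ⟨q0, hq0, hq0t⟩ := H.exists_move ht htt H'.ne_one htz
  have hq0z : q0 * z * q0⁻¹ = z := by rw [H.le q0 hq0, mul_inv_cancel_right]
  have hzt : z * t ∈ Q := mul_mem H.mem ht
  -- no element of `Q'` moves `z` to `z t`
  have hnoc : ∀ y ∈ Q', y * z * y⁻¹ ≠ z * t := by
    intro y hy hyz
    have hyt : y * t * y⁻¹ = t := by rw [H'.le y hy, mul_inv_cancel_right]
    have hh : q0 * y * z * (q0 * y)⁻¹ = t := by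
      rw [show q0 * y * z * (q0 * y)⁻¹ = q0 * (y * z * y⁻¹) * q0⁻¹ by group, hyz, ← conj_mul, hq0z, hq0t, hct,
        ← mul_assoc, hzz, one_mul]
    have h2 : q0 * y * (z * t) * (q0 * y)⁻¹ = z := by
      rw [show q0 * y * (z * t) * (q0 * y)⁻¹ = q0 * ((y * z * y⁻¹) * (y * t * y⁻¹)) * q0⁻¹ by group, hyz, hyt,
        mul_assoc z t t, htt, mul_one, hq0z]
    refine hz' ?_
    rw [← hQ' _ hh]
    exact ⟨z * t, hzt, h2⟩
  -- `Q ∩ Q' = {1, t}`
  have hA : ∀ a ∈ Q, a ∈ Q' → a = 1 ∨ a = t := by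
    intro a ha ha'
    have hat : a * t = t * a := H'.le a ha'
    have haa : a * a = 1 := by
      rcases H.square a ha with h | h
      · exact h
      · exact absurd (h ▸ mul_mem ha' ha') hz'
    have hDa : ∀ d ∈ Q, d * t = t * d → d * a = a * d := by
      intro d hd hdt
      rcases H.comm d hd a ha with h | h
      · exact mul_inv_eq_iff_eq_mul.1 h
      · have h1 := H'.normal d hdt a ha'
        rw [h] at h1
        refine absurd ?_ hz'
        have := mul_mem (inv_mem ha') h1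
        rwa [inv_mul_cancel_left] at this
    have hall : ∀ u ∈ Q, u * u = 1 → u * t = t * u → q0 * u = u * q0 →
        (∀ d ∈ Q, d * t = t * d → d * u = u * d) → u = 1 ∨ u = z := by
      intro u hu huu hut hq0u hDu
      refine H.central u hu huu fun b hb => ?_
      rcases H.comm b hb t ht with h | h
      · exact hDu b hb (mul_inv_eq_iff_eq_mul.1 h)
      · have hbt : q0⁻¹ * b * t = t * (q0⁻¹ * b) := by
          refine mul_inv_eq_iff_eq_mul.1 ?_
          rw [show q0⁻¹ * b * t * (q0⁻¹ * b)⁻¹ = q0⁻¹ * (b * t * b⁻¹) * q0 by group, h, ← hq0t]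
          group
        have h1 := hDu _ (mul_mem (inv_mem hq0) hb) hbt
        calc b * u = q0 * (q0⁻¹ * b * u) := by group
          _ = q0 * (u * (q0⁻¹ * b)) := by rw [h1]
          _ = (q0 * u) * q0⁻¹ * b := by group
          _ = u * b := by rw [hq0u, mul_inv_cancel_right]
    rcases H.comm q0 hq0 a ha with h | h
    · rcases hall a ha haa hat (mul_inv_eq_iff_eq_mul.1 h) hDa with e | e
      · exact Or.inl e
      · exact absurd (e ▸ ha') hz'
    · have h1 : q0 * (a * t) = a * t * q0 := by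
        refine mul_inv_eq_iff_eq_mul.1 ?_
        rw [← conj_mul, h, hq0t, hct, mul_assoc, ← mul_assoc z z t, hzz, one_mul]
      rcases hall (a * t) (mul_mem ha ht)
        (by rw [mul_assoc, ← mul_assoc t a t, ← hat, mul_assoc a t t, htt, mul_one, haa])
        (by rw [mul_assoc, htt, ← mul_assoc, ← hat, mul_assoc, htt]) h1
        (fun d hd hdt => ((show Commute d a from hDa d hd hdt).mul_right (show Commute d t from hdt)).eq) with e | e
      · exact Or.inr (by rw [mul_eq_one_iff_eq_inv.1 e, inv_eq_of_mul_eq_one_right htt])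
      · refine absurd ?_ hz'
        rw [← e]
        exact mul_mem ha' H'.mem
  -- elements of `Q` commuting with `t` fix elements of `Q'` commuting with `z` modulo `t`
  have hRD : ∀ r ∈ Q', r * z = z * r → ∀ d ∈ Q, d * t = t * d → d * r * d⁻¹ = r ∨ d * r * d⁻¹ = r * t := by
    intro r hr hrz d hd hdt
    have h1 : d * r * d⁻¹ * r⁻¹ ∈ Q' := mul_mem (H'.normal d hdt r hr) (inv_mem hr)
    have h2 : d * r * d⁻¹ * r⁻¹ ∈ Q := by
      rw [show d * r * d⁻¹ * r⁻¹ = d * (r * d⁻¹ * r⁻¹) by group]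
      exact mul_mem hd (H.normal r hrz _ (inv_mem hd))
    rcases hA _ h2 h1 with e | e
    · exact Or.inl (mul_inv_eq_one.1 e)
    · exact Or.inr (by rw [mul_inv_eq_iff_eq_mul.1 e, ← H'.le r hr])
  have hcommt : ∀ y ∈ Q', y * t = t * y := H'.le
  have hinvz : z⁻¹ = z := inv_eq_of_mul_eq_one_right hzz
  -- `z`-commutators commute with `z`
  have hzc : ∀ y ∈ Q', y⁻¹ * (z * y * z⁻¹) ∈ Q' ∧
      y⁻¹ * (z * y * z⁻¹) * z = z * (y⁻¹ * (z * y * z⁻¹)) := by
    intro y hy
    set e := y⁻¹ * (z * y * z⁻¹) with he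
    have heQ : e ∈ Q' := mul_mem (inv_mem hy) (H'.normal z hct.symm y hy)
    refine ⟨heQ, ?_⟩
    have hze : z * e * z⁻¹ = e⁻¹ := by
      rw [he, mul_inv_rev, inv_inv, hinvz]
      calc z * (y⁻¹ * (z * y * z)) * z = z * y⁻¹ * z * y * (z * z) := by group
        _ = _ := by rw [hzz, mul_one, mul_inv_rev, mul_inv_rev, hinvz, mul_assoc z y⁻¹ z]
    rcases H'.square e heQ with h | h
    · rw [inv_eq_of_mul_eq_one_right h] at hze
      exact (mul_inv_eq_iff_eq_mul.1 hze).symm
    · refine absurd ?_ (hnoc e heQ)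
      have h1 : z * e⁻¹ * z⁻¹ = e := by rw [← conj_inv, hze, inv_inv]
      calc e * z * e⁻¹ = e * (z * e⁻¹ * z⁻¹) * z := by group
        _ = z * t := by rw [h1, h, hct]
  -- elements centralizing `C_{Q'}(z)` lie in it
  have hCR : ∀ c ∈ Q', (∀ r ∈ Q', r * z = z * r → c * r = r * c) → c * z = z * c := by
    intro c hc hcR
    obtain ⟨hdQ, hdz⟩ := hzc c hc
    set d := c⁻¹ * (z * c * z⁻¹) with hd
    have hcd : c * d = d * c := hcR d hdQ hdz
    have hdc : ∀ y ∈ Q', y * d = d * y := by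
      intro y hy
      obtain ⟨heQ, hez⟩ := hzc y hy
      set e := y⁻¹ * (z * y * z⁻¹) with he
      have hye : z * y * z⁻¹ = y * e := by rw [he, mul_inv_cancel_left]
      have hce : z * c * z⁻¹ = c * d := by rw [hd, mul_inv_cancel_left]
      have hec' : e * (c * d) * e⁻¹ = c * d := by
        rw [← hce, show e * (z * c * z⁻¹) * e⁻¹ = (e * z) * c * (e * z)⁻¹ by group, hez,
          show z * e * c * (z * e)⁻¹ = z * (e * c * e⁻¹) * z⁻¹ by group, ← hcR e heQ hez, mul_inv_cancel_right]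
      have h1 : ∀ δ, y * c * y⁻¹ = c * δ → z * δ * z⁻¹ = δ → y * d * y⁻¹ = δ⁻¹ * d * δ := by
        intro δ hδ hzδ
        have h := congrArg (fun w => z * w * z⁻¹) hδ
        rw [show z * (y * c * y⁻¹) * z⁻¹ = (z * y * z⁻¹) * (z * c * z⁻¹) * (z * y * z⁻¹)⁻¹ by group, hye, hce,
          show y * e * (c * d) * (y * e)⁻¹ = y * (e * (c * d) * e⁻¹) * y⁻¹ by group, hec',
          show z * (c * δ) * z⁻¹ = c * d * δ by rw [← conj_mul, hce, hzδ], ← conj_mul, hδ] at h
        calc y * d * y⁻¹ = (c * δ)⁻¹ * (c * δ * (y * d * y⁻¹)) := by group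
          _ = (c * δ)⁻¹ * (c * d * δ) := by rw [h]
          _ = δ⁻¹ * d * δ := by group
      refine mul_inv_eq_iff_eq_mul.1 ?_
      rcases H'.comm y hy c hc with h | h
      · rw [h1 1 (by rw [h, mul_one]) (by group), inv_one, one_mul, mul_one]
      · rw [h1 t h (by rw [← hct, mul_inv_cancel_right]), mul_assoc, hcommt d hdQ, inv_mul_cancel_left]
    have hdd : d * d = 1 := by
      have hce : z * c * z⁻¹ = c * d := by rw [hd, mul_inv_cancel_left]
      have h1 : z * (c * c) * z⁻¹ = c * c := by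
        rcases H'.square c hc with h | h <;> rw [h]
        · group
        · rw [← hct, mul_inv_cancel_right]
      rw [← conj_mul, hce, mul_assoc, ← mul_assoc d c d, ← hcd, mul_assoc c d d, ← mul_assoc] at h1
      exact mul_eq_left.1 h1
    rcases H'.central d hdQ hdd hdc with e | e
    · rw [hd, inv_mul_eq_one] at e
      rw [eq_comm, mul_inv_eq_iff_eq_mul] at e
      exact e.symm
    · refine absurd ?_ (hnoc c⁻¹ (inv_mem hc))
      rw [inv_inv, show c⁻¹ * z * c = c⁻¹ * (z * c * z⁻¹) * z by group, ← hd, e, hct]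
  -- commutators of elements of `Q ∩ C(t)` with `Q'` commute with `z`
  have hQD : ∀ a ∈ Q, a * t = t * a → ∀ y ∈ Q', y⁻¹ * (a * y * a⁻¹) ∈ Q' ∧
      y⁻¹ * (a * y * a⁻¹) * z = z * (y⁻¹ * (a * y * a⁻¹)) := by
    intro a ha hat y hy
    have hcQ : y⁻¹ * (a * y * a⁻¹) ∈ Q' := mul_mem (inv_mem hy) (H'.normal a hat y hy)
    refine ⟨hcQ, hCR _ hcQ fun r hr hrz => ?_⟩
    have ha' : a * t * a⁻¹ = t := by rw [hat, mul_inv_cancel_right]
    have hy' : a * y * a⁻¹ ∈ Q' := H'.normal a hat y hy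
    have same : a * y * a⁻¹ * r * (a * y * a⁻¹)⁻¹ = y * r * y⁻¹ := by
      have e : a * (y * r * y⁻¹) * a⁻¹ = (a * y * a⁻¹) * (a * r * a⁻¹) * (a * y * a⁻¹)⁻¹ := by group
      have hYt : a * y * a⁻¹ * t * (a * y * a⁻¹)⁻¹ = t := by rw [hcommt _ hy', mul_inv_cancel_right]
      generalize hY : a * y * a⁻¹ = Y at e hYt ⊢
      rcases hRD r hr hrz a ha hat with h1 | h1 <;> rcases H'.comm y hy r hr with h2 | h2 <;>
        rw [h2, h1] at e
      · rw [h2]; exact e.symm
      · rw [h2, ← e, ← conj_mul, h1, ha']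
      · rw [← conj_mul, hYt] at e
        rw [h2]
        exact (mul_right_cancel e).symm
      · rw [← conj_mul, ← conj_mul, h1, ha', hYt] at e
        rw [h2]
        exact (mul_right_cancel e).symm
    refine mul_inv_eq_iff_eq_mul.1 ?_
    rw [show y⁻¹ * (a * y * a⁻¹) * r * (y⁻¹ * (a * y * a⁻¹))⁻¹ =
      y⁻¹ * (a * y * a⁻¹ * r * (a * y * a⁻¹)⁻¹) * y by group, same]
    group
  -- if `z` acts on `Q'` trivially modulo `t`, it acts trivially
  have htriv : ¬ ∀ y ∈ Q', z * y * z⁻¹ = y ∨ z * y * z⁻¹ = y * t := by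
    intro h
    refine hz' (H'.self_cent z hct.symm fun y hy => ?_)
    rcases h y hy with e | e
    · exact mul_inv_eq_iff_eq_mul.1 e
    · refine absurd ?_ (hnoc y hy)
      have h1 : z * y * z⁻¹ * y⁻¹ = t := by rw [e, H'.le y hy, mul_inv_cancel_right]
      calc y * z * y⁻¹ = z * (z⁻¹ * (y * z * y⁻¹)) := by group
        _ = z * t := by
          rw [hinvz, show z * (y * z * y⁻¹) = z * y * z⁻¹ * y⁻¹ by rw [hinvz]; group, h1]
  have hprod : ∀ a ∈ Q, a * t = t * a → ∀ b ∈ Q, b * t = t * b → ∀ y ∈ Q', ∃ ε, (ε = 1 ∨ ε = t) ∧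
      a * b * y * (a * b)⁻¹ = y * (y⁻¹ * (a * y * a⁻¹)) * (y⁻¹ * (b * y * b⁻¹)) * ε := by
    intro a ha hat b hb hbt y hy
    obtain ⟨hQb, hzb⟩ := hQD b hb hbt y hy
    set cb := y⁻¹ * (b * y * b⁻¹) with hcb
    have hb' : b * y * b⁻¹ = y * cb := by rw [hcb, mul_inv_cancel_left]
    have e : a * b * y * (a * b)⁻¹ = (a * y * a⁻¹) * (a * cb * a⁻¹) := by
      rw [show a * b * y * (a * b)⁻¹ = a * (b * y * b⁻¹) * a⁻¹ by group, hb', ← conj_mul]
    rcases hRD cb hQb hzb a ha hat with h | h <;> rw [h] at e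
    · exact ⟨1, Or.inl rfl, by rw [e, mul_one, mul_inv_cancel_left]⟩
    · exact ⟨t, Or.inr rfl, by rw [e, mul_inv_cancel_left]; group⟩
  by_cases hsq : ∃ a ∈ Q, a * t = t * a ∧ a * a = z
  · obtain ⟨a, ha, hat, haa⟩ := hsq
    refine htriv fun y hy => ?_
    obtain ⟨ε, hε, he⟩ := hprod a ha hat a ha hat y hy
    obtain ⟨hQa, -⟩ := hQD a ha hat y hy
    rw [haa, mul_assoc y] at he
    rcases H'.square _ hQa with h | h <;> rw [h] at he <;> rcases hε with h' | h' <;> rw [h'] at he
    · exact Or.inl (by rw [he, mul_one, mul_one])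
    · exact Or.inr (by rw [he, mul_one])
    · exact Or.inr (by rw [he, mul_one])
    · exact Or.inl (by rw [he, mul_assoc, htt, mul_one])
  by_cases hcm : ∃ a ∈ Q, a * t = t * a ∧ ∃ b ∈ Q, b * t = t * b ∧ a * b * a⁻¹ = b * z
  · obtain ⟨a, ha, hat, b, hb, hbt, hab⟩ := hcm
    refine htriv fun y' hy' => ?_
    have hbat : b * a * t = t * (b * a) := ((show Commute b t from hbt).mul_left (show Commute a t from hat)).eq
    obtain ⟨y, hy, rfl⟩ : ∃ y ∈ Q', b * a * y * (b * a)⁻¹ = y' := by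
      refine ⟨(b * a)⁻¹ * y' * (b * a)⁻¹⁻¹, H'.normal _ ?_ y' hy', by group⟩
      exact ((show Commute (b * a) t from hbat).inv_left).eq
    have hz : z * (b * a) = a * b := by
      rw [← mul_assoc, ← H.le b hb, ← hab, inv_mul_cancel_right]
    rw [show z * (b * a * y * (b * a)⁻¹) * z⁻¹ = z * (b * a) * y * (z * (b * a))⁻¹ by group, hz]
    obtain ⟨ε, hε, he⟩ := hprod a ha hat b hb hbt y hy
    obtain ⟨ε', hε', he'⟩ := hprod b hb hbt a ha hat y hy
    obtain ⟨hQa, -⟩ := hQD a ha hat y hy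
    obtain ⟨hQb, -⟩ := hQD b hb hbt y hy
    rw [he, he']
    generalize y⁻¹ * (a * y * a⁻¹) = ca at hQa ⊢
    generalize y⁻¹ * (b * y * b⁻¹) = cb at hQb ⊢
    have hsw : ∃ δ, (δ = 1 ∨ δ = t) ∧ ca * cb = cb * ca * δ := by
      rcases H'.comm ca hQa cb hQb with h | h
      · exact ⟨1, Or.inl rfl, by rw [mul_one, ← mul_inv_eq_iff_eq_mul.1 h]⟩
      · refine ⟨t, Or.inr rfl, ?_⟩
        rw [mul_inv_eq_iff_eq_mul.1 h, mul_assoc, ← H'.le ca hQa, ← mul_assoc]
    obtain ⟨δ, hδ, hsw⟩ := hsw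
    have e1 : y * ca * cb * ε = y * cb * ca * ε' * (ε' * δ * ε) := by
      rw [mul_assoc y ca cb, hsw]
      rcases hε' with h | h <;> rw [h]
      · group
      · rw [show y * cb * ca * t * (t * δ * ε) = y * cb * ca * (t * t) * δ * ε by group, htt, mul_one]; group
    rw [e1]
    rcases hε with h1 | h1 <;> rcases hε' with h2 | h2 <;> rcases hδ with h3 | h3 <;>
      simp [h1, h2, h3, htt]
  push Not at hsq hcm
  -- `Q` has order eight, so `C(z)` is a `2`-group
  have hD : ∀ d ∈ Q, d * t = t * d → d = 1 ∨ d = z ∨ d = t ∨ d = z * t := by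
    intro d hd hdt
    have hdd : d * d = 1 := (H.square d hd).resolve_right (hsq d hd hdt)
    have key : ∀ u ∈ Q, u * u = 1 → u * t = t * u → q0 * u = u * q0 → u = 1 ∨ u = z := by
      intro u hu huu hut hq0u
      refine H.central u hu huu fun b hb => ?_
      rcases H.comm b hb t ht with h | h
      · exact mul_inv_eq_iff_eq_mul.1 ((H.comm b hb u hu).resolve_right (hcm b hb (mul_inv_eq_iff_eq_mul.1 h) u hu hut))
      · have hbt : q0⁻¹ * b * t = t * (q0⁻¹ * b) := by
          refine mul_inv_eq_iff_eq_mul.1 ?_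
          rw [show q0⁻¹ * b * t * (q0⁻¹ * b)⁻¹ = q0⁻¹ * (b * t * b⁻¹) * q0 by group, h, ← hq0t]
          group
        have h1 : q0⁻¹ * b * u = u * (q0⁻¹ * b) := mul_inv_eq_iff_eq_mul.1
          ((H.comm _ (mul_mem (inv_mem hq0) hb) u hu).resolve_right (hcm _ (mul_mem (inv_mem hq0) hb) hbt u hu hut))
        calc b * u = q0 * (q0⁻¹ * b * u) := by group
          _ = q0 * (u * (q0⁻¹ * b)) := by rw [h1]
          _ = (q0 * u) * q0⁻¹ * b := by group
          _ = u * b := by rw [hq0u, mul_inv_cancel_right]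
    rcases H.comm q0 hq0 d hd with h | h
    · exact (key d hd hdd hdt (mul_inv_eq_iff_eq_mul.1 h)).imp id Or.inl
    · have h1 : q0 * (d * t) = d * t * q0 := by
        refine mul_inv_eq_iff_eq_mul.1 ?_
        rw [← conj_mul, h, hq0t, hct, mul_assoc, ← mul_assoc z z t, hzz, one_mul]
      have ed : d = d * t * t := by rw [mul_assoc, htt, mul_one]
      rcases key (d * t) (mul_mem hd ht) (by rw [mul_assoc, ← mul_assoc t d t, ← hdt, mul_assoc d t t, htt, mul_one, hdd])
        (by rw [mul_assoc, htt, ← mul_assoc, ← hdt, mul_assoc, htt]) h1 with e | e <;> rw [e] at ed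
      · exact Or.inr (Or.inr (Or.inl (ed.trans (one_mul t))))
      · exact Or.inr (Or.inr (Or.inr ed))
  -- the coset of square `z`
  have hP : ∃ p ∈ Q, p * p = z ∧ ∀ q ∈ Q, q * q = z → q = p ∨ q = p * z := by
    have ex : ∃ p ∈ Q, p * t ≠ t * p ∧ p * p = z := by
      have hne : q0 * t ≠ t * q0 := fun h => H.ne_one (by
        rw [h, mul_inv_cancel_right] at hq0t; exact mul_eq_left.1 hq0t.symm)
      rcases H.square q0 hq0 with h | h
      · refine ⟨q0 * t, mul_mem hq0 ht, fun e => hne ?_, ?_⟩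
        · rw [mul_assoc, htt, mul_one, ← mul_assoc] at e
          calc q0 * t = t * q0 * t * t := by rw [← e]
            _ = t * q0 := by rw [mul_assoc _ t t, htt, mul_one]
        · rw [show q0 * t * (q0 * t) = (q0 * t * q0⁻¹) * (q0 * q0) * t by group, hq0t, h, mul_one,
            mul_assoc, ← hct, ← mul_assoc, htt, one_mul]
      · exact ⟨q0, hq0, hne, h⟩
    obtain ⟨p, hp, hpt, hpp⟩ := ex
    refine ⟨p, hp, hpp, fun q hq hqq => ?_⟩
    have hqt : q * t ≠ t * q := fun h => hsq q hq h hqq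
    have hpt' := (H.comm p hp t ht).resolve_left fun h => hpt (mul_inv_eq_iff_eq_mul.1 h)
    have hqt' := (H.comm q hq t ht).resolve_left fun h => hqt (mul_inv_eq_iff_eq_mul.1 h)
    have hd : p⁻¹ * q * t = t * (p⁻¹ * q) := by
      refine mul_inv_eq_iff_eq_mul.1 ?_
      rw [show p⁻¹ * q * t * (p⁻¹ * q)⁻¹ = p⁻¹ * (q * t * q⁻¹) * p by group, hqt', ← hpt']
      group
    have hqe : q = p * (p⁻¹ * q) := by group
    rcases hD _ (mul_mem (inv_mem hp) hq) hd with e | e | e | e <;> rw [e] at hqe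
    · exact Or.inl (by rw [hqe, mul_one])
    · exact Or.inr hqe
    · exfalso
      rw [hqe, show p * t * (p * t) = (p * t * p⁻¹) * (p * p) * t by group, hpt', hpp, mul_assoc t z z, hzz,
        mul_one, htt] at hqq
      exact H.ne_one hqq.symm
    · exfalso
      rw [hqe, show p * (z * t) * (p * (z * t)) = (p * z) * t * ((p * z) * t) by group, H.le p hp,
        show z * p * t * (z * p * t) = z * (p * t * p⁻¹) * p * z * (p * t) by group, hpt', hct, ← mul_assoc z z t,
        hzz, one_mul, mul_assoc _ p z, H.le p hp, show t * (z * p) * (p * t) = t * z * (p * p) * t by group, hpp,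
        mul_assoc t z z, hzz, mul_one, htt] at hqq
      exact H.ne_one hqq.symm
  obtain ⟨p, hp, hpp, hP⟩ := hP
  have hall : ∀ c : G, c * z = z * c → c ∈ Q := by
    refine H.two_group fun x hx hodd => ?_
    have hxz : x * z * x⁻¹ = z := by rw [hx, mul_inv_cancel_right]
    have hxp : x * p * x⁻¹ = p := by
      rcases hP _ (H.normal x hx p hp) (by rw [conj_mul, hpp, hxz]) with e | e
      · exact e
      · exact absurd (eq_one_of_conj_eq_mul hodd e hxz (by
          rw [show (4 : ℕ) = 2 * 2 from rfl, pow_mul, sq z, hzz, one_pow])) H.ne_one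
    have hxt : x * t * x⁻¹ = t := by
      set k := t⁻¹ * (x * t * x⁻¹) with hk
      have hkQ : k ∈ Q := mul_mem (inv_mem ht) (H.normal x hx t ht)
      have hxk : x * k * x⁻¹ = k := by
        -- every element of `Q` outside `{t, zt, ...}` is fixed, and `k` is one of them
        have hcase : ∀ q ∈ Q, q = 1 ∨ q = z ∨ q = t ∨ q = z * t ∨ q = p ∨ q = p * z ∨ q = p * t ∨
            q = p * (z * t) := by
          intro q hq
          by_cases hqt : q * t = t * q
          · rcases hD q hq hqt with e | e | e | e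
            · exact Or.inl e
            · exact Or.inr (Or.inl e)
            · exact Or.inr (Or.inr (Or.inl e))
            · exact Or.inr (Or.inr (Or.inr (Or.inl e)))
          · have hpt' := (H.comm p hp t ht).resolve_left fun h => hsq p hp (mul_inv_eq_iff_eq_mul.1 h) hpp
            have hqt' := (H.comm q hq t ht).resolve_left fun h => hqt (mul_inv_eq_iff_eq_mul.1 h)
            have hd : p⁻¹ * q * t = t * (p⁻¹ * q) := by
              refine mul_inv_eq_iff_eq_mul.1 ?_
              rw [show p⁻¹ * q * t * (p⁻¹ * q)⁻¹ = p⁻¹ * (q * t * q⁻¹) * p by group, hqt', ← hpt']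
              group
            have hqe : q = p * (p⁻¹ * q) := by group
            rcases hD _ (mul_mem (inv_mem hp) hq) hd with e | e | e | e <;> rw [e] at hqe
            · exact Or.inr (Or.inr (Or.inr (Or.inr (Or.inl (by rw [hqe, mul_one])))))
            · exact Or.inr (Or.inr (Or.inr (Or.inr (Or.inr (Or.inl hqe)))))
            · exact Or.inr (Or.inr (Or.inr (Or.inr (Or.inr (Or.inr (Or.inl hqe))))))
            · exact Or.inr (Or.inr (Or.inr (Or.inr (Or.inr (Or.inr (Or.inr hqe))))))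
        have himg : x * t * x⁻¹ * (x * t * x⁻¹) = 1 := by rw [conj_mul, htt]; group
        have hex : x * t * x⁻¹ = t * k := by rw [hk, mul_inv_cancel_left]
        rcases hcase _ (H.normal x hx t ht) with e | e | e | e | e | e | e | e
        · exact absurd (conj_eq_one_iff.1 e) H'.ne_one
        · exact absurd (mul_left_cancel (mul_right_cancel (e.trans hxz.symm))) htz
        · rw [hk, e, inv_mul_cancel, mul_one, mul_inv_cancel]
        · rw [hk, e, ← hct, inv_mul_cancel_left, hxz]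
        · rw [e, hpp] at himg; exact absurd himg H.ne_one
        · rw [e, mul_assoc, ← mul_assoc z p z, ← H.le p hp, mul_assoc p z z, hzz, mul_one, hpp] at himg
          exact absurd himg H.ne_one
        all_goals
          have hpt' := (H.comm p hp t ht).resolve_left fun h => hsq p hp (mul_inv_eq_iff_eq_mul.1 h) hpp
          have hptc : t⁻¹ * p * t = p * z := by
            rw [inv_eq_of_mul_eq_one_right htt]
            calc t * p * t = t * (p * t * p⁻¹) * p := by group
              _ = z * p := by rw [hpt', ← mul_assoc, htt, one_mul]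
              _ = p * z := (H.le p hp).symm
        · have e2 : k = p * z := by rw [hk, e, ← mul_assoc, hptc]
          rw [e2, ← conj_mul, hxp, hxz]
        · have e2 : k = p := by
            rw [hk, e, show t⁻¹ * (p * (z * t)) = t⁻¹ * (p * z) * t by group, H.le p hp,
              show t⁻¹ * (z * p) * t = t⁻¹ * z * t * (t⁻¹ * p * t) by group, hptc, mul_assoc t⁻¹ z t, ← hct,
              inv_mul_cancel_left, ← mul_assoc, ← H.le p hp, mul_assoc p z z, hzz, mul_one]
          rw [e2, hxp]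
      have hk4 : k ^ 4 = 1 := by
        rw [show (4 : ℕ) = 2 * 2 from rfl, pow_mul, sq k]
        rcases H.square k hkQ with h | h <;> rw [h]
        · rw [one_pow]
        · rw [sq, hzz]
      have h1 := eq_one_of_conj_eq_mul hodd (u := t) (k := k) (by rw [hk, mul_inv_cancel_left]) hxk hk4
      rw [hk, inv_mul_eq_one] at h1
      exact h1.symm
    -- `x` centralizes `Q`
    have hxQ : x ∈ Q := H.self_cent x hx fun q hq => by
      refine mul_inv_eq_iff_eq_mul.1 ?_
      by_cases hqt : q * t = t * q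
      · rcases hD q hq hqt with e | e | e | e <;> rw [e]
        · group
        · exact hxz
        · exact hxt
        · rw [← conj_mul, hxz, hxt]
      · have hpt' := (H.comm p hp t ht).resolve_left fun h => hsq p hp (mul_inv_eq_iff_eq_mul.1 h) hpp
        have hqt' := (H.comm q hq t ht).resolve_left fun h => hqt (mul_inv_eq_iff_eq_mul.1 h)
        have hd : p⁻¹ * q * t = t * (p⁻¹ * q) := by
          refine mul_inv_eq_iff_eq_mul.1 ?_
          rw [show p⁻¹ * q * t * (p⁻¹ * q)⁻¹ = p⁻¹ * (q * t * q⁻¹) * p by group, hqt', ← hpt']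
          group
        have hqe : q = p * (p⁻¹ * q) := by group
        rcases hD _ (mul_mem (inv_mem hp) hq) hd with e | e | e | e <;> rw [hqe, e]
        · rw [mul_one, hxp]
        · rw [← conj_mul, hxp, hxz]
        · rw [← conj_mul, hxp, hxt]
        · rw [← conj_mul, ← conj_mul, hxp, hxz, hxt]
    have h4 : x ^ 4 = 1 := by
      rw [show (4 : ℕ) = 2 * 2 from rfl, pow_mul, sq x]
      rcases H.square x hxQ with h | h <;> rw [h]
      · rw [one_pow]
      · rw [sq, hzz]
    exact orderOf_eq_one_iff.1 ((Nat.Coprime.eq_one_of_dvd (((Nat.coprime_two_left.2 hodd).pow_left 2).symm)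
      (by simpa using orderOf_dvd_of_pow_eq_one h4)))
  -- so `C(t) = Q'`, which contains `z`
  refine hz' (H'.two_group (fun c hc ho => ?_) z hct.symm)
  have hcz : h₀⁻¹ * c * h₀ * z = z * (h₀⁻¹ * c * h₀) := by
    calc h₀⁻¹ * c * h₀ * z = h₀⁻¹ * (c * (h₀ * z * h₀⁻¹)) * h₀ := by group
      _ = h₀⁻¹ * ((h₀ * z * h₀⁻¹) * c) * h₀ := by rw [hh₀, hc]
      _ = _ := by group
  have hcQ := hall _ hcz
  have hc4 : (h₀⁻¹ * c * h₀) ^ 4 = 1 := by
    rw [show (4 : ℕ) = 2 * 2 from rfl, pow_mul, sq (h₀⁻¹ * c * h₀)]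
    rcases H.square _ hcQ with h | h <;> rw [h]
    · rw [one_pow]
    · rw [sq, hzz]
  have hco : orderOf (h₀⁻¹ * c * h₀) = orderOf c := by
    rw [show h₀⁻¹ * c * h₀ = MulAut.conj h₀⁻¹ c by rw [MulAut.conj_apply, inv_inv], MulEquiv.orderOf_eq]
  refine orderOf_eq_one_iff.1 (Nat.Coprime.eq_one_of_dvd (((Nat.coprime_two_left.2 ho).pow_left 2).symm) ?_)
  rw [← hco]
  simpa using orderOf_dvd_of_pow_eq_one hc4

end CfsgLib.Techniques
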