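import Cfsg.Agent.Lib.Techniques.Basic
import Mathlib.GroupTheory.Commutator.Basic

/-!
A `p`-group generated by two trivially meeting TI subgroups, one normalizing the other.
-/

namespace CfsgLib.Techniques

open Subgroup

variable {G : Type*} [Group G]

theorem isPGroup_sup_of_le_normalizer {p : ℕ} {A B : Subgroup G}
    (hA : IsPGroup p A) (hB : IsPGroup p B) (hN : B ≤ Subgroup.normalizer (A : Set G)) :
    IsPGroup p ↥(A ⊔ B) :=
  hA.to_sup_of_normal_left' hB hN

/-- If `B` normalizes `A`, both are `p`-groups meeting trivially, `B` is TI and is at least as large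
as `A`, then `A` and `B` commute elementwise. -/
theorem ti_commutator_eq_bot [Finite G] {p : ℕ} [Fact p.Prime] {A B : Subgroup G}
    (hA : IsPGroup p A) (hB : IsPGroup p B)
    (hBti : ∀ g : G, B.map (MulAut.conj g).toMonoidHom = B ∨ B.map (MulAut.conj g).toMonoidHom ⊓ B = ⊥)
    (hle : Nat.card A ≤ Nat.card B) (hAB : A ⊓ B = ⊥) (hN : B ≤ Subgroup.normalizer (A : Set G)) :
    ⁅A, B⁆ = ⊥ := by
  rw [Subgroup.commutator_eq_bot_iff_le_centralizer]
  by_contra hnot
  set A₀ := A ⊓ Subgroup.centralizer (B : Set G) with hA₀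
  have hA₀N : A₀ ≤ Subgroup.normalizer (B : Set G) := inf_le_right.trans (centralizer_le_normalizer _)
  set K := A₀ ⊔ B with hKdef
  have hKP : K ≤ A ⊔ B := sup_le_sup_right inf_le_left B
  have hKset : ∀ x : G, x ∈ K → ∃ a ∈ A₀, ∃ b ∈ B, x = a * b := by
    intro x hx
    have : x ∈ ((A₀ ⊔ B : Subgroup G) : Set G) := hx
    rw [Subgroup.coe_mul_of_left_le_normalizer_right A₀ B hA₀N] at this
    obtain ⟨a, ha, b, hb, rfl⟩ := this
    exact ⟨a, ha, b, hb, rfl⟩
  have hne : ¬ A ⊔ B ≤ K := by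
    intro h
    apply hnot
    intro a ha
    obtain ⟨a', ha', b, hb, hab⟩ := hKset a (h (le_sup_left (a := A) (b := B) ha))
    have hbA : b ∈ A ⊓ B := by
      refine ⟨?_, hb⟩
      have : b = a'⁻¹ * a := by rw [hab]; group
      rw [this]; exact A.mul_mem (A.inv_mem ha'.1) ha
    rw [hAB, Subgroup.mem_bot] at hbA
    rw [hab, hbA, mul_one]; exact ha'.2
  obtain ⟨g, hgP, hgN, hgK⟩ :=
    exists_mem_normalizer_not_mem (isPGroup_sup_of_le_normalizer hA hB hN) hKP hne
  have : g ∈ ((A ⊔ B : Subgroup G) : Set G) := hgP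
  rw [Subgroup.coe_mul_of_right_le_normalizer_left A B hN] at this
  obtain ⟨a, ha, b, hb, rfl⟩ := this
  have hbK : b ∈ K := le_sup_right (a := A₀) (b := B) hb
  have haN : a ∈ Subgroup.normalizer (K : Set G) := by
    have h1 := (Subgroup.normalizer (K : Set G)).mul_mem hgN
      ((Subgroup.normalizer (K : Set G)).inv_mem (Subgroup.le_normalizer hbK))
    simpa [mul_assoc] using h1
  have haK : a ∉ A₀ := fun h => hgK (K.mul_mem (le_sup_left (a := A₀) (b := B) h) hbK)
  set B' := B.map (MulAut.conj a).toMonoidHom with hB'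
  have hB'K : B' ≤ K := by
    rintro x ⟨y, hy, rfl⟩
    exact (Subgroup.mem_normalizer_iff.mp haN y).mp (le_sup_right (a := A₀) (b := B) hy)
  rcases hBti a with h | h
  · refine haK ⟨ha, Subgroup.mem_centralizer_iff.mpr ?_⟩
    intro y hy
    have h1 : a * y * a⁻¹ ∈ B := h ▸ (⟨y, hy, rfl⟩ : a * y * a⁻¹ ∈ B.map (MulAut.conj a).toMonoidHom)
    have h2 : a * y * a⁻¹ * y⁻¹ ∈ A ⊓ B := by
      refine ⟨?_, B.mul_mem h1 (B.inv_mem hy)⟩
      have h3 : y * a⁻¹ * y⁻¹ ∈ A := (Subgroup.mem_normalizer_iff.mp (hN hy) _).mp (A.inv_mem ha)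
      simpa [mul_assoc] using A.mul_mem ha h3
    rw [hAB, Subgroup.mem_bot] at h2
    calc y * a = (a * y * a⁻¹ * y⁻¹) * y * a := by rw [h2, one_mul]
      _ = a * y := by group
  · have hBsq : Nat.card B * Nat.card B ≤ Nat.card K := by
      have hBle : B ≤ K := le_sup_right
      have e : Nat.card B' * Nat.card B ≤ Nat.card K := by
        rw [← Nat.card_prod]
        refine Nat.card_le_card_of_injective
          (fun z : ↥B' × ↥B => (⟨(z.1 : G) * z.2, K.mul_mem (hB'K z.1.2) (hBle z.2.2)⟩ : ↥K)) ?_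
        intro z w hzw
        have hzw' : (z.1 : G) * z.2 = w.1 * w.2 := congrArg Subtype.val hzw
        have h4 : (w.1 : G)⁻¹ * z.1 ∈ B' ⊓ B := by
          refine ⟨B'.mul_mem (B'.inv_mem w.1.2) z.1.2, ?_⟩
          have : (w.1 : G)⁻¹ * z.1 = w.2 * (z.2 : G)⁻¹ := by
            rw [eq_mul_inv_iff_mul_eq, mul_assoc, hzw']; group
          rw [this]; exact B.mul_mem w.2.2 (B.inv_mem z.2.2)
        have h4' := Subgroup.mem_bot.mp ((SetLike.ext_iff.mp h _).mp h4)
        have h5 : (z.1 : G) = w.1 := (inv_mul_eq_one.mp h4').symm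
        refine Prod.ext (Subtype.ext h5) (Subtype.ext ?_)
        rw [h5] at hzw'; exact mul_left_cancel hzw'
      rwa [hB', card_map_conj] at e
    have hKle : Nat.card K ≤ Nat.card A₀ * Nat.card B := by
      rw [← Nat.card_prod]
      refine Nat.card_le_card_of_surjective
        (fun z : ↥A₀ × ↥B => (⟨(z.1 : G) * z.2,
          K.mul_mem (le_sup_left (a := A₀) (b := B) z.1.2) (le_sup_right (a := A₀) (b := B) z.2.2)⟩ : ↥K)) ?_
      rintro ⟨x, hx⟩
      obtain ⟨a', ha', b', hb', rfl⟩ := hKset x hx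
      exact ⟨(⟨a', ha'⟩, ⟨b', hb'⟩), rfl⟩
    have hlt : Nat.card A₀ < Nat.card A := by
      refine lt_of_le_of_ne (Subgroup.card_le_of_le inf_le_left) fun he => haK ?_
      have := Subgroup.eq_of_le_of_card_ge (inf_le_left : A₀ ≤ A) he.ge
      exact (SetLike.ext_iff.mp this a).mpr ha
    have := Nat.le_of_mul_le_mul_right (hBsq.trans hKle) (Nat.card_pos)
    omega

end CfsgLib.Techniques
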