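import Cfsg.Agent.Lib.Core.Nilpotent
import Cfsg.Agent.Lib.Core.Coprime
import Cfsg.Agent.Lib.Components.FStar
import Cfsg.Agent.Lib.TwoGroups.FusionTools
import Cfsg.Agent.Lib.PGroups.Basic
import Cfsg.Agent.Lib.Techniques.Path

/-!
Invariant families of trivially intersecting subgroups of equal order in a `2`-group.
-/

set_option autoImplicit false

namespace CfsgLib.Techniques

open Subgroup
open scoped commutatorElement

section Family

variable {G : Type*} [Group G] [Finite G] {Δ : Set (Subgroup G)}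

omit [Finite G] in
private theorem commute_of_commutator {R T : Subgroup G} (h : ⁅R, T⁆ = ⊥) {r t : G} (hr : r ∈ R)
    (ht : t ∈ T) : Commute r t :=
  (mem_centralizer_iff.1 (commutator_eq_bot_iff_le_centralizer.1 h hr) t ht).symm

/-- The case that `R` normalizes `T`. -/
private theorem commute_of_le_normalizer {R T : Subgroup G} (hcard : Nat.card R = Nat.card T)
    (hRT : R ⊓ T = ⊥) (hR : R ≤ normalizer (T : Set G))
    (hconj : ∀ t ∈ T, t ∉ normalizer (R : Set G) →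
      R ⊓ R.map (MulAut.conj t).toMonoidHom = ⊥ ∧ ⁅R, R.map (MulAut.conj t).toMonoidHom⁆ = ⊥) :
    ⁅R, T⁆ = ⊥ := by
  by_cases hT : T ≤ normalizer (R : Set G)
  · refine eq_bot_iff.2 (le_trans (commutator_le.2 fun r hr t ht => ?_) hRT.le)
    rw [commutatorElement_def]
    refine Subgroup.mem_inf.2 ⟨?_, mul_mem ((mem_normalizer_iff.1 (hR hr) t).1 ht) (inv_mem ht)⟩
    rw [mul_assoc, mul_assoc, ← mul_assoc t]
    exact mul_mem hr ((mem_normalizer_iff.1 (hT ht) r⁻¹).1 (inv_mem hr))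
  exfalso
  obtain ⟨t, ht, htN⟩ := SetLike.not_le_iff_exists.1 hT
  obtain ⟨hdis, hcomm⟩ := hconj t ht htN
  set R' := R.map (MulAut.conj t).toMonoidHom
  let f : R → T := fun r => ⟨⁅t, (r : G)⁆, by
    rw [commutatorElement_def, mul_assoc, mul_assoc, ← mul_assoc (r : G)]
    exact mul_mem ht ((mem_normalizer_iff.1 (hR r.2) t⁻¹).1 (inv_mem ht))⟩
  have hf : Function.Injective f := by
    intro r u h
    have h1 : t * (r : G) * t⁻¹ * (r : G)⁻¹ = t * u * t⁻¹ * (u : G)⁻¹ := congrArg Subtype.val h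
    have h2 : (u : G)⁻¹ * r ∈ R ⊓ R' := by
      refine Subgroup.mem_inf.2 ⟨mul_mem (inv_mem u.2) r.2, ?_⟩
      have e : (u : G)⁻¹ * r = (t * u * t⁻¹)⁻¹ * (t * r * t⁻¹) := by
        calc (u : G)⁻¹ * r = (t * u * t⁻¹)⁻¹ * (t * u * t⁻¹ * (u : G)⁻¹) * r := by group
          _ = (t * u * t⁻¹)⁻¹ * (t * r * t⁻¹ * (r : G)⁻¹) * r := by rw [h1]
          _ = _ := by group
      rw [e]
      exact mul_mem (inv_mem (mem_map_of_mem (MulAut.conj t).toMonoidHom u.2))
        (mem_map_of_mem (MulAut.conj t).toMonoidHom r.2)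
    rw [hdis, mem_bot, inv_mul_eq_one] at h2
    exact Subtype.ext h2.symm
  obtain ⟨r, hr⟩ := ((Nat.bijective_iff_injective_and_card f).2 ⟨hf, hcard⟩).2 ⟨t, ht⟩
  refine htN ?_
  rw [show t = t * r * t⁻¹ * (r : G)⁻¹ from (congrArg Subtype.val hr).symm]
  refine mul_mem (centralizer_le_normalizer _ ?_) (inv_mem (le_normalizer r.2))
  exact commutator_eq_bot_iff_le_centralizer.1 (by rw [commutator_comm]; exact hcomm) (mem_map_of_mem (MulAut.conj t).toMonoidHom r.2)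

/-- Two different members commute. -/
theorem ti_family_commute {S : Subgroup G} (hS : IsPGroup 2 S) (hle : ∀ R ∈ Δ, R ≤ S)
    (hinv : ∀ s ∈ S, ∀ R ∈ Δ, R.map (MulAut.conj s).toMonoidHom ∈ Δ)
    (hexp : ∀ R ∈ Δ, ∃ x ∈ R, x ^ 2 ≠ 1)
    (hord : ∀ R ∈ Δ, ∀ T ∈ Δ, Nat.card R = Nat.card T)
    (hti : ∀ R ∈ Δ, ∀ T ∈ Δ, R = T ∨ R ⊓ T = ⊥) :
    ∀ R ∈ Δ, ∀ T ∈ Δ, R ≠ T → ⁅R, T⁆ = ⊥ := by
  classical
  haveI : Fact (Nat.Prime 2) := ⟨Nat.prime_two⟩
  suffices key : ∀ n : ℕ, ∀ R ∈ Δ, ∀ T ∈ Δ, R ≠ T → Nat.card ↥(R ⊔ T) = n → ⁅R, T⁆ = ⊥ from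
    fun R hR T hT h => key _ R hR T hT h rfl
  intro n
  induction n using Nat.strong_induction_on with
  | _ n ih =>
  intro R hRΔ T hTΔ hne hn
  have hdisRT : R ⊓ T = ⊥ := (hti R hRΔ T hTΔ).resolve_left hne
  -- conjugates inside `R ⊔ T` commute
  have hconj : ∀ R₁ T₁ : Subgroup G, R₁ ∈ Δ → T₁ ∈ Δ → R₁ ≠ T₁ → R₁ ⊔ T₁ = R ⊔ T → ∀ s ∈ T₁,
      s ∉ normalizer (R₁ : Set G) → R₁ ⊓ R₁.map (MulAut.conj s).toMonoidHom = ⊥ ∧
        ⁅R₁, R₁.map (MulAut.conj s).toMonoidHom⁆ = ⊥ := by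
    intro R₁ T₁ hR₁ hT₁ hne₁ hsup s hs hsN
    set S' := R ⊔ T with hS'
    have hS'S : S' ≤ S := sup_le (hle R hRΔ) (hle T hTΔ)
    have hS'p : IsPGroup 2 S' := hS.to_le hS'S
    have hR₁S' : R₁ ≤ S' := hsup ▸ le_sup_left
    have hsS' : s ∈ S' := hsup ▸ mem_sup_right hs
    have hne' : R₁ ≠ R₁.map (MulAut.conj s).toMonoidHom := fun e =>
      hsN (mem_normalizer_of_map_conj_eq e.symm)
    have hR₁s := hinv s (hS'S hsS') R₁ hR₁
    refine ⟨(hti _ hR₁ _ hR₁s).resolve_left hne', ?_⟩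
    obtain ⟨M, hM, hR₁M⟩ : ∃ M : Subgroup S', IsCoatom M ∧ R₁.subgroupOf S' ≤ M := by
      rcases eq_top_or_exists_le_coatom (R₁.subgroupOf S') with h | h
      · exfalso
        obtain ⟨x, hx, hx2⟩ := hexp T₁ hT₁
        have h1 : T₁ ≤ R₁ := (le_sup_right.trans hsup.le).trans (subgroupOf_eq_top.1 h)
        have h2 : x ∈ R₁ ⊓ T₁ := ⟨h1 hx, hx⟩
        rw [(hti R₁ hR₁ T₁ hT₁).resolve_left hne₁, mem_bot] at h2
        exact hx2 (by rw [h2, one_pow])
      · exact h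
    haveI := hS'p.isNilpotent
    haveI : M.Normal := NormalizerCondition.normal_of_coatom M Group.normalizerCondition_of_isNilpotent hM
    have hle' : R₁ ⊔ R₁.map (MulAut.conj s).toMonoidHom ≤ M.map S'.subtype := by
      refine sup_le (fun x hx => ⟨⟨x, hR₁S' hx⟩, hR₁M hx, rfl⟩) ?_
      rintro _ ⟨x, hx, rfl⟩
      exact ⟨⟨s, hsS'⟩ * ⟨x, hR₁S' hx⟩ * ⟨s, hsS'⟩⁻¹,
        Subgroup.Normal.conj_mem inferInstance _ (hR₁M (show (⟨x, hR₁S' hx⟩ : S') ∈ R₁.subgroupOf S' from hx)) _, rfl⟩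
    refine ih _ ?_ R₁ hR₁ _ hR₁s hne' rfl
    rw [← hn]
    refine lt_of_le_of_lt (card_le_of_le hle') ?_
    rw [card_map_of_injective S'.subtype_injective]
    exact lt_of_le_of_ne (card_le_card_group M) fun e => hM.1 (eq_top_of_card_eq M e)
  by_cases hR : R ≤ normalizer (T : Set G)
  · exact commute_of_le_normalizer (hord R hRΔ T hTΔ) hdisRT hR
      fun t ht htN => hconj R T hRΔ hTΔ hne rfl t ht htN
  by_cases hT : T ≤ normalizer (R : Set G)
  · rw [commutator_comm]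
    exact commute_of_le_normalizer (hord T hTΔ R hRΔ) (by rw [inf_comm]; exact hdisRT) hT
      fun t ht htN => hconj T R hTΔ hRΔ hne.symm (sup_comm _ _) t ht htN
  exfalso
  have hTp : IsPGroup 2 T := hS.to_le (hle T hTΔ)
  obtain ⟨t, ht, htN, ht2⟩ : ∃ t ∈ T, t ∉ normalizer (R : Set G) ∧ t ^ 2 ∈ normalizer (R : Set G) := by
    obtain ⟨t₀, ht₀, ht₀N⟩ := SetLike.not_le_iff_exists.1 hT
    obtain ⟨k, hk⟩ := hTp ⟨t₀, ht₀⟩
    have hex : ∃ k : ℕ, t₀ ^ 2 ^ k ∈ normalizer (R : Set G) :=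
      ⟨k, by rw [show t₀ ^ 2 ^ k = 1 from congrArg Subtype.val hk]; exact one_mem _⟩
    obtain ⟨j, hj⟩ : ∃ j, Nat.find hex = j + 1 := Nat.exists_eq_add_one_of_ne_zero fun h0 => by
      have := Nat.find_spec hex
      rw [h0, pow_zero, pow_one] at this
      exact ht₀N this
    refine ⟨t₀ ^ 2 ^ j, pow_mem ht₀ _, Nat.find_min hex (by omega), ?_⟩
    rw [← pow_mul, ← pow_succ, ← hj]
    exact Nat.find_spec hex
  obtain ⟨hdis, hcomm⟩ := hconj R T hRΔ hTΔ hne rfl t ht htN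
  have hconjT : ∀ r ∈ R, r ∉ normalizer (T : Set G) → T ⊓ T.map (MulAut.conj r).toMonoidHom = ⊥ ∧
      ⁅T, T.map (MulAut.conj r).toMonoidHom⁆ = ⊥ :=
    fun r hr hrN => hconj T R hTΔ hRΔ hne.symm (sup_comm _ _) r hr hrN
  have hmemR' : ∀ u ∈ R, t * u * t⁻¹ ∈ R.map (MulAut.conj t).toMonoidHom := fun u hu => ⟨u, hu, rfl⟩
  -- elements outside `N(T)` square to `1`
  have hsq : ∀ r ∈ R, r ∉ normalizer (T : Set G) → r ^ 2 = 1 := by
    intro r hr hrN
    obtain ⟨-, hTc⟩ := hconjT r hr hrN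
    set c := ⁅r, t⁆ with hc
    have hct : t * c * t⁻¹ = c := by
      have h1 : Commute t (r * t * r⁻¹) := commute_of_commutator hTc ht ⟨t, ht, rfl⟩
      rw [mul_inv_eq_iff_eq_mul, hc, commutatorElement_def]
      calc t * (r * t * r⁻¹ * t⁻¹) = (t * (r * t * r⁻¹)) * t⁻¹ := by group
        _ = (r * t * r⁻¹ * t) * t⁻¹ := by rw [h1.eq]
        _ = r * t * r⁻¹ * t⁻¹ * t := by group
    set b := t * r * t⁻¹ with hb
    set d := t * (t * r⁻¹ * t⁻¹) * t⁻¹ with hd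
    have hdR : d ∈ R := by
      have := (mem_normalizer_iff.1 ht2 r⁻¹).1 (inv_mem hr)
      rwa [show t ^ 2 * r⁻¹ * (t ^ 2)⁻¹ = d by rw [hd, sq]; group] at this
    have e1 : b * d = r * b⁻¹ := by
      calc b * d = t * (r * (t * r⁻¹ * t⁻¹)) * t⁻¹ := by rw [hb, hd]; group
        _ = t * c * t⁻¹ := by rw [hc, commutatorElement_def]; group
        _ = c := hct
        _ = r * b⁻¹ := by rw [hc, commutatorElement_def, hb]; group
    have hbR : b ∈ R.map (MulAut.conj t).toMonoidHom := hmemR' r hr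
    have hrb : Commute r b := commute_of_commutator hcomm hr hbR
    have hdb : Commute d b := commute_of_commutator hcomm hdR hbR
    have e2 : d * r⁻¹ = (b * b)⁻¹ := by
      calc d * r⁻¹ = b⁻¹ * (b * d) * r⁻¹ := by group
        _ = b⁻¹ * (r * b⁻¹) * r⁻¹ := by rw [e1]
        _ = b⁻¹ * (b⁻¹ * r) * r⁻¹ := by rw [hrb.inv_right.eq]
        _ = _ := by group
    have h2 : d * r⁻¹ ∈ R ⊓ R.map (MulAut.conj t).toMonoidHom :=
      Subgroup.mem_inf.2 ⟨mul_mem hdR (inv_mem hr), e2 ▸ inv_mem (mul_mem hbR hbR)⟩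
    rw [hdis, mem_bot, e2, inv_eq_one, hb] at h2
    rw [sq]
    have h3 : t * (r * r) * t⁻¹ = 1 := by rw [← h2]; group
    exact conj_eq_one_iff.1 h3
  set R₀ := R ⊓ normalizer (T : Set G) with hR₀
  have hR₀1 : R₀ ≠ ⊥ := by
    intro e
    obtain ⟨x, hx, hx2⟩ := hexp R hRΔ
    refine hx2 (hsq x hx fun h => hx2 ?_)
    have h1 : x ∈ R₀ := ⟨hx, h⟩
    rw [e, mem_bot] at h1
    rw [h1, one_pow]
  -- an element of `R ∖ R₀` normalizing `R₀`
  have hRp : IsPGroup 2 R := hS.to_le (hle R hRΔ)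
  obtain ⟨r, hr, hrR₀, hrN⟩ : ∃ r ∈ R, r ∈ normalizer (R₀ : Set G) ∧ r ∉ normalizer (T : Set G) := by
    haveI := hRp.isNilpotent
    have h1 : R₀.subgroupOf R < ⊤ :=
      lt_top_iff_ne_top.2 fun e => hR ((subgroupOf_eq_top.1 e).trans inf_le_right)
    obtain ⟨s, hs, hsW⟩ := SetLike.exists_of_lt (Group.normalizerCondition_of_isNilpotent _ h1)
    refine ⟨s, s.2, ?_, fun h => hsW (Subgroup.mem_inf.2 ⟨s.2, h⟩)⟩
    rw [mem_normalizer_iff]
    intro w
    constructor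
    · intro hw
      exact ((mem_normalizer_iff.1 hs ⟨w, hw.1⟩).1 hw : _)
    · intro hw
      have hwS : w ∈ R := by
        have := mul_mem (mul_mem (inv_mem s.2) (Subgroup.mem_inf.1 hw).1) s.2
        rwa [show (s : G)⁻¹ * (s * w * (s : G)⁻¹) * s = w by group] at this
      exact ((mem_normalizer_iff.1 hs ⟨w, hwS⟩).2 hw : _)
  obtain ⟨i, hi, hi1, hir⟩ : ∃ i ∈ R₀, i ≠ 1 ∧ Commute r i := by
    set P := R₀ ⊔ zpowers r with hP
    have hPR : P ≤ R := sup_le inf_le_left (zpowers_le.2 hr)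
    haveI : Group.IsNilpotent P := (hRp.to_le hPR).isNilpotent
    haveI : (R₀.subgroupOf P).Normal :=
      normal_subgroupOf_of_le_normalizer (sup_le le_normalizer (zpowers_le.2 hrR₀))
    have h1 : R₀.subgroupOf P ⊓ center P ≠ ⊥ := by
      refine CfsgLib.Core.inf_center_ne_bot_of_isNilpotent _ ?_
      rw [Ne, subgroupOf_eq_bot, disjoint_iff, inf_eq_left.2 (le_sup_left : R₀ ≤ P)]
      exact hR₀1
    obtain ⟨⟨i, hi⟩, hi1⟩ := Subgroup.ne_bot_iff_exists_ne_one.1 h1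
    exact ⟨i, hi.1, fun e => hi1 (Subtype.ext (Subtype.ext e)),
      congrArg Subtype.val (mem_center_iff.1 hi.2 ⟨r, mem_sup_right (mem_zpowers r)⟩)⟩
  obtain ⟨hTdis, -⟩ := hconjT r hr hrN
  set d := ⁅i, t⁆ with hd
  have hdT : d ∈ T := by
    rw [hd, commutatorElement_def]
    exact mul_mem ((mem_normalizer_iff.1 hi.2 t).1 ht) (inv_mem ht)
  have hdr : r * d * r⁻¹ = d := by
    have h1 : Commute r (t * i⁻¹ * t⁻¹) := commute_of_commutator hcomm hr (hmemR' _ (inv_mem hi.1))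
    rw [mul_inv_eq_iff_eq_mul]
    have e : d = i * (t * i⁻¹ * t⁻¹) := by rw [hd, commutatorElement_def]; group
    rw [e]
    exact (hir.mul_right h1).eq
  have hd1 : d = 1 := (Subgroup.eq_bot_iff_forall _).1 hTdis d ⟨hdT, d, hdT, hdr⟩
  rw [hd, commutatorElement_eq_one_iff_mul_comm] at hd1
  refine hi1 ((Subgroup.eq_bot_iff_forall _).1 hdis i ⟨hi.1, i, hi.1, ?_⟩)
  show t * i * t⁻¹ = i
  rw [← hd1, mul_inv_cancel_right]

end Family

variable {X : Type*} [Group X] [Finite X]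

/-- Abelian TI `2`-subgroups when `F*(X) = O₂(X)`: the squares lie in `O₂`. -/
theorem sq_mem_pCore_of_ti (hX : Cfsg.generalizedFittingSubgroup X = Cfsg.pCore 2 X) {A : Subgroup X}
    (hA2 : IsPGroup 2 A) (hAa : IsMulCommutative A)
    (hti : ∀ h : X, A.map (MulAut.conj h).toMonoidHom = A ∨ A.map (MulAut.conj h).toMonoidHom ⊓ A = ⊥)
    {a : X} (ha : a ∈ A) : a ^ 2 ∈ Cfsg.pCore 2 X := by
  classical
  haveI : Fact (Nat.Prime 2) := ⟨Nat.prime_two⟩
  rcases eq_or_ne (a ^ 2) 1 with h | hexp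
  · rw [h]; exact one_mem _
  set Q := Cfsg.pCore 2 X with hQ
  haveI : Q.Normal := CfsgLib.Core.normal_pCore 2 _
  have hQp : IsPGroup 2 Q := CfsgLib.Core.isPGroup_pCore 2 _
  have hCQ : centralizer (Q : Set X) ≤ Q := by
    have h := CfsgLib.Components.centralizer_gFitting_le (G := X)
    rwa [hX] at h
  set P := A ⊔ Q with hP
  have hPp : IsPGroup 2 P := hA2.to_sup_of_normal_right hQp
  set Δ : Set (Subgroup X) := {U | ∃ x ∈ P, U = A.map (MulAut.conj x).toMonoidHom} with hΔ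
  have hcomm := ti_family_commute (Δ := Δ) hPp (by
      rintro _ ⟨x, hx, rfl⟩
      rw [← map_conj_of_mem_normalizer (le_normalizer hx : x ∈ normalizer (P : Set X))]
      exact map_mono le_sup_left)
    (by
      rintro s hs _ ⟨x, hx, rfl⟩
      exact ⟨s * x, mul_mem hs hx, map_conj_conj _ _ _⟩)
    (by
      rintro _ ⟨x, -, rfl⟩
      refine ⟨_, mem_map_of_mem _ ha, ?_⟩
      rw [← map_pow]
      exact fun e => hexp ((MulAut.conj x).injective (e.trans (map_one _).symm)))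
    (by
      rintro _ ⟨x, -, rfl⟩ _ ⟨y, -, rfl⟩
      rw [card_map_of_injective (MulAut.conj x).injective, card_map_of_injective (MulAut.conj y).injective])
    (by
      rintro _ ⟨x, -, rfl⟩ _ ⟨y, -, rfl⟩
      have hx : A.map (MulAut.conj x).toMonoidHom =
          (A.map (MulAut.conj (y⁻¹ * x)).toMonoidHom).map (MulAut.conj y).toMonoidHom := by
        rw [map_conj_conj, mul_inv_cancel_left]
      rcases hti (y⁻¹ * x) with h | h
      · exact Or.inl (by rw [hx, h])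
      · refine Or.inr ?_
        rw [hx, ← Subgroup.map_inf _ _ _ (MulAut.conj y).injective, h, Subgroup.map_bot])
  -- `a ^ 2` centralizes `Q / Φ(Q)`
  have hΦ : ∀ q ∈ Q, ⁅a ^ 2, q⁆ ∈ (frattini Q).map Q.subtype := by
    intro q hq
    set c := ⁅a, q⁆ with hc
    have hcQ : c ∈ Q := by
      rw [hc, commutatorElement_def]
      exact mul_mem (Subgroup.Normal.conj_mem inferInstance q hq a) (inv_mem hq)
    have hac : Commute a c := by
      have h1 : Commute a (q * a⁻¹ * q⁻¹) := by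
        have h2 : q * a⁻¹ * q⁻¹ ∈ A.map (MulAut.conj q).toMonoidHom := ⟨a⁻¹, inv_mem ha, rfl⟩
        by_cases he : A.map (MulAut.conj q).toMonoidHom = A
        · rw [he] at h2
          exact (congrArg Subtype.val (hAa.is_comm.comm (⟨a, ha⟩ : A) ⟨_, h2⟩) :)
        · refine commute_of_commutator (hcomm A ⟨1, one_mem _, ?_⟩ _ ⟨q, mem_sup_right hq, rfl⟩ (Ne.symm he)) ha h2
          rw [map_conj_of_mem_normalizer (one_mem _)]
      rw [hc, commutatorElement_def, show a * q * a⁻¹ * q⁻¹ = a * (q * a⁻¹ * q⁻¹) by group]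
      exact (Commute.refl a).mul_right h1
    have e : ⁅a ^ 2, q⁆ = c ^ 2 := by
      have haq : a * q * a⁻¹ = c * q := by rw [hc, commutatorElement_def]; group
      calc ⁅a ^ 2, q⁆ = a * (a * q * a⁻¹) * a⁻¹ * q⁻¹ := by rw [commutatorElement_def, sq]; group
        _ = (a * c) * q * a⁻¹ * q⁻¹ := by rw [haq]; group
        _ = (c * a) * q * a⁻¹ * q⁻¹ := by rw [hac.eq]
        _ = c * (a * q * a⁻¹) * q⁻¹ := by group
        _ = c ^ 2 := by rw [haq, sq]; group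
    rw [e]
    exact ⟨⟨c, hcQ⟩ ^ 2, CfsgLib.PGroups.pow_mem_frattini hQp _, rfl⟩
  -- the stabilizer of `Q / Φ(Q)` is a normal `2`-subgroup
  set Φ := (frattini Q).map Q.subtype with hΦdef
  haveI : Φ.Normal := by
    rw [hΦdef]
    infer_instance
  let K : Subgroup X :=
    { carrier := {x | ∀ q ∈ Q, ⁅x, q⁆ ∈ Φ}
      one_mem' := fun q _ => by rw [commutatorElement_one_left]; exact one_mem _
      mul_mem' := fun {u v} hu hv q hq => by
        rw [show ⁅u * v, q⁆ = u * ⁅v, q⁆ * u⁻¹ * ⁅u, q⁆ by simp only [commutatorElement_def]; group]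
        exact mul_mem (Subgroup.Normal.conj_mem inferInstance _ (hv q hq) u) (hu q hq)
      inv_mem' := fun {u} hu q hq => by
        rw [show ⁅u⁻¹, q⁆ = u⁻¹ * (⁅u, q⁆)⁻¹ * u by simp only [commutatorElement_def]; group]
        exact Subgroup.Normal.conj_mem' inferInstance _ (inv_mem (hu q hq)) u }
  haveI : K.Normal := ⟨fun x hx g q hq => by
    have h1 := hx (g⁻¹ * q * g) (by
      simpa using Subgroup.Normal.conj_mem (inferInstance : Q.Normal) q hq g⁻¹)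
    rw [show ⁅g * x * g⁻¹, q⁆ = g * ⁅x, g⁻¹ * q * g⁆ * g⁻¹ by simp only [commutatorElement_def]; group]
    exact Subgroup.Normal.conj_mem inferInstance _ h1 g⟩
  have hK : IsPGroup 2 K := by
    intro x
    obtain ⟨hodd⟩ : Nonempty (Odd (orderOf ((x : X) ^ (2 ^ (orderOf (x : X)).factorization 2)))) :=
      ⟨CfsgLib.TwoGroups.orderOf_pow_two_part_odd _⟩
    refine ⟨(orderOf (x : X)).factorization 2, Subtype.ext ?_⟩
    set y := (x : X) ^ (2 ^ (orderOf (x : X)).factorization 2)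
    have hy : y ∈ K := pow_mem x.2 _
    have hcop : ∀ k, (orderOf y).Coprime (2 ^ k) := fun k => (Nat.coprime_two_right.2 hodd).pow_right k
    have h1 : zpowers y ≤ centralizer (Q : Set X) := by
      refine CfsgLib.Core.centralizes_of_centralizes_frattini_quotient le_normalizer_of_normal ?_ ?_
      · obtain ⟨k, hk⟩ := IsPGroup.iff_card.1 (hQp.to_subgroup (frattini Q))
        rw [hk, Nat.card_zpowers]
        exact hcop k
      · intro z hz q hq
        exact (show z ∈ K from zpowers_le.2 hy hz) q hq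
    obtain ⟨k, hk⟩ := IsPGroup.iff_orderOf.1 hQp ⟨y, hCQ (h1 (mem_zpowers y))⟩
    rw [Subgroup.orderOf_mk] at hk
    exact orderOf_eq_one_iff.1 (Nat.eq_one_of_dvd_coprimes (hcop k) dvd_rfl hk.dvd)
  exact CfsgLib.Core.le_pCore hK (hΦ : a ^ 2 ∈ K)

end CfsgLib.Techniques
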