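import Cfsg.Agent.Lib.LocalEvenB.CharP
import Cfsg.Agent.Lib.PGroups.Basic
import Mathlib.GroupTheory.Perm.Cycle.Type

/-!
An elementary abelian `2`-subgroup `V` that is a TI set, maximal abelian normal in its normalizer of
characteristic `2`, and has a conjugate inside the `2`-core of the normalizer.
-/

set_option autoImplicit false

namespace CfsgLib.Techniques.TITwoPair

open Subgroup CfsgLib.LocalEvenB
open scoped commutatorElement

variable {G : Type*} [Group G]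

/-- Conjugate subgroup. -/
abbrev cj (x : G) (U : Subgroup G) : Subgroup G := U.map (MulAut.conj x).toMonoidHom

theorem mem_cj {x y : G} {U : Subgroup G} : y ∈ cj x U ↔ x⁻¹ * y * x ∈ U := by
  constructor
  · rintro ⟨z, hz, rfl⟩; simpa [mul_assoc] using hz
  · exact fun h => ⟨_, h, by simp [mul_assoc]⟩

theorem conj_mem_cj {x y : G} {U : Subgroup G} (h : y ∈ U) : x * y * x⁻¹ ∈ cj x U :=
  mem_cj.2 (by simpa [mul_assoc] using h)

theorem cj_cj (x y : G) (U : Subgroup G) : cj x (cj y U) = cj (x * y) U := by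
  ext z; rw [mem_cj, mem_cj, mem_cj]; simp [mul_assoc]

theorem cj_one (U : Subgroup G) : cj 1 U = U := by ext z; rw [mem_cj]; simp

theorem cj_mono (x : G) {U W : Subgroup G} (h : U ≤ W) : cj x U ≤ cj x W := Subgroup.map_mono h

theorem card_cj (x : G) (U : Subgroup G) : Nat.card (cj x U) = Nat.card U :=
  (Nat.card_congr (U.equivMapOfInjective _ (MulAut.conj x).injective).toEquiv).symm

theorem cj_eq_iff {x : G} {U : Subgroup G} : cj x U = U ↔ x ∈ normalizer (U : Set G) := by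
  rw [mem_normalizer_iff]
  constructor
  · intro h y
    constructor
    · intro hy; rw [← h]; exact conj_mem_cj hy
    · intro hy; rw [← h] at hy; simpa [mul_assoc] using mem_cj.1 hy
  · intro h
    ext y
    rw [mem_cj, h (x⁻¹ * y * x)]
    simp [mul_assoc]

/-- The `2`-core of the normalizer. -/
abbrev Q (V : Subgroup G) : Subgroup G := Cfsg.pCoreOf 2 (normalizer (V : Set G))

/-- Its part centralizing `V`. -/
abbrev P (V : Subgroup G) : Subgroup G := Q V ⊓ centralizer (V : Set G)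

/-- The hypotheses on `V`. -/
structure IsTI (V : Subgroup G) : Prop where
  comm : ∀ a ∈ V, ∀ b ∈ V, a * b = b * a
  sq : ∀ a ∈ V, a * a = 1
  char : HasCharP 2 (normalizer (V : Set G))
  maxi : ∀ A : Subgroup G, V ≤ A → A ≤ normalizer (V : Set G) → (∀ a ∈ A, ∀ b ∈ A, a * b = b * a) →
    (∀ m ∈ normalizer (V : Set G), ∀ a ∈ A, m * a * m⁻¹ ∈ A) → A = V
  ti : ∀ x : G, cj x V = V ∨ cj x V ⊓ V = ⊥

/-- `U` is another conjugate of `V` lying in the `2`-core of its normalizer. -/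
structure IsPair (V U : Subgroup G) : Prop where
  conj : ∃ g, U = cj g V
  ne : U ≠ V
  le : U ≤ Q V

theorem normalizer_cj (x : G) (V : Subgroup G) :
    normalizer ((cj x V : Subgroup G) : Set G) = cj x (normalizer (V : Set G)) := by
  ext y
  rw [mem_cj, ← cj_eq_iff, ← cj_eq_iff, cj_cj]
  constructor
  · intro h
    rw [show x⁻¹ * y * x = x⁻¹ * (y * x) by group, ← cj_cj, h, cj_cj, inv_mul_cancel, cj_one]
  · intro h
    have := congrArg (cj x) h
    rw [cj_cj] at this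
    simpa [mul_assoc] using this

theorem q_cj [Finite G] (x : G) (V : Subgroup G) : Q (cj x V) = cj x (Q V) := by
  have key : ∀ (x : G) (V : Subgroup G), cj x (Q V) ≤ Q (cj x V) := by
    intro x V
    refine le_pCoreOf ?_ ((isPGroup_pCoreOf _).map _) ?_
    · rw [normalizer_cj]; exact cj_mono x (pCoreOf_le _)
    · rw [normalizer_cj x, normalizer_cj x]
      exact cj_mono x (le_normalizer_pCoreOf _)
  refine le_antisymm ?_ (key x V)
  have h := cj_mono x (key x⁻¹ (cj x V))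
  simpa [cj_cj, cj_one] using h

theorem centralizer_cj (x : G) (V : Subgroup G) :
    centralizer ((cj x V : Subgroup G) : Set G) = cj x (centralizer (V : Set G)) := by
  ext y
  rw [mem_cj, mem_centralizer_iff, mem_centralizer_iff]
  constructor
  · intro h v hv
    have := h _ (conj_mem_cj (x := x) hv)
    calc v * (x⁻¹ * y * x) = x⁻¹ * ((x * v * x⁻¹) * y) * x := by group
      _ = _ := by rw [this]; group
  · rintro h _ ⟨v, hv, rfl⟩
    have := h v hv
    simp only [MulEquiv.coe_toMonoidHom, MulAut.conj_apply]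
    calc x * v * x⁻¹ * y = x * (v * (x⁻¹ * y * x)) * x⁻¹ := by group
      _ = _ := by rw [this]; group

theorem p_cj [Finite G] (x : G) (V : Subgroup G) : P (cj x V) = cj x (P V) := by
  ext y
  rw [mem_cj, Subgroup.mem_inf, Subgroup.mem_inf, q_cj, centralizer_cj, mem_cj, mem_cj]

theorem eq_one_of_odd_pow {v : G} (h2 : v * v = 1) {n : ℕ} (hn : Odd n) (h : v ^ n = 1) : v = 1 := by
  obtain ⟨k, rfl⟩ := hn
  rwa [pow_succ, pow_mul, pow_two, h2, one_pow, one_mul] at h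

namespace IsTI

variable [Finite G] {V : Subgroup G}

theorem conj (hV : IsTI V) (x : G) : IsTI (cj x V) where
  comm a ha b hb := by
    have := hV.comm _ (mem_cj.1 ha) _ (mem_cj.1 hb)
    calc a * b = x * ((x⁻¹ * a * x) * (x⁻¹ * b * x)) * x⁻¹ := by group
      _ = _ := by rw [this]; group
  sq a ha := by
    have := hV.sq _ (mem_cj.1 ha)
    calc a * a = x * ((x⁻¹ * a * x) * (x⁻¹ * a * x)) * x⁻¹ := by group
      _ = 1 := by rw [this]; group
  char := by
    have e := q_cj x V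
    intro y hy
    obtain ⟨h1, h2⟩ := Subgroup.mem_inf.1 hy
    rw [normalizer_cj, mem_cj] at h1
    rw [show Cfsg.pCoreOf 2 (normalizer ((cj x V : Subgroup G) : Set G)) = cj x (Q V) from e] at h2 ⊢
    rw [centralizer_cj, mem_cj] at h2
    exact mem_cj.2 (hV.char (Subgroup.mem_inf.2 ⟨h1, h2⟩))
  maxi A hA1 hA2 hAc hAn := by
    have h := hV.maxi (cj x⁻¹ A) (by simpa [cj_cj, cj_one] using cj_mono x⁻¹ hA1) (by
      have := cj_mono x⁻¹ hA2
      rw [normalizer_cj, cj_cj, inv_mul_cancel, cj_one] at this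
      exact this) ?_ ?_
    · rw [← h, cj_cj, mul_inv_cancel, cj_one]
    · intro a ha b hb
      have := hAc _ (mem_cj.1 ha) _ (mem_cj.1 hb)
      calc a * b = x⁻¹ * (((x⁻¹)⁻¹ * a * x⁻¹) * ((x⁻¹)⁻¹ * b * x⁻¹)) * x := by group
        _ = _ := by rw [this]; group
    · intro m hm a ha
      have := hAn (x * m * x⁻¹) (by rw [normalizer_cj]; exact conj_mem_cj hm) _ (mem_cj.1 ha)
      refine mem_cj.2 ?_
      convert this using 1
      group
  ti y := by
    rcases hV.ti (x⁻¹ * y * x) with h | h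
    · left
      have := congrArg (cj x) h
      simpa [cj_cj, mul_assoc] using this
    · right
      refine (eq_bot_iff).2 fun z hz => ?_
      obtain ⟨h1, h2⟩ := Subgroup.mem_inf.1 hz
      rw [cj_cj, mem_cj] at h1
      have hmem : x⁻¹ * z * x ∈ cj (x⁻¹ * y * x) V ⊓ V :=
        Subgroup.mem_inf.2 ⟨mem_cj.2 (by convert h1 using 1; group), mem_cj.1 h2⟩
      rw [h, Subgroup.mem_bot] at hmem
      rw [Subgroup.mem_bot]
      calc z = x * (x⁻¹ * z * x) * x⁻¹ := by group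
        _ = 1 := by rw [hmem]; group

theorem inv_eq (hV : IsTI V) {v : G} (hv : v ∈ V) : v⁻¹ = v := inv_eq_of_mul_eq_one_left (hV.sq v hv)

theorem le_cent (hV : IsTI V) : V ≤ centralizer (V : Set G) :=
  fun a ha => mem_centralizer_iff.2 fun b hb => hV.comm b hb a ha

theorem isPGroup_v (hV : IsTI V) : IsPGroup 2 V :=
  fun a => ⟨1, Subtype.ext (by rw [pow_one, pow_two]; exact hV.sq a a.2)⟩

theorem le_q (hV : IsTI V) : V ≤ Q V :=
  le_pCoreOf le_normalizer hV.isPGroup_v le_rfl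

theorem le_p (hV : IsTI V) : V ≤ P V := le_inf hV.le_q hV.le_cent

omit [Finite G] in
theorem p_le_norm : P V ≤ normalizer (V : Set G) := inf_le_left.trans (pCoreOf_le _)

omit [Finite G] in
theorem comm_p {x v : G} (hx : x ∈ P V) (hv : v ∈ V) : x * v = v * x :=
  (mem_centralizer_iff.1 (Subgroup.mem_inf.1 hx).2 v hv).symm

omit [Finite G] in
theorem conj_mem_v {m v : G} (hm : m ∈ normalizer (V : Set G)) (hv : v ∈ V) : m * v * m⁻¹ ∈ V :=
  (mem_normalizer_iff.1 hm v).1 hv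

omit [Finite G] in
theorem conj_mem_q {m x : G} (hm : m ∈ normalizer (V : Set G)) (hx : x ∈ Q V) : m * x * m⁻¹ ∈ Q V :=
  (mem_normalizer_iff.1 (le_normalizer_pCoreOf _ hm) x).1 hx

omit [Finite G] in
theorem conj_mem_c {m x : G} (hm : m ∈ normalizer (V : Set G)) (hx : x ∈ centralizer (V : Set G)) :
    m * x * m⁻¹ ∈ centralizer (V : Set G) := by
  refine mem_centralizer_iff.2 fun v hv => ?_
  have hv' : m⁻¹ * v * m ∈ V := by simpa using conj_mem_v (inv_mem hm) hv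
  have := mem_centralizer_iff.1 hx _ hv'
  calc v * (m * x * m⁻¹) = m * ((m⁻¹ * v * m) * x) * m⁻¹ := by group
    _ = _ := by rw [this]; group

omit [Finite G] in
theorem conj_mem_p {m x : G} (hm : m ∈ normalizer (V : Set G)) (hx : x ∈ P V) : m * x * m⁻¹ ∈ P V :=
  Subgroup.mem_inf.2 ⟨conj_mem_q hm (Subgroup.mem_inf.1 hx).1, conj_mem_c hm (Subgroup.mem_inf.1 hx).2⟩

theorem ti_mem (hV : IsTI V) {x v : G} (hv : v ∈ V) (hv1 : v ≠ 1) (h : x * v * x⁻¹ ∈ V) :
    x ∈ normalizer (V : Set G) := by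
  rcases hV.ti x with h' | h'
  · exact cj_eq_iff.1 h'
  · have : x * v * x⁻¹ ∈ cj x V ⊓ V := Subgroup.mem_inf.2 ⟨conj_mem_cj hv, h⟩
    rw [h', Subgroup.mem_bot] at this
    exact absurd (conj_eq_one_iff.1 this) hv1

theorem cent_mem (hV : IsTI V) {x v : G} (hv : v ∈ V) (hv1 : v ≠ 1) (h : x * v = v * x) :
    x ∈ normalizer (V : Set G) := hV.ti_mem hv hv1 (by rwa [h, mul_inv_cancel_right])

theorem eq_cj_of_mem (hV : IsTI V) {a b w : G} (hw1 : w ≠ 1) (ha : w ∈ cj a V) (hb : w ∈ cj b V) :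
    cj a V = cj b V := by
  rcases (hV.conj b).ti (a * b⁻¹) with h | h <;>
    rw [cj_cj, inv_mul_cancel_right] at h
  · exact h
  · exact absurd (by simpa [h] using (Subgroup.mem_inf.2 ⟨ha, hb⟩ : w ∈ cj a V ⊓ cj b V)) hw1

theorem odd_eq_one (hV : IsTI V) {c : G} (hc : c ∈ normalizer (V : Set G))
    (hcV : c ∈ centralizer (V : Set G)) (hodd : Odd (orderOf c)) (h : ∀ x ∈ P V, ⁅c, x⁆ ∈ V) : c = 1 := by
  have step : ∀ (x d : G), c * x * c⁻¹ = d * x → c * d = d * c → ∀ n : ℕ, c ^ n * x * (c ^ n)⁻¹ = d ^ n * x := by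
    intro x d hx hd n
    induction n with
    | zero => simp
    | succ n ih =>
      have hcd : c * d ^ n * c⁻¹ = d ^ n := by
        rw [(Commute.pow_right hd n).eq, mul_inv_cancel_right]
      calc c ^ (n + 1) * x * (c ^ (n + 1))⁻¹ = c * (c ^ n * x * (c ^ n)⁻¹) * c⁻¹ := by rw [pow_succ']; group
        _ = c * d ^ n * c⁻¹ * (c * x * c⁻¹) := by rw [ih]; group
        _ = d ^ (n + 1) * x := by rw [hcd, hx, pow_succ, mul_assoc]
  have hP : ∀ x ∈ P V, c * x = x * c := by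
    intro x hx
    have hv := h x hx
    have e := step x ⁅c, x⁆ (by rw [commutatorElement_def]; group)
      ((mem_centralizer_iff.1 hcV _ hv).symm) (orderOf c)
    rw [pow_orderOf_eq_one, one_mul, inv_one, mul_one, eq_comm, mul_eq_right] at e
    have := eq_one_of_odd_pow (hV.sq _ hv) hodd e
    exact commutatorElement_eq_one_iff_mul_comm.1 this
  have hQ : c ∈ centralizer (Q V : Set G) := by
    refine mem_centralizer_iff.2 fun x hx => ?_
    have hd : ⁅c, x⁆ ∈ P V := by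
      refine Subgroup.mem_inf.2 ⟨?_, ?_⟩
      · rw [commutatorElement_def]; exact mul_mem (conj_mem_q hc hx) (inv_mem hx)
      · rw [commutatorElement_def, mul_assoc, mul_assoc]
        refine mul_mem hcV ?_
        rw [← mul_assoc]
        exact conj_mem_c (pCoreOf_le _ hx) (inv_mem hcV)
    have e := step x ⁅c, x⁆ (by rw [commutatorElement_def]; group) (hP _ hd) (orderOf c)
    rw [pow_orderOf_eq_one, one_mul, inv_one, mul_one, eq_comm, mul_eq_right] at e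
    obtain ⟨k, hk⟩ := isPGroup_pCoreOf (p := 2) _ ⟨_, (Subgroup.mem_inf.1 hd).1⟩
    have h1 : orderOf ⁅c, x⁆ = 1 := Nat.eq_one_of_dvd_coprimes ((Nat.coprime_two_left.2 hodd).pow_left k)
      (orderOf_dvd_of_pow_eq_one (n := 2 ^ k) (congrArg Subtype.val hk)) (orderOf_dvd_of_pow_eq_one e)
    exact (commutatorElement_eq_one_iff_mul_comm.1 (orderOf_eq_one_iff.1 h1)).symm
  obtain ⟨k, hk⟩ := isPGroup_pCoreOf (p := 2) _ ⟨c, hV.char (Subgroup.mem_inf.2 ⟨hc, hQ⟩)⟩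
  exact orderOf_eq_one_iff.1 (Nat.eq_one_of_dvd_coprimes ((Nat.coprime_two_left.2 hodd).pow_left k)
      (orderOf_dvd_of_pow_eq_one (by simpa using congrArg Subtype.val hk)) dvd_rfl)

theorem mem_p_of_comm (hV : IsTI V) {c : G} (hc : c ∈ normalizer (V : Set G))
    (hcV : c ∈ centralizer (V : Set G)) (h : ∀ x ∈ P V, ⁅c, x⁆ ∈ V) : c ∈ P V := by
  let N : Subgroup G :=
    { carrier := {c | c ∈ normalizer (V : Set G) ∧ c ∈ centralizer (V : Set G) ∧ ∀ x ∈ P V, ⁅c, x⁆ ∈ V}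
      one_mem' := ⟨one_mem _, one_mem _, fun x _ => by simp⟩
      mul_mem' := fun {a b} ha hb => ⟨mul_mem ha.1 hb.1, mul_mem ha.2.1 hb.2.1, fun x hx => by
        rw [show ⁅a * b, x⁆ = a * ⁅b, x⁆ * a⁻¹ * ⁅a, x⁆ by simp only [commutatorElement_def]; group]
        exact mul_mem (conj_mem_v ha.1 (hb.2.2 x hx)) (ha.2.2 x hx)⟩
      inv_mem' := fun {a} ha => ⟨inv_mem ha.1, inv_mem ha.2.1, fun x hx => by
        rw [show ⁅a⁻¹, x⁆ = a⁻¹ * ⁅a, x⁆⁻¹ * a⁻¹⁻¹ by simp only [commutatorElement_def]; group]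
        exact conj_mem_v (inv_mem ha.1) (inv_mem (ha.2.2 x hx))⟩ }
  have hNp : IsPGroup 2 N := by
    rintro ⟨y, hy⟩
    obtain ⟨k, o, ho, hko⟩ := Nat.exists_eq_two_pow_mul_odd (orderOf_pos y).ne'
    refine ⟨k, Subtype.ext ?_⟩
    have hyk : y ^ 2 ^ k ∈ N := pow_mem hy _
    obtain ⟨h1, h2, h3⟩ := hyk
    refine hV.odd_eq_one h1 h2 ?_ h3
    show Odd (orderOf (y ^ 2 ^ k))
    rw [orderOf_pow' _ (pow_ne_zero _ two_ne_zero), hko, Nat.gcd_eq_right (Dvd.intro o rfl), Nat.mul_div_cancel_left _ (Nat.two_pow_pos k)]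
    exact ho
  refine Subgroup.mem_inf.2 ⟨le_pCoreOf (A := N) (fun y hy => hy.1) hNp ?_ ⟨hc, hcV, h⟩, hcV⟩
  have key : ∀ m ∈ normalizer (V : Set G), ∀ y ∈ N, m * y * m⁻¹ ∈ N := fun m hm y hy =>
    ⟨mul_mem (mul_mem hm hy.1) (inv_mem hm), conj_mem_c hm hy.2.1, fun x hx => by
      have hx' : m⁻¹ * x * m ∈ P V := by simpa using conj_mem_p (inv_mem hm) hx
      rw [show ⁅m * y * m⁻¹, x⁆ = m * ⁅y, m⁻¹ * x * m⁆ * m⁻¹ by simp only [commutatorElement_def]; group]
      exact conj_mem_v hm (hy.2.2 _ hx')⟩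
  intro m hm
  exact mem_normalizer_iff.2 fun y => ⟨key m hm y, fun hy => by
    simpa [mul_assoc] using key _ (inv_mem hm) _ hy⟩

theorem mem_of_central (hV : IsTI V) {x : G} (hx : x ∈ P V) (h : ∀ y ∈ P V, x * y = y * x) : x ∈ V := by
  have e := hV.maxi (P V ⊓ centralizer (P V : Set G))
    (le_inf hV.le_p fun v hv => mem_centralizer_iff.2 fun y hy => comm_p hy hv)
    (inf_le_left.trans p_le_norm)
    (fun a ha b hb => (mem_centralizer_iff.1 (Subgroup.mem_inf.1 hb).2 a (Subgroup.mem_inf.1 ha).1))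
    (fun m hm a ha => Subgroup.mem_inf.2 ⟨conj_mem_p hm (Subgroup.mem_inf.1 ha).1,
      mem_centralizer_iff.2 fun y hy => by
        have hy' : m⁻¹ * y * m ∈ P V := by simpa using conj_mem_p (inv_mem hm) hy
        have := mem_centralizer_iff.1 (Subgroup.mem_inf.1 ha).2 _ hy'
        calc y * (m * a * m⁻¹) = m * ((m⁻¹ * y * m) * a) * m⁻¹ := by group
          _ = _ := by rw [this]; group⟩)
  rw [← e]
  exact Subgroup.mem_inf.2 ⟨hx, mem_centralizer_iff.2 fun y hy => (h y hy).symm⟩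

/-- `P` has class two with all squares in `V`. -/
theorem class_two (hV : IsTI V) :
    (∀ x ∈ P V, ∀ y ∈ P V, ⁅x, y⁆ ∈ V) ∧ ∀ x ∈ P V, x * x ∈ V := by
  let A : Subgroup G :=
    { carrier := {a | a ∈ P V ∧ ∀ x ∈ P V, ⁅a, x⁆ ∈ V}
      one_mem' := ⟨one_mem _, fun x _ => by simp⟩
      mul_mem' := fun {a b} ha hb => ⟨mul_mem ha.1 hb.1, fun x hx => by
        rw [show ⁅a * b, x⁆ = a * ⁅b, x⁆ * a⁻¹ * ⁅a, x⁆ by simp only [commutatorElement_def]; group]
        exact mul_mem (conj_mem_v (p_le_norm ha.1) (hb.2 x hx)) (ha.2 x hx)⟩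
      inv_mem' := fun {a} ha => ⟨inv_mem ha.1, fun x hx => by
        rw [show ⁅a⁻¹, x⁆ = a⁻¹ * ⁅a, x⁆⁻¹ * a⁻¹⁻¹ by simp only [commutatorElement_def]; group]
        exact conj_mem_v (inv_mem (p_le_norm ha.1)) (inv_mem (ha.2 x hx))⟩ }
  have hAn : ∀ m ∈ normalizer (V : Set G), ∀ a ∈ A, m * a * m⁻¹ ∈ A := fun m hm a ha =>
    ⟨conj_mem_p hm ha.1, fun x hx => by
      have hx' : m⁻¹ * x * m ∈ P V := by simpa using conj_mem_p (inv_mem hm) hx
      rw [show ⁅m * a * m⁻¹, x⁆ = m * ⁅a, m⁻¹ * x * m⁆ * m⁻¹ by simp only [commutatorElement_def]; group]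
      exact conj_mem_v hm (ha.2 _ hx')⟩
  have hVA : V ≤ A := fun v hv => ⟨hV.le_p hv, fun x hx => by
    rw [commutatorElement_eq_one_iff_mul_comm.2 (comm_p hx hv).symm]; exact one_mem _⟩
  have hK : ∀ k ∈ P V, (∀ a ∈ A, a * k = k * a) → k ∈ V := by
    by_contra hne
    push Not at hne
    obtain ⟨k0, hk0, hk0A, hk0V⟩ := hne
    haveI : (V.subgroupOf (P V)).Normal := (normal_subgroupOf_iff_le_normalizer hV.le_p).2 p_le_norm
    haveI hKn : ((centralizer (A : Set G)).subgroupOf (P V)).Normal := ⟨fun n hn y => by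
      rw [mem_subgroupOf] at hn ⊢
      refine mem_centralizer_iff.2 fun a ha => ?_
      have ha' : (y : G)⁻¹ * a * y ∈ A := by simpa using hAn _ (inv_mem (p_le_norm y.2)) a ha
      have := mem_centralizer_iff.1 hn _ ha'
      show a * ((y : G) * n * (y : G)⁻¹) = (y : G) * n * (y : G)⁻¹ * a
      calc a * ((y : G) * n * (y : G)⁻¹) = y * (((y : G)⁻¹ * a * y) * n) * (y : G)⁻¹ := by group
        _ = _ := by rw [this]; group⟩
    set π := QuotientGroup.mk' (V.subgroupOf (P V))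
    haveI : (((centralizer (A : Set G)).subgroupOf (P V)).map π).Normal :=
      hKn.map π (QuotientGroup.mk'_surjective _)
    have hp : IsPGroup 2 (↥(P V) ⧸ V.subgroupOf (P V)) :=
      ((isPGroup_pCoreOf (normalizer (V : Set G))).to_le inf_le_left).to_quotient _
    have hne' : ((centralizer (A : Set G)).subgroupOf (P V)).map π ≠ ⊥ := by
      intro h0
      have hm : π ⟨k0, hk0⟩ ∈ ((centralizer (A : Set G)).subgroupOf (P V)).map π :=
        mem_map_of_mem _ (show (⟨k0, hk0⟩ : ↥(P V)) ∈ _ from mem_subgroupOf.2 (mem_centralizer_iff.2 hk0A))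
      rw [h0, Subgroup.mem_bot, QuotientGroup.mk'_apply, QuotientGroup.eq_one_iff, mem_subgroupOf] at hm
      exact hk0V hm
    obtain ⟨⟨q, hq⟩, hq1'⟩ := (Subgroup.ne_bot_iff_exists_ne_one).1 (CfsgLib.PGroups.inf_center_ne_bot hp hne')
    have hq1 : q ≠ 1 := fun h => hq1' (Subtype.ext h)
    obtain ⟨⟨k, hk, rfl⟩, hqc⟩ := Subgroup.mem_inf.1 hq
    rw [mem_center_iff] at hqc
    have hkA : (k : G) ∈ A := ⟨k.2, fun x hx => by
      have := hqc (π ⟨x, hx⟩)
      have h1 : π ⁅k, ⟨x, hx⟩⁆ = 1 := by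
        rw [map_commutatorElement, commutatorElement_eq_one_iff_mul_comm]; exact this.symm
      rw [QuotientGroup.mk'_apply, QuotientGroup.eq_one_iff, mem_subgroupOf] at h1
      exact h1⟩
    have e := hV.maxi (A ⊓ centralizer (A : Set G))
      (le_inf hVA fun v hv => mem_centralizer_iff.2 fun a ha => comm_p ha.1 hv)
      (inf_le_left.trans fun a ha => p_le_norm ha.1)
      (fun a ha b hb => (mem_centralizer_iff.1 (Subgroup.mem_inf.1 hb).2 a (Subgroup.mem_inf.1 ha).1))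
      (fun m hm a ha => Subgroup.mem_inf.2 ⟨hAn m hm a (Subgroup.mem_inf.1 ha).1,
        mem_centralizer_iff.2 fun y hy => by
          have hy' : m⁻¹ * y * m ∈ A := by simpa using hAn _ (inv_mem hm) y hy
          have := mem_centralizer_iff.1 (Subgroup.mem_inf.1 ha).2 _ hy'
          calc y * (m * a * m⁻¹) = m * ((m⁻¹ * y * m) * a) * m⁻¹ := by group
            _ = _ := by rw [this]; group⟩)
    refine hq1 ((QuotientGroup.eq_one_iff _).2 (mem_subgroupOf.2 ?_))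
    exact e.le (Subgroup.mem_inf.2 ⟨hkA, hk⟩)
  have hd : ∀ x ∈ P V, ∀ a ∈ A, ∃ d ∈ V, x * a * x⁻¹ = d * a := fun x hx a ha =>
    ⟨⁅a, x⁆⁻¹, inv_mem (ha.2 x hx), by rw [commutatorElement_def]; group⟩
  have hdd : ∀ x ∈ P V, ∀ y ∈ P V, ∀ a ∈ A, ∀ d ∈ V, ∀ d' ∈ V, x * a * x⁻¹ = d * a → y * a * y⁻¹ = d' * a →
      (x * y) * a * (x * y)⁻¹ = d' * d * a := by
    intro x hx y hy a ha d hd d' hd' e1 e2
    calc (x * y) * a * (x * y)⁻¹ = x * (y * a * y⁻¹) * x⁻¹ := by group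
      _ = x * d' * x⁻¹ * (x * a * x⁻¹) := by rw [e2]; group
      _ = d' * d * a := by rw [comm_p hx hd', mul_inv_cancel_right, e1, mul_assoc]
  refine ⟨fun x hx y hy => hK _ ?_ fun a ha => ?_, fun x hx => hK _ (mul_mem hx hx) fun a ha => ?_⟩
  · rw [commutatorElement_def]
    exact mul_mem (mul_mem (mul_mem hx hy) (inv_mem hx)) (inv_mem hy)
  · have hb : (y * x)⁻¹ * a * (y * x) ∈ A := by
      simpa using hAn _ (inv_mem (p_le_norm (mul_mem hy hx))) a ha
    obtain ⟨d, hd1, e1⟩ := hd x hx _ hb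
    obtain ⟨d', hd1', e2⟩ := hd y hy _ hb
    have h1 := hdd x hx y hy _ hb d hd1 d' hd1' e1 e2
    have h2 := hdd y hy x hx _ hb d' hd1' d hd1 e2 e1
    rw [hV.comm d hd1 d' hd1', ← h1] at h2
    have h3 : x * y * (y * x)⁻¹ * a * (x * y * (y * x)⁻¹)⁻¹ = a := by
      calc x * y * (y * x)⁻¹ * a * (x * y * (y * x)⁻¹)⁻¹
          = (x * y) * ((y * x)⁻¹ * a * (y * x)) * (x * y)⁻¹ := by group
        _ = (y * x) * ((y * x)⁻¹ * a * (y * x)) * (y * x)⁻¹ := h2.symm
        _ = a := by group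
    rw [show ⁅x, y⁆ = x * y * (y * x)⁻¹ by rw [commutatorElement_def]; group]
    exact (mul_inv_eq_iff_eq_mul.1 h3).symm
  · obtain ⟨d, hd1, e1⟩ := hd x hx a ha
    have h1 := hdd x hx x hx a ha d hd1 d hd1 e1 e1
    rw [hV.sq d hd1, one_mul, mul_inv_eq_iff_eq_mul] at h1
    exact h1.symm

end IsTI

namespace IsTI

variable [Finite G] {V : Subgroup G}

theorem br_mem (hV : IsTI V) {x y : G} (hx : x ∈ P V) (hy : y ∈ P V) : ⁅x, y⁆ ∈ V := hV.class_two.1 x hx y hy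

theorem br_symm (hV : IsTI V) {x y : G} (hx : x ∈ P V) (hy : y ∈ P V) : ⁅x, y⁆ = ⁅y, x⁆ := by
  rw [← commutatorElement_inv, hV.inv_eq (hV.br_mem hy hx)]

theorem br_mul_left (hV : IsTI V) {x y z : G} (hx : x ∈ P V) (hy : y ∈ P V) (hz : z ∈ P V) :
    ⁅x * y, z⁆ = ⁅x, z⁆ * ⁅y, z⁆ := by
  rw [show ⁅x * y, z⁆ = x * ⁅y, z⁆ * x⁻¹ * ⁅x, z⁆ by simp only [commutatorElement_def]; group,
    comm_p hx (hV.br_mem hy hz), mul_inv_cancel_right]
  exact hV.comm _ (hV.br_mem hy hz) _ (hV.br_mem hx hz)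

theorem br_mul_right (hV : IsTI V) {x y z : G} (hx : x ∈ P V) (hy : y ∈ P V) (hz : z ∈ P V) :
    ⁅x, y * z⁆ = ⁅x, y⁆ * ⁅x, z⁆ := by
  rw [hV.br_symm hx (mul_mem hy hz), hV.br_mul_left hy hz hx, hV.br_symm hy hx, hV.br_symm hz hx]

theorem br_v (hV : IsTI V) {x v : G} (hx : x ∈ P V) (hv : v ∈ V) : ⁅x, v⁆ = 1 :=
  commutatorElement_eq_one_iff_mul_comm.2 (comm_p hx hv)

end IsTI

theorem mem_normalizer_of_cj_le [Finite G] {x : G} {W : Subgroup G} (h : cj x W ≤ W) :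
    x ∈ normalizer (W : Set G) :=
  cj_eq_iff.1 (Subgroup.eq_of_le_of_card_ge h (card_cj x W).ge)

/-- The number of fixed points of an involutory permutation of a finite set has the parity of the set. -/
theorem parity {α : Type*} [Finite α] (f : α → α) (hf : ∀ a, f (f a) = a) :
    Nat.card α ≡ Nat.card {a // f a = a} [MOD 2] := by
  classical
  haveI : Fintype α := Fintype.ofFinite α
  haveI : Fact (Nat.Prime 2) := ⟨Nat.prime_two⟩
  let F : Function.End α := f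
  have h := Equiv.Perm.card_fixedPoints_modEq (f := F) (p := 2) (n := 1) (funext fun a => hf a)
  rw [Nat.card_eq_fintype_card, Nat.card_eq_fintype_card]
  have e : Fintype.card {a // f a = a} = Fintype.card ↑(Function.fixedPoints F) := Fintype.card_congr (Equiv.refl _)
  rw [e]
  exact h

namespace IsPair

variable [Finite G] {V U : Subgroup G}

theorem tiU (hV : IsTI V) (h : IsPair V U) : IsTI U := by
  obtain ⟨g, rfl⟩ := h.conj
  exact hV.conj g

omit [Finite G] in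
theorem card_eq (h : IsPair V U) : Nat.card U = Nat.card V := by
  obtain ⟨g, rfl⟩ := h.conj
  exact card_cj g V

omit [Finite G] in
theorem disj (hV : IsTI V) (h : IsPair V U) {w : G} (hv : w ∈ V) (hu : w ∈ U) : w = 1 := by
  obtain ⟨g, rfl⟩ := h.conj
  rcases hV.ti g with h' | h'
  · exact absurd h' h.ne
  · simpa [h'] using (Subgroup.mem_inf.2 ⟨hu, hv⟩ : w ∈ cj g V ⊓ V)

omit [Finite G] in
theorem ne_bot (h : IsPair V U) : V ≠ ⊥ := by
  rintro rfl
  obtain ⟨g, hg⟩ := h.conj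
  exact h.ne (hg.trans (Subgroup.map_bot _))

omit [Finite G] in
theorem exists_ne (h : IsPair V U) : ∃ u ∈ U, u ≠ 1 := by
  obtain ⟨g, rfl⟩ := h.conj
  obtain ⟨⟨v, hv⟩, hv1⟩ := Subgroup.ne_bot_iff_exists_ne_one.1 h.ne_bot
  exact ⟨g * v * g⁻¹, conj_mem_cj hv, fun e => hv1 (Subtype.ext (conj_eq_one_iff.1 e))⟩

theorem commute (hV : IsTI V) (h : IsPair V U) : ∀ v ∈ V, ∀ u ∈ U, v * u = u * v := by
  have hU := h.tiU hV
  have hUM : U ≤ normalizer (V : Set G) := h.le.trans (pCoreOf_le _)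
  have brV : ∀ u ∈ U, ∀ v ∈ V, ⁅u, v⁆ ∈ V := fun u hu v hv => by
    rw [commutatorElement_def]; exact mul_mem (IsTI.conj_mem_v (hUM hu) hv) (inv_mem hv)
  have h0 : ∀ v ∈ V, v ∈ normalizer (U : Set G) → ∀ u ∈ U, v * u = u * v := fun v hv hvn u hu => by
    have h1 : ⁅u, v⁆ ∈ U := by
      rw [commutatorElement_def, mul_assoc, mul_assoc, ← mul_assoc v]
      exact mul_mem hu (IsTI.conj_mem_v hvn (inv_mem hu))
    exact (commutatorElement_eq_one_iff_mul_comm.1 (h.disj hV (brV u hu v hv) h1)).symm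
  suffices hall : ∀ v ∈ V, v ∈ normalizer (U : Set G) from fun v hv => h0 v hv (hall v hv)
  intro v hv
  by_contra hvn
  let V0 : Subgroup G := V ⊓ normalizer (U : Set G)
  have hbr : ∀ u ∈ U, ⁅u, v⁆ ∈ V0 := fun u hu => by
    refine Subgroup.mem_inf.2 ⟨brV u hu v hv, ?_⟩
    rcases eq_or_ne u 1 with rfl | hu1
    · simp
    refine hU.cent_mem hu hu1 ?_
    set c := ⁅u, v⁆
    have hc : c ∈ V := brV u hu v hv
    have e : u * c * u⁻¹ = c := by
      have : u * c * u⁻¹ = c⁻¹ := by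
        simp only [c, commutatorElement_def]
        have hu2 : u⁻¹ = u := hU.inv_eq hu
        simp only [mul_inv_rev, inv_inv]
        rw [hu2]
        calc u * (u * v * u * v⁻¹) * u = (u * u) * (v * u * v⁻¹ * u) := by group
          _ = v * (u * (v⁻¹ * u)) := by rw [hU.sq u hu, one_mul]; group
      rw [this, hV.inv_eq hc]
    exact ((mul_inv_eq_iff_eq_mul).1 e).symm
  let φ : U → V0 := fun u => ⟨⁅(u : G), v⁆, hbr u u.2⟩
  have hφ : Function.Injective φ := by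
    intro a b hab
    have e : ⁅(a : G), v⁆ = ⁅(b : G), v⁆ := congrArg Subtype.val hab
    by_contra hne
    refine hvn (hU.cent_mem (mul_mem (inv_mem b.2) a.2) ?_ ?_)
    · exact fun he => hne (Subtype.ext (inv_mul_eq_one.1 he).symm)
    · have : (a : G) * v * (a : G)⁻¹ = (b : G) * v * (b : G)⁻¹ := by
        simpa [commutatorElement_def] using e
      calc v * ((b : G)⁻¹ * a) = (b : G)⁻¹ * ((b : G) * v * (b : G)⁻¹) * a := by group
        _ = _ := by rw [← this]; group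
  have hlt : Nat.card V0 < Nat.card V := by
    by_contra hle
    push Not at hle
    exact hvn (Subgroup.mem_inf.1 ((Subgroup.eq_of_le_of_card_ge inf_le_left hle).symm.le hv)).2
  have := Nat.card_le_card_of_injective φ hφ
  rw [h.card_eq] at this
  omega

theorem le_p (hV : IsTI V) (h : IsPair V U) : U ≤ P V :=
  le_inf h.le fun u hu => mem_centralizer_iff.2 fun v hv => h.commute hV v hv u hu

omit [Finite G] in
theorem of_conj (h : IsPair V U) {m : G} (hm : m ∈ normalizer (V : Set G)) : IsPair V (cj m U) := by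
  obtain ⟨g, hg⟩ := h.conj
  refine ⟨⟨m * g, by rw [hg, cj_cj]⟩, fun e => h.ne ?_, ?_⟩
  · have := congrArg (cj m⁻¹) e
    rwa [cj_cj, inv_mul_cancel, cj_one, cj_eq_iff.2 (inv_mem hm)] at this
  · rintro y hy
    simpa [mul_assoc] using IsTI.conj_mem_q hm (h.le (mem_cj.1 hy))

theorem dich (hV : IsTI V) (h : IsPair V U) {u x : G} (hu : u ∈ U) (hu1 : u ≠ 1) (hx : x ∈ P V)
    (he : ⁅u, x⁆ = 1) : x ∈ centralizer (U : Set G) := by
  have hU := h.tiU hV
  have hxn := hU.cent_mem hu hu1 (commutatorElement_eq_one_iff_mul_comm.1 he).symm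
  refine mem_centralizer_iff.2 fun w hw => commutatorElement_eq_one_iff_mul_comm.1 (h.disj hV
    (hV.br_mem (h.le_p hV hw) hx) ?_)
  rw [commutatorElement_def, mul_assoc, mul_assoc, ← mul_assoc x]
  exact mul_mem hw (IsTI.conj_mem_v hxn (inv_mem hw))

theorem surj (hV : IsTI V) (h : IsPair V U) {x : G} (hx : x ∈ P V) (hxU : x ∉ centralizer (U : Set G)) :
    ∀ v ∈ V, ∃ u ∈ U, ⁅u, x⁆ = v := by
  let f : U → V := fun u => ⟨⁅(u : G), x⁆, hV.br_mem (h.le_p hV u.2) hx⟩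
  have hf : Function.Injective f := by
    intro a b hab
    by_contra hne
    refine hxU (h.dich hV (mul_mem a.2 b.2) (fun e => hne (Subtype.ext ?_)) hx ?_)
    · rw [← inv_inv (a : G), (h.tiU hV).inv_eq a.2]
      exact inv_eq_of_mul_eq_one_right e
    · rw [hV.br_mul_left (h.le_p hV a.2) (h.le_p hV b.2) hx, show ⁅(a : G), x⁆ = ⁅(b : G), x⁆ from congrArg Subtype.val hab]
      exact hV.sq _ (hV.br_mem (h.le_p hV b.2) hx)
  intro v hv
  obtain ⟨u, hu⟩ := ((Nat.bijective_iff_injective_and_card f).2 ⟨hf, h.card_eq⟩).2 ⟨v, hv⟩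
  exact ⟨u, u.2, congrArg Subtype.val hu⟩

/-- A partner of `U` inside `P V` that does not commute with it. -/
theorem exists_partner (hV : IsTI V) (h : IsPair V U) :
    ∃ U₂, IsPair V U₂ ∧ ∀ u ∈ U, u ≠ 1 → ∀ u₂ ∈ U₂, u₂ ≠ 1 → ⁅u₂, u⁆ ≠ 1 := by
  suffices hne : ∃ m ∈ normalizer (V : Set G), ∃ u ∈ U, ∃ u₂ ∈ cj m U, u * u₂ ≠ u₂ * u by
    obtain ⟨m, hm, a, ha, b, hb, hab⟩ := hne
    refine ⟨cj m U, h.of_conj hm, fun u hu hu1 u₂ hu₂ hu₂1 he => hab ?_⟩
    have h1 := (h.of_conj hm).dich hV hu₂ hu₂1 (h.le_p hV hu) he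
    have hb1 : b ≠ 1 := fun e => hab (by rw [e]; simp)
    have h2 : ⁅u, b⁆ = 1 := commutatorElement_eq_one_iff_mul_comm.2 (mem_centralizer_iff.1 h1 b hb).symm
    have h3 := h.dich hV hu hu1 ((h.of_conj hm).le_p hV hb) h2
    exact mem_centralizer_iff.1 h3 a ha
  by_contra hall
  push Not at hall
  set T : Set G := {y | y ∈ V ∨ ∃ m ∈ normalizer (V : Set G), y ∈ cj m U}
  have hTP : ∀ y ∈ T, y ∈ P V := by
    rintro y (hy | ⟨m, hm, hy⟩)
    · exact hV.le_p hy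
    · exact (h.of_conj hm).le_p hV hy
  have hTc : ∀ a ∈ T, ∀ b ∈ T, a * b = b * a := by
    rintro a ha b hb
    rcases ha with ha | ⟨m, hm, ha⟩
    · exact (IsTI.comm_p (hTP b hb) ha).symm
    rcases hb with hb | ⟨n, hn, hb⟩
    · exact IsTI.comm_p ((h.of_conj hm).le_p hV ha) hb
    have := hall (m⁻¹ * n) (mul_mem (inv_mem hm) hn) _ (mem_cj.1 ha) (m⁻¹ * b * m)
      (mem_cj.2 (by simpa [mul_assoc] using mem_cj.1 hb))
    calc a * b = m * ((m⁻¹ * a * m) * (m⁻¹ * b * m)) * m⁻¹ := by group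
      _ = _ := by rw [this]; group
  have h1 : closure T ≤ centralizer T := (closure_le _).2 fun a ha => mem_centralizer_iff.2 fun b hb => hTc b hb a ha
  have e := hV.maxi (closure T) (fun v hv => subset_closure (Or.inl hv))
    ((closure_le _).2 fun y hy => IsTI.p_le_norm (hTP y hy)) ?_ ?_
  · obtain ⟨u, hu, hu1⟩ := h.exists_ne
    refine hu1 (h.disj hV (e ▸ subset_closure (Or.inr ⟨1, one_mem _, ?_⟩)) hu)
    rwa [cj_one]
  · intro a ha b hb
    have h2 : closure T ≤ centralizer (closure T : Set G) := (closure_le _).2 fun b hb =>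
      mem_centralizer_iff.2 fun a ha => (mem_centralizer_iff.1 (h1 ha) b hb).symm
    exact mem_centralizer_iff.1 (h2 hb) a ha
  · intro m hm a ha
    induction ha using closure_induction with
    | mem y hy =>
      refine subset_closure ?_
      rcases hy with hy | ⟨n, hn, hy⟩
      · exact Or.inl (IsTI.conj_mem_v hm hy)
      · exact Or.inr ⟨m * n, mul_mem hm hn, by rw [← cj_cj]; exact conj_mem_cj hy⟩
    | one => simp
    | mul x y _ _ hx hy => rw [show m * (x * y) * m⁻¹ = (m * x * m⁻¹) * (m * y * m⁻¹) by group]; exact mul_mem hx hy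
    | inv x _ hx => rw [show m * x⁻¹ * m⁻¹ = (m * x * m⁻¹)⁻¹ by group]; exact inv_mem hx

/-- Every element of `V` is a commutator of a given nontrivial element of `U` with one of `P V`. -/
theorem span (hV : IsTI V) (h : IsPair V U) {u v : G} (hu : u ∈ U) (hu1 : u ≠ 1) (hv : v ∈ V) :
    ∃ x ∈ P V, x * u * x⁻¹ = v * u := by
  obtain ⟨U₂, h2, hne⟩ := h.exists_partner hV
  obtain ⟨u₂, hu₂, hu₂1⟩ := h2.exists_ne
  obtain ⟨x, hx, he⟩ := h2.surj hV (h.le_p hV hu)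
    (fun hc => hne u hu hu1 u₂ hu₂ hu₂1 (commutatorElement_eq_one_iff_mul_comm.2 (mem_centralizer_iff.1 hc u₂ hu₂)))
    v hv
  refine ⟨x, h2.le_p hV hx, ?_⟩
  rw [← he, commutatorElement_def]; group

theorem mem_sup (hV : IsTI V) (h : IsPair V U) {w : G} : w ∈ V ⊔ U ↔ ∃ v ∈ V, ∃ u ∈ U, v * u = w := by
  constructor
  · intro hw
    let W : Subgroup G :=
      { carrier := {w | ∃ v ∈ V, ∃ u ∈ U, v * u = w}
        one_mem' := ⟨1, one_mem _, 1, one_mem _, one_mul _⟩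
        mul_mem' := by
          rintro _ _ ⟨v, hv, u, hu, rfl⟩ ⟨v', hv', u', hu', rfl⟩
          refine ⟨v * v', mul_mem hv hv', u * u', mul_mem hu hu', ?_⟩
          calc v * v' * (u * u') = v * (v' * u) * u' := by group
            _ = _ := by rw [h.commute hV v' hv' u hu]; group
        inv_mem' := by
          rintro _ ⟨v, hv, u, hu, rfl⟩
          exact ⟨v⁻¹, inv_mem hv, u⁻¹, inv_mem hu, by rw [mul_inv_rev, h.commute hV _ (inv_mem hv) _ (inv_mem hu)]⟩ }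
    exact (sup_le (c := W) (fun v hv => ⟨v, hv, 1, one_mem _, mul_one v⟩)
      (fun u hu => ⟨1, one_mem _, u, hu, one_mul u⟩)) hw
  · rintro ⟨v, hv, u, hu, rfl⟩
    exact mul_mem (mem_sup_left hv) (mem_sup_right hu)

theorem sup_le_p (hV : IsTI V) (h : IsPair V U) : V ⊔ U ≤ P V := sup_le hV.le_p (h.le_p hV)

theorem p_le_norm_sup (hV : IsTI V) (h : IsPair V U) : P V ≤ normalizer ((V ⊔ U : Subgroup G) : Set G) := by
  refine fun x hx => mem_normalizer_of_cj_le ?_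
  intro w hw
  obtain ⟨v, hv, u, hu, e⟩ := (h.mem_sup hV).1 (mem_cj.1 hw)
  have e2 : w = v * (⁅x, u⁆ * u) := by
    calc w = x * (x⁻¹ * w * x) * x⁻¹ := by group
      _ = (x * v * x⁻¹) * (x * u * x⁻¹) := by rw [← e]; group
      _ = _ := by rw [IsTI.comm_p hx hv, mul_inv_cancel_right, commutatorElement_def]; group
  rw [e2]
  exact mul_mem (mem_sup_left hv) (mul_mem (mem_sup_left (hV.br_mem hx (h.le_p hV hu))) (mem_sup_right hu))

/-- The conjugates of `V` in `V U`. -/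
theorem points (hV : IsTI V) (h : IsPair V U) {a : G} (ha : cj a V ≤ V ⊔ U) (hne : cj a V ≠ V) :
    ∃ x ∈ P V, cj a V = cj x U := by
  obtain ⟨g, hg⟩ := h.conj
  obtain ⟨⟨v0, hv0⟩, hv01⟩ := Subgroup.ne_bot_iff_exists_ne_one.1 h.ne_bot
  have hwne : a * v0 * a⁻¹ ≠ 1 := fun e => hv01 (Subtype.ext (conj_eq_one_iff.1 e))
  obtain ⟨v, hv, u, hu, e⟩ := (h.mem_sup hV).1 (ha (conj_mem_cj hv0))
  have hu1 : u ≠ 1 := by
    rintro rfl
    rw [mul_one] at e
    exact hne (cj_eq_iff.2 (hV.ti_mem hv0 (fun e' => hv01 (Subtype.ext e')) (e ▸ hv)))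
  obtain ⟨x, hx, hxu⟩ := h.span hV hu hu1 hv
  refine ⟨x, hx, ?_⟩
  rw [hg, cj_cj]
  refine hV.eq_cj_of_mem hwne (conj_mem_cj hv0) ?_
  rw [← cj_cj, ← hg, ← e, ← hxu]
  exact conj_mem_cj hu

/-- An element of `P U` normalizing `V` centralizes it. -/
theorem norm_part (hV : IsTI V) (h : IsPair V U) {r : G} (hr : r ∈ P U) (hrV : r ∈ normalizer (V : Set G)) :
    r ∈ centralizer (V : Set G) ∧ ∀ x ∈ P V, ⁅r, x⁆ ∈ centralizer (U : Set G) := by
  have hU := h.tiU hV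
  have hru : ∀ u ∈ U, r * u = u * r := fun u hu => IsTI.comm_p hr hu
  have hz : ∀ x ∈ P V, ⁅r, x⁆ ∈ P V := fun x hx => by
    rw [commutatorElement_def]; exact mul_mem (IsTI.conj_mem_p hrV hx) (inv_mem hx)
  have hkey : ∀ x ∈ P V, ∀ u ∈ U, r * ⁅u, x⁆ * r⁻¹ * ⁅u, x⁆ = ⁅u, ⁅r, x⁆⁆ := by
    intro x hx u hu
    have hux := hV.br_mem (h.le_p hV hu) hx
    have e1 : r * ⁅u, x⁆ * r⁻¹ = ⁅u, ⁅r, x⁆⁆ * ⁅u, x⁆ := by
      rw [← hV.br_mul_right (h.le_p hV hu) (hz x hx) hx,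
        show ⁅r, x⁆ * x = r * x * r⁻¹ by rw [commutatorElement_def]; group]
      have hu' : r * u * r⁻¹ = u := by rw [hru u hu, mul_inv_cancel_right]
      conv_rhs => rw [← hu']
      simp only [commutatorElement_def]; group
    rw [e1, mul_assoc, hV.sq _ hux, mul_one]
  have hout : ∀ x ∈ P V, x ∉ centralizer (U : Set G) →
      ⁅r, x⁆ ∈ centralizer (U : Set G) ∧ ∀ v ∈ V, r * v = v * r := by
    intro x hx hxU
    have fix_v : ⁅r, x⁆ ∈ centralizer (U : Set G) → ∀ v ∈ V, r * v = v * r := fun hzc v hv => by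
      obtain ⟨u, hu, rfl⟩ := h.surj hV hx hxU v hv
      have h2 := hkey x hx u hu
      rw [commutatorElement_eq_one_iff_mul_comm.2 (mem_centralizer_iff.1 hzc u hu)] at h2
      have := eq_inv_of_mul_eq_one_left h2
      rw [hV.inv_eq (hV.br_mem (h.le_p hV hu) hx), mul_inv_eq_iff_eq_mul] at this
      exact this
    by_cases hzc : ⁅r, x⁆ ∈ centralizer (U : Set G)
    · exact ⟨hzc, fix_v hzc⟩
    exfalso
    obtain ⟨u0, hu0, hu01⟩ := h.exists_ne
    -- every element of `V` is fixed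
    have hfix : ∀ v ∈ V, r * v = v * r := by
      intro v hv
      obtain ⟨u, hu, rfl⟩ := h.surj hV (hz x hx) hzc v hv
      rw [← hkey x hx u hu]
      set c := ⁅u, x⁆
      have hc : c ∈ V := hV.br_mem (h.le_p hV hu) hx
      have hr2 : r * r * c = c * (r * r) := (h.commute hV c hc _ (hU.class_two.2 r hr)).symm
      have hrc : r * c * r⁻¹ ∈ V := IsTI.conj_mem_v hrV hc
      calc r * (r * c * r⁻¹ * c) = (r * r * c) * r⁻¹ * c := by group
        _ = c * (r * c) := by rw [hr2]; group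
        _ = c * (r * c * r⁻¹) * r := by group
        _ = _ := by rw [hV.comm c hc _ hrc]
    obtain ⟨u, hu, hu1⟩ := h.exists_ne
    refine hzc (h.dich hV hu hu1 (hz x hx) ?_)
    rw [← hkey x hx u hu, hfix _ (hV.br_mem (h.le_p hV hu) hx), mul_inv_cancel_right]
    exact hV.sq _ (hV.br_mem (h.le_p hV hu) hx)
  obtain ⟨U₂, h2, hne⟩ := h.exists_partner hV
  obtain ⟨u₂, hu₂, hu₂1⟩ := h2.exists_ne
  obtain ⟨u0, hu0, hu01⟩ := h.exists_ne
  have hx2 : u₂ ∉ centralizer (U : Set G) := fun hc => hne u0 hu0 hu01 u₂ hu₂ hu₂1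
    (commutatorElement_eq_one_iff_mul_comm.2 (mem_centralizer_iff.1 hc u0 hu0).symm)
  have hcV := (hout u₂ (h2.le_p hV hu₂) hx2).2
  refine ⟨mem_centralizer_iff.2 fun v hv => (hcV v hv).symm, fun x hx => ?_⟩
  by_cases hxU : x ∈ centralizer (U : Set G)
  · rw [commutatorElement_def]
    have hrc : r ∈ centralizer (U : Set G) := (Subgroup.mem_inf.1 hr).2
    exact mul_mem (mul_mem (mul_mem hrc hxU) (inv_mem hrc)) (inv_mem hxU)
  · exact (hout x hx hxU).1

/-- An element of `P V` centralizing `U` and all of `P V ⊓ C(U)` lies in `V U`. -/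
theorem mem_sup_of_central (hV : IsTI V) (h : IsPair V U) {z : G} (hz : z ∈ P V)
    (hzU : z ∈ centralizer (U : Set G))
    (hzS : ∀ s ∈ P V, s ∈ centralizer (U : Set G) → z * s = s * z) : z ∈ V ⊔ U := by
  obtain ⟨U₂, h2, hne⟩ := h.exists_partner hV
  obtain ⟨u₂, hu₂, hu₂1⟩ := h2.exists_ne
  obtain ⟨u0, hu0, hu01⟩ := h.exists_ne
  have hU := h.tiU hV
  have hu₂P := h2.le_p hV hu₂
  have hu₂U : u₂ ∉ centralizer (U : Set G) := fun hc => hne u0 hu0 hu01 u₂ hu₂ hu₂1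
    (commutatorElement_eq_one_iff_mul_comm.2 (mem_centralizer_iff.1 hc u0 hu0).symm)
  obtain ⟨u, hu, hue⟩ := h.surj hV hu₂P hu₂U _ (hV.br_mem hz hu₂P)
  have huP := h.le_p hV hu
  have hzuP : z * u ∈ P V := mul_mem hz huP
  have hzu2 : z * u ∈ centralizer (U₂ : Set G) := h2.dich hV hu₂ hu₂1 hzuP (by
    rw [hV.br_symm hu₂P hzuP, hV.br_mul_left hz huP hu₂P, hue]; exact hV.sq _ (hV.br_mem hz hu₂P))
  have hzuV : z * u ∈ V := hV.mem_of_central hzuP fun y hy => by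
    obtain ⟨w, hw, hwe⟩ := h2.surj hV (h.le_p hV hu0)
      (fun hc => hne u0 hu0 hu01 u₂ hu₂ hu₂1 (commutatorElement_eq_one_iff_mul_comm.2 (mem_centralizer_iff.1 hc u₂ hu₂)))
      _ (hV.br_mem hy (h.le_p hV hu0))
    have hywP : y * w ∈ P V := mul_mem hy (h2.le_p hV hw)
    have hywU : y * w ∈ centralizer (U : Set G) := h.dich hV hu0 hu01 hywP (by
      rw [hV.br_symm (h.le_p hV hu0) hywP, hV.br_mul_left hy (h2.le_p hV hw) (h.le_p hV hu0), hwe]
      exact hV.sq _ (hV.br_mem hy (h.le_p hV hu0)))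
    have e1 : z * u * (y * w) = y * w * (z * u) := by
      calc z * u * (y * w) = z * (u * (y * w)) := by group
        _ = z * (y * w) * u := by rw [mem_centralizer_iff.1 hywU u hu]; group
        _ = _ := by rw [hzS _ hywP hywU]; group
    have e2 := mem_centralizer_iff.1 hzu2 w hw
    calc z * u * y = z * u * (y * w) * w⁻¹ := by group
      _ = y * (w * (z * u)) * w⁻¹ := by rw [e1]; group
      _ = y * (z * u) := by rw [e2]; group
  rw [show z = z * u * u⁻¹ by group]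
  exact mul_mem (mem_sup_left hzuV) (mem_sup_right (inv_mem hu))

/-- An element of `P U` outside `N(V)` that moves some element of `V` inside `V U`. -/
theorem exists_mover (hV : IsTI V) (h : IsPair V U) :
    ∃ b ∈ P U, b ∉ normalizer (V : Set G) ∧ ∃ t ∈ V, t ≠ 1 ∧ ⁅b, t⁆ ∈ U := by
  classical
  have hU := h.tiU hV
  have hVcU : V ≤ centralizer (U : Set G) := fun v hv => mem_centralizer_iff.2 fun u hu => (h.commute hV v hv u hu).symm
  have hcUn : ∀ {y : G}, y ∈ centralizer (U : Set G) → y ∈ normalizer (U : Set G) :=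
    fun hy => centralizer_le_normalizer _ hy
  obtain ⟨⟨v0, hv0⟩, hv01'⟩ := Subgroup.ne_bot_iff_exists_ne_one.1 h.ne_bot
  have hv01 : v0 ≠ 1 := fun e => hv01' (Subtype.ext e)
  obtain ⟨n0, hn0, hn0M⟩ : ∃ n ∈ P U, n ∉ normalizer (V : Set G) := by
    by_contra hall
    push Not at hall
    have hc : ∀ x ∈ P U, ⁅v0, x⁆ = 1 := fun x hx => commutatorElement_eq_one_iff_mul_comm.2
      (mem_centralizer_iff.1 (h.norm_part hV hx (hall x hx)).1 v0 hv0)
    have h1 := hU.mem_p_of_comm (hcUn (hVcU hv0)) (hVcU hv0) fun x hx => by rw [hc x hx]; exact one_mem _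
    exact hv01 (h.disj hV hv0 (hU.mem_of_central h1 fun y hy => commutatorElement_eq_one_iff_mul_comm.1 (hc y hy)))
  by_cases hmeet : ∃ t ∈ V, t ≠ 1 ∧ t ∈ P U
  · obtain ⟨t, ht, ht1, htP⟩ := hmeet
    exact ⟨n0, hn0, hn0M, t, ht, ht1, hU.br_mem hn0 htP⟩
  push Not at hmeet
  set R := P U ⊓ centralizer (V : Set G)
  set S := P V ⊓ centralizer (U : Set G)
  have hsU : ∀ {s}, s ∈ S → ∀ u ∈ U, u * s = s * u := fun hs => mem_centralizer_iff.1 (Subgroup.mem_inf.1 hs).2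
  have hrU : ∀ {r}, r ∈ R → ∀ u ∈ U, u * r = r * u := fun hr u hu => (IsTI.comm_p (Subgroup.mem_inf.1 hr).1 hu).symm
  have hrn : ∀ {r}, r ∈ R → r ∈ normalizer (V : Set G) := fun hr => centralizer_le_normalizer _ (Subgroup.mem_inf.1 hr).2
  have hUR : U ≤ R := le_inf hU.le_p fun u hu => mem_centralizer_iff.2 fun v hv => h.commute hV v hv u hu
  have hD : ∀ d ∈ P V, d ∈ P U → d ∈ U := by
    intro d hd hd'
    have hdS : d ∈ S := Subgroup.mem_inf.2 ⟨hd, (Subgroup.mem_inf.1 hd').2⟩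
    have hds : ∀ s ∈ S, d * s = s * d := by
      intro s hs
      refine commutatorElement_eq_one_iff_mul_comm.1 ?_
      by_contra hne
      refine hmeet _ (hV.br_mem hd (Subgroup.mem_inf.1 hs).1) hne ?_
      rw [commutatorElement_def, mul_assoc, mul_assoc, ← mul_assoc s]
      exact mul_mem hd' (IsTI.conj_mem_p (hcUn (Subgroup.mem_inf.1 hs).2) (inv_mem hd'))
    obtain ⟨v, hv, u, hu, e⟩ := (h.mem_sup hV).1 (h.mem_sup_of_central hV hd (Subgroup.mem_inf.1 hdS).2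
      fun s hs hsU => hds s (Subgroup.mem_inf.2 ⟨hs, hsU⟩))
    rcases eq_or_ne v 1 with rfl | hv1
    · rw [← e, one_mul]; exact hu
    · refine absurd ?_ (hmeet v hv hv1)
      rw [show v = d * u⁻¹ by rw [← e, mul_inv_cancel_right]]
      exact mul_mem hd' (inv_mem (hU.le_p hu))
  have hsr : ∀ s ∈ S, ∀ r ∈ R, ⁅s, r⁆ ∈ U := fun s hs r hr => hD _ (by
      rw [commutatorElement_def, mul_assoc, mul_assoc, ← mul_assoc r]
      exact mul_mem (Subgroup.mem_inf.1 hs).1 (IsTI.conj_mem_p (hrn hr) (inv_mem (Subgroup.mem_inf.1 hs).1))) (by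
      rw [commutatorElement_def]
      exact mul_mem (IsTI.conj_mem_p (hcUn (Subgroup.mem_inf.1 hs).2) (Subgroup.mem_inf.1 hr).1)
        (inv_mem (Subgroup.mem_inf.1 hr).1))
  -- a fixed point of `S` on the cosets of `R` in `P U`
  set R' : Subgroup ↥(P U) := R.subgroupOf (P U)
  have hRn : ∀ {x r : G}, x ∈ P U → r ∈ R → x * r * x⁻¹ ∈ R := fun {x r} hx hr => by
    rw [show x * r * x⁻¹ = ⁅x, r⁆ * r by rw [commutatorElement_def]; group]
    exact mul_mem (hUR (hU.br_mem hx (Subgroup.mem_inf.1 hr).1)) hr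
  have hSP : ∀ (s : S) (y : ↥(P U)), (s : G) * y * (s : G)⁻¹ ∈ P U := fun s y =>
    IsTI.conj_mem_p (hcUn (Subgroup.mem_inf.1 s.2).2) y.2
  letI : MulAction S (↥(P U) ⧸ R') :=
    { smul := fun s => Quotient.map' (fun y => ⟨_, hSP s y⟩) fun a b hab => by
        rw [QuotientGroup.leftRel_apply, mem_subgroupOf] at hab ⊢
        have h1 : (a : G)⁻¹ * b ∈ R := hab
        show ((s : G) * a * (s : G)⁻¹)⁻¹ * ((s : G) * b * (s : G)⁻¹) ∈ R
        rw [show ((s : G) * a * (s : G)⁻¹)⁻¹ * ((s : G) * b * (s : G)⁻¹) = (s : G) * ((a : G)⁻¹ * b) * (s : G)⁻¹ by group]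
        exact Subgroup.mem_inf.2 ⟨IsTI.conj_mem_p (hcUn (Subgroup.mem_inf.1 s.2).2) (Subgroup.mem_inf.1 h1).1,
          IsTI.conj_mem_c (IsTI.p_le_norm (Subgroup.mem_inf.1 s.2).1) (Subgroup.mem_inf.1 h1).2⟩
      one_smul := fun q => Quotient.inductionOn' q fun y => congrArg Quotient.mk'' (Subtype.ext (by simp))
      mul_smul := fun s t q => Quotient.inductionOn' q fun y => congrArg Quotient.mk'' (Subtype.ext (by simp [mul_assoc])) }
  have hdvd : 2 ∣ Nat.card (↥(P U) ⧸ R') := by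
    haveI : R'.Normal := ⟨fun r hr x => mem_subgroupOf.2 (hRn x.2 (mem_subgroupOf.1 hr))⟩
    rcases (((isPGroup_pCoreOf (normalizer (U : Set G))).to_le (inf_le_left : P U ≤ _)).to_quotient R').card_eq_or_dvd with h1 | h2
    · exfalso
      haveI := (Nat.card_eq_one_iff_unique.1 h1).1
      have hm : (⟨n0, hn0⟩ : ↥(P U)) ∈ R' := (QuotientGroup.eq_one_iff _).1 (Subsingleton.elim _ _)
      exact hn0M (hrn (mem_subgroupOf.1 hm))
    · exact h2
  have hSp : IsPGroup 2 S := ((isPGroup_pCoreOf (normalizer (V : Set G))).to_le (inf_le_left : P V ≤ _)).to_le inf_le_left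
  obtain ⟨q, hq, hq1⟩ := hSp.exists_fixed_point_of_prime_dvd_card_of_fixed_point (↥(P U) ⧸ R') hdvd
    (a := ((1 : ↥(P U)) : ↥(P U) ⧸ R')) (fun s => congrArg Quotient.mk'' (Subtype.ext (by simp)))
  obtain ⟨n, rfl⟩ := QuotientGroup.mk_surjective q
  have hnR : (n : G) ∉ centralizer (V : Set G) := fun hc => hq1 (QuotientGroup.eq.2 (mem_subgroupOf.2 (by
    rw [inv_one, one_mul]; exact Subgroup.mem_inf.2 ⟨n.2, hc⟩)))
  have hnM : (n : G) ∉ normalizer (V : Set G) := fun hc => hnR (h.norm_part hV n.2 hc).1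
  have hns : ∀ s ∈ S, ⁅(n : G), s⁆ ∈ R := by
    intro s hs
    have h1 := QuotientGroup.eq.1 (hq ⟨s, hs⟩)
    rw [mem_subgroupOf] at h1
    have h2 : (s * n * s⁻¹)⁻¹ * (n : G) ∈ R := h1
    rw [show ⁅(n : G), s⁆ = n * ((s * n * s⁻¹)⁻¹ * n) * (n : G)⁻¹ by rw [commutatorElement_def]; group]
    exact hRn n.2 h2
  have hVS : V ≤ S := le_inf hV.le_p hVcU
  by_cases hab : ∀ a ∈ S, ∀ b ∈ S, a * b = b * a
  · have hRU : ∀ r ∈ R, r ∈ U := by
      intro r hr
      refine hD _ (hV.mem_p_of_comm (hrn hr) (Subgroup.mem_inf.1 hr).2 fun x hx => ?_) (Subgroup.mem_inf.1 hr).1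
      have hwP : ⁅r, x⁆ ∈ P V := by
        rw [commutatorElement_def]; exact mul_mem (IsTI.conj_mem_p (hrn hr) hx) (inv_mem hx)
      have hwS : ⁅r, x⁆ ∈ S :=
        Subgroup.mem_inf.2 ⟨hwP, (h.norm_part hV (Subgroup.mem_inf.1 hr).1 (hrn hr)).2 x hx⟩
      have hinW : ∀ z ∈ S, z ∈ V ⊔ U := fun z hz => h.mem_sup_of_central hV (Subgroup.mem_inf.1 hz).1
        (Subgroup.mem_inf.1 hz).2 fun s hs hsU => hab z hz s (Subgroup.mem_inf.2 ⟨hs, hsU⟩)
      obtain ⟨v, hv, u, hu, e⟩ := (h.mem_sup hV).1 (hinW _ hwS)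
      have hrv : ∀ v' ∈ V, r * v' = v' * r := fun v' hv' => (mem_centralizer_iff.1 (Subgroup.mem_inf.1 hr).2 v' hv').symm
      by_cases hxU : x ∈ centralizer (U : Set G)
      · obtain ⟨v', hv', u', hu', rfl⟩ := (h.mem_sup hV).1 (hinW x (Subgroup.mem_inf.2 ⟨hx, hxU⟩))
        rw [commutatorElement_eq_one_iff_mul_comm.2 (by
          calc r * (v' * u') = (r * v') * u' := by group
            _ = v' * (r * u') := by rw [hrv v' hv']; group
            _ = v' * u' * r := by rw [← hrU hr u' hu']; group)]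
        exact one_mem _
      · rcases eq_or_ne u 1 with rfl | hu1
        · rw [← e, mul_one]; exact hv
        refine absurd (h.dich hV hu hu1 hx ?_) hxU
        set c := ⁅r, x⁆
        have hc2 : c * c = 1 := by
          rw [← e]
          calc v * u * (v * u) = v * (u * v) * u := by group
            _ = (v * v) * (u * u) := by rw [← h.commute hV v hv u hu]; group
            _ = 1 := by rw [hV.sq v hv, hU.sq u hu, one_mul]
        have h0 : c * (x * c * x⁻¹) = 1 := by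
          have h00 : ⁅r, x * x⁆ = 1 := commutatorElement_eq_one_iff_mul_comm.2 (hrv _ (hV.class_two.2 x hx))
          rw [← h00]; simp only [c, commutatorElement_def]; group
        have h1 : x * c * x⁻¹ = c := by
          rw [eq_inv_of_mul_eq_one_right h0]; exact inv_eq_of_mul_eq_one_left hc2
        have h2 : x * u * x⁻¹ = u := by
          have h3 : x * c * x⁻¹ = v * (x * u * x⁻¹) := by
            rw [← e]
            calc x * (v * u) * x⁻¹ = (x * v * x⁻¹) * (x * u * x⁻¹) := by group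
              _ = _ := by rw [IsTI.comm_p hx hv, mul_inv_cancel_right]
          rw [h1, ← e] at h3
          exact (mul_left_cancel h3).symm
        exact commutatorElement_eq_one_iff_mul_comm.2 (mul_inv_eq_iff_eq_mul.1 h2).symm
    exact ⟨n, n.2, hnM, v0, hv0, hv01, hRU _ (hns v0 (hVS hv0))⟩
  · push Not at hab
    obtain ⟨s1, hs1, s2, hs2, hne⟩ := hab
    set t := ⁅s1, s2⁆
    have htV : t ∈ V := hV.br_mem (Subgroup.mem_inf.1 hs1).1 (Subgroup.mem_inf.1 hs2).1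
    refine ⟨n, n.2, hnM, t, htV, fun e => hne (commutatorElement_eq_one_iff_mul_comm.1 e), ?_⟩
    set r1 := ⁅(n : G), s1⁆
    set r2 := ⁅(n : G), s2⁆
    have hr1 : r1 ∈ R := hns s1 hs1
    have hr2 : r2 ∈ R := hns s2 hs2
    have hrt : ∀ {r}, r ∈ R → r * t * r⁻¹ = t := fun hr => by
      rw [← mem_centralizer_iff.1 (Subgroup.mem_inf.1 hr).2 t htV, mul_inv_cancel_right]
    have hru : ∀ {r c}, r ∈ R → c ∈ U → r * c * r⁻¹ = c := fun hr hc => by
      rw [← hrU hr _ hc, mul_inv_cancel_right]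
    have hc1 : ⁅s1, r2⁆ ∈ U := hsr s1 hs1 r2 hr2
    have hc2 : ⁅r1, r2⁆ ∈ U := hU.br_mem (Subgroup.mem_inf.1 hr1).1 (Subgroup.mem_inf.1 hr2).1
    have hc3 : ⁅r1, s2⁆ ∈ U := by rw [← commutatorElement_inv]; exact inv_mem (hsr s2 hs2 r1 hr1)
    have e : (n : G) * t * (n : G)⁻¹ = ⁅s1, r2⁆ * t * (⁅r1, r2⁆ * ⁅r1, s2⁆) := by
      calc (n : G) * t * (n : G)⁻¹ = ⁅r1 * s1, r2 * s2⁆ := by
            simp only [t, r1, r2, commutatorElement_def]; group
        _ = (r1 * ⁅s1, r2⁆ * r1⁻¹) * (r1 * (r2 * t * r2⁻¹) * r1⁻¹) * (⁅r1, r2⁆ * (r2 * ⁅r1, s2⁆ * r2⁻¹)) := by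
            simp only [t, commutatorElement_def]; group
        _ = _ := by rw [hru hr1 hc1, hrt hr2, hrt hr1, hru hr2 hc3]
    have htc : t * (⁅r1, r2⁆ * ⁅r1, s2⁆) * t⁻¹ = ⁅r1, r2⁆ * ⁅r1, s2⁆ := by
      rw [h.commute hV t htV _ (mul_mem hc2 hc3), mul_inv_cancel_right]
    rw [show ⁅(n : G), t⁆ = (n : G) * t * (n : G)⁻¹ * t⁻¹ by rw [commutatorElement_def], e,
      show ⁅s1, r2⁆ * t * (⁅r1, r2⁆ * ⁅r1, s2⁆) * t⁻¹ = ⁅s1, r2⁆ * (t * (⁅r1, r2⁆ * ⁅r1, s2⁆) * t⁻¹) by group, htc]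
    exact mul_mem hc1 (mul_mem hc2 hc3)

omit [Finite G] in
theorem mem_normalizer_sup {x : G} (hV : x ∈ normalizer (V : Set G)) (hU : x ∈ normalizer (U : Set G)) :
    x ∈ normalizer ((V ⊔ U : Subgroup G) : Set G) := by
  rw [← cj_eq_iff] at hV hU ⊢
  rw [cj, Subgroup.map_sup, ← cj, hV, ← cj, hU]

/-- `U` and `V` play symmetric roles. -/
theorem symm (hV : IsTI V) (h : IsPair V U) : IsPair U V := by
  classical
  have hU := h.tiU hV
  set W := V ⊔ U
  set N := normalizer (W : Set G)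
  have hWc : ∀ v ∈ V, ∀ w ∈ W, v * w = w * v := fun v hv w hw => (IsTI.comm_p (h.sup_le_p hV hw) hv).symm
  suffices hex : ∃ n ∈ N, cj n V = U by
    obtain ⟨n, hn, hnU⟩ := hex
    refine ⟨⟨n⁻¹, by rw [← hnU, cj_cj, inv_mul_cancel, cj_one]⟩, h.ne.symm, ?_⟩
    intro v hv
    have h1 : cj n⁻¹ V ≤ W := by
      intro y hy
      have := cj_eq_iff.2 (inv_mem hn)
      rw [← this]
      exact cj_mono n⁻¹ le_sup_left hy
    have h2 : cj n (P V) = P U := by rw [← p_cj, hnU]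
    have h3 : v ∈ P U := by
      rw [← h2, mem_cj]
      exact h.sup_le_p hV (h1 (by
        rw [mem_cj, inv_inv]
        simpa [mul_assoc] using hv))
    exact (Subgroup.mem_inf.1 h3).1
  by_contra hno
  push Not at hno
  let O := {U' : Subgroup G // ∃ n ∈ N, U' = cj n V}
  have hOW : ∀ o : O, o.1 ≤ W := by
    rintro ⟨_, n, hn, rfl⟩
    exact (cj_mono n le_sup_left).trans (cj_eq_iff.2 hn).le
  have hfixW : ∀ (y : G) (U' : Subgroup G), U' ≤ W → (∀ w ∈ W, y * w = w * y) → cj y U' = U' := by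
    intro y U' hU' hy
    refine cj_eq_iff.2 (centralizer_le_normalizer _ (mem_centralizer_iff.2 fun w hw => (hy w (hU' hw)).symm))
  have hinv : ∀ {y : G}, (∀ w ∈ W, y * y * w = w * (y * y)) → y ∈ N → ∃ f : O → O, (∀ o, (f o).1 = cj y o.1) ∧ ∀ o, f (f o) = o := by
    intro y hy2 hy
    refine ⟨fun o => ⟨cj y o.1, by
      obtain ⟨n, hn, e⟩ := o.2
      exact ⟨y * n, mul_mem hy hn, by rw [e, cj_cj]⟩⟩, fun o => rfl, fun o => Subtype.ext ?_⟩
    show cj y (cj y o.1) = o.1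
    rw [cj_cj]
    exact hfixW _ _ (hOW o) hy2
  obtain ⟨U₂, h2, hne⟩ := h.exists_partner hV
  obtain ⟨x, hx, hx1⟩ := h2.exists_ne
  obtain ⟨u0, hu0, hu01⟩ := h.exists_ne
  have hxP := h2.le_p hV hx
  have hxU : x ∉ centralizer (U : Set G) := fun hc => hne u0 hu0 hu01 x hx hx1
    (commutatorElement_eq_one_iff_mul_comm.2 (mem_centralizer_iff.1 hc u0 hu0).symm)
  obtain ⟨fx, hfx, hfx2⟩ := hinv (fun w hw => hWc _ (hV.class_two.2 x hxP) w hw) (h.p_le_norm_sup hV hxP)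
  have ex : Nat.card {o // fx o = o} = 1 := by
    rw [Nat.card_eq_one_iff_exists]
    refine ⟨⟨⟨V, 1, one_mem _, (cj_one V).symm⟩, Subtype.ext ?_⟩, ?_⟩
    · rw [hfx]; exact cj_eq_iff.2 (IsTI.p_le_norm hxP)
    rintro ⟨⟨U', hU'⟩, hf⟩
    refine Subtype.ext (Subtype.ext ?_)
    by_contra hne'
    have hfix : cj x U' = U' := (hfx ⟨U', hU'⟩).symm.trans (congrArg Subtype.val hf)
    obtain ⟨n, hn, rfl⟩ := hU'
    obtain ⟨y, hy, e⟩ := h.points hV (hOW ⟨_, n, hn, rfl⟩) hne'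
    rw [e, cj_cj] at hfix
    have hzN : y⁻¹ * x * y ∈ normalizer (U : Set G) := by
      rw [← cj_eq_iff, mul_assoc, ← cj_cj, hfix, cj_cj, inv_mul_cancel, cj_one]
    have hzP : y⁻¹ * x * y ∈ P V := mul_mem (mul_mem (inv_mem hy) hxP) hy
    have h0 : ⁅u0, y⁻¹ * x * y⁆ = 1 := h.disj hV (hV.br_mem (h.le_p hV hu0) hzP) (by
      rw [commutatorElement_def, mul_assoc, mul_assoc, ← mul_assoc (y⁻¹ * x * y)]
      exact mul_mem hu0 (IsTI.conj_mem_v hzN (inv_mem hu0)))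
    have hzc := h.dich hV hu0 hu01 hzP h0
    refine hxU (h.dich hV hu0 hu01 hxP ?_)
    rw [show y⁻¹ * x * y = ⁅y⁻¹, x⁆ * x by rw [commutatorElement_def]; group,
      hV.br_mul_right (h.le_p hV hu0) (hV.le_p (hV.br_mem (inv_mem hy) hxP)) hxP,
      hV.br_v (h.le_p hV hu0) (hV.br_mem (inv_mem hy) hxP), one_mul] at h0
    exact h0
  obtain ⟨b, hb, hbM, t, ht, ht1, hbt⟩ := h.exists_mover hV
  have hbbU : b * b ∈ U := hU.class_two.2 b hb
  have hbW : b ∈ N := by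
    have hw : b * t * b⁻¹ = ⁅b, t⁆ * t := by rw [commutatorElement_def]; group
    have hwW : b * t * b⁻¹ ∈ W := by rw [hw]; exact mul_mem (mem_sup_right hbt) (mem_sup_left ht)
    have hbV : cj b V ≤ W := by
      obtain ⟨v, hv, u, hu, e⟩ := (h.mem_sup hV).1 hwW
      have hu1 : u ≠ 1 := by
        rintro rfl
        rw [mul_one] at e
        exact hbM (hV.ti_mem ht ht1 (e ▸ hv))
      obtain ⟨y, hy, hyu⟩ := h.span hV hu hu1 hv
      obtain ⟨g, hg⟩ := h.conj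
      have e2 : cj b V = cj (y * g) V := hV.eq_cj_of_mem (fun e0 => ht1 (conj_eq_one_iff.1 e0)) (conj_mem_cj ht) (by
        rw [← cj_cj, ← hg, ← e, ← hyu]; exact conj_mem_cj hu)
      rw [e2, ← cj_cj, ← hg]
      exact (cj_mono y le_sup_right).trans (cj_eq_iff.2 (h.p_le_norm_sup hV hy)).le
    refine mem_normalizer_of_cj_le ?_
    rw [cj, Subgroup.map_sup, ← cj]
    refine sup_le hbV ?_
    rw [← cj, cj_eq_iff.2 (centralizer_le_normalizer _ (Subgroup.mem_inf.1 hb).2)]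
    exact le_sup_right
  obtain ⟨fb, hfb, hfb2⟩ := hinv (fun w hw => by
    obtain ⟨v, hv, u, hu, rfl⟩ := (h.mem_sup hV).1 hw
    calc b * b * (v * u) = b * b * v * u := by group
      _ = v * (b * b * u) := by rw [← h.commute hV v hv _ hbbU]; group
      _ = _ := by rw [hU.comm _ hbbU u hu]; group) hbW
  have eb : Nat.card {o // fb o = o} = 0 := by
    refine Nat.card_eq_zero.2 (Or.inl ⟨?_⟩)
    rintro ⟨⟨U', n, hn, hU'⟩, hf⟩
    have hfix : cj b U' = U' := (hfb ⟨U', n, hn, hU'⟩).symm.trans (congrArg Subtype.val hf)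
    have hne' : U' ≠ U := fun e => hno n hn (hU'.symm.trans e)
    have hW' : U' ≤ W := hOW ⟨U', n, hn, hU'⟩
    obtain ⟨⟨v0, hv0⟩, hv01'⟩ := Subgroup.ne_bot_iff_exists_ne_one.1 h.ne_bot
    set w := n * v0 * n⁻¹
    have hw : w ∈ U' := hU' ▸ conj_mem_cj hv0
    have hw1 : w ≠ 1 := fun e => hv01' (Subtype.ext (conj_eq_one_iff.1 e))
    have hdisjU : ∀ y ∈ U', y ∈ U → y = 1 := by
      intro y hy hyU
      by_contra hy1
      obtain ⟨g, hg⟩ := h.conj
      exact hne' (hU'.trans ((hV.eq_cj_of_mem hy1 (hU' ▸ hy) (hg ▸ hyU)).trans hg.symm))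
    obtain ⟨v, hv, u, hu, e⟩ := (h.mem_sup hV).1 (hW' hw)
    have hv1 : v ≠ 1 := by rintro rfl; rw [one_mul] at e; exact hw1 (hdisjU w hw (e ▸ hu))
    have hbv : b * v * b⁻¹ ∈ W := (cj_eq_iff.2 hbW).le (conj_mem_cj (mem_sup_left hv))
    set c := ⁅b, v⁆
    have hcW : c ∈ W := by
      rw [show c = b * v * b⁻¹ * v⁻¹ from commutatorElement_def b v]
      exact mul_mem hbv (inv_mem (mem_sup_left hv))
    have hc2 : c * c = 1 := by
      obtain ⟨v', hv', u', hu', e'⟩ := (h.mem_sup hV).1 hcW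
      rw [← e']
      calc v' * u' * (v' * u') = v' * (u' * v') * u' := by group
        _ = (v' * v') * (u' * u') := by rw [← h.commute hV v' hv' u' hu']; group
        _ = 1 := by rw [hV.sq v' hv', hU.sq u' hu', one_mul]
    have hbc : b * c * b⁻¹ = c := by
      have h0 : b * c * b⁻¹ * c = 1 := by
        have h00 : ⁅b * b, v⁆ = 1 := commutatorElement_eq_one_iff_mul_comm.2 (h.commute hV v hv _ hbbU).symm
        rw [← h00]; simp only [c, commutatorElement_def]; group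
      rw [eq_inv_of_mul_eq_one_left h0]; exact inv_eq_of_mul_eq_one_left hc2
    obtain ⟨v', hv', u', hu', e'⟩ := (h.mem_sup hV).1 hcW
    have hv'1 : v' = 1 := by
      by_contra hv'1
      refine hbM (hV.cent_mem hv' hv'1 ?_)
      have hbu : b * u' * b⁻¹ = u' := by rw [IsTI.comm_p hb hu', mul_inv_cancel_right]
      rw [← e', show b * (v' * u') * b⁻¹ = (b * v' * b⁻¹) * (b * u' * b⁻¹) by group, hbu] at hbc
      exact mul_inv_eq_iff_eq_mul.1 (mul_right_cancel hbc)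
    have hcU : c ∈ U := by rw [← e', hv'1, one_mul]; exact hu'
    have hbw : b * w * b⁻¹ = c * w := by
      rw [← e]
      calc b * (v * u) * b⁻¹ = (b * v * b⁻¹) * (b * u * b⁻¹) := by group
        _ = c * (v * u) := by rw [IsTI.comm_p hb hu, mul_inv_cancel_right]; simp only [c, commutatorElement_def]; group
    have hcU' : c ∈ U' := by
      rw [show c = b * w * b⁻¹ * w⁻¹ by rw [hbw, mul_inv_cancel_right]]
      exact mul_mem (hfix.le (conj_mem_cj hw)) (inv_mem hw)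
    exact hbM (hV.cent_mem hv hv1 (commutatorElement_eq_one_iff_mul_comm.1 (hdisjU c hcU' hcU)))
  have h1 := parity fx hfx2
  have h2' := parity fb hfb2
  rw [ex] at h1
  rw [eb] at h2'
  exact absurd (h1.symm.trans h2') (by decide)

theorem le_p' (hV : IsTI V) (h : IsPair V U) : V ≤ P U := (h.symm hV).le_p (h.tiU hV)

/-- `V` is the centre of its `2`-core. -/
theorem q_eq (hV : IsTI V) (h : IsPair V U) : Q V = P V := by
  have hU := h.tiU hV
  have hs := h.symm hV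
  refine le_antisymm (le_inf le_rfl ?_) inf_le_left
  -- all involutions of `V` are conjugate in the normalizer
  obtain ⟨u, hu, hu1⟩ := h.exists_ne
  have htrans : ∀ v ∈ V, v ≠ 1 → ∃ g : G, g * u * g⁻¹ = v := by
    intro v hv hv1
    obtain ⟨x, hx, e1⟩ := h.span hV hu hu1 hv
    obtain ⟨y, hy, e2⟩ := hs.span hU hv hv1 hu
    refine ⟨y⁻¹ * x, ?_⟩
    calc y⁻¹ * x * u * (y⁻¹ * x)⁻¹ = y⁻¹ * (x * u * x⁻¹) * y := by group
      _ = y⁻¹ * (y * v * y⁻¹) * y := by rw [e1, e2, h.commute hV v hv u hu]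
      _ = v := by group
  have hQp : IsPGroup 2 (Q V) := isPGroup_pCoreOf _
  haveI : Nontrivial ↥(Q V) :=
    ⟨⟨u, h.le hu⟩, 1, fun e => hu1 (congrArg Subtype.val e)⟩
  haveI := hQp.center_nontrivial
  obtain ⟨⟨z, hz⟩, hz1⟩ := _root_.exists_ne (1 : center ↥(Q V))
  have hzc : ∀ y ∈ Q V, (z : G) * y = y * z := fun y hy =>
    congrArg Subtype.val (mem_center_iff.1 hz ⟨y, hy⟩).symm
  have hzP : (z : G) ∈ P V := Subgroup.mem_inf.2 ⟨z.2, mem_centralizer_iff.2 fun v hv => (hzc v (hV.le_q hv)).symm⟩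
  have hzV : (z : G) ∈ V := hV.mem_of_central hzP fun y hy => hzc y (Subgroup.mem_inf.1 hy).1
  have hz1' : (z : G) ≠ 1 := fun e => hz1 (Subtype.ext (Subtype.ext e))
  obtain ⟨gz, hgz⟩ := htrans z hzV hz1'
  intro y hy
  refine mem_centralizer_iff.2 fun v hv => ?_
  rcases eq_or_ne v 1 with rfl | hv1
  · simp
  obtain ⟨g, hg⟩ := htrans v hv hv1
  set m := g * gz⁻¹
  have hm : m * z * m⁻¹ = v := by rw [← hgz, ← hg]; simp only [m]; group
  have hmM := hV.ti_mem hzV hz1' (hm ▸ hv)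
  have hy' : m⁻¹ * y * m ∈ Q V := by simpa using IsTI.conj_mem_q (inv_mem hmM) hy
  calc v * y = m * ((z : G) * (m⁻¹ * y * m)) * m⁻¹ := by rw [← hm]; group
    _ = y * v := by rw [hzc _ hy', ← hm]; group

/-- Inversion of `⁅·, z⁆`. -/
theorem exists_inverse (hV : IsTI V) (h : IsPair V U) {z : G} (hz : z ∈ P V) (hzU : z ∉ centralizer (U : Set G)) :
    ∃ y ∈ P U, ∀ u ∈ U, ⁅⁅u, z⁆, y⁆ = u := by
  have hU := h.tiU hV
  have hs := h.symm hV
  obtain ⟨g, hg⟩ := h.conj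
  obtain ⟨g', hg'⟩ := hs.conj
  obtain ⟨u0, hu0, hu01⟩ := h.exists_ne
  have hne : cj z U ≠ U := by
    intro e
    refine hzU (h.dich hV hu0 hu01 hz (h.disj hV (hV.br_mem (h.le_p hV hu0) hz) ?_))
    rw [commutatorElement_def, mul_assoc, mul_assoc, ← mul_assoc z]
    exact mul_mem hu0 (IsTI.conj_mem_v (cj_eq_iff.1 e) (inv_mem hu0))
  have hW : cj z U ≤ U ⊔ V := by
    rw [sup_comm]
    exact (cj_mono z le_sup_right).trans (cj_eq_iff.2 (h.p_le_norm_sup hV hz)).le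
  obtain ⟨y, hy, e⟩ := hs.points hU (a := z) hW hne
  refine ⟨y, hy, fun u hu => ?_⟩
  set c := ⁅u, z⁆
  have hc : c ∈ V := hV.br_mem (h.le_p hV hu) hz
  have h1 : c * u ∈ cj z U := by
    rw [show c = ⁅z, u⁆ from hV.br_symm (h.le_p hV hu) hz,
      show ⁅z, u⁆ * u = z * u * z⁻¹ by rw [commutatorElement_def]; group]
    exact conj_mem_cj hu
  have h2 : y * c * y⁻¹ ∈ cj z U := by rw [e]; exact conj_mem_cj hc
  have h3 : ⁅c, y⁆ ∈ U := hU.br_mem (hs.le_p hU hc) hy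
  have h4 : y * c * y⁻¹ * (c * u) = ⁅c, y⁆ * u := by
    rw [show y * c * y⁻¹ = ⁅y, c⁆ * c by rw [commutatorElement_def]; group, hU.br_symm hy (hs.le_p hU hc),
      mul_assoc, ← mul_assoc c, hV.sq c hc, one_mul]
  have h5 : ⁅c, y⁆ * u = 1 := by
    have hmem := mul_mem h2 h1
    rw [h4] at hmem
    by_contra hne1
    refine hne ?_
    obtain ⟨g, hg⟩ := h.conj
    rw [hg, cj_cj] at hmem ⊢
    exact hV.eq_cj_of_mem hne1 hmem (hg ▸ mul_mem h3 hu)
  rw [eq_inv_of_mul_eq_one_left h5, hU.inv_eq hu]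

/-- The maps `u ↦ ⁅u, x⁆` are closed under `(a, c) ↦ a c⁻¹ a`. -/
theorem inverse_closed (hV : IsTI V) (h : IsPair V U) {a c : G} (ha : a ∈ P V) (hc : c ∈ P V)
    (hcU : c ∉ centralizer (U : Set G)) :
    ∃ w ∈ P V, ∀ u ∈ U, ∀ u₁ ∈ U, ⁅u₁, c⁆ = ⁅u, a⁆ → ⁅u, w⁆ = ⁅u₁, a⁆ := by
  have hU := h.tiU hV
  have hs := h.symm hV
  by_cases haU : a ∈ centralizer (U : Set G)
  · refine ⟨1, one_mem _, fun u _ u₁ hu₁ _ => ?_⟩
    rw [commutatorElement_one_right, commutatorElement_eq_one_iff_mul_comm.2 (mem_centralizer_iff.1 haU u₁ hu₁)]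
  have hac : a * c ∈ P V := mul_mem ha hc
  by_cases hacU : a * c ∈ centralizer (U : Set G)
  · refine ⟨a, ha, fun u hu u₁ hu₁ he => ?_⟩
    have h0 : ∀ y ∈ U, ⁅y, a⁆ = ⁅y, c⁆ := fun y hy => by
      have := hV.br_mul_right (h.le_p hV hy) ha hc
      rw [commutatorElement_eq_one_iff_mul_comm.2 (mem_centralizer_iff.1 hacU y hy)] at this
      rw [eq_inv_of_mul_eq_one_left this.symm, hV.inv_eq (hV.br_mem (h.le_p hV hy) hc)]
    rw [h0 u₁ hu₁, he]
  obtain ⟨y1, hy1, e1⟩ := h.exists_inverse hV ha haU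
  obtain ⟨y2, hy2, e2⟩ := h.exists_inverse hV hac hacU
  have hg : ∀ v ∈ V, ⁅v, y1 * y2⁆ = ⁅v, y1⁆ * ⁅v, y2⁆ := fun v hv => hU.br_mul_right (hs.le_p hU hv) hy1 hy2
  have hy12 : y1 * y2 ∉ centralizer (V : Set G) := by
    intro hy
    obtain ⟨u0, hu0, hu01⟩ := h.exists_ne
    have hv := hV.br_mem (h.le_p hV hu0) ha
    have h0 : ⁅⁅u0, a⁆, y1⁆ * ⁅⁅u0, a⁆, y2⁆ = 1 := by
      rw [← hg _ hv]; exact commutatorElement_eq_one_iff_mul_comm.2 (mem_centralizer_iff.1 hy _ hv)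
    rw [e1 u0 hu0] at h0
    have h1 : ⁅⁅u0, a⁆, y2⁆ = u0 := by rw [eq_inv_of_mul_eq_one_right h0, hU.inv_eq hu0]
    have h2 := e2 u0 hu0
    rw [hV.br_mul_right (h.le_p hV hu0) ha hc,
      hU.br_mul_left (hs.le_p hU hv) (hs.le_p hU (hV.br_mem (h.le_p hV hu0) hc)) hy2, h1] at h2
    have h3 : ⁅⁅u0, c⁆, y2⁆ = 1 := mul_eq_left.1 h2
    refine hcU (h.dich hV hu0 hu01 hc ?_)
    by_contra hne
    have hy2c := hs.dich hU (hV.br_mem (h.le_p hV hu0) hc) hne hy2 h3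
    rw [commutatorElement_eq_one_iff_mul_comm.2 (mem_centralizer_iff.1 hy2c _ hv)] at h1
    exact hu01 h1.symm
  obtain ⟨z, hz, ez⟩ := hs.exists_inverse hU (mul_mem hy1 hy2) hy12
  refine ⟨z * a, mul_mem hz ha, fun u hu u₁ hu₁ he => ?_⟩
  have hu₁a := hV.br_mem (h.le_p hV hu₁) ha
  have hua := hV.br_mem (h.le_p hV hu) ha
  have huu : u₁ * u ∈ U := mul_mem hu₁ hu
  have hv : ⁅u₁ * u, a⁆ = ⁅u₁, a⁆ * ⁅u, a⁆ := hV.br_mul_left (h.le_p hV hu₁) (h.le_p hV hu) ha
  have hgv : ⁅⁅u₁ * u, a⁆, y1 * y2⁆ = u := by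
    rw [hg _ (hV.br_mem (h.le_p hV huu) ha), e1 _ huu]
    have : ⁅u₁ * u, a⁆ = ⁅u₁, a * c⁆ := by
      rw [hV.br_mul_left (h.le_p hV hu₁) (h.le_p hV hu) ha, hV.br_mul_right (h.le_p hV hu₁) ha hc, he]
    rw [this, e2 u₁ hu₁, hU.comm u₁ hu₁ u hu, mul_assoc, hU.sq u₁ hu₁, mul_one]
  have hz' := ez _ (hV.br_mem (h.le_p hV huu) ha)
  rw [hgv] at hz'
  rw [hV.br_mul_right (h.le_p hV hu) hz ha, hz', hv, mul_assoc, hV.sq _ hua, mul_one]

end IsPair

end CfsgLib.Techniques.TITwoPair
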