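import Cfsg.Agent.Lib.Techniques.TITwoPair
import Cfsg.Agent.Lib.Techniques.AlternativeSemifield
import Cfsg.Agent.Lib.ThreeTrans.RankOneSL2
import Mathlib.FieldTheory.Finite.GaloisField

/-!
The group induced on `V V'` for a TI pair is `SL₂` over a field with `|V|` elements.
-/

set_option autoImplicit false

namespace CfsgLib.Techniques.TITwoPair

open Subgroup Matrix CfsgLib.ThreeTrans.RankOneSL2
open scoped commutatorElement

variable {G : Type*} [Group G] [Finite G] {V U : Subgroup G}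

/-- A subgroup of exponent two written additively. -/
abbrev Add2 (V : Subgroup G) := Additive ↥V

theorem IsPair.exists_coordinates (hV : IsTI V) (h : IsPair V U) :
    ∃ (K : Type) (_ : Field K) (_ : Fintype K), Fintype.card K = Nat.card V ∧ ∃ α θ : K → G,
      (∀ p q, α (p + q) = α p * α q) ∧ (∀ p q, θ (p + q) = θ p * θ q) ∧
      (∀ p, α p ∈ V) ∧ (∀ v ∈ V, ∃ p, α p = v) ∧ (∀ p, θ p ∈ U) ∧ (∀ u ∈ U, ∃ p, θ p = u) ∧
      Function.Injective α ∧ Function.Injective θ ∧
      (∀ x ∈ P V, ∃ c, ∀ q, ⁅θ q, x⁆ = α (q * c)) ∧ ∀ c, ∃ x ∈ P V, ∀ q, ⁅θ q, x⁆ = α (q * c) := by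
  classical
  have hU := h.tiU hV
  obtain ⟨U₂, h2, hne⟩ := h.exists_partner hV
  obtain ⟨e₁, he₁, he₁1⟩ := h.exists_ne
  obtain ⟨e₂, he₂, he₂1⟩ := h2.exists_ne
  have hU2 := h2.tiU hV
  have he₁P := h.le_p hV he₁
  have he₂P := h2.le_p hV he₂
  have he₂U : e₂ ∉ centralizer (U : Set G) := fun hc => hne e₁ he₁ he₁1 e₂ he₂ he₂1
    (commutatorElement_eq_one_iff_mul_comm.2 (mem_centralizer_iff.1 hc e₁ he₁).symm)
  have he₁U₂ : e₁ ∉ centralizer (U₂ : Set G) := fun hc => hne e₁ he₁ he₁1 e₂ he₂ he₂1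
    (commutatorElement_eq_one_iff_mul_comm.2 (mem_centralizer_iff.1 hc e₂ he₂))
  let lamH : U →* V := MonoidHom.mk' (fun u => ⟨⁅(u : G), e₂⁆, hV.br_mem (h.le_p hV u.2) he₂P⟩)
    fun a b => Subtype.ext (hV.br_mul_left (h.le_p hV a.2) (h.le_p hV b.2) he₂P)
  let rhoH : U₂ →* V := MonoidHom.mk' (fun u => ⟨⁅e₁, (u : G)⁆, hV.br_mem he₁P (h2.le_p hV u.2)⟩)
    fun a b => Subtype.ext (hV.br_mul_right he₁P (h2.le_p hV a.2) (h2.le_p hV b.2))
  have hlamS : Function.Surjective lamH := fun v => by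
    obtain ⟨u, hu, e⟩ := h.surj hV he₂P he₂U v v.2
    exact ⟨⟨u, hu⟩, Subtype.ext e⟩
  have hrhoS : Function.Surjective rhoH := fun v => by
    obtain ⟨u, hu, e⟩ := h2.surj hV he₁P he₁U₂ v v.2
    exact ⟨⟨u, hu⟩, Subtype.ext ((hV.br_symm he₁P (h2.le_p hV hu)).trans e)⟩
  let lam : U ≃* V := MulEquiv.ofBijective lamH
    ((Nat.bijective_iff_surjective_and_card _).2 ⟨hlamS, h.card_eq⟩)
  let rho : U₂ ≃* V := MulEquiv.ofBijective rhoH
    ((Nat.bijective_iff_surjective_and_card _).2 ⟨hrhoS, h2.card_eq⟩)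
  have hlam : ∀ v : V, ⁅((lam.symm v : U) : G), e₂⁆ = v := fun v => congrArg Subtype.val (lam.apply_symm_apply v)
  have hrho : ∀ v : V, ⁅e₁, ((rho.symm v : U₂) : G)⁆ = v := fun v => congrArg Subtype.val (rho.apply_symm_apply v)
  letI : CommGroup V := { (inferInstance : Group V) with mul_comm := fun a b => Subtype.ext (hV.comm _ a.2 _ b.2) }
  let B : V → V → V := fun a b => ⟨⁅((lam.symm a : U) : G), ((rho.symm b : U₂) : G)⁆,
    hV.br_mem (h.le_p hV (lam.symm a).2) (h2.le_p hV (rho.symm b).2)⟩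
  have hBl : ∀ a a' b, B (a * a') b = B a b * B a' b := fun a a' b => Subtype.ext (by
    show ⁅((lam.symm (a * a') : U) : G), _⁆ = _
    rw [map_mul, Subgroup.coe_mul, hV.br_mul_left (h.le_p hV (lam.symm a).2) (h.le_p hV (lam.symm a').2)
      (h2.le_p hV (rho.symm b).2)]
    rfl)
  have hBr : ∀ a b b', B a (b * b') = B a b * B a b' := fun a b b' => Subtype.ext (by
    show ⁅_, ((rho.symm (b * b') : U₂) : G)⁆ = _
    rw [map_mul, Subgroup.coe_mul, hV.br_mul_right (h.le_p hV (lam.symm a).2) (h2.le_p hV (rho.symm b).2)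
      (h2.le_p hV (rho.symm b').2)]
    rfl)
  let mul : Additive V →+ AddMonoid.End (Additive V) := AddMonoidHom.mk'
    (fun a => AddMonoidHom.mk' (fun b => Additive.ofMul (B a.toMul b.toMul)) fun b b' => by
      exact congrArg Additive.ofMul (hBr a.toMul b.toMul b'.toMul))
    fun a a' => AddMonoidHom.ext fun b => congrArg Additive.ofMul (hBl a.toMul a'.toMul b.toMul)
  have hmul : ∀ a b, ((mul a b).toMul : G) = ⁅((lam.symm a.toMul : U) : G), ((rho.symm b.toMul : U₂) : G)⁆ :=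
    fun _ _ => rfl
  let one : V := ⟨⁅e₁, e₂⁆, hV.br_mem he₁P he₂P⟩
  have hlam1 : lam.symm one = ⟨e₁, he₁⟩ := lam.injective (by rw [lam.apply_symm_apply]; exact Subtype.ext rfl)
  have hrho1 : rho.symm one = ⟨e₂, he₂⟩ := rho.injective (by rw [rho.apply_symm_apply]; exact Subtype.ext rfl)
  have hext : ∀ {a b : Additive V}, (a.toMul : G) = b.toMul → a = b := fun e =>
    Additive.toMul.injective (Subtype.ext e)
  have h0 : ∀ a : Additive V, a ≠ 0 → lam.symm a.toMul ≠ 1 := fun a ha e => ha (Additive.toMul.injective (by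
    show a.toMul = 1
    exact lam.symm.map_eq_one_iff.1 e))
  have h0' : ∀ a : Additive V, a ≠ 0 → rho.symm a.toMul ≠ 1 := fun a ha e => ha (Additive.toMul.injective (by
    show a.toMul = 1
    exact rho.symm.map_eq_one_iff.1 e))
  have hmod : ∀ x ∈ P V, ∀ u₂ ∈ U₂, ⁅e₁, x⁆ = ⁅e₁, u₂⁆ → ∀ u ∈ U, ⁅u, x⁆ = ⁅u, u₂⁆ := by
    intro x hx u₂ hu₂ he u hu
    have hu₂P := h2.le_p hV hu₂
    have hc := h.dich hV he₁ he₁1 (mul_mem hx hu₂P) (by
      rw [hV.br_mul_right he₁P hx hu₂P, he]; exact hV.sq _ (hV.br_mem he₁P hu₂P))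
    have := hV.br_mul_right (h.le_p hV hu) hx hu₂P
    rw [commutatorElement_eq_one_iff_mul_comm.2 (mem_centralizer_iff.1 hc u hu)] at this
    rw [eq_inv_of_mul_eq_one_left this.symm, hV.inv_eq (hV.br_mem (h.le_p hV hu) hu₂P)]
  have hmod2 : ∀ x ∈ P V, ∀ u ∈ U, ⁅x, e₂⁆ = ⁅u, e₂⁆ → ∀ u₂ ∈ U₂, ⁅u₂, x⁆ = ⁅u₂, u⁆ := by
    intro x hx u hu he u₂ hu₂
    have huP := h.le_p hV hu
    have hc := h2.dich hV he₂ he₂1 (mul_mem hx huP) (by
      rw [hV.br_mul_right he₂P hx huP, hV.br_symm he₂P hx, hV.br_symm he₂P huP, he]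
      exact hV.sq _ (hV.br_mem huP he₂P))
    have := hV.br_mul_right (h2.le_p hV hu₂) hx huP
    rw [commutatorElement_eq_one_iff_mul_comm.2 (mem_centralizer_iff.1 hc u₂ hu₂)] at this
    rw [eq_inv_of_mul_eq_one_left this.symm, hV.inv_eq (hV.br_mem (h2.le_p hV hu₂) huP)]
  have hIC : AlternativeSemifield.IsInverseClosed mul (Additive.ofMul one) :=
    { self_add := fun v => hext (hV.sq _ v.toMul.2)
      one_mul := fun x => hext (by rw [hmul, toMul_ofMul, hlam1]; exact hrho _)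
      mul_one := fun x => hext (by rw [hmul, toMul_ofMul, hrho1]; exact hlam _)
      ne := fun e => hne e₁ he₁ he₁1 e₂ he₂ he₂1 (by
        rw [hV.br_symm he₂P he₁P]
        exact congrArg (fun a : Additive V => (a.toMul : G)) e)
      inj := fun a b ha hab => by
        by_contra hb
        exact hne _ (lam.symm a.toMul).2 (fun e => h0 a ha (Subtype.ext e)) _ (rho.symm b.toMul).2
          (fun e => h0' b hb (Subtype.ext e)) (by
            rw [hV.br_symm (h2.le_p hV (rho.symm b.toMul).2) (h.le_p hV (lam.symm a.toMul).2), ← hmul, hab]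
            rfl)
      left := fun a c hc => by
        set a' := lam.symm a.toMul
        set c' := lam.symm c.toMul
        have hcU : (c' : G) ∉ centralizer (U₂ : Set G) := fun hh => hne c' c'.2
          (fun e => h0 c hc (Subtype.ext e)) e₂ he₂ he₂1 (commutatorElement_eq_one_iff_mul_comm.2
            (mem_centralizer_iff.1 hh e₂ he₂))
        obtain ⟨x, hx, he⟩ := h2.inverse_closed hV (h.le_p hV a'.2) (h.le_p hV c'.2) hcU
        refine ⟨Additive.ofMul ⟨⁅x, e₂⁆, hV.br_mem hx he₂P⟩, fun u v huv => hext ?_⟩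
        have hu' := (rho.symm u.toMul).2
        have hv' := (rho.symm v.toMul).2
        have h1 := congrArg (fun a : Additive V => (a.toMul : G)) huv
        simp only [hmul] at h1
        rw [hmul, hmul, toMul_ofMul, hV.br_symm (h.le_p hV (lam.symm _).2) (h2.le_p hV hu'),
          ← hmod2 x hx _ (lam.symm _).2 (hlam ⟨⁅x, e₂⁆, hV.br_mem hx he₂P⟩).symm _ hu', hV.br_symm (h.le_p hV a'.2) (h2.le_p hV hv')]
        refine he _ hu' _ hv' ?_
        rw [hV.br_symm (h2.le_p hV hv') (h.le_p hV c'.2), hV.br_symm (h2.le_p hV hu') (h.le_p hV a'.2)]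
        exact h1
      right := fun a c hc => by
        set a' := rho.symm a.toMul
        set c' := rho.symm c.toMul
        have hcU : (c' : G) ∉ centralizer (U : Set G) := fun hh => hne e₁ he₁ he₁1 c' c'.2
          (fun e => h0' c hc (Subtype.ext e)) (commutatorElement_eq_one_iff_mul_comm.2
            (mem_centralizer_iff.1 hh e₁ he₁).symm)
        obtain ⟨x, hx, he⟩ := h.inverse_closed hV (h2.le_p hV a'.2) (h2.le_p hV c'.2) hcU
        refine ⟨Additive.ofMul ⟨⁅e₁, x⁆, hV.br_mem he₁P hx⟩, fun u v huv => hext ?_⟩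
        have hu' := (lam.symm u.toMul).2
        have hv' := (lam.symm v.toMul).2
        rw [hmul, hmul, toMul_ofMul, ← hmod x hx _ (rho.symm _).2 (hrho ⟨⁅e₁, x⁆, hV.br_mem he₁P hx⟩).symm _ hu']
        exact he _ hu' _ hv' (congrArg (fun a : Additive V => (a.toMul : G)) huv) }
  obtain ⟨hcomm, hassoc⟩ := hIC.main
  letI : CommRing (Additive V) :=
    { (inferInstance : AddCommGroup (Additive V)) with
      mul := fun a b => mul a b
      one := Additive.ofMul one
      mul_assoc := hassoc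
      one_mul := hIC.one_mul
      mul_one := hIC.mul_one
      mul_comm := hcomm
      left_distrib := fun a b c => map_add (mul a) b c
      right_distrib := fun a b c => DFunLike.congr_fun (map_add mul a b) c
      zero_mul := fun a => DFunLike.congr_fun (map_zero mul) a
      mul_zero := fun a => map_zero (mul a) }
  have hRmul : ∀ a b : Additive V, a * b = mul a b := fun _ _ => rfl
  haveI : Nontrivial (Additive V) := ⟨0, 1, fun e => hIC.ne e.symm⟩
  haveI : NoZeroDivisors (Additive V) := ⟨fun {a b} e => or_iff_not_imp_left.2 fun ha => hIC.inj a b ha e⟩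
  haveI : IsDomain (Additive V) := NoZeroDivisors.to_isDomain _
  letI : Fintype (Additive V) := Fintype.ofFinite _
  letI : Field (Additive V) := (Finite.isField_of_domain (Additive V)).toField
  haveI : Fact (Nat.Prime 2) := ⟨Nat.prime_two⟩
  haveI : CharP (Additive V) 2 := CharTwo.of_one_ne_zero_of_two_eq_zero one_ne_zero (by
    rw [← one_add_one_eq_two]; exact hIC.self_add _)
  obtain ⟨n, -, hn⟩ := FiniteField.card (Additive V) 2
  let K := GaloisField 2 n
  letI : Fintype K := Fintype.ofFinite K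
  have hK : Fintype.card K = Fintype.card (Additive V) := by
    rw [← Nat.card_eq_fintype_card, GaloisField.card 2 n n.ne_zero, hn]
  let ψ : K ≃+* Additive V := FiniteField.ringEquivOfCardEq hK
  let α : K → G := fun p => ((ψ p).toMul : G)
  let θ : K → G := fun p => ((lam.symm (ψ p).toMul : U) : G)
  refine ⟨K, inferInstance, inferInstance, hK.trans (Nat.card_eq_fintype_card.symm.trans
    (Nat.card_congr Additive.toMul)), α, θ, fun p q => by simp [α], fun p q => by simp [θ], fun p => (ψ p).toMul.2,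
    fun v hv => ⟨ψ.symm (Additive.ofMul ⟨v, hv⟩), by simp [α]⟩, fun p => (lam.symm _).2,
    fun u hu => ⟨ψ.symm (Additive.ofMul (lam ⟨u, hu⟩)), by simp [θ]⟩,
    fun p q e => ψ.injective (hext e), fun p q e => ψ.injective (Additive.toMul.injective
      (lam.symm.injective (Subtype.ext e))), ?_, ?_⟩
  · intro x hx
    refine ⟨ψ.symm (Additive.ofMul ⟨⁅e₁, x⁆, hV.br_mem he₁P hx⟩), fun q => ?_⟩
    simp only [α, θ, map_mul, RingEquiv.apply_symm_apply, hRmul, hmul, toMul_ofMul]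
    exact hmod x hx _ (rho.symm _).2 (hrho ⟨⁅e₁, x⁆, hV.br_mem he₁P hx⟩).symm _ (lam.symm _).2
  · intro c
    refine ⟨_, h2.le_p hV (rho.symm (ψ c).toMul).2, fun q => ?_⟩
    simp only [α, θ, map_mul, hRmul, hmul]

/-- The group generated by `P V` and `P U` acts on `V U` as `SL₂`. -/
theorem IsPair.exists_sl2 (hV : IsTI V) (h : IsPair V U) :
    P V ⊔ P U ≤ normalizer ((V ⊔ U : Subgroup G) : Set G) ∧
    ∃ (K : Type) (_ : Field K) (_ : Fintype K), Fintype.card K = Nat.card V ∧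
      ∀ hN : ((centralizer ((V ⊔ U : Subgroup G) : Set G)).subgroupOf (P V ⊔ P U)).Normal,
        Nonempty (↥(P V ⊔ P U) ⧸ (centralizer ((V ⊔ U : Subgroup G) : Set G)).subgroupOf (P V ⊔ P U) ≃*
          SpecialLinearGroup (Fin 2) K) := by
  classical
  have hU := h.tiU hV
  have hs := h.symm hV
  have hle : P V ⊔ P U ≤ normalizer ((V ⊔ U : Subgroup G) : Set G) :=
    sup_le (h.p_le_norm_sup hV) (by rw [sup_comm V U]; exact hs.p_le_norm_sup hU)
  refine ⟨hle, ?_⟩
  obtain ⟨K, iF, iFin, hcard, α, θ, hαa, hθa, hαV, hαs, hθU, hθs, hαi, hθi, hup, hup'⟩ := h.exists_coordinates hV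
  refine ⟨K, iF, iFin, hcard, fun hN => ?_⟩
  set W := V ⊔ U
  set H := P V ⊔ P U
  have hθ0 : θ 0 = 1 := by have := hθa 0 0; rw [add_zero] at this; exact mul_eq_left.1 this.symm
  have hα0 : α 0 = 1 := by have := hαa 0 0; rw [add_zero] at this; exact mul_eq_left.1 this.symm
  have hlow : ∀ y ∈ P U, ∃ c, ∀ p, ⁅α p, y⁆ = θ (p * c) := by
    intro y hy
    by_cases hyV : y ∈ centralizer (V : Set G)
    · exact ⟨0, fun p => by
        rw [mul_zero, hθ0, commutatorElement_eq_one_iff_mul_comm]; exact mem_centralizer_iff.1 hyV _ (hαV p)⟩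
    obtain ⟨z, hz, hzy⟩ := hs.exists_inverse hU hy hyV
    obtain ⟨c, hc⟩ := hup z hz
    refine ⟨c⁻¹, fun p => ?_⟩
    obtain ⟨q, hq⟩ := hθs _ (hU.br_mem (hs.le_p hU (hαV p)) hy)
    have e := hzy _ (hαV p)
    rw [← hq, hc] at e
    have e' := hαi e
    rcases eq_or_ne c 0 with rfl | hc0
    · rw [mul_zero] at e'
      subst e'
      rw [zero_mul, hθ0, hα0, commutatorElement_one_left]
    · rw [← hq, ← e', mul_inv_cancel_right₀ hc0]
  have hlow' : ∀ c, ∃ y ∈ P U, ∀ p, ⁅α p, y⁆ = θ (p * c) := by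
    intro c
    rcases eq_or_ne c 0 with rfl | hc0
    · exact ⟨1, one_mem _, fun p => by rw [commutatorElement_one_right, mul_zero, hθ0]⟩
    obtain ⟨x, hx, hxc⟩ := hup' c⁻¹
    have hxU : x ∉ centralizer (U : Set G) := fun hh => by
      have e := hxc 1
      rw [one_mul, commutatorElement_eq_one_iff_mul_comm.2 (mem_centralizer_iff.1 hh _ (hθU 1)), ← hα0] at e
      exact inv_ne_zero hc0 (hαi e).symm
    obtain ⟨y, hy, hyx⟩ := h.exists_inverse hV hx hxU
    refine ⟨y, hy, fun p => ?_⟩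
    have e := hyx _ (hθU (p * c))
    rwa [hxc, mul_inv_cancel_right₀ hc0] at e
  let ωf : (Fin 2 → K) → W := fun v => ⟨α (v 0) * θ (v 1), mul_mem (mem_sup_left (hαV _)) (mem_sup_right (hθU _))⟩
  have hω : Function.Bijective ωf := by
    constructor
    · intro v v' e
      have e' : α (v 0) * θ (v 1) = α (v' 0) * θ (v' 1) := congrArg Subtype.val e
      have e0 : (α (v' 0))⁻¹ * α (v 0) = θ (v' 1) * (θ (v 1))⁻¹ := by
        calc (α (v' 0))⁻¹ * α (v 0) = (α (v' 0))⁻¹ * (α (v 0) * θ (v 1)) * (θ (v 1))⁻¹ := by group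
          _ = _ := by rw [e']; group
      have e1 := h.disj hV (mul_mem (inv_mem (hαV (v' 0))) (hαV (v 0))) (e0 ▸ mul_mem (hθU (v' 1)) (inv_mem (hθU (v 1))))
      have e2 : α (v 0) = α (v' 0) := (inv_mul_eq_one.1 e1).symm
      rw [e2] at e'
      funext i
      fin_cases i
      · exact hαi e2
      · exact hθi (mul_left_cancel e')
    · rintro ⟨w, hw⟩
      obtain ⟨v, hv, u, hu, rfl⟩ := (h.mem_sup hV).1 hw
      obtain ⟨p, rfl⟩ := hαs v hv
      obtain ⟨q, rfl⟩ := hθs u hu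
      exact ⟨![p, q], by simp [ωf]⟩
  let ω := Equiv.ofBijective ωf hω
  let β : SpecialLinearGroup (Fin 2) K →* Equiv.Perm W :=
    ω.permCongrHom.toMonoidHom.comp (MulAction.toPermHom (SpecialLinearGroup (Fin 2) K) (Fin 2 → K))
  have hβω : ∀ g v, β g (ω v) = ω (g • v) := fun g v => by
    show ω.permCongr (MulAction.toPerm g) (ω v) = _
    rw [Equiv.permCongr_apply, Equiv.symm_apply_apply]
    rfl
  have hβi : Function.Injective β := by
    intro g g' e
    refine CfsgLib.Classical.sl_ext_smul fun v => ω.injective ?_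
    rw [← hβω, ← hβω, e]
  have hcj : ∀ (k : H) (w : W), (k : G) * w * (k : G)⁻¹ ∈ W := fun k w =>
    (mem_normalizer_iff.1 (hle k.2) w).1 w.2
  let π : H →* Equiv.Perm W := MonoidHom.mk' (fun k =>
    ⟨fun w => ⟨_, hcj k w⟩, fun w => ⟨_, hcj k⁻¹ w⟩, fun w => Subtype.ext (by simp [mul_assoc]),
      fun w => Subtype.ext (by simp [mul_assoc])⟩) fun a b => Equiv.ext fun w => Subtype.ext (by simp [mul_assoc])
  have hπ : ∀ k w, ((π k w : W) : G) = (k : G) * w * (k : G)⁻¹ := fun _ _ => rfl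
  have hker : π.ker = (centralizer (W : Set G)).subgroupOf H := by
    ext k
    rw [MonoidHom.mem_ker, mem_subgroupOf, mem_centralizer_iff]
    constructor
    · intro e w hw
      have := congrArg Subtype.val (Equiv.ext_iff.1 e ⟨w, hw⟩)
      rw [hπ] at this
      exact (mul_inv_eq_iff_eq_mul.1 this).symm
    · intro e
      refine Equiv.ext fun w => Subtype.ext ?_
      rw [hπ, ← e w w.2, mul_inv_cancel_right]
      rfl
  have hupper : ∀ (x : G) (hxH : x ∈ H), x ∈ P V → ∀ c, (∀ q, ⁅θ q, x⁆ = α (q * c)) → π ⟨x, hxH⟩ = β (upperEl c) := by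
    intro x hxH hx c hc
    refine Equiv.ext fun w => ?_
    obtain ⟨v, rfl⟩ := ω.surjective w
    rw [hβω]
    refine Subtype.ext ?_
    show x * (α (v 0) * θ (v 1)) * x⁻¹ = α ((upperEl c • v) 0) * θ ((upperEl c • v) 1)
    have e0 : (upperEl c • v) 0 = v 0 + v 1 * c := by
      show (upperEl c).1.mulVec v 0 = _
      simp [upperEl, Matrix.mulVec, dotProduct, Fin.sum_univ_two, mul_comm]
    have e1 : (upperEl c • v) 1 = v 1 := by
      show (upperEl c).1.mulVec v 1 = _
      simp [upperEl, Matrix.mulVec, dotProduct, Fin.sum_univ_two]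
    rw [e0, e1, hαa, ← hc, ← hV.br_symm hx (h.le_p hV (hθU _))]
    calc x * (α (v 0) * θ (v 1)) * x⁻¹ = (x * α (v 0) * x⁻¹) * (x * θ (v 1) * x⁻¹) := by group
      _ = _ := by rw [IsTI.comm_p hx (hαV _), mul_inv_cancel_right, commutatorElement_def]; group
  have hlower : ∀ (y : G) (hyH : y ∈ H), y ∈ P U → ∀ c, (∀ p, ⁅α p, y⁆ = θ (p * c)) → π ⟨y, hyH⟩ = β (lowerEl c) := by
    intro y hyH hy c hc
    refine Equiv.ext fun w => ?_
    obtain ⟨v, rfl⟩ := ω.surjective w
    rw [hβω]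
    refine Subtype.ext ?_
    show y * (α (v 0) * θ (v 1)) * y⁻¹ = α ((lowerEl c • v) 0) * θ ((lowerEl c • v) 1)
    have e0 : (lowerEl c • v) 0 = v 0 := by
      show (lowerEl c).1.mulVec v 0 = _
      simp [lowerEl, Matrix.mulVec, dotProduct, Fin.sum_univ_two]
    have e1 : (lowerEl c • v) 1 = v 0 * c + v 1 := by
      show (lowerEl c).1.mulVec v 1 = _
      simp [lowerEl, Matrix.mulVec, dotProduct, Fin.sum_univ_two, mul_comm]
    rw [e0, e1, hθa, ← hc, ← hU.br_symm hy (hs.le_p hU (hαV _))]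
    calc y * (α (v 0) * θ (v 1)) * y⁻¹ = (y * α (v 0) * y⁻¹) * (y * θ (v 1) * y⁻¹) := by group
      _ = ⁅y, α (v 0)⁆ * α (v 0) * θ (v 1) := by
        rw [IsTI.comm_p hy (hθU _), mul_inv_cancel_right, commutatorElement_def]; group
      _ = α (v 0) * (⁅y, α (v 0)⁆ * θ (v 1)) := by
        rw [← h.commute hV _ (hαV _) _ (hU.br_mem hy (hs.le_p hU (hαV _))), mul_assoc]
  have hrange : π.range = β.range := by
    apply le_antisymm
    · rw [MonoidHom.range_eq_map π, Subgroup.map_le_iff_le_comap,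
        ← Subgroup.subgroupOf_self H]
      conv_lhs => rw [show H.subgroupOf H = (P V).subgroupOf H ⊔ (P U).subgroupOf H from
        Subgroup.subgroupOf_sup le_sup_left le_sup_right]
      refine sup_le ?_ ?_
      · intro k hk
        obtain ⟨c, hc⟩ := hup k (mem_subgroupOf.1 hk)
        exact ⟨_, (hupper k k.2 (mem_subgroupOf.1 hk) c hc).symm⟩
      · intro k hk
        obtain ⟨c, hc⟩ := hlow k (mem_subgroupOf.1 hk)
        exact ⟨_, (hlower k k.2 (mem_subgroupOf.1 hk) c hc).symm⟩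
    · rw [MonoidHom.range_eq_map β, Subgroup.map_le_iff_le_comap, ← CfsgLib.ThreeTrans.RankOneSL2.sup_eq_top]
      refine sup_le ?_ ?_
      · intro g hg
        obtain ⟨c, rfl⟩ := mem_lower.1 hg
        obtain ⟨y, hy, hc⟩ := hlow' c
        exact ⟨⟨y, mem_sup_right hy⟩, hlower y _ hy c hc⟩
      · intro g hg
        obtain ⟨c, rfl⟩ := mem_upper.1 hg
        obtain ⟨x, hx, hc⟩ := hup' c
        exact ⟨⟨x, mem_sup_left hx⟩, hupper x _ hx c hc⟩
  exact ⟨(QuotientGroup.quotientMulEquivOfEq hker.symm).trans ((QuotientGroup.quotientKerEquivRange π).trans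
    ((MulEquiv.subgroupCongr hrange).trans (MonoidHom.ofInjective hβi).symm))⟩

end CfsgLib.Techniques.TITwoPair
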