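import Cfsg.Prelude.Def_Local
import Cfsg.Agent.Lib.Techniques.Path

/-!
Two conjugates of a tightly embedded subgroup, one meeting the normalizer of the other.
-/

set_option autoImplicit false

namespace CfsgLib.Techniques

open Subgroup Cfsg
open scoped commutatorElement

variable {G : Type*} [Group G] [Finite G]

omit [Finite G] in
theorem le_normalizer_inf' {A U V : Subgroup G} (hU : A ≤ normalizer (U : Set G))
    (hV : A ≤ normalizer (V : Set G)) : A ≤ normalizer ((U ⊓ V : Subgroup G) : Set G) :=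
  (le_inf hU hV).trans inf_normalizer_le_normalizer_inf

/-- An element of a `2`-group in a subgroup of odd order is trivial. -/
theorem eq_one_of_odd_two {V T : Subgroup G} (hV : Odd (Nat.card V)) (hT : IsPGroup 2 T) {t : G}
    (htV : t ∈ V) (htT : t ∈ T) : t = 1 := by
  obtain ⟨k, hk⟩ := IsPGroup.iff_orderOf.1 hT ⟨t, htT⟩
  rw [Subgroup.orderOf_mk] at hk
  have h1 : (Nat.card V).Coprime (2 ^ k) :=
    Nat.Coprime.pow_right k (Nat.coprime_two_right.2 hV)
  exact orderOf_eq_one_iff.1 (Nat.eq_one_of_dvd_coprimes h1 (V.orderOf_dvd_natCard htV) hk.dvd)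

omit [Finite G] in
/-- Conjugates of a tightly embedded subgroup are tightly embedded. -/
theorem tight_map_conj {A : Subgroup G} (hA : IsTightlyEmbedded A) (h : G) :
    IsTightlyEmbedded (A.map (MulAut.conj h).toMonoidHom) := by
  set B := A.map (MulAut.conj h).toMonoidHom with hB
  have hcard : ∀ U : Subgroup G, Nat.card (U.map (MulAut.conj h).toMonoidHom) = Nat.card U :=
    fun U => card_map_of_injective (MulAut.conj h).injective
  refine ⟨by rw [hB, hcard]; exact hA.1, fun g hg => ?_⟩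
  have hg' : h⁻¹ * g * h ∉ normalizer (A : Set G) := by
    intro hn
    refine hg (mem_normalizer_of_map_conj_eq ?_)
    rw [hB, map_conj_conj, show g * h = h * (h⁻¹ * g * h) by group, ← map_conj_conj A (h⁻¹ * g * h) h,
      map_conj_of_mem_normalizer hn]
  have h1 := hA.2 _ hg'
  rw [← hcard, Subgroup.map_inf _ _ _ (MulAut.conj h).injective, map_conj_conj,
    show h * (h⁻¹ * g * h) = g * h by group] at h1
  rwa [hB, map_conj_conj]

/-- The centralizer of a nontrivial `2`-element of a tightly embedded subgroup normalizes it. -/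
theorem centralizer_le_normalizer_of_tight {A : Subgroup G} (hA : IsTightlyEmbedded A) {t : G}
    {T : Subgroup G} (hT : IsPGroup 2 T) (htT : t ∈ T) (htA : t ∈ A) (ht1 : t ≠ 1) :
    centralizer ({t} : Set G) ≤ normalizer (A : Set G) := by
  intro c hc
  by_contra hn
  refine ht1 (eq_one_of_odd_two (hA.2 c hn) hT ⟨htA, t, htA, ?_⟩ htT)
  show c * t * c⁻¹ = t
  rw [mem_centralizer_singleton_iff.1 hc, mul_inv_cancel_right]

/-- A `2`-group normalizing `A` normalizes a Sylow `2`-subgroup of `A`. -/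
theorem exists_invariant_sylowSub {A T : Subgroup G} (hT : IsPGroup 2 T)
    (hTA : T ≤ normalizer (A : Set G)) :
    ∃ P : Subgroup G, IsSylowSub 2 P A ∧ T ≤ normalizer (P : Set G) := by
  obtain ⟨S, hTS, hS⟩ := exists_isSylowSub (p := 2) (le_sup_right : T ≤ A ⊔ T) hT
  refine ⟨S ⊓ A, hS.inf_normal le_sup_left (sup_le le_normalizer hTA), ?_⟩
  exact le_normalizer_inf' (hTS.trans le_normalizer) hTA

/-- The projection step: `T` embeds in `C_P(T)`. -/
theorem exists_embedding {A B T P : Subgroup G} (hBt : IsTightlyEmbedded B)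
    (hconj : ∃ h : G, B = A.map (MulAut.conj h).toMonoidHom)
    (hT : IsSylowSub 2 T (B ⊓ normalizer (A : Set G))) (hTA : T ⊓ A = ⊥)
    (hP : IsSylowSub 2 P A) (hTP : T ≤ normalizer (P : Set G)) :
    ∃ f : T →* ↥(P ⊓ normalizer (T : Set G)), Function.Injective f := by
  set R := P ⊓ normalizer (T : Set G) with hR
  have hTB : T ≤ B := hT.1.trans inf_le_left
  have hTNA : T ≤ normalizer (A : Set G) := hT.1.trans inf_le_right
  have hRT : ∀ r ∈ R, ∀ t ∈ T, r * t = t * r := by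
    intro r hr t ht
    refine commutatorElement_eq_one_iff_mul_comm.1 ((Subgroup.eq_bot_iff_forall _).1 hTA _ (Subgroup.mem_inf.2 ⟨?_, ?_⟩))
    · rw [commutatorElement_def]
      exact mul_mem ((mem_normalizer_iff.1 hr.2 t).1 ht) (inv_mem ht)
    · rw [commutatorElement_def, mul_assoc, mul_assoc, ← mul_assoc t]
      exact mul_mem (hP.1 hr.1) ((mem_normalizer_iff.1 (hTNA ht) r⁻¹).1 (inv_mem (hP.1 hr.1)))
  by_cases hPN : P ≤ normalizer (T : Set G)
  · have hRP : R = P := inf_eq_left.2 hPN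
    obtain ⟨h, rfl⟩ := hconj
    obtain ⟨n, -, hle⟩ := hP.exists_conj_le (Q := T.map (MulAut.conj h⁻¹).toMonoidHom) (by
      rw [← map_conj_of_mem_normalizer (one_mem (normalizer (A : Set G)))]
      refine (map_mono hTB).trans ?_
      rw [map_conj_conj, inv_mul_cancel]) (isPGroup_map_conj hT.2.1 _)
    rw [map_conj_conj] at hle
    refine ⟨((MulAut.conj (n * h⁻¹)).toMonoidHom.comp T.subtype).codRestrict R fun t =>
      hRP ▸ hle (mem_map_of_mem _ t.2), fun a b e => ?_⟩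
    exact T.subtype_injective ((MulAut.conj (n * h⁻¹)).injective (congrArg R.subtype e))
  set S := P ⊔ T with hS
  have hSset : ∀ s ∈ S, ∃ a ∈ P, ∃ t ∈ T, a * t = s := by
    intro s hs
    have h0 : s ∈ ((P ⊔ T : Subgroup G) : Set G) := hs
    rw [coe_mul_of_right_le_normalizer_left _ _ hTP] at h0
    obtain ⟨a, ha, t, ht, h⟩ := h0
    exact ⟨a, ha, t, ht, h⟩
  have hSp : IsPGroup 2 S :=
    hP.2.1.to_sup_of_normal_left' hT.2.1 hTP
  have hSA : S ≤ normalizer (A : Set G) := sup_le (hP.1.trans le_normalizer) hTNA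
  set W := R ⊔ T with hW
  have hWS : W ≤ S := sup_le (inf_le_left.trans le_sup_left) le_sup_right
  have hWT : W ≤ normalizer (T : Set G) := sup_le inf_le_right le_normalizer
  have hWlt : W < S := lt_of_le_of_ne hWS fun e => hPN ((le_sup_left : P ≤ S).trans (e.ge.trans hWT))
  -- normalizers grow
  obtain ⟨s, hsS, hsN, hsW⟩ : ∃ s ∈ S, s ∈ normalizer (W : Set G) ∧ s ∉ W := by
    haveI := hSp.isNilpotent
    have h1 : W.subgroupOf S < ⊤ := lt_top_iff_ne_top.2 fun e => hWlt.not_ge (subgroupOf_eq_top.1 e)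
    obtain ⟨s, hs, hsW⟩ := SetLike.exists_of_lt (Group.normalizerCondition_of_isNilpotent _ h1)
    refine ⟨s, s.2, ?_, hsW⟩
    rw [mem_normalizer_iff]
    intro w
    constructor
    · intro hw
      exact ((mem_normalizer_iff.1 hs ⟨w, hWS hw⟩).1 hw : _)
    · intro hw
      have hwS : w ∈ S := by
        have := mul_mem (mul_mem (inv_mem s.2) (hWS hw)) s.2
        rwa [show (s : G)⁻¹ * (s * w * (s : G)⁻¹) * s = w by group] at this
      exact ((mem_normalizer_iff.1 hs ⟨w, hwS⟩).2 hw : _)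
  obtain ⟨x, hxP, t₀, ht₀, rfl⟩ := hSset s hsS
  have hxN : x ∈ normalizer (W : Set G) := by
    have := mul_mem hsN (inv_mem (le_normalizer (mem_sup_right ht₀ : t₀ ∈ W)))
    rwa [mul_inv_cancel_right] at this
  have hxW : x ∉ W := fun h => hsW (mul_mem h (mem_sup_right ht₀))
  have hxT : x ∉ normalizer (T : Set G) := fun h => hxW (mem_sup_left ⟨hxP, h⟩)
  -- `x` moves `B`
  have hxB : x ∉ normalizer (B : Set G) := by
    intro h
    refine hxT (mem_normalizer_of_map_conj_eq ?_)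
    have hT' : T = S ⊓ B := hT.eq_of_le (le_inf le_sup_right hTB) (le_inf inf_le_right (inf_le_left.trans hSA))
      (hSp.to_le inf_le_left)
    refine Subgroup.eq_of_le_of_card_ge (fun z hz => ?_)
      (card_map_of_injective (MulAut.conj x).injective).ge
    obtain ⟨t, ht, rfl⟩ := hz
    rw [hT']
    exact Subgroup.mem_inf.2 ⟨mul_mem (mul_mem (mem_sup_left hxP) (mem_sup_right ht)) (inv_mem (mem_sup_left hxP)),
      (mem_normalizer_iff.1 h t).1 (hTB ht)⟩
  have hdec : ∀ t : T, ∃ r ∈ R, r⁻¹ * (x * t * x⁻¹) ∈ T := by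
    intro t
    have h0 : x * t * x⁻¹ ∈ ((R ⊔ T : Subgroup G) : Set G) :=
      (mem_normalizer_iff.1 hxN t).1 (mem_sup_right t.2)
    rw [coe_mul_of_left_le_normalizer_right _ _ inf_le_right] at h0
    obtain ⟨r, hr, u, hu, h⟩ := h0
    exact ⟨r, hr, by rw [← h]; simpa using hu⟩
  choose φ hφR hφT using hdec
  have huniq : ∀ (t : T) (r : G), r ∈ R → r⁻¹ * (x * t * x⁻¹) ∈ T → φ t = r := by
    intro t r hr h
    refine inv_mul_eq_one.1 ((Subgroup.eq_bot_iff_forall _).1 hTA _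
      (Subgroup.mem_inf.2 ⟨?_, mul_mem (inv_mem (hP.1 (hφR t).1)) (hP.1 hr.1)⟩))
    have := mul_mem (hφT t) (inv_mem h)
    rwa [show (φ t)⁻¹ * (x * t * x⁻¹) * (r⁻¹ * (x * t * x⁻¹))⁻¹ = (φ t)⁻¹ * r by group] at this
  refine ⟨MonoidHom.mk' (fun t => ⟨φ t, hφR t⟩) fun a b => Subtype.ext ?_, ?_⟩
  · refine huniq (a * b) (φ a * φ b) (mul_mem (hφR a) (hφR b)) ?_
    have := mul_mem (hφT a) (hφT b)
    rwa [show (φ a)⁻¹ * (x * a * x⁻¹) * ((φ b)⁻¹ * (x * b * x⁻¹)) =
        (φ a * φ b)⁻¹ * (x * ((a * b : T) : G) * x⁻¹) by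
      calc (φ a)⁻¹ * (x * a * x⁻¹) * ((φ b)⁻¹ * (x * b * x⁻¹))
          = ((φ a)⁻¹ * (x * a * x⁻¹)) * (φ b)⁻¹ * (x * b * x⁻¹) := by group
        _ = (φ b)⁻¹ * ((φ a)⁻¹ * (x * a * x⁻¹)) * (x * b * x⁻¹) := by
            rw [← hRT _ (inv_mem (hφR b)) _ (hφT a)]
        _ = (φ a * φ b)⁻¹ * (x * ((a * b : T) : G) * x⁻¹) := by
            rw [Subgroup.coe_mul]; group] at this
  · refine (injective_iff_map_eq_one _).2 fun t ht => Subtype.ext ?_
    have h1 : φ t = 1 := congrArg Subtype.val ht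
    have h2 := hφT t
    rw [h1, inv_one, one_mul] at h2
    refine (MulAut.conj x).injective ?_
    rw [OneMemClass.coe_one, map_one]
    exact eq_one_of_odd_two (hBt.2 x hxB) hT.2.1 ⟨hTB h2, (t : G), hTB t.2, rfl⟩ h2

/-- The structure theorem. -/
theorem tight_partner {Q : Subgroup G} (hQ : IsTightlyEmbedded Q) {g : G}
    (hg : g ∉ normalizer (Q : Set G)) {T S : Subgroup G} (hT1 : T ≠ ⊥)
    (hT : IsSylowSub 2 T (Q.map (MulAut.conj g).toMonoidHom ⊓ normalizer (Q : Set G))) (hTS : T ≤ S)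
    (hS : IsSylowSub 2 S (Q ⊔ T)) :
    T ⊓ Q = ⊥ ∧ ⁅T, S ⊓ normalizer (T : Set G) ⊓ Q⁆ = ⊥ ∧
      T ⊔ (S ⊓ normalizer (T : Set G) ⊓ Q) = S ⊓ normalizer (T : Set G) ∧
      Nonempty (↥(S ⊓ normalizer (T : Set G) ⊓ Q) ≃* T) := by
  set B := Q.map (MulAut.conj g).toMonoidHom with hB
  have hTNQ : T ≤ normalizer (Q : Set G) := hT.1.trans inf_le_right
  have hTQ : T ⊓ Q = ⊥ := (Subgroup.eq_bot_iff_forall _).2 fun t ht =>
    eq_one_of_odd_two (hQ.2 g hg) hT.2.1 ⟨ht.2, (hT.1 ht.1).1⟩ ht.1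
  have hP : IsSylowSub 2 (S ⊓ Q) Q := hS.inf_normal le_sup_left (sup_le le_normalizer hTNQ)
  have hTP : T ≤ normalizer ((S ⊓ Q : Subgroup G) : Set G) :=
    le_normalizer_inf' (hTS.trans le_normalizer) hTNQ
  set R := S ⊓ normalizer (T : Set G) ⊓ Q with hR
  have hRR : S ⊓ Q ⊓ normalizer (T : Set G) = R := inf_right_comm _ _ _
  have hcomm : ⁅T, R⁆ = ⊥ := by
    refine eq_bot_iff.2 ((commutator_le.2 fun t ht r hr => ?_).trans hTQ.le)
    rw [commutatorElement_def]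
    refine Subgroup.mem_inf.2 ⟨?_, mul_mem ((mem_normalizer_iff.1 (hTNQ ht) r).1 hr.2) (inv_mem hr.2)⟩
    rw [mul_assoc, mul_assoc, ← mul_assoc r]
    exact mul_mem ht ((mem_normalizer_iff.1 hr.1.2 t⁻¹).1 (inv_mem ht))
  have hsup : T ⊔ R = S ⊓ normalizer (T : Set G) := by
    refine le_antisymm (sup_le (le_inf hTS le_normalizer) inf_le_left) ?_
    rintro s ⟨hsS, hsN⟩
    have h0 : s ∈ ((Q ⊔ T : Subgroup G) : Set G) := hS.1 hsS
    rw [coe_mul_of_right_le_normalizer_left _ _ hTNQ] at h0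
    obtain ⟨q, hq, t, ht, rfl⟩ := h0
    have hq' : q ∈ R := by
      have h1 := mul_mem (show q * t ∈ S from hsS) (inv_mem (hTS ht))
      have h2 := mul_mem (show q * t ∈ normalizer (T : Set G) from hsN) (inv_mem (le_normalizer ht))
      rw [mul_inv_cancel_right] at h1 h2
      exact Subgroup.mem_inf.2 ⟨Subgroup.mem_inf.2 ⟨h1, h2⟩, hq⟩
    exact mul_mem (mem_sup_right hq') (mem_sup_left ht)
  refine ⟨hTQ, hcomm, hsup, ?_⟩
  obtain ⟨f, hf⟩ := exists_embedding (tight_map_conj hQ g) ⟨g, rfl⟩ hT hTQ hP hTP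
  rw [← hB] at *
  obtain ⟨t₁, ht₁, ht₁1⟩ : ∃ t ∈ T, t ≠ 1 := by
    by_contra h
    push Not at h
    exact hT1 ((Subgroup.eq_bot_iff_forall T).2 h)
  -- `R` sits in `Q ∩ N(B)`
  have hRle : S ⊓ Q ⊓ normalizer (T : Set G) ≤ Q ⊓ normalizer (B : Set G) := fun r hr =>
    ⟨hr.1.2, centralizer_le_normalizer_of_tight (tight_map_conj hQ g) hT.2.1 ht₁ (hT.1 ht₁).1 ht₁1
      (mem_centralizer_singleton_iff.2 (by
        have := (commutator_eq_bot_iff_le_centralizer.1 hcomm) ht₁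
        exact (mem_centralizer_iff.1 this r ⟨⟨hr.1.1, hr.2⟩, hr.1.2⟩)))⟩
  obtain ⟨R₁, hRR₁, hR₁⟩ := exists_isSylowSub (p := 2) hRle (hP.2.1.to_le inf_le_left)
  have hR₁B : R₁ ⊓ B = ⊥ := (Subgroup.eq_bot_iff_forall _).2 fun r hr =>
    eq_one_of_odd_two (hQ.2 g hg) hR₁.2.1 ⟨(hR₁.1 hr.1).1, hr.2⟩ hr.1
  obtain ⟨P', hP', hR₁P'⟩ := exists_invariant_sylowSub hR₁.2.1 (hR₁.1.trans inf_le_right)
  obtain ⟨f', hf'⟩ := exists_embedding hQ ⟨g⁻¹, by
    rw [hB, map_conj_conj, inv_mul_cancel, map_conj_of_mem_normalizer (one_mem _)]⟩ hR₁ hR₁B hP' hR₁P'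
  -- `C_{P'}(R₁)` sits in `B ∩ N(Q)`
  have h4 : Nat.card ↥(P' ⊓ normalizer (R₁ : Set G)) ≤ Nat.card T := by
    refine hT.card_le (fun c hc => ⟨hP'.1 hc.1, ?_⟩) (hP'.2.1.to_le inf_le_left)
    set r := ((f ⟨t₁, ht₁⟩ : ↥(S ⊓ Q ⊓ normalizer (T : Set G))) : G) with hr
    have hr1 : r ≠ 1 := fun e => ht₁1 (congrArg Subtype.val (hf ((Subtype.ext e).trans f.map_one.symm) :
      (⟨t₁, ht₁⟩ : T) = 1))
    have hrR₁ : r ∈ R₁ := hRR₁ (f ⟨t₁, ht₁⟩).2
    refine centralizer_le_normalizer_of_tight hQ hR₁.2.1 hrR₁ (hR₁.1 hrR₁).1 hr1 ?_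
    rw [mem_centralizer_singleton_iff]
    refine commutatorElement_eq_one_iff_mul_comm.1 ((Subgroup.eq_bot_iff_forall _).1 hR₁B _ (Subgroup.mem_inf.2 ⟨?_, ?_⟩))
    · rw [commutatorElement_def]
      exact mul_mem ((mem_normalizer_iff.1 hc.2 r).1 hrR₁) (inv_mem hrR₁)
    · rw [commutatorElement_def, mul_assoc, mul_assoc, ← mul_assoc r]
      exact mul_mem (hP'.1 hc.1)
        ((mem_normalizer_iff.1 ((hR₁.1 hrR₁).2) c⁻¹).1 (inv_mem (hP'.1 hc.1)))
  have hle : Nat.card ↥(S ⊓ Q ⊓ normalizer (T : Set G)) ≤ Nat.card T :=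
    (card_le_of_le hRR₁).trans ((Nat.card_le_card_of_injective _ hf').trans h4)
  have hbij : Function.Bijective f :=
    (Nat.bijective_iff_injective_and_card f).2 ⟨hf, le_antisymm (Nat.card_le_card_of_injective _ hf) hle⟩
  exact ⟨((MulEquiv.ofBijective f hbij).trans (MulEquiv.subgroupCongr hRR)).symm⟩

end CfsgLib.Techniques
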