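import Cfsg.Prelude.Def_Transfer
import Cfsg.Agent.Lib.LocalEven.Generation
import Cfsg.Agent.Lib.Core.Coprime
import Cfsg.Agent.Lib.PGroups.Basic
import Cfsg.Agent.Lib.Core.Basic

/-!
A noncyclic group of order `q²` acting on a `p`-group with only two lines having fixed points.
-/

namespace CfsgLib.Techniques

open Subgroup

universe u

theorem eq_of_card_prime {G : Type*} [Group G] [Finite G] {q : ℕ} (hq : q.Prime) {X Y : Subgroup G}
    (hX : Nat.card X = q) (hY : Nat.card Y = q) {a : G} (ha : a ≠ 1) (haX : a ∈ X) (haY : a ∈ Y) :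
    X = Y := by
  have key : ∀ Z : Subgroup G, Nat.card Z = q → a ∈ Z → zpowers a = Z := fun Z hZ haZ =>
    eq_of_le_of_card_ge (zpowers_le.mpr haZ) (by
      rw [hZ, Nat.card_zpowers]
      have hd := hZ ▸ orderOf_dvd_natCard Z haZ
      rcases hq.eq_one_or_self_of_dvd _ hd with h | h
      · exact absurd (orderOf_eq_one_iff.mp h) ha
      · exact h.ge)
  rw [← key X hX haX, key Y hY haY]

theorem le_sup_lines {G : Type*} [Group G] [Finite G] {q : ℕ} [hq : Fact q.Prime]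
    {Q X₁ X₂ : Subgroup G} (h₁ : X₁ ≤ Q) (h₂ : X₂ ≤ Q) (h₁₂ : X₁ ≠ X₂) (hc₁ : Nat.card X₁ = q)
    (hc₂ : Nat.card X₂ = q) (hQc : Nat.card Q = q ^ 2) : Q ≤ X₁ ⊔ X₂ := by
  refine (eq_of_le_of_card_ge (sup_le h₁ h₂) ?_).ge
  obtain ⟨i, hi, he⟩ := (Nat.dvd_prime_pow hq.out).mp (hQc ▸ card_dvd_of_le (sup_le h₁ h₂))
  have hlt : q < Nat.card ↥(X₁ ⊔ X₂) := by
    refine lt_of_le_of_ne (le_of_eq_of_le hc₁.symm (card_le_of_le le_sup_left)) fun h => h₁₂ ?_
    have := eq_of_le_of_card_ge (le_sup_left : X₁ ≤ X₁ ⊔ X₂) (by rw [hc₁]; exact h.ge)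
    have h2 : X₂ ≤ X₁ := this.symm ▸ le_sup_right
    exact (eq_of_le_of_card_ge h2 (by rw [hc₁, hc₂])).symm
  rw [hQc, he]
  rw [he] at hlt
  exact Nat.pow_le_pow_right hq.out.pos
    ((Nat.pow_lt_pow_iff_right hq.out.one_lt).mp (by rwa [pow_one] : q ^ 1 < q ^ i))

theorem two_fixed_lines {p q : ℕ} [hp : Fact p.Prime] [hq : Fact q.Prime] (hpq : p ≠ q) (n : ℕ) :
    ∀ (S : Type u) [Group S] [Finite S] (P Q : Subgroup S), Nat.card P = n → P.Normal →
      IsPGroup p P → Cfsg.IsElementaryAbelian q Q → Nat.card Q = q ^ 2 → P ⊔ Q = ⊤ →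
      ∀ X₁ X₂ : Subgroup S, X₁ ≤ Q → X₂ ≤ Q → X₁ ≠ X₂ → Nat.card X₁ = q → Nat.card X₂ = q →
      (∀ X : Subgroup S, X ≤ Q → Nat.card X = q → P ⊓ centralizer (X : Set S) ≠ ⊥ →
        X = X₁ ∨ X = X₂) →
      P ⊓ centralizer (Q : Set S) = ⊥ ∧
      P ≤ (P ⊓ centralizer (X₁ : Set S)) ⊔ (P ⊓ centralizer (X₂ : Set S)) ∧
      ∀ x ∈ P ⊓ centralizer (X₁ : Set S), ∀ y ∈ P ⊓ centralizer (X₂ : Set S), x * y = y * x := by
  induction n using Nat.strong_induction_on with
  | _ n ih => ?_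
  intro S _ _ P Q hn hPn hP hQ hQc hS X₁ X₂ h₁ h₂ h₁₂ hc₁ hc₂ honly
  subst hn
  haveI := hPn
  haveI : IsMulCommutative Q := hQ.1
  have hQcomm : ∀ a ∈ Q, ∀ b ∈ Q, a * b = b * a := fun a ha b hb =>
    congrArg Subtype.val (hQ.1.is_comm.comm ⟨a, ha⟩ ⟨b, hb⟩)
  have hord : ∀ a ∈ Q, a ≠ 1 → Nat.card (zpowers a) = q := fun a ha ha1 => by
    rw [Nat.card_zpowers, orderOf_eq_prime (hQ.2 a ha) ha1]
  have hcopP : ∀ X : Subgroup S, X ≤ Q → (Nat.card X).Coprime (Nat.card P) := by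
    intro X hX
    obtain ⟨k, hk⟩ := IsPGroup.iff_card.mp hP
    rw [hk]
    refine Nat.Coprime.coprime_dvd_left (card_dvd_of_le hX) ?_
    rw [hQc]
    exact ((Nat.coprime_primes hq.out hp.out).mpr (Ne.symm hpq)).pow 2 k
  -- no common fixed points
  have hPQ : P ⊓ centralizer (Q : Set S) = ⊥ := by
    obtain ⟨a, haX, ha1⟩ := (bot_or_exists_ne_one X₁).resolve_left fun h => by
      rw [h, card_bot] at hc₁; exact hq.out.ne_one hc₁.symm
    obtain ⟨b, hbX, hb1⟩ := (bot_or_exists_ne_one X₂).resolve_left fun h => by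
      rw [h, card_bot] at hc₂; exact hq.out.ne_one hc₂.symm
    by_contra hne
    have hab : a * b ∈ Q := mul_mem (h₁ haX) (h₂ hbX)
    have hab1 : a * b ≠ 1 := fun h => h₁₂ (eq_of_card_prime hq.out hc₁ hc₂ ha1 haX (by
      rw [eq_inv_of_mul_eq_one_left h]; exact inv_mem hbX))
    have hX : P ⊓ centralizer (zpowers (a * b) : Set S) ≠ ⊥ := fun h => hne (le_bot_iff.mp
      (h ▸ inf_le_inf le_rfl (centralizer_le (SetLike.coe_subset_coe.mpr (zpowers_le.mpr hab)))))
    rcases honly _ (zpowers_le.mpr hab) (hord _ hab hab1) hX with h | h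
    · have : b ∈ X₁ := by
        have := mul_mem (inv_mem haX) (h ▸ mem_zpowers (a * b) : a * b ∈ X₁)
        simpa using this
      exact h₁₂ (eq_of_card_prime hq.out hc₁ hc₂ hb1 this hbX)
    · have : a ∈ X₂ := by
        have := mul_mem (h ▸ mem_zpowers (a * b) : a * b ∈ X₂) (inv_mem hbX)
        simpa using this
      exact h₁₂ (eq_of_card_prime hq.out hc₁ hc₂ ha1 haX this)
  have hcen : ∀ a ∈ Q, a ≠ 1 → P ⊓ centralizer ({a} : Set S) =
      P ⊓ centralizer (zpowers a : Set S) := fun a _ _ => by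
    rw [zpowers_eq_closure, centralizer_closure]
  -- generation
  have hgen : ∀ M : Subgroup S, M ≤ P → Q ≤ normalizer (M : Set S) →
      M ≤ (M ⊓ centralizer (X₁ : Set S)) ⊔ (M ⊓ centralizer (X₂ : Set S)) := by
    intro M hM hQM
    refine CfsgLib.LocalEven.le_of_centralizers_le (p := q) hQ.2 hQc.ge hQM ?_ fun a ha ha1 => ?_
    · intro hd
      obtain ⟨k, hk⟩ := IsPGroup.iff_card.mp (hP.to_le hM)
      rw [hk] at hd
      exact hpq ((Nat.prime_dvd_prime_iff_eq hq.out hp.out).mp (hq.out.dvd_of_dvd_pow hd)).symm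
    · by_cases hb : P ⊓ centralizer (zpowers a : Set S) = ⊥
      · have : M ⊓ centralizer ({a} : Set S) ≤ ⊥ := by
          rw [← hb, ← hcen a ha ha1]; exact inf_le_inf hM le_rfl
        exact this.trans bot_le
      · rw [← centralizer_closure, ← zpowers_eq_closure]
        rcases honly _ (zpowers_le.mpr ha) (hord a ha ha1) hb with h | h <;> rw [h]
        · exact le_sup_left
        · exact le_sup_right
  have hQPn : Q ≤ normalizer (P : Set S) := le_normalizer_of_normal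
  refine ⟨hPQ, hgen P le_rfl hQPn, ?_⟩
  by_cases hPb : P = ⊥
  · intro x hx y hy
    have hx' : x = 1 := mem_bot.mp (hPb ▸ hx.1)
    simp [hx']
  -- central fixed points
  set Z := (center P).map P.subtype with hZ
  haveI : Z.Normal := by rw [hZ]; infer_instance
  have hZP : Z ≤ P := map_subtype_le _
  have hZne : Z ≠ ⊥ := by
    intro h
    rw [hZ, map_eq_bot_iff_of_injective _ P.subtype_injective] at h
    haveI : Nontrivial P := nontrivial_iff_ne_bot P |>.mpr hPb
    exact bot_lt_iff_ne_bot.mp hP.bot_lt_center h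
  -- the main step, symmetrically for the two lines
  have step : ∀ Y₁ Y₂ : Subgroup S, Y₁ ≤ Q → Y₂ ≤ Q → Y₁ ≠ Y₂ → Nat.card Y₁ = q →
      Nat.card Y₂ = q →
      (∀ X : Subgroup S, X ≤ Q → Nat.card X = q → P ⊓ centralizer (X : Set S) ≠ ⊥ →
        X = Y₁ ∨ X = Y₂) →
      Q ≤ Y₁ ⊔ Y₂ →
      Z ⊓ centralizer (Y₁ : Set S) ≠ ⊥ →
      ∀ x ∈ P ⊓ centralizer (Y₁ : Set S), ∀ y ∈ P ⊓ centralizer (Y₂ : Set S), x * y = y * x := by
    intro Y₁ Y₂ g₁ g₂ g₁₂ gc₁ gc₂ gonly hQY hZ₀ne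
    set Z₀ := Z ⊓ centralizer (Y₁ : Set S) with hZ₀
    have hZ₀P : Z₀ ≤ P := inf_le_left.trans hZP
    have hZ₀c : ∀ z ∈ Z₀, ∀ w ∈ P, w * z = z * w := by
      intro z hz w hw
      obtain ⟨z', hz', rfl⟩ := hz.1
      exact congrArg Subtype.val (mem_center_iff.mp hz' ⟨w, hw⟩)
    have hQY' : ∀ a ∈ Q, a ∈ centralizer (Y₁ : Set S) := fun a ha =>
      mem_centralizer_iff.mpr fun b hb => hQcomm b (g₁ hb) a ha
    haveI hZ₀n : Z₀.Normal := by
      rw [← normalizer_eq_top_iff, eq_top_iff, ← hS]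
      refine sup_le (fun w hw => mem_normalizer_iff.mpr fun z => ?_) fun a ha =>
        mem_normalizer_iff.mpr fun z => ?_
      · constructor
        · intro hz; rw [hZ₀c z hz w hw, mul_inv_cancel_right]; exact hz
        · intro hz
          have e := hZ₀c _ hz w hw
          have : w * z * w⁻¹ = z := by
            calc w * z * w⁻¹ = w⁻¹ * (w * (w * z * w⁻¹)) := by group
              _ = w⁻¹ * ((w * z * w⁻¹) * w) := by rw [e]
              _ = z := by group
          rwa [this] at hz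
      · constructor
        · intro hz
          exact mem_inf.mpr ⟨(inferInstance : Z.Normal).conj_mem z hz.1 a,
            mul_mem (mul_mem (hQY' a ha) hz.2) (inv_mem (hQY' a ha))⟩
        · intro hz
          have h1 : a⁻¹ * (a * z * a⁻¹) * a⁻¹⁻¹ ∈ Z₀ := mem_inf.mpr
            ⟨(inferInstance : Z.Normal).conj_mem _ hz.1 a⁻¹,
              mul_mem (mul_mem (inv_mem (hQY' a ha)) hz.2) (inv_mem (inv_mem (hQY' a ha)))⟩
          simpa [mul_assoc] using h1
    set π := QuotientGroup.mk' Z₀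
    have hinjQ : ∀ a ∈ Q, π a = 1 → a = 1 := fun a ha h => by
      have haZ : a ∈ Z₀ := (QuotientGroup.eq_one_iff a).mp h
      have h1 := orderOf_dvd_natCard Q ha
      have h2 := orderOf_dvd_natCard P (hZ₀P haZ)
      exact orderOf_eq_one_iff.mp (Nat.eq_one_of_dvd_coprimes (hcopP Q le_rfl) h1 h2)
    have hcardmap : ∀ Y : Subgroup S, Y ≤ Q → Nat.card (Y.map π) = Nat.card Y := fun Y hY =>
      (Nat.card_congr (Equiv.ofBijective
        (fun a : Y => (⟨π a, a, a.2, rfl⟩ : Y.map π))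
        ⟨fun a b hab => by
          have h := congrArg Subtype.val hab
          refine Subtype.ext (mul_inv_eq_one.mp (hinjQ _ (hY (mul_mem a.2 (inv_mem b.2))) ?_))
          show π ((a : S) * (b : S)⁻¹) = 1
          rw [map_mul, map_inv, show π (a : S) = π b from h, mul_inv_cancel],
        fun ⟨_, a, ha, rfl⟩ => ⟨⟨a, ha⟩, rfl⟩⟩)).symm
    have hlift : ∀ Y : Subgroup S, Y ≤ Q → ∀ w ∈ P, π w ∈ centralizer (Y.map π : Set (S ⧸ Z₀)) →
        ∃ z ∈ Z₀, w * z ∈ P ⊓ centralizer (Y : Set S) := by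
      intro Y hY w hw hwc
      obtain ⟨z, hz, h⟩ := CfsgLib.Core.exists_centralizing_in_coset (A := Y) (N := Z₀)
        le_normalizer_of_normal ((hcopP Y hY).coprime_dvd_right (card_dvd_of_le hZ₀P))
        (Or.inl (by
          haveI : IsMulCommutative Y := ⟨⟨fun a b => Subtype.ext (hQcomm _ (hY a.2) _ (hY b.2))⟩⟩
          exact Group.isSolvable_of_comm fun a b => mul_comm' a b))
        (k := w) (fun a ha => by
          rw [← QuotientGroup.eq_one_iff]
          show π (w⁻¹ * (a * w * a⁻¹)) = 1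
          have := mem_centralizer_iff.mp hwc (π a) ⟨a, ha, rfl⟩
          rw [map_mul, map_mul, map_mul, map_inv, map_inv, this]
          group)
      exact ⟨z, hz, mul_mem hw (hZ₀P hz), h⟩
    have hPbar : Nat.card (P.map π) < Nat.card P := by
      refine lt_of_le_of_ne (Nat.le_of_dvd Nat.card_pos (card_map_dvd _ _)) fun he => hZ₀ne ?_
      rw [eq_bot_iff]
      intro z hz
      have hinj : Function.Injective (π.subgroupMap P) :=
        ((Nat.bijective_iff_surjective_and_card _).mpr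
          ⟨π.subgroupMap_surjective P, he.symm⟩).1
      have : (⟨z, hZ₀P hz⟩ : P) = 1 := hinj (by
        rw [map_one]; exact Subtype.ext ((QuotientGroup.eq_one_iff z).mpr hz))
      exact congrArg Subtype.val this
    have hQbar : Cfsg.IsElementaryAbelian q (Q.map π) := by
      refine ⟨⟨⟨?_⟩⟩, ?_⟩
      · rintro ⟨_, a, ha, rfl⟩ ⟨_, b, hb, rfl⟩
        exact Subtype.ext (by simp only [Subgroup.coe_mul, ← map_mul, hQcomm a ha b hb])
      · rintro _ ⟨a, ha, rfl⟩
        rw [← map_pow, hQ.2 a ha, map_one]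
    have honlybar : ∀ X : Subgroup (S ⧸ Z₀), X ≤ Q.map π → Nat.card X = q →
        P.map π ⊓ centralizer (X : Set (S ⧸ Z₀)) ≠ ⊥ → X = Y₁.map π ∨ X = Y₂.map π := by
      intro X hX hXc hne
      obtain ⟨X', hX', rfl⟩ : ∃ X', X' ≤ Q ∧ X'.map π = X := by
        refine ⟨X.comap π ⊓ Q, inf_le_right, le_antisymm ?_ ?_⟩
        · exact (map_mono inf_le_left).trans (map_comap_le _ _)
        · intro y hy
          obtain ⟨a, ha, rfl⟩ := hX hy
          exact ⟨a, ⟨hy, ha⟩, rfl⟩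
      rw [hcardmap X' hX'] at hXc
      obtain ⟨y, hy, hy1⟩ := (bot_or_exists_ne_one _).resolve_left hne
      obtain ⟨⟨w, hw, rfl⟩, hyc⟩ := hy
      obtain ⟨z, hz, hwz⟩ := hlift X' hX' w hw hyc
      rcases gonly X' hX' hXc (fun h => hy1 (by
        rw [h, mem_bot] at hwz
        rw [eq_inv_of_mul_eq_one_left hwz, map_inv, inv_eq_one]
        exact (QuotientGroup.eq_one_iff z).mpr hz)) with h | h
      · exact Or.inl (by rw [h])
      · exact Or.inr (by rw [h])
    have hYne : Y₁.map π ≠ Y₂.map π := fun he => g₁₂ (by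
      obtain ⟨a, haX, ha1⟩ := (bot_or_exists_ne_one Y₁).resolve_left fun h => by
        rw [h, card_bot] at gc₁; exact hq.out.ne_one gc₁.symm
      obtain ⟨b, hb, hab⟩ : π a ∈ Y₂.map π := he ▸ ⟨a, haX, rfl⟩
      have : b = a := mul_inv_eq_one.mp (hinjQ _ (mul_mem (g₂ hb) (inv_mem (g₁ haX)))
        (by rw [map_mul, map_inv, hab, mul_inv_cancel]))
      exact eq_of_card_prime hq.out gc₁ gc₂ ha1 haX (this ▸ hb))
    obtain ⟨-, -, hbar⟩ := ih _ hPbar (S ⧸ Z₀) (P.map π) (Q.map π) rfl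
      (hPn.map π (QuotientGroup.mk'_surjective Z₀)) (hP.map π) hQbar
      (by rw [hcardmap Q le_rfl, hQc])
      (by rw [← Subgroup.map_sup, hS, map_top_of_surjective π (QuotientGroup.mk'_surjective Z₀)])
      (Y₁.map π) (Y₂.map π) (map_mono g₁) (map_mono g₂) hYne
      (by rw [hcardmap Y₁ g₁, gc₁]) (by rw [hcardmap Y₂ g₂, gc₂]) honlybar
    -- commutators lie in `Z₀`
    have himg : ∀ Y : Subgroup S, ∀ x ∈ P ⊓ centralizer (Y : Set S),
        π x ∈ P.map π ⊓ centralizer (Y.map π : Set (S ⧸ Z₀)) := fun Y x hx =>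
      ⟨⟨x, hx.1, rfl⟩, mem_centralizer_iff.mpr fun v hv => by
        obtain ⟨a, ha, rfl⟩ := hv
        rw [← map_mul, ← map_mul, mem_centralizer_iff.mp hx.2 a ha]⟩
    have hcommZ : ∀ x ∈ P ⊓ centralizer (Y₁ : Set S), ∀ y ∈ P ⊓ centralizer (Y₂ : Set S),
        x * y * x⁻¹ * y⁻¹ ∈ Z₀ := fun x hx y hy => by
      rw [← QuotientGroup.eq_one_iff]
      show π (x * y * x⁻¹ * y⁻¹) = 1
      rw [map_mul, map_mul, map_mul, map_inv, map_inv, hbar _ (himg Y₁ x hx) _ (himg Y₂ y hy)]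
      group
    intro x hx y hy
    set K := P ⊓ centralizer (Y₂ : Set S) with hK
    have hQK : Q ≤ normalizer (K : Set S) := by
      refine le_trans ?_ inf_normalizer_le_normalizer_inf
      refine le_inf hQPn fun a ha => le_normalizer (mem_centralizer_iff.mpr fun b hb => ?_)
      exact hQcomm b (g₂ hb) a ha
    have hKfix : K ⊓ centralizer (Y₁ : Set S) = ⊥ := by
      rw [eq_bot_iff, ← hPQ]
      intro w hw
      refine ⟨hw.1.1, mem_centralizer_iff.mpr fun a ha => ?_⟩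
      have hle : Y₁ ⊔ Y₂ ≤ centralizer ({w} : Set S) := sup_le
        (fun b hb => mem_centralizer_iff.mpr fun v hv => by
          rw [Set.mem_singleton_iff] at hv; subst hv
          exact (mem_centralizer_iff.mp hw.2 b hb).symm)
        (fun b hb => mem_centralizer_iff.mpr fun v hv => by
          rw [Set.mem_singleton_iff] at hv; subst hv
          exact (mem_centralizer_iff.mp hw.1.2 b hb).symm)
      exact (mem_centralizer_iff.mp (hle (hQY ha)) w rfl).symm
    have hKgen : K ≤ ⁅K, Y₁⁆ := by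
      have h := CfsgLib.Core.commutator_sup_centralizer (A := Y₁) (K := K) (g₁.trans hQK)
        ((hcopP Y₁ g₁).coprime_dvd_right (card_dvd_of_le inf_le_left))
        (Or.inl (by
          haveI : IsMulCommutative Y₁ := ⟨⟨fun a b => Subtype.ext (hQcomm _ (g₁ a.2) _ (g₁ b.2))⟩⟩
          exact Group.isSolvable_of_comm fun a b => mul_comm' a b))
      rw [hKfix, sup_bot_eq] at h
      exact h.ge
    have hle : ⁅K, Y₁⁆ ≤ centralizer ({x} : Set S) := by
      rw [commutator_le]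
      intro w hw a ha
      rw [mem_centralizer_iff]
      intro v hv
      rw [Set.mem_singleton_iff] at hv; rw [hv]
      have hax : a * x = x * a := mem_centralizer_iff.mp hx.2 a ha
      set z := x * w * x⁻¹ * w⁻¹ with hz
      have hzmem : z ∈ Z₀ := hcommZ x hx w hw
      have haz : a * z = z * a := mem_centralizer_iff.mp hzmem.2 a ha
      have hwa : (a * w * a⁻¹) ∈ P := hPn.conj_mem w hw.1 a
      have hzc := hZ₀c z hzmem (a * w * a⁻¹) hwa
      have hzw := hZ₀c z hzmem w hw.1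
      have h1 : x * (a * w * a⁻¹) = z * (a * w * a⁻¹) * x := by
        calc x * (a * w * a⁻¹) = (x * a) * w * a⁻¹ := by group
          _ = (a * x) * w * a⁻¹ := by rw [hax]
          _ = a * z * w * (x * a⁻¹) := by rw [hz]; group
          _ = a * z * w * (a⁻¹ * (a * x) * a⁻¹) := by group
          _ = a * z * w * (a⁻¹ * (x * a) * a⁻¹) := by rw [hax]
          _ = (a * z) * w * a⁻¹ * x := by group
          _ = (z * a) * w * a⁻¹ * x := by rw [haz]
          _ = z * (a * w * a⁻¹) * x := by group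
      have h2 : x * w = z * w * x := by rw [hz]; group
      rw [commutatorElement_def]
      calc x * (w * a * w⁻¹ * a⁻¹) = (x * w) * (a * w * a⁻¹)⁻¹ := by group
        _ = w * z * (x * (a * w * a⁻¹)⁻¹) := by rw [h2, hzw]; group
        _ = w * z * ((x * (a * w * a⁻¹) * x⁻¹)⁻¹ * x) := by group
        _ = w * z * ((z * (a * w * a⁻¹))⁻¹ * x) := by rw [h1, mul_inv_cancel_right]
        _ = w * z * ((a * w * a⁻¹ * z)⁻¹ * x) := by rw [hzc]
        _ = w * a * w⁻¹ * a⁻¹ * x := by group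
    exact mem_centralizer_iff.mp (hle (hKgen hy)) x rfl
  have hQsup : Q ≤ X₁ ⊔ X₂ := le_sup_lines h₁ h₂ h₁₂ hc₁ hc₂ hQc
  rcases em (Z ⊓ centralizer (X₁ : Set S) = ⊥) with h | h
  · intro x hx y hy
    refine (step X₂ X₁ h₂ h₁ (Ne.symm h₁₂) hc₂ hc₁
      (fun X a b c => (honly X a b c).symm) (hQsup.trans (sup_comm X₁ X₂).le) ?_ y hy x hx).symm
    intro h'
    have := hgen Z hZP le_normalizer_of_normal
    rw [h, h', bot_sup_eq, le_bot_iff] at this
    exact hZne this
  · exact step X₁ X₂ h₁ h₂ h₁₂ hc₁ hc₂ honly hQsup h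

end CfsgLib.Techniques
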