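import Cfsg.Prelude.Def_Transfer
import Cfsg.Agent.Lib.Core.Basic

/-!
Elementary subgroups of order 8 in a 2-group with a large normal elementary subgroup.
-/

set_option autoImplicit false

namespace CfsgLib.Techniques

open Subgroup

variable {X : Type*} [Group X]

theorem sq_eq_one_inv {a : X} (h : a ^ 2 = 1) : a⁻¹ = a :=
  inv_eq_of_mul_eq_one_left (by rwa [← pow_two])

theorem elementary_zpowers {a : X} (ha : a ^ 2 = 1) : Cfsg.IsElementaryAbelian 2 (zpowers a) :=
  ⟨inferInstance, fun x hx => by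
    obtain ⟨i, rfl⟩ := hx
    show (a ^ i) ^ 2 = 1
    rw [← zpow_natCast, ← zpow_mul, mul_comm, zpow_mul, zpow_natCast, ha, one_zpow]⟩

theorem elementary_mono {p : ℕ} {A B : Subgroup X} (hB : Cfsg.IsElementaryAbelian p B) (h : A ≤ B) :
    Cfsg.IsElementaryAbelian p A :=
  ⟨⟨⟨fun a b => Subtype.ext (congrArg Subtype.val
    (hB.1.is_comm.comm ⟨a, h a.2⟩ ⟨b, h b.2⟩) :)⟩⟩, fun a ha => hB.2 a (h ha)⟩

theorem elementary_sup {S T : Subgroup X} (hS : Cfsg.IsElementaryAbelian 2 S)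
    (hT : Cfsg.IsElementaryAbelian 2 T) (hc : ∀ s ∈ S, ∀ t ∈ T, s * t = t * s) :
    Cfsg.IsElementaryAbelian 2 (S ⊔ T) := by
  haveI := hS.1
  haveI := hT.1
  have h1 : S ⊔ T ≤ centralizer ((S ⊔ T : Subgroup X) : Set X) := by
    refine sup_le (le_centralizer_iff.1 (sup_le (le_centralizer S) ?_))
      (le_centralizer_iff.1 (sup_le ?_ (le_centralizer T)))
    · exact fun t ht => mem_centralizer_iff.2 fun s hs => hc s hs t ht
    · exact fun s hs => mem_centralizer_iff.2 fun t ht => (hc s hs t ht).symm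
  have hcomm : IsMulCommutative ↥(S ⊔ T) := le_centralizer_iff_isMulCommutative.1 h1
  refine ⟨hcomm, fun x hx => ?_⟩
  have hn : S ≤ normalizer (T : Set X) := fun s hs =>
    centralizer_le_normalizer _ (mem_centralizer_iff.2 fun t ht => (hc s hs t ht).symm)
  rw [← SetLike.mem_coe, coe_mul_of_left_le_normalizer_right _ _ hn] at hx
  obtain ⟨s, hs, t, ht, rfl⟩ := hx
  show (s * t) ^ 2 = 1
  rw [(show Commute s t from hc s hs t ht).mul_pow, hS.2 s hs, hT.2 t ht, one_mul]

theorem elementary_grow [Finite X] {S : Subgroup X} (hS : Cfsg.IsElementaryAbelian 2 S) {a : X}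
    (ha : a ^ 2 = 1) (hc : ∀ s ∈ S, s * a = a * s) (haS : a ∉ S) :
    Cfsg.IsElementaryAbelian 2 (S ⊔ zpowers a) ∧
      Nat.card ↥(S ⊔ zpowers a) = Nat.card S * 2 := by
  have hc' : ∀ s ∈ S, ∀ t ∈ zpowers a, s * t = t * s := by
    rintro s hs _ ⟨i, rfl⟩
    exact ((show Commute s a from hc s hs).zpow_right i).eq
  refine ⟨elementary_sup hS (elementary_zpowers ha) hc', ?_⟩
  have hord : orderOf a = 2 := orderOf_eq_prime ha fun h => haS (h ▸ one_mem S)
  rw [CfsgLib.Core.card_sup_of_disjoint S (zpowers a) (fun s hs => centralizer_le_normalizer _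
    (mem_centralizer_iff.2 fun t ht => (hc' s hs t ht).symm)) ?_, Nat.card_zpowers, hord]
  rw [eq_bot_iff]
  rintro x ⟨hxS, ⟨i, rfl⟩⟩
  rcases Int.even_or_odd' i with ⟨j, rfl | rfl⟩
  · show a ^ (2 * j) ∈ (⊥ : Subgroup X)
    rw [zpow_mul, show a ^ (2 : ℤ) = 1 by exact_mod_cast ha, one_zpow]
    exact one_mem _
  · refine absurd ?_ haS
    have : a ^ (2 * j + 1) ∈ S := hxS
    rwa [zpow_add, zpow_mul, show a ^ (2 : ℤ) = 1 by exact_mod_cast ha, one_zpow, one_mul,
      zpow_one] at this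

/-- An involution fixes at least the square root of an elementary abelian group it normalizes. -/
theorem card_le_sq_centralizer [Finite X] {W : Subgroup X} (hW : Cfsg.IsElementaryAbelian 2 W)
    {a : X} (ha : a ^ 2 = 1) (hn : a ∈ normalizer (W : Set X)) :
    Nat.card W ≤ Nat.card ↥(W ⊓ centralizer ({a} : Set X)) ^ 2 := by
  haveI := hW.1
  have hcomm : ∀ u ∈ W, ∀ v ∈ W, u * v = v * u := fun u hu v hv =>
    congrArg Subtype.val (hW.1.is_comm.comm ⟨u, hu⟩ ⟨v, hv⟩)
  have hconj : ∀ w ∈ W, a * w * a⁻¹ ∈ W := fun w hw => (mem_normalizer_iff.1 hn w).1 hw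
  let f : W →* X :=
    { toFun := fun w => a * w * a⁻¹ * (w : X)⁻¹
      map_one' := by simp
      map_mul' := fun u v => by
        have h1 := hcomm _ (hconj v v.2) _ (inv_mem u.2)
        calc a * ((u : X) * v) * a⁻¹ * ((u : X) * v)⁻¹
            = a * u * a⁻¹ * ((a * v * a⁻¹) * (v : X)⁻¹ * (u : X)⁻¹) := by group
          _ = a * u * a⁻¹ * ((u : X)⁻¹ * ((a * v * a⁻¹) * (v : X)⁻¹)) := by
              rw [hcomm _ (mul_mem (hconj v v.2) (inv_mem v.2)) _ (inv_mem u.2)]
          _ = a * u * a⁻¹ * (u : X)⁻¹ * (a * v * a⁻¹ * (v : X)⁻¹) := by group }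
  have hker : ∀ w : W, w ∈ f.ker ↔ (w : X) ∈ centralizer ({a} : Set X) := fun w => by
    rw [MonoidHom.mem_ker, mem_centralizer_singleton_iff]
    show a * w * a⁻¹ * (w : X)⁻¹ = 1 ↔ _
    rw [mul_inv_eq_one, mul_inv_eq_iff_eq_mul]
    exact eq_comm
  have hran : f.range ≤ W ⊓ centralizer ({a} : Set X) := by
    rintro _ ⟨w, rfl⟩
    have hmem : a * w * a⁻¹ * (w : X)⁻¹ ∈ W := mul_mem (hconj w w.2) (inv_mem w.2)
    refine Subgroup.mem_inf.2 ⟨hmem, mem_centralizer_singleton_iff.2 ?_⟩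
    show a * w * a⁻¹ * (w : X)⁻¹ * a = a * (a * w * a⁻¹ * (w : X)⁻¹)
    have hai := sq_eq_one_inv ha
    have haa : a * a = 1 := by rwa [← pow_two]
    have hwi : (w : X)⁻¹ = w := sq_eq_one_inv (hW.2 w w.2)
    rw [hai, hwi]
    have h2 := hcomm _ (hconj w w.2) w w.2
    rw [hai] at h2
    calc a * w * a * w * a = (a * w * a * w) * a := by group
      _ = (w * (a * w * a)) * a := by rw [h2]
      _ = w * a * w * (a * a) := by group
      _ = (a * a) * w * a * w := by rw [haa, mul_one, one_mul]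
      _ = a * (a * w * a * w) := by group
  calc Nat.card W = Nat.card f.ker * Nat.card f.range := by
        rw [← Subgroup.index_ker, Subgroup.card_mul_index]
    _ ≤ Nat.card ↥(W ⊓ centralizer ({a} : Set X)) * Nat.card ↥(W ⊓ centralizer ({a} : Set X)) := by
        refine Nat.mul_le_mul ?_ (Nat.le_of_dvd Nat.card_pos (card_dvd_of_le hran))
        exact Nat.card_le_card_of_injective
          (fun w : f.ker => (⟨((w : W) : X), (w : W).2, (hker w).1 w.2⟩ :
            ↥(W ⊓ centralizer ({a} : Set X))))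
          fun u v h => Subtype.ext (Subtype.ext (congrArg Subtype.val h :))
    _ = _ := (sq _).symm

theorem exists_pow_card [Finite X] (hX : IsPGroup 2 X) (W : Subgroup X) :
    ∃ k, Nat.card W = 2 ^ k := IsPGroup.iff_card.1 (hX.to_subgroup W)

variable [Finite X] (hX : IsPGroup 2 X) {E : Subgroup X} [E.Normal]
  (hE : Cfsg.IsElementaryAbelian 2 E) (hE32 : 32 ≤ Nat.card E)

include hX hE hE32

theorem card_fix_one {a : X} (ha : a ^ 2 = 1) : 8 ≤ Nat.card ↥(E ⊓ centralizer ({a} : Set X)) := by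
  have h := card_le_sq_centralizer hE ha (E.normalizer_eq_top ▸ mem_top a)
  obtain ⟨k, hk⟩ := exists_pow_card hX (E ⊓ centralizer ({a} : Set X))
  rw [hk] at h ⊢
  rcases k with _ | _ | _ | k
  · norm_num at h; omega
  · norm_num at h; omega
  · norm_num at h; omega
  · calc 8 = 2 ^ 3 := by norm_num
      _ ≤ _ := Nat.pow_le_pow_right (by norm_num) (by omega)

theorem card_fix_two {a b : X} (ha : a ^ 2 = 1) (hb : b ^ 2 = 1) (hab : a * b = b * a) :
    4 ≤ Nat.card ↥(E ⊓ centralizer ({a} : Set X) ⊓ centralizer ({b} : Set X)) := by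
  have hn : b ∈ normalizer ((E ⊓ centralizer ({a} : Set X) : Subgroup X) : Set X) := by
    rw [mem_normalizer_iff]
    intro x
    have hcj : ∀ {u y : X}, u * a = a * u → y * a = a * y → u * y * u⁻¹ * a = a * (u * y * u⁻¹) :=
      fun {u y} hu hy => ((show Commute u a from hu).mul_left (show Commute y a from hy)).mul_left
        (show Commute u a from hu).inv_left
    constructor
    · intro hx
      exact Subgroup.mem_inf.2 ⟨‹E.Normal›.conj_mem x hx.1 b,
        mem_centralizer_singleton_iff.2 (hcj hab.symm (mem_centralizer_singleton_iff.1 hx.2))⟩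
    · intro hx
      have h1 := ‹E.Normal›.conj_mem _ hx.1 b⁻¹
      have h2 := hcj (u := b⁻¹) ((show Commute b a from hab.symm).inv_left)
        (mem_centralizer_singleton_iff.1 hx.2)
      rw [show b⁻¹ * (b * x * b⁻¹) * b⁻¹⁻¹ = x by group] at h1 h2
      exact Subgroup.mem_inf.2 ⟨h1, mem_centralizer_singleton_iff.2 h2⟩
  have h := (card_fix_one hX hE hE32 ha).trans
    (card_le_sq_centralizer (elementary_mono hE inf_le_left) hb hn)
  obtain ⟨k, hk⟩ := exists_pow_card hX (E ⊓ centralizer ({a} : Set X) ⊓ centralizer ({b} : Set X))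
  rw [hk] at h ⊢
  rcases k with _ | _ | k
  · norm_num at h
  · norm_num at h
  · calc 4 = 2 ^ 2 := by norm_num
      _ ≤ _ := Nat.pow_le_pow_right (by norm_num) (by omega)

theorem card_fix_three {a b c : X} (ha : a ^ 2 = 1) (hb : b ^ 2 = 1) (hc : c ^ 2 = 1)
    (hab : a * b = b * a) (hac : a * c = c * a) (hbc : b * c = c * b) :
    2 ≤ Nat.card ↥(E ⊓ centralizer ({a} : Set X) ⊓ centralizer ({b} : Set X) ⊓
      centralizer ({c} : Set X)) := by
  have hn : c ∈ normalizer
      ((E ⊓ centralizer ({a} : Set X) ⊓ centralizer ({b} : Set X) : Subgroup X) : Set X) := by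
    have key : ∀ u : X, u * a = a * u → u * b = b * u →
        ∀ y ∈ E ⊓ centralizer ({a} : Set X) ⊓ centralizer ({b} : Set X),
          u * y * u⁻¹ ∈ E ⊓ centralizer ({a} : Set X) ⊓ centralizer ({b} : Set X) := by
      intro u hua hub y hy
      refine Subgroup.mem_inf.2 ⟨Subgroup.mem_inf.2 ⟨‹E.Normal›.conj_mem y hy.1.1 u,
        mem_centralizer_singleton_iff.2 ?_⟩, mem_centralizer_singleton_iff.2 ?_⟩
      · exact ((show Commute u a from hua).mul_left
          (show Commute y a from mem_centralizer_singleton_iff.1 hy.1.2)).mul_left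
          (show Commute u a from hua).inv_left
      · exact ((show Commute u b from hub).mul_left
          (show Commute y b from mem_centralizer_singleton_iff.1 hy.2)).mul_left
          (show Commute u b from hub).inv_left
    refine mem_normalizer_iff.2 fun x => ⟨key c hac.symm hbc.symm x, fun hx => ?_⟩
    have := key c⁻¹ ((show Commute c a from hac.symm).inv_left)
      ((show Commute c b from hbc.symm).inv_left) _ hx
    rwa [show c⁻¹ * (c * x * c⁻¹) * c⁻¹⁻¹ = x by group] at this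
  have h := (card_fix_two hX hE hE32 ha hb hab).trans
    (card_le_sq_centralizer (elementary_mono hE (inf_le_left.trans inf_le_left)) hc hn)
  by_contra hlt
  nlinarith [Nat.card_pos (α := ↥(E ⊓ centralizer ({a} : Set X) ⊓ centralizer ({b} : Set X) ⊓
      centralizer ({c} : Set X)))]

/-- A centralizing element of `E` outside an elementary subgroup of order 8 not inside `E`. -/
theorem exists_centralizing_outside {A : Subgroup X} (hA : Cfsg.IsElementaryAbelian 2 A)
    (hA8 : Nat.card A = 8) (hAE : ¬ A ≤ E) :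
    ∃ f ∈ E, f ∉ A ∧ ∀ a ∈ A, a * f = f * a := by
  haveI := hA.1
  have hcomm : ∀ u ∈ A, ∀ v ∈ A, u * v = v * u := fun u hu v hv =>
    congrArg Subtype.val (hA.1.is_comm.comm ⟨u, hu⟩ ⟨v, hv⟩)
  set U := A ⊓ E with hU
  have hUel := elementary_mono hA (inf_le_left : U ≤ A)
  obtain ⟨a, haA, haE⟩ := SetLike.not_le_iff_exists.1 hAE
  obtain ⟨hUa, hcUa⟩ := elementary_grow hUel (hA.2 a haA) (fun s hs => hcomm s hs.1 a haA)
    fun h => haE h.2
  have hle1 : U ⊔ zpowers a ≤ A := sup_le inf_le_left (zpowers_le.2 haA)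
  suffices h : ∃ W : Subgroup X, W ≤ E ∧ Nat.card U < Nat.card W ∧ ∀ w ∈ W, ∀ x ∈ A, x * w = w * x by
    obtain ⟨W, hWE, hlt, hW⟩ := h
    obtain ⟨w, hw, hwA⟩ := SetLike.not_le_iff_exists.1 (show ¬ W ≤ A from fun hle =>
      hlt.not_ge (Nat.le_of_dvd Nat.card_pos (card_dvd_of_le (le_inf hle hWE))))
    exact ⟨w, hWE hw, hwA, fun x hx => hW w hw x hx⟩
  have hmem : ∀ {T : Subgroup X}, T ≤ A → ∀ w ∈ E, (∀ t ∈ T, t ∈ centralizer ({w} : Set X)) →
      A ≤ U ⊔ T → ∀ x ∈ A, x * w = w * x := by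
    intro T _ w hw hT hgen x hx
    have : U ⊔ T ≤ centralizer ({w} : Set X) := sup_le
      (fun u hu => mem_centralizer_singleton_iff.2
        (congrArg Subtype.val (hE.1.is_comm.comm ⟨u, hu.2⟩ ⟨w, hw⟩))) hT
    exact mem_centralizer_singleton_iff.1 (this (hgen hx))
  by_cases h1 : U ⊔ zpowers a = A
  · refine ⟨E ⊓ centralizer ({a} : Set X), inf_le_left, ?_, fun w hw => hmem
      (zpowers_le.2 haA) w hw.1 (fun t ht => zpowers_le.2 (mem_centralizer_singleton_iff.2
        (mem_centralizer_singleton_iff.1 hw.2).symm) ht) h1.ge⟩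
    have := card_fix_one hX hE hE32 (hA.2 a haA)
    have : Nat.card U * 2 = 8 := by rw [← hcUa, h1, hA8]
    omega
  obtain ⟨b, hbA, hb⟩ := SetLike.exists_of_lt (lt_of_le_of_ne hle1 h1)
  obtain ⟨hUab, hcUab⟩ := elementary_grow hUa (hA.2 b hbA) (fun s hs => hcomm s (hle1 hs) b hbA) hb
  have hle2 : U ⊔ zpowers a ⊔ zpowers b ≤ A := sup_le hle1 (zpowers_le.2 hbA)
  have hz : ∀ {u w : X}, w ∈ centralizer ({u} : Set X) → zpowers u ≤ centralizer ({w} : Set X) :=
    fun {u w} h => zpowers_le.2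
      (mem_centralizer_singleton_iff.2 (mem_centralizer_singleton_iff.1 h).symm)
  by_cases h2 : U ⊔ zpowers a ⊔ zpowers b = A
  · refine ⟨E ⊓ centralizer ({a} : Set X) ⊓ centralizer ({b} : Set X),
      inf_le_left.trans inf_le_left, ?_, fun w hw => hmem (T := zpowers a ⊔ zpowers b)
        (sup_le (zpowers_le.2 haA) (zpowers_le.2 hbA)) w hw.1.1
        (fun t ht => (sup_le (hz hw.1.2) (hz hw.2) : _ ≤ centralizer ({w} : Set X)) ht)
        (by rw [← sup_assoc, h2])⟩
    have := card_fix_two hX hE hE32 (hA.2 a haA) (hA.2 b hbA) (hcomm a haA b hbA)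
    have : Nat.card U * 2 * 2 = 8 := by rw [← hcUa, ← hcUab, h2, hA8]
    omega
  obtain ⟨c, hcA, hc⟩ := SetLike.exists_of_lt (lt_of_le_of_ne hle2 h2)
  obtain ⟨-, hcUabc⟩ := elementary_grow hUab (hA.2 c hcA) (fun s hs => hcomm s (hle2 hs) c hcA) hc
  have hle3 : U ⊔ zpowers a ⊔ zpowers b ⊔ zpowers c ≤ A := sup_le hle2 (zpowers_le.2 hcA)
  have hd := Nat.le_of_dvd Nat.card_pos (card_dvd_of_le hle3)
  rw [hcUabc, hcUab, hcUa, hA8] at hd
  have hU1 : Nat.card U = 1 := by have h0 : 0 < Nat.card ↥(A ⊓ E) := Nat.card_pos; simp only [hU] at hd ⊢; omega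
  refine ⟨E ⊓ centralizer ({a} : Set X) ⊓ centralizer ({b} : Set X) ⊓ centralizer ({c} : Set X),
    (inf_le_left.trans inf_le_left).trans inf_le_left, ?_,
    fun w hw => hmem (T := zpowers a ⊔ zpowers b ⊔ zpowers c)
      (sup_le (sup_le (zpowers_le.2 haA) (zpowers_le.2 hbA)) (zpowers_le.2 hcA)) w hw.1.1.1
      (fun t ht => (sup_le (sup_le (hz hw.1.1.2) (hz hw.1.2)) (hz hw.2) :
        _ ≤ centralizer ({w} : Set X)) ht) ?_⟩
  · have := card_fix_three hX hE hE32 (hA.2 a haA) (hA.2 b hbA) (hA.2 c hcA) (hcomm a haA b hbA)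
      (hcomm a haA c hcA) (hcomm b hbA c hcA)
    omega
  · rw [← sup_assoc, ← sup_assoc]
    exact (eq_of_le_of_card_ge hle3 (by rw [hcUabc, hcUab, hcUa, hA8, hU1])).ge

end CfsgLib.Techniques
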