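import Mathlib.GroupTheory.Sylow
import Mathlib.Algebra.BigOperators.Group.Finset.Basic
import Mathlib.Data.ZMod.Basic

/-!
An involution fixing a unique point such that products with commuting conjugates fix a unique point
is central in a Sylow `2`-subgroup.
-/

set_option autoImplicit false

namespace CfsgLib.Techniques

open Subgroup

variable {G : Type*} [Group G] [Finite G]

/-- An involutive map with exactly one fixed point lives on a set of odd order. -/
theorem odd_card_of_unique_fixed {α : Type*} [Finite α] (f : α → α) (hf : Function.Involutive f)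
    (a : α) (ha : f a = a) (hu : ∀ b, f b = b → b = a) : Odd (Nat.card α) := by
  classical
  haveI := Fintype.ofFinite α
  have h : (∑ _b ∈ (Finset.univ : Finset α).erase a, (1 : ZMod 2)) = 0 := by
    refine Finset.sum_involution (fun b _ => f b) (fun b _ => by decide) (fun b hb _ => ?_) (fun b hb => ?_)
      fun b _ => hf b
    · exact fun e => (Finset.ne_of_mem_erase hb) (hu b e)
    · refine Finset.mem_erase.2 ⟨fun e => Finset.ne_of_mem_erase hb ?_, Finset.mem_univ _⟩
      rw [← hf b, e, ha]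
  rw [Finset.sum_const, Finset.card_erase_of_mem (Finset.mem_univ a), Finset.card_univ, nsmul_one,
    ZMod.natCast_eq_zero_iff_even] at h
  rw [Nat.card_eq_fintype_card]
  have h1 : 0 < Fintype.card α := Fintype.card_pos_iff.2 ⟨a⟩
  obtain ⟨k, hk⟩ := h
  exact ⟨k, by omega⟩

theorem exists_center_sylow_of_unique_fixed {z : G} (hz : orderOf z = 2) {H : Subgroup G} (hH : H ≠ ⊤)
    (h0 : ∀ g : G, z ∈ H.map (MulAut.conj g).toMonoidHom ↔ g ∈ H)
    (h1 : ∀ t : G, IsConj z t → t ≠ z → t * z = z * t →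
      ∀ g : G, z * t ∈ H.map (MulAut.conj g).toMonoidHom ↔ g ∈ H) :
    ∃ P : Sylow 2 G, z ∈ (center ↥(P : Subgroup G)).map (P : Subgroup G).subtype := by
  classical
  haveI : Fact (Nat.Prime 2) := ⟨Nat.prime_two⟩
  have hzz : z * z = 1 := by rw [← sq, ← hz]; exact pow_orderOf_eq_one z
  have hmem : ∀ (g x : G), x ∈ H.map (MulAut.conj g).toMonoidHom ↔ g⁻¹ * x * g ∈ H := by
    intro g x
    refine ⟨?_, fun h => ⟨g⁻¹ * x * g, h, by show g * (g⁻¹ * x * g) * g⁻¹ = x; group⟩⟩
    rintro ⟨h, hh, rfl⟩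
    rw [show g⁻¹ * (MulAut.conj g).toMonoidHom h * g = h by show g⁻¹ * (g * h * g⁻¹) * g = h; group]
    exact hh
  have hfix : ∀ y g : G, y * z * y⁻¹ ∈ H.map (MulAut.conj g).toMonoidHom → y⁻¹ * g ∈ H := by
    intro y g h
    rw [hmem] at h
    refine (h0 _).1 ((hmem _ _).2 ?_)
    rwa [show (y⁻¹ * g)⁻¹ * z * (y⁻¹ * g) = g⁻¹ * (y * z * y⁻¹) * g by group]
  have hH1 : H.map (MulAut.conj (1 : G)).toMonoidHom = H := by
    ext x; rw [hmem]; simp
  have hzH : z ∈ H := by
    have := (h0 1).2 (one_mem H)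
    rwa [hH1] at this
  have hCz : centralizer ({z} : Set G) ≤ H := fun c hc => (h0 c).1 ((hmem c z).2 (by
    rw [mem_centralizer_singleton_iff] at hc
    rwa [mul_assoc, ← hc, inv_mul_cancel_left]))
  -- two commuting conjugates whose product fixes the point `g` fix it themselves
  have hpair : ∀ v v' : G, IsConj z v → IsConj z v' → v * v' = v' * v → v ≠ v' →
      ∀ g : G, v * v' ∈ H.map (MulAut.conj g).toMonoidHom → v ∈ H.map (MulAut.conj g).toMonoidHom := by
    intro v v' hv hv' hc hne g hg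
    obtain ⟨y, rfl⟩ := isConj_iff.1 hv
    have ht : IsConj z (y⁻¹ * v' * y) := hv'.trans (isConj_iff.2 ⟨y⁻¹, by rw [inv_inv]⟩)
    have htne : y⁻¹ * v' * y ≠ z := fun e => hne (by rw [← e]; group)
    have htc : y⁻¹ * v' * y * z = z * (y⁻¹ * v' * y) := by
      calc y⁻¹ * v' * y * z = y⁻¹ * (v' * (y * z * y⁻¹)) * y := by group
        _ = y⁻¹ * ((y * z * y⁻¹) * v') * y := by rw [hc]
        _ = _ := by group
    have h2 := (h1 _ ht htne htc (y⁻¹ * g)).1 ((hmem _ _).2 (by
      rw [hmem] at hg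
      rwa [show (y⁻¹ * g)⁻¹ * (z * (y⁻¹ * v' * y)) * (y⁻¹ * g) = g⁻¹ * (y * z * y⁻¹ * v') * g by group]))
    rw [hmem, show g⁻¹ * (y * z * y⁻¹) * g = (y⁻¹ * g)⁻¹ * z * (y⁻¹ * g) by group]
    exact mul_mem (mul_mem (inv_mem h2) hzH) h2
  -- powers in a dihedral group
  have hdih : ∀ (u : G), u * u = 1 → ∀ j : ℕ, z * (z * u) ^ j * z = ((z * u) ^ j)⁻¹ := by
    intro u hu j
    have hzi : z⁻¹ = z := inv_eq_of_mul_eq_one_right hzz
    have h : z * (z * u) * z⁻¹ = (z * u)⁻¹ := by
      rw [hzi, mul_inv_rev, inv_eq_of_mul_eq_one_right hu, hzi, ← mul_assoc, hzz, one_mul]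
    rw [← inv_pow, ← h, conj_pow, hzi]
  have hsquare : ∀ (u : G), u * u = 1 → ∀ i : ℕ,
      z * (z * u) ^ (2 * i) = ((z * u) ^ i)⁻¹ * z * (z * u) ^ i := by
    intro u hu i
    rw [← hdih u hu i, two_mul, pow_add]
    calc z * ((z * u) ^ i * (z * u) ^ i) = z * (z * u) ^ i * (z * z) * (z * u) ^ i := by rw [hzz]; group
      _ = _ := by group
  have hinvol : ∀ v : G, IsConj z v → v * v = 1 := by
    intro v hv
    obtain ⟨y, rfl⟩ := isConj_iff.1 hv
    rw [show y * z * y⁻¹ * (y * z * y⁻¹) = y * (z * z) * y⁻¹ by group, hzz, mul_one, mul_inv_cancel]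
  obtain ⟨g, -, hg⟩ := SetLike.exists_of_lt (lt_top_iff_ne_top.2 hH : H < ⊤)
  set Hg := H.map (MulAut.conj g).toMonoidHom with hHg
  -- a conjugate fixing `g` does not commute with `z`
  have houtH : ∀ u : G, IsConj z u → u ∈ Hg → u ∉ H := by
    intro u hu hug huH
    obtain ⟨y, rfl⟩ := isConj_iff.1 hu
    have a1 := hfix y g hug
    have a2 := hfix y 1 (hH1.symm ▸ huH)
    rw [mul_one] at a2
    exact hg (by simpa using mul_mem (inv_mem a2) a1)
  -- the midpoint
  have hmid : ∀ u : G, IsConj z u → u ∈ Hg → ∃ v : G, IsConj z v ∧ v * z * v = u ∧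
      ∀ c : G, c * z = z * c → c * u = u * c → c * v = v * c := by
    intro u hu hug
    have huu := hinvol u hu
    have hodd : Odd (orderOf (z * u)) := by
      rw [← Nat.not_even_iff_odd]
      rintro ⟨l, hl⟩
      set w := (z * u) ^ l with hw
      have hpos : 0 < orderOf (z * u) := orderOf_pos _
      have hw1 : w ≠ 1 := fun e => by
        have := Nat.le_of_dvd (by omega) (orderOf_dvd_of_pow_eq_one e)
        omega
      have hw2 : w * w = 1 := by rw [← pow_add, ← hl, pow_orderOf_eq_one]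
      have hwi : w⁻¹ = w := inv_eq_of_mul_eq_one_right hw2
      have hwz : z * w = w * z := by
        have := hdih u huu l
        rw [← hw, hwi] at this
        calc z * w = z * w * (z * z) := by rw [hzz, mul_one]
          _ = (z * w * z) * z := by group
          _ = w * z := by rw [this]
      have hwu : u * w = w * u := by
        have h2 : Commute w (z * u) := (Commute.refl (z * u)).pow_left l
        calc u * w = z * (z * u * w) := by rw [← mul_assoc, ← mul_assoc, hzz, one_mul]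
          _ = z * (w * (z * u)) := by rw [h2.eq]
          _ = z * w * z * u := by group
          _ = w * u := by rw [hwz, mul_assoc w z z, hzz, mul_one]
      have hzw : IsConj z (z * w) := by
        rcases Nat.even_or_odd l with ⟨i, hi⟩ | ⟨i, hi⟩
        · refine isConj_iff.2 ⟨((z * u) ^ i)⁻¹, ?_⟩
          rw [inv_inv, hw, hi, ← two_mul, hsquare u huu i]
        · refine hu.trans (isConj_iff.2 ⟨((z * u) ^ i)⁻¹, ?_⟩)
          have h3 : u = z * (z * u) := by rw [← mul_assoc, hzz, one_mul]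
          rw [inv_inv, hw, hi]
          calc ((z * u) ^ i)⁻¹ * u * (z * u) ^ i = ((z * u) ^ i)⁻¹ * (z * (z * u)) * (z * u) ^ i := by rw [← h3]
            _ = ((z * u) ^ i)⁻¹ * z * ((z * u) * (z * u) ^ i) := by simp only [mul_assoc]
            _ = ((z * u) ^ i)⁻¹ * z * ((z * u) ^ i * (z * u)) := by rw [← pow_succ', pow_succ]
            _ = z * (z * u) ^ (2 * i) * (z * u) := by rw [hsquare u huu i]; simp only [mul_assoc]
            _ = _ := by rw [pow_succ, mul_assoc]
      have hne : z * w ≠ z := fun e => hw1 (mul_eq_left.1 e)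
      have hc : z * w * z = z * (z * w) := by
        rw [mul_assoc, ← hwz]
      have hwHg : w ∈ Hg := by
        obtain ⟨y, hy⟩ := isConj_iff.1 hu
        have hyg := hfix y g (hy ▸ hug)
        have hc' : y⁻¹ * w * y ∈ H := hCz (mem_centralizer_singleton_iff.2 (by
          calc y⁻¹ * w * y * z = y⁻¹ * (w * (y * z * y⁻¹)) * y := by group
            _ = y⁻¹ * ((y * z * y⁻¹) * w) * y := by rw [hy, hwu]
            _ = _ := by group))
        rw [hHg, hmem, show g⁻¹ * w * g = (y⁻¹ * g)⁻¹ * (y⁻¹ * w * y) * (y⁻¹ * g) by group]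
        exact mul_mem (mul_mem (inv_mem hyg) hc') hyg
      exact hg ((h1 _ hzw hne hc g).1 (by rw [← mul_assoc, hzz, one_mul]; exact hwHg))
    obtain ⟨j, hj⟩ := hodd
    refine ⟨z * (z * u) ^ (2 * ((j + 1) * (j + 1))), ?_, ?_, ?_⟩
    · refine isConj_iff.2 ⟨((z * u) ^ ((j + 1) * (j + 1)))⁻¹, ?_⟩
      rw [inv_inv, hsquare u huu]
    · have he : (z * u) ^ (2 * ((j + 1) * (j + 1))) = (z * u) ^ (j + 1) := by
        rw [show 2 * ((j + 1) * (j + 1)) = orderOf (z * u) * (j + 1) + (j + 1) by rw [hj]; ring, pow_add,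
          pow_mul, pow_orderOf_eq_one, one_pow, one_mul]
      rw [he]
      calc z * (z * u) ^ (j + 1) * z * (z * (z * u) ^ (j + 1))
          = z * (z * u) ^ (j + 1) * (z * z) * (z * u) ^ (j + 1) := by group
        _ = z * ((z * u) ^ (j + 1) * (z * u) ^ (j + 1)) := by rw [hzz]; group
        _ = u := by
          rw [← pow_add, show j + 1 + (j + 1) = orderOf (z * u) + 1 by rw [hj]; ring, pow_add,
            pow_orderOf_eq_one, one_mul, pow_one, ← mul_assoc, hzz, one_mul]
    · intro c hcz hcu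
      exact ((show Commute c z from hcz).mul_right (((show Commute c z from hcz).mul_right
        (show Commute c u from hcu)).pow_right _)).eq
  let V := {v : G // IsConj z v ∧ g⁻¹ * v ∈ H}
  let Z := {u : G // IsConj z u ∧ u ∈ Hg}
  let Z₀ := {u : G // IsConj z u ∧ u ∈ H}
  have hVH : ∀ v : V, v.1 ∉ H := fun v hv => hg (by
    have := mul_mem hv (inv_mem v.2.2)
    rwa [mul_inv_rev, inv_inv, ← mul_assoc, mul_inv_cancel, one_mul] at this)
  have hVV : ∀ v v' : V, v.1 * v'.1 = v'.1 * v.1 → v.1 * v'.1 ∈ H → v = v' := by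
    intro v v' hc hH'
    by_contra hne
    refine hVH v ?_
    have := hpair v.1 v'.1 v.2.1 v'.2.1 hc (fun e => hne (Subtype.ext e)) 1 (hH1.symm ▸ hH')
    rwa [hH1] at this
  have hbij : Nat.card V = Nat.card Z := by
    let φ : V → Z := fun v => ⟨v.1 * z * v.1, by
      refine ⟨isConj_iff.2 ⟨v.1, by rw [inv_eq_of_mul_eq_one_right (hinvol _ v.2.1)]⟩, ?_⟩
      have hvi : v.1⁻¹ = v.1 := inv_eq_of_mul_eq_one_right (hinvol _ v.2.1)
      rw [hHg, hmem]
      rw [show g⁻¹ * (v.1 * z * v.1) * g = (g⁻¹ * v.1) * z * (g⁻¹ * v.1)⁻¹ by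
        rw [mul_inv_rev, inv_inv, hvi]; group]
      exact mul_mem (mul_mem v.2.2 hzH) (inv_mem v.2.2)⟩
    refine Nat.card_congr (Equiv.ofBijective φ ⟨?_, ?_⟩)
    · intro v₁ v₂ h
      have hu : v₂.1 * z * v₂.1 = v₁.1 * z * v₁.1 := (congrArg Subtype.val h).symm
      obtain ⟨v₀, hv₀, hv₀u, hv₀c⟩ := hmid _ (φ v₁).2.1 (φ v₁).2.2
      have key : ∀ v : V, v.1 * z * v.1 = v₁.1 * z * v₁.1 → v.1 = v₀ := by
        intro v hv
        have hvv := hinvol _ v.2.1
        have h00 := hinvol _ hv₀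
        have hi : v.1⁻¹ = v.1 := inv_eq_of_mul_eq_one_right hvv
        have hi0 : v₀⁻¹ = v₀ := inv_eq_of_mul_eq_one_right h00
        have e0 : v₀ * z * v₀ = v.1 * z * v.1 := hv₀u.trans hv.symm
        have hcz : v₀ * v.1 * z = z * (v₀ * v.1) := by
          calc v₀ * v.1 * z = v₀ * (v.1 * z * v.1) * v.1⁻¹ := by group
            _ = v₀ * (v₀ * z * v₀) * v.1⁻¹ := by rw [e0]
            _ = z * (v₀ * v.1) := by
                rw [← mul_assoc, ← mul_assoc, h00, hi]; group
        have hcu : v₀ * v.1 * (v₁.1 * z * v₁.1) = v₁.1 * z * v₁.1 * (v₀ * v.1) := by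
          rw [← hv]
          calc v₀ * v.1 * (v.1 * z * v.1) = v₀ * (v.1 * v.1) * z * v.1 := by group
            _ = v₀ * z * v₀ * (v₀⁻¹ * v.1) := by rw [hvv]; group
            _ = v.1 * z * v.1 * (v₀ * v.1) := by rw [e0, hi0]
        have hc := hv₀c _ hcz hcu
        by_contra hne
        have hcomm : v.1 * v₀ = v₀ * v.1 := by
          have h3 : v₀ * v.1 * v₀ = v.1 := by
            calc v₀ * v.1 * v₀ = v₀ * (v₀ * v.1) := hc
              _ = v.1 := by rw [← mul_assoc, h00, one_mul]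
          calc v.1 * v₀ = v₀ * v.1 * v₀ * v₀ := by rw [h3]
            _ = v₀ * v.1 := by rw [mul_assoc, h00, mul_one]
        have hvH : v.1 * v₀ ∈ H := by
          rw [hcomm]; exact hCz (mem_centralizer_singleton_iff.2 hcz)
        refine hVH v ?_
        have := hpair v.1 v₀ v.2.1 hv₀ hcomm hne 1 (hH1.symm ▸ hvH)
        rwa [hH1] at this
      exact Subtype.ext ((key v₁ rfl).trans (key v₂ hu).symm)
    · intro u
      obtain ⟨v, hv, hvu, -⟩ := hmid u.1 u.2.1 u.2.2
      have hvg : g⁻¹ * v ∈ H := by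
        have h' : v * z * v⁻¹ ∈ H.map (MulAut.conj g).toMonoidHom := by
          rw [inv_eq_of_mul_eq_one_right (hinvol v hv), hvu]; exact u.2.2
        have := inv_mem (hfix v g h')
        rwa [mul_inv_rev, inv_inv] at this
      exact ⟨⟨v, hv, hvg⟩, Subtype.ext hvu⟩
  have hVne : Nonempty V := by
    obtain ⟨v, hv, hvu, -⟩ := hmid (g * z * g⁻¹) (isConj_iff.2 ⟨g, rfl⟩) ((hmem _ _).2 (by
      rw [show g⁻¹ * (g * z * g⁻¹) * g = z by group]; exact hzH))
    refine ⟨⟨v, hv, ?_⟩⟩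
    have h' : v * z * v⁻¹ ∈ H.map (MulAut.conj g).toMonoidHom := by
      rw [inv_eq_of_mul_eq_one_right (hinvol v hv), hvu, hmem,
        show g⁻¹ * (g * z * g⁻¹) * g = z by group]
      exact hzH
    have := inv_mem (hfix v g h')
    rwa [mul_inv_rev, inv_inv] at this
  have hVodd : Odd (Nat.card V) := by
    obtain ⟨v⟩ := hVne
    have hvi : v.1⁻¹ = v.1 := inv_eq_of_mul_eq_one_right (hinvol _ v.2.1)
    have hin : ∀ w : V, IsConj z (v.1 * w.1 * v.1⁻¹) ∧ g⁻¹ * (v.1 * w.1 * v.1⁻¹) ∈ H := by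
      intro w
      have hwi : w.1⁻¹ = w.1 := inv_eq_of_mul_eq_one_right (hinvol _ w.2.1)
      refine ⟨w.2.1.trans (isConj_iff.2 ⟨v.1, rfl⟩), ?_⟩
      rw [show g⁻¹ * (v.1 * w.1 * v.1⁻¹) = (g⁻¹ * v.1) * (g⁻¹ * w.1)⁻¹ * (g⁻¹ * v.1) by
        rw [mul_inv_rev, inv_inv, hwi, hvi]; group]
      exact mul_mem (mul_mem v.2.2 (inv_mem w.2.2)) v.2.2
    refine odd_card_of_unique_fixed (fun w => (⟨v.1 * w.1 * v.1⁻¹, hin w⟩ : V)) (fun w => Subtype.ext ?_) v
      (Subtype.ext (mul_inv_cancel_right _ _)) fun w hw => ?_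
    · show v.1 * (v.1 * w.1 * v.1⁻¹) * v.1⁻¹ = w.1
      rw [hvi, ← mul_assoc, ← mul_assoc, hinvol _ v.2.1, one_mul, mul_assoc, hinvol _ v.2.1, mul_one]
    · have hc : v.1 * w.1 = w.1 * v.1 := mul_inv_eq_iff_eq_mul.1 (congrArg Subtype.val hw)
      refine (hVV v w hc ?_).symm
      rw [show v.1 * w.1 = v.1⁻¹ * w.1 by rw [hvi],
        show v.1⁻¹ * w.1 = (g⁻¹ * v.1)⁻¹ * (g⁻¹ * w.1) by group]
      exact mul_mem (inv_mem v.2.2) w.2.2
  have hZ : Nat.card Z = Nat.card Z₀ := Nat.card_congr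
    { toFun := fun u => ⟨g⁻¹ * u.1 * g, u.2.1.trans (isConj_iff.2 ⟨g⁻¹, by rw [inv_inv]⟩), (hmem _ _).1 u.2.2⟩
      invFun := fun u => ⟨g * u.1 * g⁻¹, u.2.1.trans (isConj_iff.2 ⟨g, rfl⟩), (hmem _ _).2 (by
        rw [show g⁻¹ * (g * u.1 * g⁻¹) * g = u.1 by group]; exact u.2.2)⟩
      left_inv := fun u => Subtype.ext (by show g * (g⁻¹ * u.1 * g) * g⁻¹ = u.1; group)
      right_inv := fun u => Subtype.ext (by show g⁻¹ * (g * u.1 * g⁻¹) * g = u.1; group) }
  set C := centralizer ({z} : Set G) with hC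
  have hZ₀ : Nat.card Z₀ = C.relIndex H := by
    let f : H → Z₀ := fun h => ⟨h * z * (h : G)⁻¹, isConj_iff.2 ⟨h, rfl⟩,
      mul_mem (mul_mem h.2 hzH) (inv_mem h.2)⟩
    have hsurj : Function.Surjective f := by
      rintro ⟨u, hu, huH⟩
      obtain ⟨y, rfl⟩ := isConj_iff.1 hu
      have := hfix y 1 (hH1.symm ▸ huH)
      rw [mul_one] at this
      exact ⟨⟨y, inv_mem_iff.1 this⟩, rfl⟩
    have hfib : ∀ a b : H, f a = f b ↔ a⁻¹ * b ∈ C.subgroupOf H := by
      intro a b
      rw [mem_subgroupOf, hC, mem_centralizer_singleton_iff]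
      constructor
      · intro h
        have h' : (a : G) * z * (a : G)⁻¹ = b * z * (b : G)⁻¹ := congrArg Subtype.val h
        show (a : G)⁻¹ * b * z = z * ((a : G)⁻¹ * b)
        calc (a : G)⁻¹ * b * z = (a : G)⁻¹ * (b * z * (b : G)⁻¹) * b := by group
          _ = (a : G)⁻¹ * (a * z * (a : G)⁻¹) * b := by rw [h']
          _ = _ := by group
      · intro h
        have h' : (a : G)⁻¹ * b * z = z * ((a : G)⁻¹ * b) := h
        refine Subtype.ext ?_
        show (a : G) * z * (a : G)⁻¹ = b * z * (b : G)⁻¹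
        calc (a : G) * z * (a : G)⁻¹ = a * (z * ((a : G)⁻¹ * b)) * (b : G)⁻¹ := by group
          _ = a * ((a : G)⁻¹ * b * z) * (b : G)⁻¹ := by rw [h']
          _ = _ := by group
    let F : H ⧸ C.subgroupOf H → Z₀ := fun q => Quotient.liftOn' q f fun a b hab =>
      (hfib a b).2 (QuotientGroup.leftRel_apply.1 hab)
    have hF : Function.Bijective F := by
      refine ⟨fun p q h => ?_, fun u => ?_⟩
      · obtain ⟨a, rfl⟩ := QuotientGroup.mk_surjective p
        obtain ⟨b, rfl⟩ := QuotientGroup.mk_surjective q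
        exact QuotientGroup.eq.2 ((hfib a b).1 h)
      · obtain ⟨a, rfl⟩ := hsurj u
        exact ⟨QuotientGroup.mk a, rfl⟩
    exact (Nat.card_congr (Equiv.ofBijective F hF)).symm
  have hGH : Odd H.index := by
    refine odd_card_of_unique_fixed (fun q : G ⧸ H => z • q)
      (fun q => by show z • z • q = q; rw [← mul_smul, hzz, one_smul]) (QuotientGroup.mk 1) ?_ fun q hq => ?_
    · show z • ((1 : G) : G ⧸ H) = ((1 : G) : G ⧸ H)
      rw [MulAction.Quotient.smul_coe, QuotientGroup.eq]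
      simpa using inv_mem hzH
    · obtain ⟨y, rfl⟩ := QuotientGroup.mk_surjective q
      have h' : z • (y : G ⧸ H) = (y : G ⧸ H) := hq
      rw [MulAction.Quotient.smul_coe, eq_comm, QuotientGroup.eq] at h'
      have : y ∈ H := (h0 y).1 ((hmem y z).2 (by
        simpa [smul_eq_mul, mul_assoc] using h'))
      exact QuotientGroup.eq.2 (by simpa using inv_mem this)
  have hCodd : ¬ 2 ∣ C.index := by
    rw [← relIndex_mul_index hCz, ← hZ₀, ← hZ, ← hbij]
    exact fun h => (Nat.not_even_iff_odd.2 (hVodd.mul hGH)) (even_iff_two_dvd.2 h)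
  obtain ⟨P₀⟩ : Nonempty (Sylow 2 C) := inferInstance
  set P' := (P₀ : Subgroup C).map C.subtype
  have hP'i : ¬ 2 ∣ P'.index := by
    rw [index_map_subtype]
    exact Nat.prime_two.not_dvd_mul P₀.not_dvd_index hCodd
  let P : Sylow 2 G := (P₀.2.map C.subtype).toSylow hP'i
  have hPC : (P : Subgroup G) ≤ C := map_subtype_le _
  have hzP : z ∈ (P : Subgroup G) := by
    have hzp : IsPGroup 2 (zpowers z) := IsPGroup.of_card (n := 1) (by rw [Nat.card_zpowers, hz, pow_one])
    have hn : zpowers z ≤ normalizer ((P : Subgroup G) : Set G) := by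
      refine (zpowers_le.2 (mem_centralizer_iff.2 fun p hp => ?_)).trans (centralizer_le_normalizer _)
      exact mem_centralizer_singleton_iff.1 (hPC hp)
    have h := P.3 (P.2.to_sup_of_normal_left' hzp hn) le_sup_left
    exact h.le (mem_sup_right (mem_zpowers z))
  refine ⟨P, ⟨z, hzP⟩, ?_, rfl⟩
  rw [SetLike.mem_coe, mem_center_iff]
  exact fun p => Subtype.ext (mem_centralizer_singleton_iff.1 (hPC p.2))

end CfsgLib.Techniques
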